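import Cfsg.Agent.Lib.Perm.Trans.TensorPowerO.Slot

/-!
# Overgroups of the stabiliser of an orthogonal tensor power: basic elements
-/

set_option autoImplicit false
set_option linter.all false

namespace CfsgLib.Perm.Trans.TensorPowerO

open scoped Matrix
open Matrix Cfsg.Geo CfsgLib.Perm.Asch CfsgLib.Perm.Trans CfsgLib.Perm.Trans.TensorPower

variable {F : Type*} [Field F] {n : ℕ} {g : Ix n → F}

/-- the statement for fewer factors -/
def Inner (hg : Dg g) (s : ℕ) : Prop :=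
  ∀ N : Subgroup (GL (Fin s → Ix n) F), tensorWreathStandard (n + 3) s F ⊓ Om hg s ≤ N → N ≤ Om hg s →
    Om hg s ≤ N ∨ N ≤ tensorWreathStandard (n + 3) s F

/-- the standing hypotheses -/
structure Ctx (hg : Dg g) {s : ℕ} (M : Subgroup (GL (Fin (s + 1) → Ix n) F)) : Prop where
  two : (2 : F) ≠ 0
  one : 1 ≤ s
  big : 1 ≤ n ∨ ∃ y : F, y ≠ 0 ∧ y * y ≠ 1
  le : M ≤ Om hg (s + 1)
  mem : tensorWreathStandard (n + 3) (s + 1) F ⊓ Om hg (s + 1) ≤ M
  proper : ¬ Om hg (s + 1) ≤ M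
  inner : Inner hg s

theorem embGL_tw {s : ℕ} (j : Fin (s + 1)) {b : GL (Fin s → Ix n) F} (hb : b ∈ tensorWreathStandard (n + 3) s F) :
    embGL j b ∈ tensorWreathStandard (n + 3) (s + 1) F := by
  obtain ⟨σ, A, rfl⟩ := tw_shape hb
  obtain ⟨σ', hj, hσ⟩ := exists_extend j σ
  rw [map_mul, embGL_perm j σ σ' hj hσ, embGL_pure]
  exact mul_mem (perm_mem_tw σ') (pure_mem_tw _)

theorem pureGL_mem_of {t : ℕ} (M : Subgroup (GL (Fin t → Ix n) F)) (A : Fin t → GL (Ix n) F)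
    (h : ∀ l, sl l (A l) ∈ M) : pureGL A ∈ M := by
  classical
  suffices ∀ S : Finset (Fin t), pureGL (S.piecewise A 1) ∈ M by simpa using this Finset.univ
  intro S
  induction S using Finset.induction_on with
  | empty => rw [Finset.piecewise_empty, pureGL_one]; exact M.one_mem
  | insert k S hk ih =>
    have e : pureGL ((insert k S).piecewise A 1) = sl k (A k) * pureGL (S.piecewise A 1) := by
      rw [sl_eq_pureGL, pureGL_mul]
      congr 1
      funext l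
      rcases eq_or_ne l k with rfl | hl
      · simp [hk]
      · simp [hl]
    rw [e]
    exact M.mul_mem (h k) ih

variable [Fintype F] {s : ℕ} {hg : Dg g} {M : Subgroup (GL (Fin (s + 1) → Ix n) F)} (hM : Ctx hg M)
include hM

theorem Ctx.ht : 2 ≤ s + 1 := by have := hM.one; omega

theorem Ctx.le_uT : M ≤ uT hg (s + 1) := hM.le.trans Om_le

theorem Ctx.comm_sl (l : Fin (s + 1)) {a b : GL (Ix n) F} (ha : a ∈ u1 hg) (hb : b ∈ u1 hg) :
    sl l (a * b * a⁻¹ * b⁻¹) ∈ M :=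
  hM.mem ⟨sl_mem_tw l _, by
    rw [← sl_mul, ← sl_mul, ← sl_mul, sl_inv, sl_inv]
    exact comm_mem (sl_mem_uT l ha) (sl_mem_uT l hb)⟩

theorem Ctx.sq_sl (l : Fin (s + 1)) {a : GL (Ix n) F} (ha : a ∈ u1 hg) : sl l (a * a) ∈ M :=
  hM.mem ⟨sl_mem_tw l _, by rw [← sl_mul]; exact sq_mem hM.two hM.ht (sl_mem_uT l ha)⟩

theorem Ctx.odd_sl (l : Fin (s + 1)) {a : GL (Ix n) F} (ha : a ∈ u1 hg) {r : ℕ} (hr : Odd r) (h1 : a ^ r = 1) :
    sl l a ∈ M :=
  hM.mem ⟨sl_mem_tw l _, odd_mem hM.two hM.ht (sl_mem_uT l ha) hr (by rw [← sl_pow, h1, sl_one])⟩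

theorem Ctx.root_mem (l : Fin (s + 1)) {i : Ix n} (hi : Mid i) (x : F) : sl l (eU g hM.two hi x) ∈ M := by
  obtain ⟨p, hp, hc, hodd, -⟩ := exists_char (F := F) hM.two
  haveI := hc
  refine hM.odd_sl l (eU_mem hg hM.two hi x) hodd ?_
  rw [eU_pow, CharP.cast_eq_zero, zero_mul]
  exact Units.ext (euM_zero i)

theorem Ctx.tau_sl (l : Fin (s + 1)) {p : Ix n} (hp : Mid p) : sl l (tauA hg hM.two p) ∈ M := by
  obtain ⟨r, o, hr, ho, e⟩ := tauA_comm hg hM.two hp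
  rw [e]
  exact hM.comm_sl l hr ho

/-- an isometry in two factors -/
theorem Ctx.pair_mem {l j : Fin (s + 1)} (hlj : l ≠ j) {a : GL (Ix n) F} (ha : a ∈ u1 hg) :
    sl l a * sl j a⁻¹ ∈ M := by
  refine hM.mem ⟨mul_mem (sl_mem_tw l _) (sl_mem_tw j _), ?_⟩
  have h := comm_mem (hg := hg) (t := s + 1) (permGL_mem_uT (Equiv.swap j l)) (sl_mem_uT j ha)
  rw [sl_inv, show sl l a = permGL (Equiv.swap j l) * sl j a * (permGL (Equiv.swap j l))⁻¹ from Units.ext (by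
    rw [← cj_coe, sl_coe, sl_coe, cj_permGL_slot, Equiv.swap_apply_left])]
  exact h

theorem Ctx.perm_sq_mem (π : Equiv.Perm (Fin (s + 1))) : permGL (π * π) ∈ M :=
  hM.mem ⟨perm_mem_tw _, by rw [← permGL_mul]; exact sq_mem hM.two hM.ht (permGL_mem_uT π)⟩

/-- a three-cycle of the factors -/
theorem Ctx.exists_cycle {a b c : Fin (s + 1)} (hab : a ≠ b) (hbc : b ≠ c) (hac : a ≠ c) :
    ∃ π : Equiv.Perm (Fin (s + 1)), permGL π ∈ M ∧ π a = b ∧ π b = c ∧ π c = a := by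
  obtain ⟨π, hπ⟩ : ∃ π, π = Equiv.swap a b * Equiv.swap b c := ⟨_, rfl⟩
  have e1 : π a = b := by
    rw [hπ, Equiv.Perm.mul_apply, Equiv.swap_apply_of_ne_of_ne hab hac, Equiv.swap_apply_left]
  have e2 : π b = c := by
    rw [hπ, Equiv.Perm.mul_apply, Equiv.swap_apply_left, Equiv.swap_apply_of_ne_of_ne hac.symm hbc.symm]
  have e3 : π c = a := by rw [hπ, Equiv.Perm.mul_apply, Equiv.swap_apply_right, Equiv.swap_apply_right]
  have e4 : ∀ x, x ≠ a → x ≠ b → x ≠ c → π x = x := fun x h1 h2 h3 => by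
    rw [hπ, Equiv.Perm.mul_apply, Equiv.swap_apply_of_ne_of_ne h2 h3, Equiv.swap_apply_of_ne_of_ne h1 h2]
  refine ⟨π, ?_, e1, e2, e3⟩
  have e : π = π * π * (π * π) := Equiv.ext fun x => by
    simp only [Equiv.Perm.mul_apply]
    by_cases h1 : x = a
    · subst h1; rw [e1, e2, e3, e1]
    by_cases h2 : x = b
    · subst h2; rw [e2, e3, e1, e2]
    by_cases h3 : x = c
    · subst h3; rw [e3, e1, e2, e3]
    rw [e4 x h1 h2 h3, e4 x h1 h2 h3, e4 x h1 h2 h3, e4 x h1 h2 h3]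
  rw [e]
  exact hM.perm_sq_mem (π * π)

theorem Ctx.embGL_mem (j : Fin (s + 1)) {b : GL (Fin s → Ix n) F}
    (hb : b ∈ tensorWreathStandard (n + 3) s F) (hb' : b ∈ Om hg s) : embGL j b ∈ M :=
  hM.mem ⟨embGL_tw j hb, embGL_mem_Om j hb'⟩

/-- the conjugates by the isometries in the wreath subgroup -/
theorem Ctx.conj {w : GL (Fin (s + 1) → Ix n) F} (hw : w ∈ tensorWreathStandard (n + 3) (s + 1) F)
    (hw' : w ∈ uT hg (s + 1)) : Ctx hg (M.map (MulAut.conj w).toMonoidHom) where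
  two := hM.two
  one := hM.one
  big := hM.big
  le := by
    rintro _ ⟨x, hx, rfl⟩
    exact Om_conj hw' (hM.le hx)
  mem := fun x hx => ⟨w⁻¹ * x * w⁻¹⁻¹, hM.mem (Subgroup.mem_inf.2 ⟨mul_mem (mul_mem (inv_mem hw) (show x ∈ tensorWreathStandard (n + 3) (s + 1) F from hx.1)) (inv_mem (inv_mem hw)),
    Om_conj (inv_mem hw') hx.2⟩), by show w * (w⁻¹ * x * w⁻¹⁻¹) * w⁻¹ = x; group⟩
  proper := fun hle => hM.proper fun x hx => by
    obtain ⟨y, hy, e⟩ := hle (Om_conj hw' hx)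
    rwa [(MulAut.conj w).injective e] at hy
  inner := hM.inner

end CfsgLib.Perm.Trans.TensorPowerO
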