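import Cfsg.Agent.Lib.Perm.Trans.TensorPowerO.Slot

/-!
# Operators commuting with the root elements at the first singular vector in every factor
-/

set_option autoImplicit false
set_option linter.all false

namespace CfsgLib.Perm.Trans.TensorPowerO

open scoped Matrix
open Matrix Cfsg.Geo CfsgLib.Perm.Asch CfsgLib.Perm.Trans CfsgLib.Perm.Trans.TensorPower

variable {F : Type*} [Field F] {n t : ℕ} {g : Ix n → F}

local notation "M1" => Matrix (Ix n) (Ix n) F
local notation "Mat" => Matrix (Fin t → Ix n) (Fin t → Ix n) F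

/-- the `t`-fold all-ones index -/
def ones (n t : ℕ) : Fin t → Ix n := fun _ => 1

theorem pi_single_pv (X : Fin t → Ix n) :
    (Pi.single X (1 : F) : (Fin t → Ix n) → F) = TensorPower.pv fun l => Pi.single (X l) (1 : F) := by
  funext x
  simp only [TensorPower.pv, Pi.single_apply, Finset.prod_ite_zero, Finset.prod_const_one, Finset.mem_univ, forall_const]
  exact if_congr funext_iff rfl rfl

theorem commute_pure {A : Fin t → M1} {X : Mat} (h : ∀ l, Commute X (slot l (A l))) :
    Commute X (CfsgLib.Perm.Asch.pure A) := by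
  classical
  suffices ∀ S : Finset (Fin t), Commute X (CfsgLib.Perm.Asch.pure (S.piecewise A 1)) by
    simpa using this Finset.univ
  intro S
  induction S using Finset.induction_on with
  | empty => rw [Finset.piecewise_empty, pure_one]; exact Commute.one_right X
  | insert k S hk ih =>
    have e : CfsgLib.Perm.Asch.pure ((insert k S).piecewise A 1) =
        slot k (A k) * CfsgLib.Perm.Asch.pure (S.piecewise A 1) := by
      rw [slot_mul_pure]
      congr 1
      funext l
      rcases eq_or_ne l k with rfl | hl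
      · simp [hk]
      · simp [hl]
    rw [e]
    exact (h k).mul_right ih

/-- the pattern of one index -/
def phi (g : Ix n → F) (i : Ix n) : M1 := if i = 0 then aa else if i = 1 then 1 else nm g i

theorem phi_zero : phi g (0 : Ix n) = aa := if_pos rfl

theorem phi_one : phi g (1 : Ix n) = 1 := by rw [phi, if_neg zero_ne_one'.symm, if_pos rfl]

theorem phi_mid {i : Ix n} (hi : Mid i) : phi g i = nm g i := by rw [phi, if_neg hi.1, if_neg hi.2]

theorem idx_cases (i : Ix n) : i = 0 ∨ i = 1 ∨ Mid i := by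
  by_cases h0 : i = 0
  · exact Or.inl h0
  by_cases h1 : i = 1
  · exact Or.inr (Or.inl h1)
  exact Or.inr (Or.inr ⟨h0, h1⟩)

theorem single_mulVec' (a b c : Ix n) :
    Matrix.single a b (1 : F) *ᵥ Pi.single c 1 = if b = c then Pi.single a 1 else 0 := by
  funext v
  rw [mulVec_single_one, Matrix.col_apply, Matrix.single_apply]
  by_cases h : b = c
  · rw [if_pos h, Pi.single_apply]
    exact if_congr ⟨fun e => e.1.symm, fun e => ⟨e.symm, h⟩⟩ rfl rfl
  · rw [if_neg h, if_neg (fun e => h e.2)]
    rfl

theorem phi_e1 (g : Ix n → F) (i : Ix n) : phi g i *ᵥ Pi.single 1 1 = (Pi.single i 1 : Ix n → F) := by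
  rcases idx_cases i with rfl | rfl | hi
  · rw [phi_zero, aa, single_mulVec', if_pos rfl]
  · rw [phi_one, one_mulVec]
  · rw [phi_mid hi, nm, sub_mulVec, Matrix.smul_mulVec, single_mulVec', single_mulVec', if_pos rfl, if_neg hi.2,
      smul_zero, sub_zero]

/-- a product of patterns -/
def pat (g : Ix n → F) (κ : Fin t → Ix n) : Mat := CfsgLib.Perm.Asch.pure fun l => phi g (κ l)

theorem pat_single (κ : Fin t → Ix n) :
    (pat g κ : Mat) *ᵥ Pi.single (ones n t) 1 = Pi.single κ 1 := by
  rw [pat, pi_single_pv, pure_pv, pi_single_pv]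
  congr 1
  funext l
  exact phi_e1 g (κ l)

theorem pat_apply_ones (κ x : Fin t → Ix n) : pat g κ x (ones n t) = if x = κ then (1 : F) else 0 := by
  have := congrFun (pat_single (F := F) (g := g) κ) x
  rwa [mulVec_single_one, Matrix.col_apply, Pi.single_apply] at this

/-- the combination of patterns with given coefficients -/
def comb (g : Ix n → F) (c : (Fin t → Ix n) → F) : Mat := ∑ κ, c κ • pat g κ

theorem comb_apply_ones (c : (Fin t → Ix n) → F) (x : Fin t → Ix n) : comb g c x (ones n t) = c x := by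
  rw [comb, Matrix.sum_apply, Finset.sum_eq_single x]
  · rw [Matrix.smul_apply, pat_apply_ones, if_pos rfl, smul_eq_mul, mul_one]
  · intro κ _ hκ
    rw [Matrix.smul_apply, pat_apply_ones, if_neg hκ.symm, smul_zero]
  · simp

/-- commuting with the root elements of every factor at the first singular vector -/
def Fixd (g : Ix n → F) (X : Mat) : Prop := ∀ l i, Mid i → Commute X (slot l (nm g i))

theorem Fixd.phi (hg : Dg g) {X : Mat} (h : Fixd g X) (l : Fin t) (i : Ix n) :
    Commute X (slot l (TensorPowerO.phi g i)) := by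
  rcases idx_cases i with rfl | rfl | hi
  · have e : (aa : M1) = (-(g 2)⁻¹) • (nm g 2 * nm g 2) := by
      rw [nm_nm Mid.two Mid.two, if_pos rfl, smul_smul, neg_mul_neg, inv_mul_cancel₀ (hg.nz 2), one_smul]
    rw [phi_zero, e, TensorPower.slot_smul, ← slot_mul]
    exact ((h l 2 Mid.two).mul_right (h l 2 Mid.two)).smul_right _
  · rw [phi_one, TensorPower.slot_one]
    exact Commute.one_right X
  · rw [phi_mid hi]
    exact h l i hi

theorem Fixd.pat (hg : Dg g) {X : Mat} (h : Fixd g X) (κ : Fin t → Ix n) : Commute X (TensorPowerO.pat g κ) :=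
  commute_pure fun l => h.phi hg l (κ l)

theorem phi_comm (i p : Ix n) : Commute (phi g i : M1) (phi g p) := by
  rcases idx_cases i with rfl | rfl | hi <;> rcases idx_cases p with rfl | rfl | hp
  all_goals try simp only [phi_zero, phi_one]
  all_goals first
    | exact Commute.refl _
    | exact Commute.one_left _
    | exact Commute.one_right _
    | skip
  · rw [phi_mid hp]; show aa * nm g p = nm g p * aa; rw [aa_nm hp, nm_aa hp]
  · rw [phi_mid hi]; show nm g i * aa = aa * nm g i; rw [aa_nm hi, nm_aa hi]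
  · rw [phi_mid hi, phi_mid hp]
    show nm g i * nm g p = nm g p * nm g i
    rw [nm_nm hi hp, nm_nm hp hi]
    by_cases h : i = p
    · subst h; rfl
    · rw [if_neg h, if_neg (Ne.symm h)]

theorem pat_comm (κ ν : Fin t → Ix n) : Commute (pat g κ : Mat) (pat g ν) := by
  show _ * _ = _ * _
  rw [pat, pat, pure_mul, pure_mul]
  congr 1
  funext l
  exact phi_comm (κ l) (ν l)

theorem comb_fixd (c : (Fin t → Ix n) → F) : Fixd g (comb g c : Mat) := by
  intro l i hi
  refine Commute.sum_left _ _ _ fun κ _ => Commute.smul_left ?_ _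
  rw [slot, pat]
  show CfsgLib.Perm.Asch.pure _ * CfsgLib.Perm.Asch.pure _ = CfsgLib.Perm.Asch.pure _ * CfsgLib.Perm.Asch.pure _
  rw [pure_mul, pure_mul]
  congr 1
  funext k
  rcases eq_or_ne k l with rfl | hk
  · simp only [Pi.mul_apply, Pi.mulSingle_eq_same]
    have := phi_comm (g := g) (κ k) i
    rwa [phi_mid hi] at this
  · simp [Pi.mulSingle_eq_of_ne hk]

/-- the expansion in patterns -/
theorem Fixd.expand (hg : Dg g) {X : Mat} (h : Fixd g X) : X = comb g fun κ => X κ (ones n t) := by
  refine Matrix.ext_of_mulVec_single fun κ => ?_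
  have hY := comb_fixd (g := g) fun κ => X κ (ones n t)
  have e1 : (comb g fun κ => X κ (ones n t)) *ᵥ Pi.single (ones n t) 1 = X *ᵥ Pi.single (ones n t) 1 := by
    funext x
    rw [mulVec_single_one, mulVec_single_one, Matrix.col_apply, Matrix.col_apply, comb_apply_ones]
  rw [← pat_single (F := F) (g := g) κ, mulVec_mulVec, mulVec_mulVec, (h.pat hg κ).eq, (hY.pat hg κ).eq,
    ← mulVec_mulVec, ← mulVec_mulVec, e1]

theorem Fixd.eq_of_ones (hg : Dg g) {X Y : Mat} (hX : Fixd g X) (hY : Fixd g Y)
    (h : ∀ κ, X κ (ones n t) = Y κ (ones n t)) : X = Y := by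
  rw [hX.expand hg, hY.expand hg]
  simp only [h]

theorem Fixd.sub {X Y : Mat} (hX : Fixd g X) (hY : Fixd g Y) : Fixd g (X - Y) :=
  fun l i hi => (hX l i hi).sub_left (hY l i hi)

theorem Fixd.smul {X : Mat} (hX : Fixd g X) (c : F) : Fixd g (c • X) := fun l i hi => (hX l i hi).smul_left c

theorem Fixd.one : Fixd g (1 : Mat) := fun l i hi => Commute.one_left _

/-! ### the effect of diagonal isometries and of the adjoint -/

theorem cj_diag_phi (hg : Dg g) {d : Ix n → F} (hd : ∀ y, d y ≠ 0) (hμ : d 0 * d 1 = 1)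
    (hi : ∀ i, Mid i → d i * d i = 1) (i : Ix n) :
    cj (moG 1 d hd) (phi g i) = (d i / d 1) • phi g i := by
  have key : ∀ x y : Ix n, cj (moG 1 d hd) (Matrix.single x y (1 : F)) = (d x / d y) • Matrix.single x y 1 :=
    fun x y => by rw [cj_moG_single]; rfl
  rcases idx_cases i with rfl | rfl | hm
  · rw [phi_zero, aa, key]
  · rw [phi_one, cj_one, div_self (hd 1), one_smul]
  · rw [phi_mid hm, nm, cj_sub, cj_smul, key, key, smul_sub, smul_comm (g i)]
    congr 1
    rw [smul_comm (d i / d 1), smul_smul, smul_smul]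
    congr 1
    have := hd 1
    have := hd i
    field_simp
    linear_combination (g i) * hμ - (g i) * hi i hm

theorem cj_diag_pat (hg : Dg g) (d : Fin t → Ix n → F) (hd : ∀ l y, d l y ≠ 0) (hμ : ∀ l, d l 0 * d l 1 = 1)
    (hi : ∀ l i, Mid i → d l i * d l i = 1) (κ : Fin t → Ix n) :
    cj (pureGL fun l => moG 1 (d l) (hd l)) (pat g κ : Mat) = (∏ l, d l (κ l) / d l 1) • pat g κ := by
  rw [pat, cj_pureGL, show (fun l => cj (moG 1 (d l) (hd l)) (phi g (κ l))) =
    fun l => (d l (κ l) / d l 1) • phi g (κ l) from funext fun l => cj_diag_phi hg (hd l) (hμ l) (hi l) (κ l),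
    pure_smul]

/-- the sign of an index under the adjoint -/
def sgn (i : Ix n) : F := if i = 0 ∨ i = 1 then 1 else -1

theorem adj_phi (hg : Dg g) (i : Ix n) : adj g (s1 n) (phi g i) = (sgn i : F) • phi g i := by
  rcases idx_cases i with rfl | rfl | hi
  · rw [phi_zero, adj_aa hg, sgn, if_pos (Or.inl rfl), one_smul]
  · rw [phi_one, adj_one hg.wg, sgn, if_pos (Or.inr rfl), one_smul]
  · rw [phi_mid hi, adj_nm hi hg, sgn, if_neg (by rintro (h | h); exacts [hi.1 h, hi.2 h]), neg_one_smul]

theorem adj_pat (hg : Dg g) (κ : Fin t → Ix n) :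
    adj (gT g t) (sT n t) (pat g κ : Mat) = (∏ l, (sgn (κ l) : F)) • pat g κ := by
  rw [pat, adj_pure, show (fun l => adj g (s1 n) (phi g (κ l))) = fun l => (sgn (κ l) : F) • phi g (κ l) from
    funext fun l => adj_phi hg (κ l), pure_smul]

end CfsgLib.Perm.Trans.TensorPowerO
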