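import Mathlib
import Cfsg.Agent.Lib.Perm.Trans.TensorPowerO.Base
import Cfsg.Agent.Lib.Perm.Trans.TensorPowerO.Pattern

/-!
# One factor times the others; diagonal isometries
-/

set_option autoImplicit false
set_option linter.all false

namespace CfsgLib.Perm.Trans.TensorPowerO

open scoped Matrix
open Matrix Cfsg.Geo CfsgLib.Perm.Asch CfsgLib.Perm.Trans CfsgLib.Perm.Trans.TensorPower

variable {F : Type*} [Field F] {n s : ℕ} {g : Ix n → F}

local notation "M1" => Matrix (Ix n) (Ix n) F
local notation "MU" => Matrix (Fin s → Ix n) (Fin s → Ix n) F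
local notation "MV" => Matrix (Fin (s + 1) → Ix n) (Fin (s + 1) → Ix n) F

/-- one factor times the others -/
def ten (j : Fin (s + 1)) (A : M1) (S : MU) : MV := slot j A * emb j S

theorem slot_emb_comm (j : Fin (s + 1)) (A : M1) (S : MU) : slot j A * emb j S = emb j S * (slot j A : MV) :=
  comm_slot_of_units (emb_comm_units j S) A

theorem ten_mul (j : Fin (s + 1)) (A B : M1) (S T : MU) : ten j A S * ten j B T = ten j (A * B) (S * T) := by
  rw [ten, ten, ten, ← slot_mul, map_mul]
  calc slot j A * emb j S * (slot j B * emb j T) = slot j A * (emb j S * slot j B) * emb j T := by simp only [mul_assoc]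
    _ = slot j A * (slot j B * emb j S) * emb j T := by rw [slot_emb_comm]
    _ = _ := by simp only [mul_assoc]

theorem ten_one (j : Fin (s + 1)) : ten j (1 : M1) (1 : MU) = (1 : MV) := by
  rw [ten, TensorPower.slot_one, map_one, one_mul]

theorem ten_one_left (j : Fin (s + 1)) (S : MU) : ten j (1 : M1) S = emb j S := by
  rw [ten, TensorPower.slot_one, one_mul]

theorem ten_one_right (j : Fin (s + 1)) (A : M1) : ten j A (1 : MU) = slot j A := by
  rw [ten, map_one, mul_one]

theorem ten_add_left (j : Fin (s + 1)) (A B : M1) (S : MU) : ten j (A + B) S = ten j A S + ten j B S := by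
  rw [ten, ten, ten, TensorPower.slot_add, add_mul]

theorem ten_add_right (j : Fin (s + 1)) (A : M1) (S T : MU) : ten j A (S + T) = ten j A S + ten j A T := by
  rw [ten, ten, ten, map_add, mul_add]

theorem ten_sub_right (j : Fin (s + 1)) (A : M1) (S T : MU) : ten j A (S - T) = ten j A S - ten j A T := by
  rw [ten, ten, ten, map_sub, mul_sub]

theorem ten_neg_right (j : Fin (s + 1)) (A : M1) (S : MU) : ten j A (-S) = -ten j A S := by
  rw [ten, ten, map_neg, mul_neg]

theorem ten_zero_right (j : Fin (s + 1)) (A : M1) : ten j A (0 : MU) = 0 := by rw [ten, map_zero, mul_zero]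

theorem ten_zero_left (j : Fin (s + 1)) (S : MU) : ten j (0 : M1) S = 0 := by
  rw [ten, TensorPower.slot_zero, zero_mul]

theorem ten_smul_left (j : Fin (s + 1)) (c : F) (A : M1) (S : MU) : ten j (c • A) S = c • ten j A S := by
  rw [ten, ten, TensorPower.slot_smul, Matrix.smul_mul]

theorem ten_smul_right (j : Fin (s + 1)) (c : F) (A : M1) (S : MU) : ten j A (c • S) = c • ten j A S := by
  rw [ten, ten, map_smul, Matrix.mul_smul]

theorem ten_apply (j : Fin (s + 1)) (A : M1) (S : MU) (x y : Fin (s + 1) → Ix n) :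
    ten j A S x y = A (x j) (y j) * S (fun i => x (j.succAbove i)) (fun i => y (j.succAbove i)) := by
  rw [ten, Matrix.mul_apply, Finset.sum_eq_single (Function.update x j (y j))]
  · rw [slot_apply, if_pos (fun k hk => by simp [hk]), Function.update_self, emb_apply, Function.update_self,
      if_pos rfl]
    simp [Function.update_of_ne (Fin.succAbove_ne j _)]
  · intro z _ hz
    rw [slot_apply, emb_apply]
    by_cases h1 : ∀ k, k ≠ j → x k = z k
    · by_cases h2 : z j = y j
      · refine absurd (funext fun k => ?_) hz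
        rcases eq_or_ne k j with rfl | hk
        · simp [h2]
        · simp [hk, h1 k hk]
      · rw [if_neg h2, mul_zero]
    · rw [if_neg h1, zero_mul]
  · simp

theorem ten_right_injective (j : Fin (s + 1)) {A : M1} (hA : A ≠ 0) {S T : MU} (h : ten j A S = ten j A T) :
    S = T := by
  obtain ⟨a, b, hab⟩ : ∃ a b, A a b ≠ 0 := by
    by_contra hcon
    push Not at hcon
    exact hA (Matrix.ext hcon)
  ext u v
  have e := congrFun (congrFun h (j.insertNth a u)) (j.insertNth b v)
  rw [ten_apply, ten_apply, Fin.insertNth_apply_same, Fin.insertNth_apply_same] at e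
  simp only [Fin.insertNth_apply_succAbove] at e
  exact mul_left_cancel₀ hab e

theorem adj_ten (hg : Dg g) (j : Fin (s + 1)) (A : M1) (S : MU) :
    adj (gT g (s + 1)) (sT n (s + 1)) (ten j A S) = ten j (adj g (s1 n) A) (adj (gT g s) (sT n s) S) := by
  rw [ten, adj_mul hg.wgT, adj_slot hg, adj_emb hg, ← slot_emb_comm]
  rfl

theorem cj_ten (j : Fin (s + 1)) (a : GL (Ix n) F) (b : GL (Fin s → Ix n) F) (A : M1) (S : MU) :
    cj (sl j a * embGL j b) (ten j A S) = ten j (cj a A) (cj b S) := by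
  have ec : ((sl j a * embGL j b : GL (Fin (s + 1) → Ix n) F) : MV) = ten j (a : M1) (b : MU) := by
    rw [Units.val_mul, sl_coe, embGL_coe]; rfl
  have ei : (((sl j a * embGL j b)⁻¹ : GL (Fin (s + 1) → Ix n) F) : MV) =
      ten j ((a⁻¹ : GL (Ix n) F) : M1) ((b⁻¹ : GL (Fin s → Ix n) F) : MU) := by
    rw [embGL_comm, _root_.mul_inv_rev, ← sl_inv, ← map_inv, Units.val_mul, sl_coe, embGL_coe]; rfl
  rw [cj, ec, ei, ten_mul, ten_mul]
  rfl

theorem cj_sl_ten (j : Fin (s + 1)) (a : GL (Ix n) F) (A : M1) (S : MU) :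
    cj (sl j a) (ten j A S) = ten j (cj a A) S := by
  have := cj_ten j a 1 A S
  rwa [map_one, mul_one, show cj (1 : GL (Fin s → Ix n) F) S = S by rw [cj, inv_one, Units.val_one, one_mul, mul_one]]
    at this

theorem cj_emb_ten (j : Fin (s + 1)) (b : GL (Fin s → Ix n) F) (A : M1) (S : MU) :
    cj (embGL j b) (ten j A S) = ten j A (cj b S) := by
  have := cj_ten j 1 b A S
  rwa [sl_one, one_mul, show cj (1 : GL (Ix n) F) A = A by rw [cj, inv_one, Units.val_one, one_mul, mul_one]] at this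

/-! ### diagonal isometries -/

variable {t : ℕ}

/-- the torus weights -/
def dTor (y : F) (i : Ix n) : F := if i = 0 then y else if i = 1 then y⁻¹ else 1

/-- the half-turn weights -/
def dSig (i : Ix n) : F := if i = 0 ∨ i = 1 then -1 else 1

/-- the reflection weights -/
def dRef (p i : Ix n) : F := if i = p then -1 else 1

theorem dTor_ne {y : F} (hy : y ≠ 0) (i : Ix n) : dTor y i ≠ 0 := by
  unfold dTor
  split_ifs <;> first | exact hy | exact inv_ne_zero hy | exact one_ne_zero

theorem dSig_ne (i : Ix n) : (dSig i : F) ≠ 0 := by unfold dSig; split_ifs <;> simp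

theorem dRef_ne (p i : Ix n) : (dRef p i : F) ≠ 0 := by unfold dRef; split_ifs <;> simp

theorem moG_one_mem (hg : Dg g) {d : Ix n → F} (hd : ∀ y, d y ≠ 0) (h01 : d 0 * d 1 = 1)
    (hm : ∀ i, Mid i → d i * d i = 1) : moG 1 d hd ∈ u1 hg := by
  refine moG_mem hg _ _ _ (fun y => rfl) fun y => ?_
  rcases idx_cases y with rfl | rfl | hy
  · rw [s1_zero, h01, mul_one]; rfl
  · rw [s1_one, mul_comm (d 1), h01, mul_one]; rfl
  · rw [s1_mid hy.1 hy.2, hm y hy, mul_one]; rfl

theorem tor_mem (hg : Dg g) {y : F} (hy : y ≠ 0) : moG (n := n) 1 (dTor y) (dTor_ne hy) ∈ u1 hg :=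
  moG_one_mem hg _ (by simp [dTor, zero_ne_one'.symm, hy]) fun i hi => by simp [dTor, hi.1, hi.2]

theorem sig_mem (hg : Dg g) : moG (n := n) (F := F) 1 dSig dSig_ne ∈ u1 hg :=
  moG_one_mem hg _ (by simp [dSig]) fun i hi => by simp [dSig, hi.1, hi.2]

theorem ref_mem (hg : Dg g) {p : Ix n} (hp : Mid p) : moG (F := F) 1 (dRef p) (dRef_ne p) ∈ u1 hg :=
  moG_one_mem hg _ (by simp [dRef, hp.1.symm, hp.2.symm]) fun i hi => by unfold dRef; split_ifs <;> simp

theorem moG_one_inv (d : Ix n → F) (hd : ∀ y, d y ≠ 0) :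
    (moG 1 d hd)⁻¹ = moG 1 (fun y => (d y)⁻¹) (fun y => inv_ne_zero (hd y)) := Units.ext (by
  show moM (1 : Equiv.Perm (Ix n))⁻¹ _ = moM 1 _
  rw [inv_one]
  rfl)

theorem cj_moG_aa (d : Ix n → F) (hd : ∀ y, d y ≠ 0) : cj (moG 1 d hd) (aa : M1) = (d 0 / d 1) • aa :=
  cj_moG_single 1 d hd 0 1

/-- entries of a diagonal conjugate -/
theorem cj_sl_diag_apply (l : Fin t) (d : Ix n → F) (hd : ∀ y, d y ≠ 0)
    (X : Matrix (Fin t → Ix n) (Fin t → Ix n) F) (x y : Fin t → Ix n) :
    cj (sl l (moG 1 d hd)) X x y = d (x l) / d (y l) * X x y := by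
  have e : ∀ e' : Ix n → F, (slot l (moM 1 e') : Matrix (Fin t → Ix n) (Fin t → Ix n) F) =
      Matrix.diagonal fun z => e' (z l) := by
    intro e'
    ext z w
    rw [slot_apply, moM, Matrix.of_apply, Matrix.diagonal_apply, Equiv.Perm.one_apply]
    by_cases h : z = w
    · subst h; simp
    · rw [if_neg h]
      by_cases h1 : ∀ k, k ≠ l → z k = w k
      · rw [if_pos h1, if_neg]
        exact fun e => h (funext fun k => by rcases eq_or_ne k l with rfl | hk; exacts [e, h1 k hk])
      · rw [if_neg h1]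
  rw [cj, ← sl_inv, sl_coe, sl_coe, moG_one_inv]
  show (slot l (moM 1 d) * X * slot l (moM 1 fun y => (d y)⁻¹)) x y = _
  rw [e, e, Matrix.mul_diagonal, Matrix.diagonal_mul, div_eq_mul_inv]
  ring

theorem Fixd.cj_diag (hg : Dg g) (l : Fin t) {d : Ix n → F} (hd : ∀ y, d y ≠ 0) (h01 : d 0 * d 1 = 1)
    (hm : ∀ i, Mid i → d i * d i = 1) {X : Matrix (Fin t → Ix n) (Fin t → Ix n) F} (hX : Fixd g X) :
    Fixd g (cj (sl l (moG 1 d hd)) X) := by
  intro k i hi
  obtain ⟨c, hc, e⟩ : ∃ c : F, c ≠ 0 ∧ cj (sl l (moG 1 d hd)) (slot k (nm g i)) =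
      c • (slot k (nm g i) : Matrix (Fin t → Ix n) (Fin t → Ix n) F) := by
    rcases eq_or_ne k l with rfl | hk
    · refine ⟨d i / d 1, div_ne_zero (hd i) (hd 1), ?_⟩
      rw [cj_sl_slot, ← phi_mid hi, cj_diag_phi hg hd h01 hm, TensorPower.slot_smul]
    · exact ⟨1, one_ne_zero, by rw [cj_sl_slot_ne hk.symm, one_smul]⟩
  have h1 : Commute (cj (sl l (moG 1 d hd)) X) (cj (sl l (moG 1 d hd)) (slot k (nm g i))) := by
    show _ * _ = _ * _
    rw [← cj_mul, ← cj_mul, (hX k i hi).eq]
  rw [e] at h1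
  have h2 := h1.smul_right c⁻¹
  rwa [smul_smul, inv_mul_cancel₀ hc, one_smul] at h2

end CfsgLib.Perm.Trans.TensorPowerO
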