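import Mathlib
import Cfsg.Agent.Lib.Perm.Trans.TensorPowerO.Ten

/-!
# The algebra generated by the conjugates of a projection
-/

set_option autoImplicit false
set_option linter.all false

namespace CfsgLib.Perm.Trans.TensorPowerO

open scoped Matrix
open Matrix Cfsg.Geo CfsgLib.Perm.Asch CfsgLib.Perm.Trans CfsgLib.Perm.Trans.TensorPower

variable {F : Type*} [Field F] {n : ℕ} {g : Ix n → F}

local notation "M1" => Matrix (Ix n) (Ix n) F

/-- the projection attached to an index -/
def prj (i : Ix n) : M1 :=
  if i = 0 ∨ i = 1 then Matrix.single 1 1 1 else Matrix.single i i 1 + Matrix.single 1 1 1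

theorem prj_idem (i : Ix n) : (prj i : M1) * prj i = prj i := by
  unfold prj
  split_ifs with h
  · rw [single_mul_single', if_pos rfl]
  · rw [not_or] at h
    simp only [add_mul, mul_add, single_mul_single', if_true, h.2, Ne.symm h.2, if_false, add_zero, zero_add]

theorem single_prj (i a : Ix n) : Matrix.single a 1 (1 : F) * prj i = Matrix.single a 1 1 := by
  unfold prj
  split_ifs with h
  · rw [single_mul_single', if_pos rfl]
  · rw [not_or] at h
    simp only [mul_add, single_mul_single', if_true, Ne.symm h.2, if_false, zero_add]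

theorem cj_eU_single11 (h2 : (2 : F) ≠ 0) {q : Ix n} (hq : Mid q) :
    cj (eU g h2 hq 1) (Matrix.single 1 1 (1 : F) : M1) =
      Matrix.single 1 1 1 + Matrix.single q 1 1 - (g q / 2) • Matrix.single 0 1 1 := by
  show euM g q 1 * _ * euM g q (-1) = _
  simp only [euM, nm, aa, add_mul, sub_mul, mul_add, mul_sub, one_mul, mul_one, one_smul, neg_smul, neg_mul, mul_neg,
    neg_neg, Matrix.smul_mul, Matrix.mul_smul, single_mul_single', if_true, hq.1, hq.2, hq.1.symm, hq.2.symm,
    zero_ne_one', zero_ne_one'.symm, if_false, smul_zero, sub_zero, add_zero, zero_add, zero_sub, neg_zero]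

theorem cj_eU_single00 (h2 : (2 : F) ≠ 0) {q : Ix n} (hq : Mid q) :
    cj (eU g h2 hq 1) (Matrix.single 0 0 (1 : F) : M1) =
      Matrix.single 0 0 1 + g q • Matrix.single 0 q 1 - (g q / 2) • Matrix.single 0 1 1 := by
  show euM g q 1 * _ * euM g q (-1) = _
  simp only [euM, nm, aa, add_mul, sub_mul, mul_add, mul_sub, one_mul, mul_one, one_smul, neg_smul, neg_mul, mul_neg,
    neg_neg, Matrix.smul_mul, Matrix.mul_smul, single_mul_single', if_true, hq.1, hq.2, hq.1.symm, hq.2.symm,
    zero_ne_one', zero_ne_one'.symm, if_false, smul_zero, sub_zero, add_zero, zero_add, zero_sub]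

theorem tauA_single (hg : Dg g) (h2 : (2 : F) ≠ 0) (p x y : Ix n) :
    ∃ c : F, c ≠ 0 ∧ cj (tauA hg h2 p) (Matrix.single x y (1 : F) : M1) =
      c • Matrix.single (s1 n x) (s1 n y) 1 :=
  ⟨_, div_ne_zero (by
      have : -(g p) / 2 ≠ 0 := div_ne_zero (neg_ne_zero.2 (hg.nz p)) h2
      split_ifs <;> first | exact this | exact inv_ne_zero this | simp) (by
      have : -(g p) / 2 ≠ 0 := div_ne_zero (neg_ne_zero.2 (hg.nz p)) h2
      split_ifs <;> first | exact this | exact inv_ne_zero this | simp), cj_moG_single _ _ _ x y⟩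

theorem cj_tauA_diag (hg : Dg g) (h2 : (2 : F) ≠ 0) (p x : Ix n) :
    cj (tauA hg h2 p) (Matrix.single x x (1 : F) : M1) = Matrix.single (s1 n x) (s1 n x) 1 := by
  rw [tauA, cj_moG_single, div_self, one_smul]
  · rfl
  · have : -(g p) / 2 ≠ 0 := div_ne_zero (neg_ne_zero.2 (hg.nz p)) h2
    split_ifs <;> first | exact this | exact inv_ne_zero this | simp

/-- a closed subspace containing a projection contains everything -/
theorem slot_full (hg : Dg g) (h2 : (2 : F) ≠ 0) (A : Submodule F M1) (hmul : ∀ X ∈ A, ∀ Y ∈ A, X * Y ∈ A)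
    (hE : ∀ (q : Ix n) (hq : Mid q), ∀ X ∈ A, cj (eU g h2 hq 1) X ∈ A)
    (hT : ∀ p : Ix n, Mid p → ∀ X ∈ A, cj (tauA hg h2 p) X ∈ A) {i : Ix n} (hi : prj i ∈ A) (X : M1) : X ∈ A := by
  have hA : ∀ p : Ix n, Mid p → ∀ x y : Ix n, Matrix.single x y (1 : F) ∈ A →
      Matrix.single (s1 n x) (s1 n y) (1 : F) ∈ A := by
    intro p hp x y h
    obtain ⟨c, hc, e⟩ := tauA_single hg h2 p x y
    have := A.smul_mem c⁻¹ (hT p hp _ h)
    rwa [e, smul_smul, inv_mul_cancel₀ hc, one_smul] at this
  have h11 : Matrix.single (1 : Ix n) 1 (1 : F) ∈ A := by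
    unfold prj at hi
    split_ifs at hi with h
    · exact hi
    · rw [not_or] at h
      have e1 := hT i h _ hi
      rw [cj_add, cj_tauA_diag, cj_tauA_diag, s1_mid h.1 h.2, s1_one] at e1
      have e2 := hmul _ hi _ e1
      simp only [add_mul, mul_add, single_mul_single', if_true, h.1, h.2, Ne.symm h.1, Ne.symm h.2, zero_ne_one'.symm,
        if_false, add_zero] at e2
      simpa using A.sub_mem hi e2
  have hp2 : Mid (2 : Ix n) := Mid.two
  have h00 : Matrix.single (0 : Ix n) 0 (1 : F) ∈ A := by simpa [s1_one] using hA 2 hp2 1 1 h11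
  have hg2 : ∀ q : Ix n, g q / 2 ≠ 0 := fun q => div_ne_zero (hg.nz q) h2
  have h01 : Matrix.single (0 : Ix n) 1 (1 : F) ∈ A := by
    have e1 := hE 2 hp2 _ h11
    rw [cj_eU_single11] at e1
    have e2 := hmul _ h00 _ e1
    simp only [mul_add, mul_sub, Matrix.mul_smul, single_mul_single', if_true, zero_ne_one', hp2.1.symm, if_false,
      zero_add, add_zero, zero_sub] at e2
    have e3 := A.smul_mem (g 2 / 2)⁻¹ (A.neg_mem e2)
    rwa [neg_neg, smul_smul, inv_mul_cancel₀ (hg2 2), one_smul] at e3
  have h10 : Matrix.single (1 : Ix n) 0 (1 : F) ∈ A := by simpa [s1_zero, s1_one] using hA 2 hp2 0 1 h01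
  have hq1 : ∀ q : Ix n, Mid q → Matrix.single q 1 (1 : F) ∈ A := fun q hq => by
    have e1 := A.add_mem (A.sub_mem (hE q hq _ h11) h11) (A.smul_mem (g q / 2) h01)
    rw [cj_eU_single11] at e1
    convert e1 using 1
    abel
  have h0q : ∀ q : Ix n, Mid q → Matrix.single 0 q (1 : F) ∈ A := fun q hq => by
    have e1 := A.add_mem (A.sub_mem (hE q hq _ h00) h00) (A.smul_mem (g q / 2) h01)
    rw [cj_eU_single00] at e1
    have e2 : g q • Matrix.single (0 : Ix n) q (1 : F) ∈ A := by
      convert e1 using 1
      abel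
    exact (A.smul_mem_iff (hg.nz q)).1 e2
  have hcol : ∀ a : Ix n, Matrix.single a 0 (1 : F) ∈ A := fun a => by
    rcases idx_cases a with rfl | rfl | ha
    · exact h00
    · exact h10
    · simpa [s1_one, s1_mid ha.1 ha.2] using hA 2 hp2 a 1 (hq1 a ha)
  have hrow : ∀ b : Ix n, Matrix.single 0 b (1 : F) ∈ A := fun b => by
    rcases idx_cases b with rfl | rfl | hb
    · exact h00
    · exact h01
    · exact h0q b hb
  rw [Matrix.matrix_eq_sum_single X]
  refine A.sum_mem fun a _ => A.sum_mem fun b _ => ?_
  have := A.smul_mem (X a b) (hmul _ (hcol a) _ (hrow b))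
  rwa [single_mul_single', if_pos rfl, Matrix.smul_single, smul_eq_mul, mul_one] at this

variable {s : ℕ}

local notation "MU" => Matrix (Fin s → Ix n) (Fin s → Ix n) F

theorem cj_sl_pure' (l : Fin s) (a : GL (Ix n) F) (A : Fin s → M1) :
    cj (sl l a) (CfsgLib.Perm.Asch.pure A) = CfsgLib.Perm.Asch.pure (Function.update A l (cj a (A l))) := by
  rw [cj, ← sl_inv, sl_coe, sl_coe, slot_mul_pure, pure_mul_slot, Function.update_self, Function.update_idem]
  rfl

/-- varying one factor of a pure tensor -/
def updO (A : Fin s → M1) (l : Fin s) : M1 →ₗ[F] MU where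
  toFun X := CfsgLib.Perm.Asch.pure (Function.update A l X)
  map_add' X Y := by
    ext x y
    simp only [Matrix.add_apply, pure_apply, ← Finset.mul_prod_erase Finset.univ _ (Finset.mem_univ l),
      Function.update_self]
    rw [add_mul]
    congr 1 <;> exact congrArg _ (Finset.prod_congr rfl fun k hk => by
      rw [Function.update_of_ne (Finset.ne_of_mem_erase hk), Function.update_of_ne (Finset.ne_of_mem_erase hk)])
  map_smul' c X := by
    ext x y
    simp only [Matrix.smul_apply, pure_apply, RingHom.id_apply, smul_eq_mul,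
      ← Finset.mul_prod_erase Finset.univ _ (Finset.mem_univ l), Function.update_self]
    rw [mul_assoc]
    congr 2
    exact Finset.prod_congr rfl fun k hk => by
      rw [Function.update_of_ne (Finset.ne_of_mem_erase hk), Function.update_of_ne (Finset.ne_of_mem_erase hk)]

theorem updO_apply (A : Fin s → M1) (l : Fin s) (X : M1) :
    updO A l X = CfsgLib.Perm.Asch.pure (Function.update A l X) := rfl

/-- the same for several factors -/
theorem proj_full (hg : Dg g) (h2 : (2 : F) ≠ 0) (A : Submodule F MU) (hmul : ∀ X ∈ A, ∀ Y ∈ A, X * Y ∈ A)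
    (hE : ∀ (l : Fin s) (q : Ix n) (hq : Mid q), ∀ X ∈ A, cj (sl l (eU g h2 hq 1)) X ∈ A)
    (hT : ∀ (l : Fin s) (p : Ix n), Mid p → ∀ X ∈ A, cj (sl l (tauA hg h2 p)) X ∈ A)
    {κ : Fin s → Ix n} (hκ : CfsgLib.Perm.Asch.pure (fun l => (prj (κ l) : M1)) ∈ A) (X : MU) : X ∈ A := by
  classical
  suffices key : ∀ (Z : Finset (Fin s)) (B : Fin s → M1), (∀ l ∉ Z, B l = prj (κ l)) →
      CfsgLib.Perm.Asch.pure B ∈ A by
    rw [Matrix.matrix_eq_sum_single X]
    refine A.sum_mem fun a _ => A.sum_mem fun b _ => ?_
    have := A.smul_mem (X a b) (key Finset.univ (fun l => Matrix.single (a l) (b l) 1) (fun l h => absurd (Finset.mem_univ l) h))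
    rwa [pure_single, Matrix.smul_single, smul_eq_mul, mul_one] at this
  intro Z
  induction Z using Finset.induction_on with
  | empty => intro B hB; rw [show B = fun l => prj (κ l) from funext fun l => hB l (Finset.notMem_empty l)]; exact hκ
  | insert l Z hl ih =>
    intro B hB
    set p : M1 := prj (κ l) with hp
    set B1 : Fin s → M1 := fun k => if k ∈ Z then 1 else prj (κ k) with hB1
    have hbase : ∀ C : Fin s → M1, (∀ k ∉ insert l Z, C k = prj (κ k)) → updO C l p ∈ A := fun C hC => by
      rw [updO_apply]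
      refine ih _ fun k hk => ?_
      rcases eq_or_ne k l with rfl | hkl
      · rw [Function.update_self]
      · rw [Function.update_of_ne hkl, hC k (by simp [hkl, hk])]
    have hup : ∀ (C D : Fin s → M1) (X Y : M1), (∀ k, k ≠ l → C k * D k = C k) →
        updO C l X * updO D l Y = updO C l (X * Y) := by
      intro C D X Y h
      rw [updO_apply, updO_apply, updO_apply, pure_mul]
      congr 1
      funext k
      rcases eq_or_ne k l with rfl | hk
      · simp
      · simp [hk, h k hk]
    have hup' : ∀ (C D : Fin s → M1) (X Y : M1), (∀ k, k ≠ l → D k * C k = C k) →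
        updO D l Y * updO C l X = updO C l (Y * X) := by
      intro C D X Y h
      rw [updO_apply, updO_apply, updO_apply, pure_mul]
      congr 1
      funext k
      rcases eq_or_ne k l with rfl | hk
      · simp
      · simp [hk, h k hk]
    have hB1' : ∀ k ∉ insert l Z, B1 k = prj (κ k) := fun k hk => by
      rw [hB1]; simp only; rw [if_neg (fun h => hk (Finset.mem_insert_of_mem h))]
    have hB11 : ∀ k, B1 k * B1 k = B1 k := fun k => by
      rw [hB1]; simp only; split_ifs <;> simp [prj_idem]
    have hall : ∀ Y, updO B1 l Y ∈ A := fun Y => by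
      refine slot_full hg h2 (A.comap (updO B1 l)) (fun a ha b hb => ?_) (fun q hq a ha => ?_) (fun q hq a ha => ?_)
        (hbase B1 hB1') Y
      · have := hmul _ ha _ hb
        rwa [hup _ _ _ _ (fun k _ => hB11 k)] at this
      · have := hE l q hq _ (show updO B1 l a ∈ A from ha)
        rwa [updO_apply, cj_sl_pure', Function.update_self, Function.update_idem] at this
      · have := hT l q hq _ (show updO B1 l a ∈ A from ha)
        rwa [updO_apply, cj_sl_pure', Function.update_self, Function.update_idem] at this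
    have hCB : ∀ k, k ≠ l → B k * B1 k = B k ∧ B1 k * B k = B k := fun k hk => by
      rw [hB1]
      simp only
      split_ifs with h
      · simp
      · rw [hB k (by simp [hk, h])]; simp [prj_idem]
    have e : ∀ a b : Ix n, updO B l (Matrix.single a b (1 : F)) ∈ A := fun a b => by
      have h1 := hmul _ (hall (Matrix.single a 1 1)) _ (hbase B hB)
      rw [hup' _ _ _ _ (fun k hk => (hCB k hk).2), hp, single_prj] at h1
      have h3 := hmul _ h1 _ (hall (Matrix.single 1 b 1))
      rwa [hup _ _ _ _ (fun k hk => (hCB k hk).1), single_mul_single', if_pos rfl] at h3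
    have hB' : updO B l (B l) ∈ A := by
      rw [Matrix.matrix_eq_sum_single (B l), map_sum]
      refine A.sum_mem fun a _ => ?_
      rw [map_sum]
      refine A.sum_mem fun b _ => ?_
      rw [show Matrix.single a b (B l a b) = (B l a b) • Matrix.single a b (1 : F) by
        rw [Matrix.smul_single, smul_eq_mul, mul_one], map_smul]
      exact A.smul_mem _ (e a b)
    rwa [updO_apply, Function.update_eq_self] at hB'

end CfsgLib.Perm.Trans.TensorPowerO
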