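import Mathlib
import Cfsg.Agent.Lib.Perm.Trans.TensorPowerO.Ten
import Cfsg.Agent.Lib.Perm.Trans.TensorOO.Full

/-!
# The elements of an overgroup centralising the hyperplanes of a singular slice: fixed points
-/

set_option autoImplicit false
set_option linter.all false

namespace CfsgLib.Perm.Trans.TensorPowerO

open scoped Matrix
open Matrix Cfsg.Geo CfsgLib.Perm.Asch CfsgLib.Perm.Trans CfsgLib.Perm.Trans.TensorPower
open CfsgLib.Perm.Trans.TensorOO

variable {F : Type*} [Field F] [Fintype F] {n s : ℕ} {g : Ix n → F} {hg : Dg g}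
variable {M : Subgroup (GL (Fin (s + 1) → Ix n) F)}

local notation "M1" => Matrix (Ix n) (Ix n) F
local notation "MU" => Matrix (Fin s → Ix n) (Fin s → Ix n) F
local notation "MV" => Matrix (Fin (s + 1) → Ix n) (Fin (s + 1) → Ix n) F

/-- the operators occurring with the first singular vector in the factor `j` -/
def cen (M : Subgroup (GL (Fin (s + 1) → Ix n) F)) (j : Fin (s + 1)) : AddSubgroup MU where
  carrier := {S | Mem1 M (ten j (aa : M1) S)}
  zero_mem' := by show Mem1 M _; rw [ten_zero_right]; exact Mem1.zero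
  add_mem' := fun {S T} hS hT => by
    have h0 : ∀ A B : MU, (ten j (aa : M1) A : MV) * ten j aa B = 0 := fun A B => by
      rw [ten_mul, aa_aa, ten_zero_left]
    have h1 := hS.sub (Y := ten j aa (-T)) (by rw [ten_neg_right]; exact Mem1.neg hT (h0 _ _)) (h0 _ _) (h0 _ _)
    show Mem1 M _
    rwa [← ten_sub_right, sub_neg_eq_add] at h1
  neg_mem' := fun {S} hS => by
    show Mem1 M _
    rw [ten_neg_right]
    exact Mem1.neg hS (by rw [ten_mul, aa_aa, ten_zero_left])

theorem mem_cen {j : Fin (s + 1)} {S : MU} : S ∈ cen M j ↔ Mem1 M (ten j (aa : M1) S) := Iff.rfl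

theorem cen_conj {j : Fin (s + 1)} {a : GL (Ix n) F} {b : GL (Fin s → Ix n) F} (h : sl j a * embGL j b ∈ M) {c : F}
    (hc : cj a (aa : M1) = c • aa) {S : MU} (hS : S ∈ cen M j) : c • cj b S ∈ cen M j := by
  have e := (mem_cen.1 hS).conj h
  rw [cj_ten, hc, ten_smul_left, ← ten_smul_right] at e
  exact mem_cen.2 e

theorem cen_conjR {j : Fin (s + 1)} {b : GL (Fin s → Ix n) F} (h : embGL j b ∈ M) {S : MU} (hS : S ∈ cen M j) :
    cj b S ∈ cen M j := by
  have := cen_conj (a := 1) (c := 1) (by rwa [sl_one, one_mul])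
    (by rw [cj, inv_one, Units.val_one, one_mul, mul_one, one_smul]) hS
  rwa [one_smul] at this

theorem cen_skew (hM : Ctx hg M) {j : Fin (s + 1)} {S : MU} (hS : S ∈ cen M j) :
    adj (gT g s) (sT n s) S = -S := by
  obtain ⟨m, hm, hme⟩ := mem_cen.1 hS
  have h := adj_of_one_add (hM.le_uT hm) hme (by rw [ten_mul, aa_aa, ten_zero_left])
  rw [adj_ten hg, adj_aa hg, ← ten_neg_right] at h
  refine ten_right_injective j (fun e => ?_) h
  have := congrFun (congrFun e 0) 1
  simp [aa] at this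

/-- the matrices commuting with the roots of all factors have a fixed point in every invariant subgroup -/
theorem exists_fixd {t : ℕ} (h2 : (2 : F) ≠ 0) (C : AddSubgroup (Matrix (Fin t → Ix n) (Fin t → Ix n) F))
    (hC : ∀ (l : Fin t) (i : Ix n) (hi : Mid i) (x : F), ∀ S ∈ C, cj (sl l (eU g h2 hi x)) S ∈ C)
    (hne : ∃ S ∈ C, S ≠ 0) : ∃ S ∈ C, S ≠ 0 ∧ Fixd g S := by
  classical
  obtain ⟨p, hp, hchar, -, -⟩ := exists_char (F := F) h2
  haveI := hchar
  haveI : Fact p.Prime := ⟨hp⟩
  set gens : Set (GL (Fin t → Ix n) F) := {u | ∃ (l : Fin t) (i : Ix n) (hi : Mid i) (x : F), u = sl l (eU g h2 hi x)}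
    with hgens
  have hcomm : ∀ u ∈ gens, ∀ v ∈ gens, u * v = v * u := by
    rintro _ ⟨l, i, hi, x, rfl⟩ _ ⟨k, q, hq, y, rfl⟩
    rcases eq_or_ne l k with rfl | hlk
    · rw [sl_mul, sl_mul]
      congr 1
      refine Units.ext ?_
      rw [Units.val_mul, Units.val_mul, eU_coe, eU_coe]
      have e1 : nm g i * nm g q = nm g q * nm g i := by
        rw [nm_nm hi hq, nm_nm hq hi]
        by_cases h : i = q
        · subst h; rfl
        · rw [if_neg h, if_neg (Ne.symm h)]
      simp only [add_mul, sub_mul, mul_add, mul_sub, one_mul, mul_one, Matrix.smul_mul, Matrix.mul_smul, nm_aa hi,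
        nm_aa hq, aa_nm hi, aa_nm hq, aa_aa, smul_zero, sub_zero, e1]
      module
    · exact sl_comm hlk _ _
  set K := Subgroup.closure gens with hK
  have hcent : ∀ u ∈ K, ∀ v ∈ K, u * v = v * u := by
    have h1 : K ≤ Subgroup.centralizer gens := (Subgroup.closure_le _).2 fun u hu =>
      Subgroup.mem_centralizer_iff.2 fun v hv => hcomm v hv u hu
    intro u hu v hv
    have h2' : K ≤ Subgroup.centralizer {u} := (Subgroup.closure_le _).2 fun w hw =>
      Subgroup.mem_centralizer_iff.2 fun x hx => by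
        rw [Set.mem_singleton_iff.1 hx]
        exact (Subgroup.mem_centralizer_iff.1 (h1 hu) w hw).symm
    exact Subgroup.mem_centralizer_iff.1 (h2' hv) u rfl
  have hpow : ∀ u ∈ K, u ^ p = 1 := by
    intro u hu
    induction hu using Subgroup.closure_induction with
    | mem v hv =>
      obtain ⟨l, i, hi, x, rfl⟩ := hv
      rw [← sl_pow, eU_pow, CharP.cast_eq_zero, zero_mul, ← sl_one l]
      congr 1
      exact Units.ext (euM_zero i)
    | one => exact one_pow p
    | mul v w hv hw e1 e2 => rw [(show Commute v w from hcent v hv w hw).mul_pow, e1, e2, one_mul]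
    | inv v _ e1 => rw [inv_pow, e1, inv_one]
  have hG : IsPGroup p K := fun u => ⟨1, Subtype.ext (by rw [pow_one]; exact hpow u u.2)⟩
  obtain ⟨S, hS, hS0, hfix⟩ := exists_fixed hG (V := Matrix (Fin t → Ix n) (Fin t → Ix n) F)
    (fun v => by rw [← Nat.cast_smul_eq_nsmul F, CharP.cast_eq_zero, zero_smul]) C
    (fun u v => cj (u : GL (Fin t → Ix n) F) v)
    (fun v => by simp [cj])
    (fun u w v => by rw [Subgroup.coe_mul, cj_cj])
    (fun u => TensorPower.cj_zero _)
    (fun u => by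
      obtain ⟨u, hu⟩ := u
      show ∀ v ∈ C, cj u v ∈ C
      induction hu using Subgroup.closure_induction with
      | mem v hv => obtain ⟨l, i, hi, x, rfl⟩ := hv; exact hC l i hi x
      | one => intro v hv; simpa [cj] using hv
      | mul v w _ _ e1 e2 => intro z hz; rw [← cj_cj]; exact e1 _ (e2 _ hz)
      | inv v hv e1 =>
        intro z hz
        have e : v⁻¹ = v ^ (p - 1) := inv_eq_of_mul_eq_one_right (by
          rw [← pow_succ', Nat.sub_add_cancel hp.one_le, hpow v hv])
        rw [e]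
        clear e
        induction p - 1 with
        | zero => simpa [cj] using hz
        | succ k ih => rw [pow_succ', ← cj_cj]; exact e1 _ ih) hne
  refine ⟨S, hS, hS0, fun l i hi => ?_⟩
  have hc : ∀ x, Commute S (slot l (eU g h2 hi x : M1) : Matrix (Fin t → Ix n) (Fin t → Ix n) F) := fun x => by
    have e := hfix ⟨sl l (eU g h2 hi x), Subgroup.subset_closure ⟨l, i, hi, x, rfl⟩⟩
    show S * _ = _ * S
    conv_lhs => rw [← e]
    rw [← sl_coe, cj, mul_assoc, gl_inv_mul, mul_one]
  have e : nm g i = (2 : F)⁻¹ • ((eU g h2 hi 1 : M1) - (eU g h2 hi (-1) : M1)) := by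
    rw [eU_coe, eU_coe, neg_mul_neg, neg_one_smul, one_smul]
    match_scalars <;> field_simp <;> ring
  rw [e, TensorPower.slot_smul, TensorPower.slot_sub]
  exact ((hc 1).sub_right (hc (-1))).smul_right _

/-- the support -/
noncomputable def supp {t : ℕ} (S : Matrix (Fin t → Ix n) (Fin t → Ix n) F) : Finset (Fin t → Ix n) := by
  classical exact Finset.univ.filter fun κ => S κ (ones n t) ≠ 0

theorem mem_supp {t : ℕ} {S : Matrix (Fin t → Ix n) (Fin t → Ix n) F} {κ : Fin t → Ix n} :
    κ ∈ supp S ↔ S κ (ones n t) ≠ 0 := by classical simp [supp]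

theorem supp_nonempty {t : ℕ} (hg : Dg g) {S : Matrix (Fin t → Ix n) (Fin t → Ix n) F} (hS : Fixd g S) (h : S ≠ 0) :
    (supp S).Nonempty := by
  by_contra hcon
  refine h (hS.eq_of_ones hg (fun l i hi => Commute.zero_left _) fun κ => ?_)
  by_contra hne
  exact hcon ⟨κ, mem_supp.2 hne⟩

theorem supp_lt {t : ℕ} {S T : Matrix (Fin t → Ix n) (Fin t → Ix n) F}
    (h : ∀ κ, T κ (ones n t) ≠ 0 → S κ (ones n t) ≠ 0) {κ : Fin t → Ix n} (h1 : S κ (ones n t) ≠ 0)
    (h2 : T κ (ones n t) = 0) : (supp T).card < (supp S).card :=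
  Finset.card_lt_card ((Finset.ssubset_iff_of_subset fun x hx => mem_supp.2 (h x (mem_supp.1 hx))).2
    ⟨κ, mem_supp.2 h1, fun hx => mem_supp.1 hx h2⟩)

variable (hM : Ctx hg M)
include hM

theorem Ctx.cen_root (j : Fin (s + 1)) (l : Fin s) {i : Ix n} (hi : Mid i) (x : F) {S : MU} (hS : S ∈ cen M j) :
    cj (sl l (eU g hM.two hi x)) S ∈ cen M j :=
  cen_conjR (by rw [embGL_sl]; exact hM.root_mem _ hi x) hS

theorem Ctx.cen_pair (j : Fin (s + 1)) (l : Fin s) {d : Ix n → F} (hd : ∀ y, d y ≠ 0)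
    (ha : moG 1 d hd ∈ u1 hg) {S : MU} (hS : S ∈ cen M j) :
    (d 1 / d 0) • cj (sl l (moG 1 d hd)) S ∈ cen M j := by
  have hM' := hM.pair_mem (Fin.succAbove_ne j l) ha
  rw [← embGL_sl, ← embGL_comm] at hM'
  refine cen_conj hM' ?_ hS
  rw [moG_one_inv, cj_moG_aa, inv_div_inv]

/-- sums of squares of the multipliers -/
theorem Ctx.cen_line (j : Fin (s + 1)) {S : MU} (hS : S ∈ cen M j) (l : Fin s) {p : Ix n} (hp : Mid p)
    (hfix : Fixd g S) (hsupp : ∀ κ, S κ (ones n s) ≠ 0 → κ l = p) (c : F) : c • S ∈ cen M j := by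
  have hsq : ∀ y : F, (y * y) • S ∈ cen M j := by
    intro y
    rcases eq_or_ne y 0 with rfl | hy
    · rw [mul_zero, zero_smul]; exact zero_mem _
    have h1 : embGL j (sl l (moG 1 (dTor y) (dTor_ne hy) * moG 1 (dTor y) (dTor_ne hy))) ∈ M := by
      rw [embGL_sl]; exact hM.sq_sl _ (tor_mem hg hy)
    have h3 := cen_conjR h1 hS
    rw [← sl_mul, ← cj_cj] at h3
    convert h3 using 1
    have hf1 := hfix.cj_diag hg l (dTor_ne hy) (by simp [dTor, zero_ne_one'.symm, hy])
      (fun i hi => by simp [dTor, hi.1, hi.2])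
    refine (hfix.smul _).eq_of_ones hg (hf1.cj_diag hg l (dTor_ne hy) (by simp [dTor, zero_ne_one'.symm, hy])
      fun i hi => by simp [dTor, hi.1, hi.2]) fun κ => ?_
    rw [cj_sl_diag_apply, cj_sl_diag_apply, Matrix.smul_apply, smul_eq_mul]
    by_cases h0 : S κ (ones n s) = 0
    · rw [h0]; ring
    rw [hsupp κ h0]
    have h11 : ones n s l = 1 := rfl
    rw [h11]
    simp only [dTor, hp.1, hp.2, if_false, zero_ne_one'.symm, if_true]
    field_simp
  have e : c • S = (((c + 1) / 2) * ((c + 1) / 2)) • S - (((c - 1) / 2) * ((c - 1) / 2)) • S := by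
    rw [← sub_smul]
    congr 1
    have := hM.two
    field_simp
    ring
  rw [e]
  exact sub_mem (hsq _) (hsq _)

end CfsgLib.Perm.Trans.TensorPowerO
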