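import Mathlib
import Cfsg.Agent.Lib.Perm.Trans.TensorPowerO.Cen

/-!
# A pure pattern among the operators centralising the hyperplanes of a singular slice
-/

set_option autoImplicit false
set_option linter.all false

namespace CfsgLib.Perm.Trans.TensorPowerO

open scoped Matrix
open Matrix Cfsg.Geo CfsgLib.Perm.Asch CfsgLib.Perm.Trans CfsgLib.Perm.Trans.TensorPower
open CfsgLib.Perm.Trans.TensorOO

variable {F : Type*} [Field F] [Fintype F] {n s : ℕ} {g : Ix n → F} {hg : Dg g}
variable {M : Subgroup (GL (Fin (s + 1) → Ix n) F)}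

local notation "M1" => Matrix (Ix n) (Ix n) F
local notation "MU" => Matrix (Fin s → Ix n) (Fin s → Ix n) F

omit [Fintype F] in
theorem cj_aa_of_mem {u : GL (Ix n) F} (hu : u ∈ u1 hg) :
    cj u (aa : M1) = vecMulVec ((u : M1) *ᵥ Pi.single 0 1) (dual g (s1 n) ((u : M1) *ᵥ Pi.single 0 1)) := by
  have e : (aa : M1) = vecMulVec (Pi.single 0 1) (dual g (s1 n) (Pi.single 0 1)) := by
    rw [dual_single hg.wg, s1_zero, hg.g0, mul_one, TensorPower.vmv_single]
    rfl
  rw [dual_image hu, e, cj, mul_vecMulVec, vecMulVec_mul]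

variable (hM : Ctx hg M)
include hM

/-- a linear relation between the conjugates of the rank-one element with non-zero total weight -/
theorem Ctx.exists_relation (hn : 1 ≤ n) : ∃ c : F, c ≠ 0 ∧ ((0 : M1), c) ∈ Submodule.span F
    {v : M1 × F | ∃ u : GL (Ix n) F, (∀ l : Fin (s + 1), sl l u ∈ M) ∧ v = (cj u aa, 1)} := by
  set gens := {v : M1 × F | ∃ u : GL (Ix n) F, (∀ l : Fin (s + 1), sl l u ∈ M) ∧ v = (cj u aa, 1)} with hgens
  have h2 := hM.two
  have hs := bf_symmetric hg.wg
  obtain ⟨p, q, hp, hq, hpq⟩ : ∃ p q : Ix n, Mid p ∧ Mid q ∧ p ≠ q := by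
    refine ⟨⟨2, by omega⟩, ⟨3, by omega⟩, ?_, ?_, by simp [Fin.ext_iff]⟩ <;> constructor <;> simp [Fin.ext_iff]
  obtain ⟨char, hchar, hc, hodd, -⟩ := exists_char (F := F) h2
  haveI := hc
  set e0 : Ix n → F := Pi.single 0 1 with he0
  set e1' : Ix n → F := Pi.single 1 1 with he1
  have h11 : bf g (s1 n) e1' e1' = 0 := by
    rw [he1, bf_single hg.wg, s1_one, Pi.single_eq_of_ne zero_ne_one', mul_zero]
  have h01 : bf g (s1 n) e0 e1' = 1 := by
    rw [he0, he1, bf_single hg.wg, s1_zero, Pi.single_eq_same, hg.g0, mul_one]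
  let vv : (Ix n → F) → F → M1 := fun w h => vecMulVec (e0 + w - h • e1') (dual g (s1 n) (e0 + w - h • e1'))
  have hvv : ∀ w : Ix n → F, w 0 = 0 → w 1 = 0 → (vv w (bf g (s1 n) w w / 2), (1 : F)) ∈ gens := by
    intro w hw0 hw1
    have h1w : bf g (s1 n) e1' w = 0 := by rw [he1, bf_single hg.wg, s1_one, hw0, mul_zero]
    have h0w : bf g (s1 n) e0 w = 0 := by rw [he0, bf_single hg.wg, s1_zero, hw1, mul_zero]
    refine ⟨eic hs e1' w, fun l => hM.odd_sl l (mem_of_bf (eic_iso hs h2 h11 h1w)) hodd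
      (eic_pow_char hs h2 h11 h1w), ?_⟩
    rw [cj_aa_of_mem (hg := hg) (mem_of_bf (eic_iso hs h2 h11 h1w) : eic hs e1' w ∈ u1 hg), ← he0,
      eic_mulVec hs h2 h11 h1w, h01, h0w, one_smul, zero_smul, sub_zero, mul_one]
  set μ := -(g p) / 2 with hμdef
  have hμ : μ ≠ 0 := div_ne_zero (neg_ne_zero.2 (hg.nz p)) h2
  have hcc : ((μ * μ) • (cc : M1), (1 : F)) ∈ gens := by
    refine ⟨tauA hg h2 p, fun l => hM.tau_sl l hp, ?_⟩
    rw [aa, tauA, cj_moG_single, cc, Equiv.swap_apply_left, Equiv.swap_apply_right, if_pos rfl,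
      if_neg zero_ne_one'.symm, if_pos rfl, div_inv_eq_mul]
  have hnorm : ∀ a b : F, bf g (s1 n) (a • Pi.single p (1 : F) + b • Pi.single q (1 : F))
      (a • Pi.single p 1 + b • Pi.single q 1) = a * a * g p + b * b * g q := by
    intro a b
    simp only [bf_add_left, bf_add_right, bf_smul_left, bf_smul_right, bf_single hg.wg, s1_mid hp.1 hp.2,
      s1_mid hq.1 hq.2, Pi.single_eq_same, Pi.single_eq_of_ne hpq, Pi.single_eq_of_ne hpq.symm]
    ring
  let wv : F → F → (M1 × F) := fun a b =>
    (vv (a • Pi.single p 1 + b • Pi.single q 1) ((a * a * g p + b * b * g q) / 2), 1)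
  have hwv : ∀ a b : F, wv a b ∈ Submodule.span F gens := fun a b => by
    refine Submodule.subset_span ?_
    have := hvv (a • Pi.single p 1 + b • Pi.single q 1)
      (by simp [Pi.single_eq_of_ne hp.1.symm, Pi.single_eq_of_ne hq.1.symm])
      (by simp [Pi.single_eq_of_ne hp.2.symm, Pi.single_eq_of_ne hq.2.symm])
    rwa [hnorm] at this
  refine ⟨-(2 * g p * g q) / (μ * μ), div_ne_zero (neg_ne_zero.2
    (mul_ne_zero (mul_ne_zero h2 (hg.nz p)) (hg.nz q))) (mul_ne_zero hμ hμ), ?_⟩
  have e : ((0 : M1), -(2 * g p * g q) / (μ * μ)) = wv 1 1 + wv 1 (-1) + wv (-1) 1 + wv (-1) (-1) +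
      (-2 : F) • (wv 1 0 + wv (-1) 0 + wv 0 1 + wv 0 (-1)) + (4 : F) • wv 0 0 +
      (-(2 * g p * g q) / (μ * μ)) • ((μ * μ) • (cc : M1), (1 : F)) := by
    have hcc' : (cc : M1) = vecMulVec e1' (dual g (s1 n) e1') := by
      rw [he1, dual_single hg.wg, s1_one, hg.g1, mul_one, TensorPower.vmv_single]
      rfl
    ext : 1
    · simp only [wv, vv, Prod.fst_add, Prod.smul_fst, hcc', sub_eq_add_neg, ← neg_smul, dual_add, dual_smul,
        add_vecMulVec, vecMulVec_add, smul_vecMulVec, vecMulVec_smul, smul_smul, smul_add]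
      match_scalars <;> field_simp <;> ring
    · simp only [wv, Prod.snd_add, Prod.smul_snd, smul_eq_mul]
      ring
  rw [e]
  refine Submodule.add_mem _ (Submodule.add_mem _ (Submodule.add_mem _ (Submodule.add_mem _ (Submodule.add_mem _
    (Submodule.add_mem _ (hwv _ _) (hwv _ _)) (hwv _ _)) (hwv _ _)) ?_) ?_) ?_
  · exact Submodule.smul_mem _ _ (Submodule.add_mem _ (Submodule.add_mem _ (Submodule.add_mem _ (hwv _ _) (hwv _ _))
      (hwv _ _)) (hwv _ _))
  · exact Submodule.smul_mem _ _ (hwv _ _)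
  · exact Submodule.smul_mem _ _ (Submodule.subset_span hcc)

/-- removal of the part with the rank-one element in the factor `l` -/
theorem Ctx.cen_split (hn : 1 ≤ n) (j : Fin (s + 1)) (l : Fin s) {S : MU} (hfix : Fixd g S)
    (hline : ∀ c : F, c • S ∈ cen M j) (hl : ∀ κ, S κ (ones n s) ≠ 0 → κ l = 0 ∨ κ l = 1) :
    comb g (fun κ => if κ l = 1 then S κ (ones n s) else 0) ∈ cen M j := by
  classical
  set S0 : MU := comb g (fun κ => if κ l = 1 then S κ (ones n s) else 0) with hS0
  set R : MU := ∑ κ, (if κ l = 1 then 0 else S κ (ones n s)) • pat g (Function.update κ l 1) with hR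
  have hpatl : ∀ κ : Fin s → Ix n, κ l = 1 → ∀ u : GL (Ix n) F, cj (sl l u) (pat g κ : MU) = pat g κ := by
    intro κ hκ u
    refine cj_eq_self ?_
    rw [sl_coe, pat, slot_mul_pure, pure_mul_slot, hκ, phi_one, mul_one, one_mul]
  have hS : S = S0 + slot l (aa : M1) * R := by
    conv_lhs => rw [hfix.expand hg, comb]
    rw [hS0, comb, hR, Finset.mul_sum, ← Finset.sum_add_distrib]
    refine Finset.sum_congr rfl fun κ _ => ?_
    by_cases h1 : κ l = 1
    · rw [if_pos h1, if_pos h1, zero_smul, mul_zero, add_zero]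
    rw [if_neg h1, if_neg h1, zero_smul, zero_add]
    by_cases h0 : S κ (ones n s) = 0
    · rw [h0, zero_smul, zero_smul, mul_zero]
    have hk := (hl κ h0).resolve_right h1
    rw [Matrix.mul_smul, pat, pat, slot_mul_pure, Function.update_self, phi_one, mul_one]
    congr 2
    funext k
    rcases eq_or_ne k l with rfl | hkl
    · simp [hk, phi_zero]
    · simp [hkl]
  have hRfix : ∀ u : GL (Ix n) F, cj (sl l u) R = R := fun u => by
    rw [hR]
    simp only [cj, Finset.mul_sum, Finset.sum_mul, Matrix.mul_smul, Matrix.smul_mul]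
    exact Finset.sum_congr rfl fun κ _ => congrArg _ (hpatl _ (Function.update_self ..) u)
  have hSfix : ∀ u : GL (Ix n) F, cj (sl l u) S0 = S0 := fun u => by
    rw [hS0, comb]
    simp only [cj, Finset.mul_sum, Finset.sum_mul, Matrix.mul_smul, Matrix.smul_mul]
    refine Finset.sum_congr rfl fun κ _ => ?_
    by_cases h1 : κ l = 1
    · exact congrArg _ (hpatl κ h1 u)
    · rw [if_neg h1, zero_smul, zero_smul]
  obtain ⟨c, hc, hrel⟩ := hM.exists_relation hn
  let Ψ : M1 × F → MU := fun v => v.2 • S0 + slot l v.1 * R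
  have key : ∀ v ∈ Submodule.span F {v : M1 × F | ∃ u : GL (Ix n) F, (∀ l : Fin (s + 1), sl l u ∈ M) ∧
      v = (cj u aa, 1)}, ∀ r : F, r • Ψ v ∈ cen M j := by
    intro v hv
    induction hv using Submodule.span_induction with
    | mem v hv =>
      obtain ⟨u, hu, rfl⟩ := hv
      intro r
      have h1 := cen_conjR (b := sl l u) (by rw [embGL_sl]; exact hu _) (hline r)
      rw [cj_smul, hS, cj_add, cj_mul, cj_sl_slot, hSfix, hRfix] at h1
      show r • ((1 : F) • S0 + slot l (cj u aa) * R) ∈ cen M j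
      rwa [one_smul]
    | zero => intro r; simp [Ψ, TensorPower.slot_zero]
    | add v w _ _ e1 e2 =>
      intro r
      have := add_mem (e1 r) (e2 r)
      rw [← smul_add] at this
      convert this using 2
      simp only [Ψ, Prod.fst_add, Prod.snd_add, add_smul, TensorPower.slot_add, add_mul]
      abel
    | smul a v _ e1 =>
      intro r
      have := e1 (r * a)
      rw [← smul_smul] at this
      convert this using 2
      simp only [Ψ, Prod.smul_fst, Prod.smul_snd, smul_eq_mul, TensorPower.slot_smul, Matrix.smul_mul, smul_add,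
        smul_smul]
  have h1 := key _ hrel c⁻¹
  simp only [Ψ, TensorPower.slot_zero, zero_mul, add_zero, smul_smul, inv_mul_cancel₀ hc, one_smul] at h1
  exact h1

/-- a pattern among the operators -/
theorem Ctx.exists_pattern (j : Fin (s + 1)) (hne : ∃ S ∈ cen M j, S ≠ 0) :
    ∃ κ : Fin s → Ix n, (∃ l, Mid (κ l)) ∧ ∀ c : F, c • pat g κ ∈ cen M j := by
  classical
  have h2 := hM.two
  have hex : ∃ k, ∃ S ∈ cen M j, S ≠ 0 ∧ Fixd g S ∧ (supp S).card = k := by
    obtain ⟨S, hS, h0, hf⟩ := exists_fixd (g := g) h2 (cen M j)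
      (fun l i hi x T hT => hM.cen_root j l hi x hT) hne
    exact ⟨_, S, hS, h0, hf, rfl⟩
  obtain ⟨S, hS, hS0, hfix, hcard⟩ := Nat.find_spec hex
  have hmin : ∀ T ∈ cen M j, Fixd g T → (∀ κ, T κ (ones n s) ≠ 0 → S κ (ones n s) ≠ 0) →
      ∀ κ, S κ (ones n s) ≠ 0 → T κ (ones n s) = 0 → T = 0 := by
    intro T hT hTf hsub κ h1 h0
    by_contra hT0
    have := supp_lt hsub h1 h0
    rw [hcard] at this
    exact Nat.find_min hex this ⟨T, hT, hT0, hTf, rfl⟩
  have hone : ∀ l : Fin s, ones n s l = 1 := fun l => rfl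
  -- the signs are constant on the support
  have hsign : ∀ (l : Fin s) (d : Ix n → F) (hd : ∀ y, d y ≠ 0), moG 1 d hd ∈ u1 hg → d 0 = d 1 → d 0 * d 1 = 1 →
      (∀ i, Mid i → d i * d i = 1) → ∀ κ κ', S κ (ones n s) ≠ 0 → S κ' (ones n s) ≠ 0 → d (κ l) = d (κ' l) := by
    intro l d hd hmem h01 hμ hm κ κ' hκ hκ'
    have hT := sub_mem hS (hM.cen_pair j l hd hmem hS)
    rw [← h01, div_self (hd 0), one_smul] at hT
    have hTf := hfix.sub (hfix.cj_diag hg l hd hμ hm)
    have he : ∀ ν, (S - cj (sl l (moG 1 d hd)) S) ν (ones n s) = (1 - d (ν l) / d 1) * S ν (ones n s) := fun ν => by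
      rw [Matrix.sub_apply, cj_sl_diag_apply, hone]; ring
    by_contra hne'
    have hd11 : d 1 * d 1 = 1 := by rwa [h01] at hμ
    have hsq : ∀ i : Ix n, d i * d i = 1 := fun i => by
      rcases idx_cases i with rfl | rfl | hi
      · rw [h01]; exact hd11
      · exact hd11
      · exact hm i hi
    -- one of them is kept by the conjugation
    obtain ⟨ν, ν', hν, hν', hν1, hν'1⟩ : ∃ ν ν', S ν (ones n s) ≠ 0 ∧ S ν' (ones n s) ≠ 0 ∧ d (ν l) = d 1 ∧
        d (ν' l) ≠ d 1 := by
      by_cases h : d (κ l) = d 1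
      · exact ⟨κ, κ', hκ, hκ', h, fun e => hne' (h.trans e.symm)⟩
      · refine ⟨κ', κ, hκ', hκ, ?_, h⟩
        rcases mul_self_eq_mul_self_iff.1 ((hsq (κ' l)).trans hd11.symm) with e | e
        · exact e
        · rcases mul_self_eq_mul_self_iff.1 ((hsq (κ l)).trans hd11.symm) with e' | e'
          · exact absurd e' h
          · exact absurd (e'.trans e.symm) hne'
    have hT0 := hmin _ hT hTf (fun x hx h => hx (by rw [he, h, mul_zero])) ν hν
      (by rw [he, hν1, div_self (hd 1), sub_self, zero_mul])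
    have := congrArg (fun X : MU => X ν' (ones n s)) hT0
    simp only [Matrix.zero_apply, he, mul_eq_zero, hν', or_false, sub_eq_zero] at this
    exact hν'1 ((div_eq_one_iff_eq (hd 1)).1 this.symm)
  obtain ⟨κ, hκ'⟩ := supp_nonempty hg hfix hS0
  have hκ := mem_supp.1 hκ'
  have hne2 : (-1 : F) ≠ 1 := fun e => h2 (by linear_combination -e)
  have hpar : ∀ l κ', S κ' (ones n s) ≠ 0 → (Mid (κ' l) ↔ Mid (κ l)) ∧ (Mid (κ l) → κ' l = κ l) := by
    intro l κ' hκ'
    have e1 := hsign l dSig dSig_ne (sig_mem hg) (by simp [dSig]) (by simp [dSig])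
      (fun i hi => by simp [dSig, hi.1, hi.2]) κ κ' hκ hκ'
    have e2 : Mid (κ' l) ↔ Mid (κ l) := by
      unfold dSig at e1
      constructor <;> intro h <;> (by_contra hc; unfold Mid at hc; rw [not_and_or, not_not, not_not] at hc)
      · rw [if_pos hc, if_neg (not_or.2 h)] at e1; exact hne2 e1
      · rw [if_pos hc, if_neg (not_or.2 h)] at e1; exact hne2 e1.symm
    refine ⟨e2, fun hp => ?_⟩
    have e3 := hsign l (dRef (κ l)) (dRef_ne _) (ref_mem hg hp) (by simp [dRef, hp.1.symm, hp.2.symm])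
      (by simp [dRef, hp.1.symm, hp.2.symm]) (fun i hi => by unfold dRef; split_ifs <;> simp) κ κ' hκ hκ'
    by_contra hne'
    simp [dRef, hne'] at e3
    exact hne2 e3
  have hskew : ∃ l, Mid (κ l) := by
    by_contra hcon
    push Not at hcon
    have e := congrArg (fun X : MU => X κ (ones n s)) (cen_skew hM hS)
    simp only [Matrix.neg_apply] at e
    have e' : adj (gT g s) (sT n s) S = S := by
      conv_lhs => rw [hfix.expand hg, comb]
      conv_rhs => rw [hfix.expand hg, comb]
      have : ∀ x : Finset (Fin s → Ix n), adj (gT g s) (sT n s) (∑ ν ∈ x, S ν (ones n s) • (pat g ν : MU)) =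
          ∑ ν ∈ x, S ν (ones n s) • pat g ν := by
        intro x
        induction x using Finset.induction_on with
        | empty => simp [adj_zero]
        | insert a x ha ih =>
          rw [Finset.sum_insert ha, adj_add, ih, adj_smul, adj_pat hg]
          by_cases h0 : S a (ones n s) = 0
          · rw [h0, zero_smul, zero_smul]
          · rw [Finset.prod_eq_one fun l _ => ?_, one_smul]
            rcases idx_cases (a l) with h | h | h
            · rw [sgn, if_pos (Or.inl h)]
            · rw [sgn, if_pos (Or.inr h)]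
            · exact absurd ((hpar l a h0).1.1 h) (hcon l)
      exact this Finset.univ
    rw [e'] at e
    exact hκ ((mul_eq_zero.1 (show (2 : F) * S κ (ones n s) = 0 by linear_combination e)).resolve_left h2)
  obtain ⟨o, ho⟩ := hskew
  have hline : ∀ c : F, c • S ∈ cen M j := hM.cen_line j hS o ho hfix fun κ' h => (hpar o κ' h).2 ho
  have huniq : ∀ κ', S κ' (ones n s) ≠ 0 → κ' = κ := by
    intro κ' hκ'
    funext l
    by_cases hl : Mid (κ l)
    · exact (hpar l κ' hκ').2 hl
    have hev : ∀ ν, S ν (ones n s) ≠ 0 → ν l = 0 ∨ ν l = 1 := fun ν hν => by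
      rcases idx_cases (ν l) with h | h | h
      · exact Or.inl h
      · exact Or.inr h
      · exact absurd ((hpar l ν hν).1.1 h) hl
    by_contra hne'
    obtain ⟨ν, ν', hν, hν', hν0, hν1⟩ : ∃ ν ν', S ν (ones n s) ≠ 0 ∧ S ν' (ones n s) ≠ 0 ∧ ν l = 0 ∧ ν' l = 1 := by
      rcases hev κ hκ with a | a <;> rcases hev κ' hκ' with b | b
      · exact absurd (b.trans a.symm) hne'
      · exact ⟨κ, κ', hκ, hκ', a, b⟩
      · exact ⟨κ', κ, hκ', hκ, b, a⟩
      · exact absurd (b.trans a.symm) hne'
    rcases hM.big with hn | ⟨y, hy0, hy⟩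
    · have hT := hM.cen_split hn j l hfix hline hev
      set c0 := fun μ : Fin s → Ix n => if μ l = 1 then S μ (ones n s) else 0 with hc0
      have e : ∀ μ, comb g c0 μ (ones n s) = c0 μ := comb_apply_ones c0
      have h0 := hmin _ hT (comb_fixd c0) (fun x hx h => hx (by rw [e, hc0]; simp [h])) ν hν
        (by rw [e, hc0]; simp [hν0, zero_ne_one'])
      have := congrArg (fun X : MU => X ν' (ones n s)) h0
      simp only [Matrix.zero_apply] at this
      rw [comb_apply_ones, hc0] at this
      simp only [if_pos hν1] at this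
      exact hν' this
    · have hd := dTor_ne (n := n) hy0
      have hT := sub_mem hS (hM.cen_pair j l hd (tor_mem hg hy0) hS)
      have hTf := hfix.sub ((hfix.cj_diag hg l hd (by simp [dTor, zero_ne_one'.symm, hy0])
        (fun i hi => by simp [dTor, hi.1, hi.2])).smul (dTor y (1 : Ix n) / dTor y (0 : Ix n)))
      have he : ∀ μ, (S - (dTor y (1 : Ix n) / dTor y (0 : Ix n)) • cj (sl l (moG 1 (dTor y) hd)) S) μ (ones n s) =
          (1 - (dTor y (1 : Ix n) / dTor y (0 : Ix n)) * (dTor y (μ l) / dTor y (1 : Ix n))) * S μ (ones n s) :=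
        fun μ => by rw [Matrix.sub_apply, Matrix.smul_apply, cj_sl_diag_apply, hone, smul_eq_mul]; ring
      have h0 := hmin _ hT hTf (fun x hx h => hx (by rw [he, h, mul_zero])) ν hν (by
        rw [he, hν0]
        simp only [dTor, if_true, zero_ne_one'.symm, if_false]
        field_simp
        ring)
      have := congrArg (fun X : MU => X ν' (ones n s)) h0
      simp only [Matrix.zero_apply] at this
      rw [he, hν1, mul_eq_zero, or_iff_left hν'] at this
      simp only [dTor, if_true, zero_ne_one'.symm, if_false] at this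
      field_simp at this
      exact hy (by first | linear_combination this | linear_combination -this)
  refine ⟨κ, ⟨o, ho⟩, fun c => ?_⟩
  have e : S = S κ (ones n s) • pat g κ := by
    conv_lhs => rw [hfix.expand hg, comb]
    rw [Finset.sum_eq_single κ (fun ν _ hν => ?_) (by simp)]
    by_contra h0
    exact hν (huniq ν fun h => h0 (by rw [h, zero_smul]))
  have h := hline (c * (S κ (ones n s))⁻¹)
  rw [e, smul_smul] at h
  simp only [Matrix.smul_apply, pat_apply_ones, if_true, smul_eq_mul, mul_one] at h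
  rwa [mul_assoc, inv_mul_cancel₀ hκ, mul_one] at h

end CfsgLib.Perm.Trans.TensorPowerO
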