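import Mathlib
import Cfsg.Agent.Lib.Perm.Trans.TensorPowerO.CenPattern
import Cfsg.Agent.Lib.Perm.Trans.TensorPowerO.Algebra

/-!
# Tools for enlarging a pattern: partners, pure tensors and square-zero products
-/

set_option autoImplicit false
set_option linter.all false

namespace CfsgLib.Perm.Trans.TensorPowerO

open scoped Matrix
open Matrix Cfsg.Geo CfsgLib.Perm.Asch CfsgLib.Perm.Trans CfsgLib.Perm.Trans.TensorPower

variable {F : Type*} [Field F] {n s t : ℕ} {g : Ix n → F}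

local notation "M1" => Matrix (Ix n) (Ix n) F
local notation "MT" => Matrix (Fin t → Ix n) (Fin t → Ix n) F
local notation "MU" => Matrix (Fin s → Ix n) (Fin s → Ix n) F
local notation "MV" => Matrix (Fin (s + 1) → Ix n) (Fin (s + 1) → Ix n) F

/-! ### square-zero elements -/

section General

variable {ι : Type} [Fintype ι] [DecidableEq ι] {M : Subgroup (GL ι F)} {X Y : Matrix ι ι F}

theorem Mem1.mul' (hX : Mem1 M X) (hY : Mem1 M Y) : Mem1 M (X + Y + X * Y) := by
  obtain ⟨a, ha, ea⟩ := hX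
  obtain ⟨b, hb, eb⟩ := hY
  exact ⟨a * b, M.mul_mem ha hb, by rw [Units.val_mul, ea, eb]; noncomm_ring⟩

/-- an inverse pair gives the inverse -/
theorem Mem1.inv' (hX : Mem1 M X) (h : X + Y + X * Y = 0) : Mem1 M Y := by
  obtain ⟨a, ha, ea⟩ := hX
  refine ⟨a⁻¹, M.inv_mem ha, ?_⟩
  have e : (a : Matrix ι ι F) * (1 + Y) = 1 := by
    rw [ea]
    calc (1 + X) * (1 + Y) = 1 + (X + Y + X * Y) := by noncomm_ring
      _ = 1 := by rw [h, add_zero]
  calc ((a⁻¹ : GL ι F) : Matrix ι ι F) = ((a⁻¹ : GL ι F) : Matrix ι ι F) * ((a : Matrix ι ι F) * (1 + Y)) := by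
        rw [e, mul_one]
    _ = 1 + Y := by rw [← mul_assoc, gl_inv_mul, one_mul]

/-- the commutator of two square-zero elements -/
theorem comm_two (hX : Mem1 M X) (hY : Mem1 M Y) (hXX : X * X = 0) (hYY : Y * Y = 0) (hXYX : X * Y * X = 0)
    (hYXY : Y * X * Y = 0) : Mem1 M (X * Y - Y * X) := by
  obtain ⟨g, hg, hgX⟩ := hX
  obtain ⟨h, hh, hhY⟩ := hY
  refine ⟨g * h * g⁻¹ * h⁻¹, M.mul_mem (M.mul_mem (M.mul_mem hg hh) (M.inv_mem hg)) (M.inv_mem hh), ?_⟩
  rw [Units.val_mul, Units.val_mul, Units.val_mul, hgX, hhY, inv_one_add hgX hXX, inv_one_add hhY hYY]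
  rw [mul_assoc] at hXYX hYXY
  have h1 : X * (Y * (X * Y)) = 0 := by rw [hYXY, mul_zero]
  have h2 : X * (Y * Y) = 0 := by rw [hYY, mul_zero]
  simp only [mul_sub, sub_mul, mul_add, add_mul, mul_one, one_mul, mul_assoc, hXX, hYY, hXYX, hYXY, h1, h2, mul_zero,
    sub_zero, add_zero, zero_add]
  abel

/-- the involution attached to a pair of square-zero elements with `XYX = -X`, `YXY = -Y` -/
theorem exists_sym (hX : Mem1 M X) (hY : Mem1 M Y) (hXX : X * X = 0) (hYY : Y * Y = 0) (hXYX : X * Y * X = -X)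
    (hYXY : Y * X * Y = -Y) :
    ∃ L ∈ M, (L : Matrix ι ι F) = 1 + (2 : F) • (X * Y + Y * X) ∧ L⁻¹ = L := by
  obtain ⟨a, ha, ea⟩ := hX
  obtain ⟨b, hb, eb⟩ := hY
  rw [mul_assoc] at hXYX hYXY
  have k1 : ∀ Z, X * (X * Z) = 0 := fun Z => by rw [← mul_assoc, hXX, zero_mul]
  have k2 : ∀ Z, Y * (Y * Z) = 0 := fun Z => by rw [← mul_assoc, hYY, zero_mul]
  have k3 : ∀ Z, X * (Y * (X * Z)) = -(X * Z) := fun Z => by
    rw [← mul_assoc Y, ← mul_assoc, hXYX, neg_mul]
  have k4 : ∀ Z, Y * (X * (Y * Z)) = -(Y * Z) := fun Z => by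
    rw [← mul_assoc X, ← mul_assoc, hYXY, neg_mul]
  have hw : ((a * b * a : GL ι F) : Matrix ι ι F) = 1 + X + Y + X * Y + Y * X := by
    rw [Units.val_mul, Units.val_mul, ea, eb]
    simp only [add_mul, mul_add, one_mul, mul_one, mul_assoc, hXX, hXYX, mul_zero, add_zero, zero_add]
    abel
  set L := a * b * a * (a * b * a) with hL
  have hLe : (L : Matrix ι ι F) = 1 + (2 : F) • (X * Y + Y * X) := by
    rw [hL, Units.val_mul, hw, two_smul]
    simp only [add_mul, mul_add, one_mul, mul_one, mul_assoc, hXX, hYY, hXYX, hYXY, k1, k2, k3, k4, mul_zero, mul_neg,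
      neg_zero, add_zero, zero_add]
    abel
  refine ⟨L, M.mul_mem (M.mul_mem (M.mul_mem ha hb) ha) (M.mul_mem (M.mul_mem ha hb) ha), hLe,
    inv_eq_of_mul_eq_one_right (Units.ext ?_)⟩
  rw [Units.val_mul, hLe, Units.val_one, two_smul]
  simp only [add_mul, mul_add, one_mul, mul_one, mul_assoc, hXX, hYY, hXYX, hYXY, k1, k2, k3, k4, mul_zero, mul_neg,
    neg_zero, add_zero, zero_add]
  abel

end General

/-! ### pure tensors -/

theorem ten_pure (j : Fin (s + 1)) (A : M1) (B : Fin s → M1) :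
    ten j A (CfsgLib.Perm.Asch.pure B) = CfsgLib.Perm.Asch.pure (Fin.insertNth j A B) := by
  ext x y
  rw [ten_apply, pure_apply, pure_apply, Fin.prod_univ_succAbove _ j]
  simp only [Fin.insertNth_apply_same, Fin.insertNth_apply_succAbove]

theorem pure_emb (l : Fin (s + 1)) {A : Fin (s + 1) → M1} (h : A l = 1) :
    CfsgLib.Perm.Asch.pure A = emb l (CfsgLib.Perm.Asch.pure fun i => A (l.succAbove i)) := by
  rw [emb_pure]
  congr 1
  funext k
  rcases Fin.eq_self_or_eq_succAbove l k with rfl | ⟨i, rfl⟩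
  · rw [Fin.insertNth_apply_same, h]
  · rw [Fin.insertNth_apply_succAbove]

theorem pure_eq_zero' {A : Fin t → M1} {l : Fin t} (h : A l = 0) : (CfsgLib.Perm.Asch.pure A : MT) = 0 := by
  ext x y
  rw [pure_apply, Matrix.zero_apply]
  exact Finset.prod_eq_zero (Finset.mem_univ l) (by rw [h, Matrix.zero_apply])

theorem pure_ne_zero {A : Fin t → M1} (h : ∀ l, A l ≠ 0) : (CfsgLib.Perm.Asch.pure A : MT) ≠ 0 := by
  have hx : ∀ l, ∃ a b, A l a b ≠ 0 := fun l => by
    by_contra hcon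
    push Not at hcon
    exact h l (Matrix.ext hcon)
  choose x y hxy using hx
  intro e
  have := congrFun (congrFun e x) y
  rw [pure_apply, Matrix.zero_apply] at this
  exact Finset.prod_ne_zero_iff.2 (fun l _ => hxy l) this

/-- a pure tensor with a non-central factor off `k` is not concentrated in `k` -/
theorem pure_not_slot {A : Fin t → M1} (hA : ∀ l, A l ≠ 0) {k k' : Fin t} (hk : k' ≠ k) {E : M1}
    (hE : A k' * E ≠ E * A k') (X : M1) : (CfsgLib.Perm.Asch.pure A : MT) ≠ slot k X := by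
  intro e
  have h := slot_comm hk E X (t := t)
  rw [← e, slot_mul_pure, pure_mul_slot, ← updO_apply, ← updO_apply] at h
  have h0 : updO A k' (A k' * E - E * A k') = 0 := by rw [map_sub, ← h, sub_self]
  refine pure_ne_zero (A := Function.update A k' (A k' * E - E * A k')) (fun l => ?_) h0
  rcases eq_or_ne l k' with rfl | hl
  · rw [Function.update_self]; exact sub_ne_zero.2 hE
  · rw [Function.update_of_ne hl]; exact hA l

/-! ### the partners of the factors of a pattern -/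

/-- the partner of a factor of a pattern -/
def phc (g : Ix n → F) (i : Ix n) : M1 := if i = 0 then cc else nc g i

/-- the weight of a factor of a pattern -/
def lam (g : Ix n → F) (i : Ix n) : F := if i = 0 then 1 else -g i

theorem lam_ne (hg : Dg g) (i : Ix n) : lam g i ≠ 0 := by
  unfold lam; split_ifs <;> [exact one_ne_zero; exact neg_ne_zero.2 (hg.nz i)]

theorem phi_phc_phi {i : Ix n} (h1 : i ≠ 1) : phi g i * phc g i * phi g i = lam g i • phi g i := by
  rcases idx_cases i with rfl | rfl | hi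
  · rw [phi_zero, phc, if_pos rfl, lam, if_pos rfl, aa_cc_aa, one_smul]
  · exact absurd rfl h1
  · rw [phi_mid hi, phc, if_neg hi.1, lam, if_neg hi.1, nm_nc_nm hi]

theorem phc_phi_phc {i : Ix n} (h1 : i ≠ 1) : phc g i * phi g i * phc g i = lam g i • phc g i := by
  rcases idx_cases i with rfl | rfl | hi
  · rw [phi_zero, phc, if_pos rfl, lam, if_pos rfl, cc_aa_cc, one_smul]
  · exact absurd rfl h1
  · rw [phi_mid hi, phc, if_neg hi.1, lam, if_neg hi.1, nc_nm_nc hi]

theorem phc_phi {i : Ix n} (h1 : i ≠ 1) : phc g i * phi g i = lam g i • (prj i : M1) := by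
  rcases idx_cases i with rfl | rfl | hi
  · rw [phi_zero, phc, if_pos rfl, lam, if_pos rfl, cc_aa, prj, if_pos (Or.inl rfl), one_smul]
  · exact absurd rfl h1
  · rw [phi_mid hi, phc, if_neg hi.1, lam, if_neg hi.1, nc_nm hi, prj, if_neg (not_or.2 hi)]

theorem cj_tauA_aa (hg : Dg g) (h2 : (2 : F) ≠ 0) (p : Ix n) :
    ∃ c : F, c ≠ 0 ∧ cj (tauA hg h2 p) (aa : M1) = c • cc := by
  obtain ⟨c, hc, e⟩ := tauA_single hg h2 p (0 : Ix n) 1
  exact ⟨c, hc, by rw [aa, e, s1_zero, s1_one]; rfl⟩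

theorem cj_tauA_phi (hg : Dg g) (h2 : (2 : F) ≠ 0) {p i : Ix n} (hp : Mid p) (h1 : i ≠ 1) :
    ∃ c : F, c ≠ 0 ∧ cj (tauA hg h2 p) (phi g i) = c • phc g i := by
  rcases idx_cases i with rfl | rfl | hi
  · rw [phi_zero, phc, if_pos rfl]; exact cj_tauA_aa hg h2 p
  · exact absurd rfl h1
  rw [phi_mid hi, phc, if_neg hi.1, nm, nc, cj_sub, cj_smul, tauA, cj_moG_single, cj_moG_single,
    Equiv.swap_apply_left, Equiv.swap_apply_right, Equiv.swap_apply_of_ne_of_ne hi.1 hi.2]
  set μ := -(g p) / 2 with hμdef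
  have hμ : μ ≠ 0 := div_ne_zero (neg_ne_zero.2 (hg.nz p)) h2
  simp only [if_true, hi.1, hi.2, if_false, zero_ne_one'.symm]
  set e : F := if i = p then -1 else 1 with he
  have he2 : e * e = 1 := by rw [he]; split_ifs <;> ring
  have he0 : e ≠ 0 := fun h => by rw [h, mul_zero] at he2; exact zero_ne_one he2
  refine ⟨e * μ, mul_ne_zero he0 hμ, ?_⟩
  rw [smul_sub, smul_smul, smul_smul]
  congr 1
  · congr 1; field_simp
  · congr 1; field_simp; linear_combination (-(g i)) * he2

/-! ### bilinearity -/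

theorem ten_neg_left (j : Fin (s + 1)) (A : M1) (S : MU) : ten j (-A) S = -ten j A S := by
  rw [← neg_one_smul F A, ten_smul_left, neg_one_smul]

theorem ten_sub_left (j : Fin (s + 1)) (A B : M1) (S : MU) : ten j (A - B) S = ten j A S - ten j B S := by
  rw [sub_eq_add_neg, ten_add_left, ten_neg_left, ← sub_eq_add_neg]

end CfsgLib.Perm.Trans.TensorPowerO
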