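import Mathlib
import Cfsg.Agent.Lib.Perm.Trans.TensorPowerO.Ten

/-!
# Scalars added by a root element of one factor vanish
-/

set_option autoImplicit false
set_option linter.all false

namespace CfsgLib.Perm.Trans.TensorPowerO

open scoped Matrix
open Matrix Cfsg.Geo CfsgLib.Perm.Asch CfsgLib.Perm.Trans CfsgLib.Perm.Trans.TensorPower

variable {F : Type*} [Field F] {n t : ℕ} {g : Ix n → F}

local notation "M1" => Matrix (Ix n) (Ix n) F
local notation "MT" => Matrix (Fin t → Ix n) (Fin t → Ix n) F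

/-- the block of one factor, the other indices being fixed -/
def blk (l : Fin t) (y : Fin t → Ix n) (A : MT) : M1 :=
  Matrix.of fun a b => A (Function.update y l a) (Function.update y l b)

theorem blk_apply (l : Fin t) (y : Fin t → Ix n) (A : MT) (a b : Ix n) :
    blk l y A a b = A (Function.update y l a) (Function.update y l b) := rfl

theorem slot_mul_apply (l : Fin t) (U : M1) (A : MT) (x z : Fin t → Ix n) :
    (slot l U * A) x z = ∑ a, U (x l) a * A (Function.update x l a) z := by
  classical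
  rw [Matrix.mul_apply, ← Finset.sum_subset (Finset.subset_univ (Finset.univ.image fun a => Function.update x l a))]
  · rw [Finset.sum_image fun a _ b _ e => by simpa using congrFun e l]
    refine Finset.sum_congr rfl fun a _ => ?_
    rw [slot_apply, if_pos fun k hk => by simp [hk], Function.update_self]
  · intro w _ hw
    rw [slot_apply, if_neg, zero_mul]
    intro h
    refine hw (Finset.mem_image.2 ⟨w l, Finset.mem_univ _, funext fun k => ?_⟩)
    rcases eq_or_ne k l with rfl | hk
    · simp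
    · simp [hk, h k hk]

theorem mul_slot_apply (l : Fin t) (U : M1) (A : MT) (x z : Fin t → Ix n) :
    (A * slot l U) x z = ∑ a, A x (Function.update z l a) * U a (z l) := by
  classical
  rw [Matrix.mul_apply, ← Finset.sum_subset (Finset.subset_univ (Finset.univ.image fun a => Function.update z l a))]
  · rw [Finset.sum_image fun a _ b _ e => by simpa using congrFun e l]
    refine Finset.sum_congr rfl fun a _ => ?_
    rw [slot_apply, if_pos fun k hk => by simp [hk], Function.update_self]
  · intro w _ hw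
    rw [slot_apply, if_neg, mul_zero]
    intro h
    refine hw (Finset.mem_image.2 ⟨w l, Finset.mem_univ _, funext fun k => ?_⟩)
    rcases eq_or_ne k l with rfl | hk
    · simp
    · simp [hk, h k hk]

theorem blk_cj (l : Fin t) (y : Fin t → Ix n) (u : GL (Ix n) F) (A : MT) :
    blk l y (cj (sl l u) A) = cj u (blk l y A) := by
  ext a b
  rw [blk_apply, cj, ← sl_inv, sl_coe, sl_coe, mul_slot_apply, cj, Matrix.mul_apply]
  refine Finset.sum_congr rfl fun c _ => ?_
  rw [slot_mul_apply, Matrix.mul_apply, Function.update_self, Function.update_self]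
  congr 1
  refine Finset.sum_congr rfl fun d _ => ?_
  rw [Function.update_idem, Function.update_idem, blk_apply]

theorem blk_add_one (l : Fin t) (y : Fin t → Ix n) (A : MT) (c : F) :
    blk l y (A + c • (1 : MT)) = blk l y A + c • (1 : M1) := by
  ext a b
  simp only [blk_apply, Matrix.add_apply, Matrix.smul_apply, Matrix.one_apply]
  by_cases h : a = b
  · subst h; simp
  · rw [if_neg h, if_neg]
    exact fun e => h (by simpa using congrFun e l)

/-- the additive constant of a root element is odd -/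
theorem lam_odd {h2 : (2 : F) ≠ 0} {p : Ix n} (hp : Mid p) {B : M1} (hB : ∀ x, ∃ c : F, cj (eU g h2 hp x) B = B + c • 1)
    {x c c' : F} (hc : cj (eU g h2 hp x) B = B + c • 1) (hc' : cj (eU g h2 hp (-x)) B = B + c' • 1) : c' = -c := by
  have h := congrArg (cj (eU g h2 hp (-x))) hc
  rw [cj_cj, eU_mul, neg_add_cancel, cj_add, cj_smul, cj_one, hc', show eU g h2 hp (0 : F) = 1 from
    Units.ext (euM_zero p)] at h
  rw [show cj (1 : GL (Ix n) F) B = B by rw [cj, inv_one, Units.val_one, one_mul, mul_one], add_assoc] at h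
  have := congrFun (congrFun h 0) 0
  simp at this
  linear_combination this

theorem lam_zero_mid (h2 : (2 : F) ≠ 0) {p q : Ix n} (hp : Mid p) (hq : Mid q) (hpq : p ≠ q) {B : M1} {x c : F}
    (hc : cj (eU g h2 hp x) B = B + c • 1) : c = 0 := by
  have e1 : (Matrix.single q q 1 : M1) * (eU g h2 hp x : M1) = Matrix.single q q 1 := by
    rw [eU_coe, nm, aa]
    simp only [mul_add, mul_sub, mul_one, Matrix.mul_smul, single_mul_single', if_neg hpq.symm, if_neg hq.1,
      smul_zero, sub_zero, add_zero]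
  have e2 : ((eU g h2 hp (-x) : GL (Ix n) F) : M1) * Matrix.single q q 1 = Matrix.single q q 1 := by
    rw [eU_coe, nm, aa]
    simp only [add_mul, sub_mul, one_mul, Matrix.smul_mul, single_mul_single', if_neg hq.2.symm, if_neg hpq,
      smul_zero, sub_zero, add_zero]
  have h := congrArg (fun X : M1 => (Matrix.single q q 1 : M1) * X * Matrix.single q q 1) hc
  rw [show cj (eU g h2 hp x) B = (eU g h2 hp x : M1) * B * ((eU g h2 hp (-x) : GL (Ix n) F) : M1) from rfl,
    ← mul_assoc, ← mul_assoc, e1, mul_assoc _ _ (Matrix.single q q 1), e2, mul_add, add_mul] at h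
  have := congrFun (congrFun h q) q
  simp at this
  exact this

theorem lam_zero_three {g : Ix 0 → F} (hg : Dg g) (h2 : (2 : F) ≠ 0) {y : F} (hy : y ≠ 0) (hy1 : y * y ≠ 1)
    {p : Ix 0} (hp : Mid p) {B : Matrix (Ix 0) (Ix 0) F}
    (hB : ∀ x, ∃ c : F, cj (eU g h2 hp x) B = B + c • 1) {x c : F} (hc : cj (eU g h2 hp x) B = B + c • 1) : c = 0 := by
  have hp2 : p = 2 := by
    obtain ⟨h0, h1⟩ := hp
    fin_cases p
    · exact absurd rfl h0
    · exact absurd rfl h1
    · rfl
  subst hp2
  choose lam hlam using hB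
  have hodd : ∀ z, lam (-z) = -lam z := fun z => lam_odd hp (fun x => ⟨_, hlam x⟩) (hlam z) (hlam (-z))
  have key : ∀ z : F, lam z = -(z * B 1 2) ∧ lam z = -(z * g 2 * B 2 0) ∧
      z * (B 0 2 + g 2 * B 2 1) = z * z * z * (g 2 / 2) * (g 2 * B 2 0 + B 1 2) := by
    intro z
    have hP : ∀ (a b : Ix 0), ((eU g h2 hp z : Matrix (Ix 0) (Ix 0) F) * B *
        ((eU g h2 hp (-z) : GL (Ix 0) F) : Matrix (Ix 0) (Ix 0) F)) a b = (B + lam z • 1) a b :=
      fun a b => congrFun (congrFun (hlam z) a) b
    have hM : ∀ (a b : Ix 0), ((eU g h2 hp (-z) : Matrix (Ix 0) (Ix 0) F) * B *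
        ((eU g h2 hp z : GL (Ix 0) F) : Matrix (Ix 0) (Ix 0) F)) a b = (B + lam (-z) • 1) a b := by
      intro a b
      have h := congrFun (congrFun (hlam (-z)) a) b
      rw [show ((eU g h2 hp z : GL (Ix 0) F)) = eU g h2 hp (- -z) by rw [neg_neg]]
      exact h
    have hsum : ∀ f : Ix 0 → F, ∑ x, f x = f 0 + f 1 + f 2 := fun f => Fin.sum_univ_three f
    have a1 := hP 1 1
    have b1 := hM 1 1
    have a0 := hP 0 0
    have b0 := hM 0 0
    have a2 := hP 0 1
    have b2 := hM 0 1
    simp [eU_coe, nm, aa, Matrix.mul_apply, hsum, Matrix.single_apply, Matrix.one_apply, hodd]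
      at a1 b1 a0 b0 a2 b2
    refine ⟨mul_left_cancel₀ h2 ?_, mul_left_cancel₀ h2 ?_, mul_left_cancel₀ h2 ?_⟩
    · linear_combination b1 - a1
    · linear_combination b0 - a0
    · linear_combination b2 - a2
  have hac : B 1 2 = g 2 * B 2 0 := by linear_combination (key 1).1 - (key 1).2.1
  have e : B 1 2 * g 2 * (y * y * y - y) = 0 := by
    have e1 := (key 1).2.2
    have e2 := (key y).2.2
    rw [← hac] at e1 e2
    field_simp at e1 e2
    refine mul_left_cancel₀ h2 ?_
    linear_combination y * e1 - y * e2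
  have hne : y * y * y - y ≠ 0 := by
    rw [show y * y * y - y = y * (y * y - 1) by ring]
    exact mul_ne_zero hy (sub_ne_zero.2 hy1)
  have hB12 : B 1 2 = 0 := by
    rcases mul_eq_zero.1 e with h | h
    · exact (mul_eq_zero.1 h).resolve_right (hg.nz 2)
    · exact absurd h hne
  have := congrFun (congrFun (hc.symm.trans (hlam x)) 0) 0
  simp at this
  rw [this, (key x).1, hB12, mul_zero, neg_zero]

/-- the constants vanish -/
theorem lam_zero (hg : Dg g) (h2 : (2 : F) ≠ 0) (hbig : 1 ≤ n ∨ ∃ y : F, y ≠ 0 ∧ y * y ≠ 1) (l : Fin t) {p : Ix n}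
    (hp : Mid p) {A : MT} (hA : ∀ x, ∃ c : F, cj (sl l (eU g h2 hp x)) A = A + c • 1) {x c : F}
    (hc : cj (sl l (eU g h2 hp x)) A = A + c • 1) : c = 0 := by
  set B := blk l (fun _ => (0 : Ix n)) A with hB
  have hBc : ∀ {x c : F}, cj (sl l (eU g h2 hp x)) A = A + c • 1 → cj (eU g h2 hp x) B = B + c • 1 := fun {x c} h => by
    rw [hB, ← blk_cj, h, blk_add_one]
  rcases Nat.eq_zero_or_pos n with rfl | hn
  · obtain ⟨y, hy, hy1⟩ := hbig.resolve_left (by omega)
    exact lam_zero_three hg h2 hy hy1 hp (fun x => (hA x).elim fun c h => ⟨c, hBc h⟩) (hBc hc)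
  · obtain ⟨q, hq, hqp⟩ : ∃ q : Ix n, Mid q ∧ p ≠ q := by
      by_cases h : p = ⟨2, by omega⟩
      · exact ⟨⟨3, by omega⟩, ⟨by simp [Fin.ext_iff], by simp [Fin.ext_iff]⟩, by rw [h]; simp [Fin.ext_iff]⟩
      · exact ⟨⟨2, by omega⟩, ⟨by simp [Fin.ext_iff], by simp [Fin.ext_iff]⟩, h⟩
    exact lam_zero_mid h2 hp hq hqp (hBc hc)

end CfsgLib.Perm.Trans.TensorPowerO
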