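import Mathlib
import Cfsg.Agent.Lib.Perm.Trans.TensorPowerO.GrowTools

/-!
# A pattern without ones gives all skew operators
-/

set_option autoImplicit false
set_option linter.all false

namespace CfsgLib.Perm.Trans.TensorPowerO

open scoped Matrix
open Matrix Cfsg.Geo CfsgLib.Perm.Asch CfsgLib.Perm.Trans CfsgLib.Perm.Trans.TensorPower

variable {F : Type*} [Field F] {n s : ℕ} {g : Ix n → F}

local notation "M1" => Matrix (Ix n) (Ix n) F
local notation "MU" => Matrix (Fin s → Ix n) (Fin s → Ix n) F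
local notation "MV" => Matrix (Fin (s + 1) → Ix n) (Fin (s + 1) → Ix n) F

/-- the operator with the first column `G` along the `i`-th middle index -/
def rel (g : Ix n → F) (j : Fin (s + 1)) (i : Ix n) (G Z : MU) : MV :=
  ten j (Matrix.single i 1 1 : M1) G - g i • ten j (Matrix.single 0 i 1 : M1) (adj (gT g s) (sT n s) G)
    + ten j (aa : M1) Z

theorem rel_mul (j : Fin (s + 1)) {i : Ix n} (hi : Mid i) (G Z G' Z' : MU) :
    rel g j i G Z * rel g j i G' Z' = -(g i) • ten j (aa : M1) (adj (gT g s) (sT n s) G * G') := by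
  simp only [rel, aa, add_mul, sub_mul, mul_add, mul_sub, Matrix.smul_mul, Matrix.mul_smul, ten_mul,
    single_mul_single', if_true, hi.1, hi.2, hi.1.symm, hi.2.symm, zero_ne_one'.symm, if_false, ten_zero_left, smul_zero,
    sub_zero, zero_sub, add_zero, neg_smul]

/-- the first columns occurring in `M` -/
def colG (hg : Dg g) (M : Subgroup (GL (Fin (s + 1) → Ix n) F)) (j : Fin (s + 1)) {i : Ix n} (hi : Mid i) :
    AddSubgroup MU where
  carrier := {G | ∃ Z : MU, Mem1 M (rel g j i G Z)}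
  zero_mem' := ⟨0, by
    rw [rel, adj_zero, ten_zero_right, ten_zero_right, ten_zero_right, smul_zero, sub_zero, add_zero]
    exact Mem1.zero⟩
  add_mem' := by
    rintro G G' ⟨Z, hZ⟩ ⟨Z', hZ'⟩
    refine ⟨Z + Z' + -(g i) • (adj (gT g s) (sT n s) G * G'), ?_⟩
    convert Mem1.mul' hZ hZ' using 1
    rw [rel_mul j hi]
    simp only [rel, adj_add, ten_add_right, ten_smul_right, smul_add]
    abel
  neg_mem' := by
    rintro G ⟨Z, hZ⟩
    refine ⟨-Z + -(g i) • (adj (gT g s) (sT n s) G * G), Mem1.inv' hZ ?_⟩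
    rw [rel_mul j hi]
    simp only [rel, adj_neg, ten_add_right, ten_neg_right, ten_smul_right, smul_neg, mul_neg]
    abel

theorem mem_colG (hg : Dg g) (M : Subgroup (GL (Fin (s + 1) → Ix n) F)) (j : Fin (s + 1)) {i : Ix n} (hi : Mid i)
    {G : MU} : G ∈ colG hg M j hi ↔ ∃ Z : MU, Mem1 M (rel g j i G Z) := Iff.rfl

variable [Fintype F] {hg : Dg g} {M : Subgroup (GL (Fin (s + 1) → Ix n) F)} (hM : Ctx hg M)
include hM

theorem Ctx.embGL_uT (j : Fin (s + 1)) {b : GL (Fin s → Ix n) F} (hb : embGL j b ∈ uT hg (s + 1)) : b ∈ uT hg s := by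
  rw [mem_uSub]
  refine emb_injective j ?_
  rw [map_one, map_mul, ← adj_emb hg]
  exact mem_uSub.1 hb

theorem Ctx.colG_smul (j : Fin (s + 1)) {i : Ix n} (hi : Mid i) {G : MU} (hG : G ∈ colG hg M j hi) (c : F) :
    c • G ∈ colG hg M j hi := by
  have hsq : ∀ y : F, (y * y) • G ∈ colG hg M j hi := by
    intro y
    rcases eq_or_ne y 0 with rfl | hy
    · rw [mul_zero, zero_smul]; exact zero_mem _
    obtain ⟨Z, hZ⟩ := (mem_colG hg M j hi).1 hG
    have h1 := hZ.conj (hM.sq_sl j (tor_mem hg hy))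
    rw [← sl_mul, ← cj_cj] at h1
    refine ⟨(y * y * (y * y)) • Z, ?_⟩
    convert h1 using 1
    simp only [rel, aa, adj_smul, cj_add, cj_sub, cj_smul, cj_sl_ten, cj_moG_single, Equiv.Perm.one_apply, dTor,
      if_true, hi.1, hi.2, zero_ne_one'.symm, if_false, ten_smul_left, ten_smul_right, smul_smul]
    match_scalars <;> field_simp
  have e : c • G = (((c + 1) / 2) * ((c + 1) / 2)) • G - (((c - 1) / 2) * ((c - 1) / 2)) • G := by
    rw [← sub_smul]
    congr 1
    have := hM.two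
    field_simp
    ring
  rw [e]
  exact sub_mem (hsq _) (hsq _)

theorem Ctx.colG_conj (j : Fin (s + 1)) {i : Ix n} (hi : Mid i) {b : GL (Fin s → Ix n) F} (hb : embGL j b ∈ M)
    {G : MU} (hG : G ∈ colG hg M j hi) : cj b G ∈ colG hg M j hi := by
  obtain ⟨Z, hZ⟩ := (mem_colG hg M j hi).1 hG
  refine ⟨cj b Z, ?_⟩
  convert hZ.conj hb using 1
  rw [rel, rel, cj_add, cj_sub, cj_smul, cj_emb_ten, cj_emb_ten, cj_emb_ten,
    adj_cj (hM.embGL_uT j (hM.le_uT hb))]

theorem Ctx.colG_one (j : Fin (s + 1)) {i : Ix n} (hi : Mid i) : (1 : MU) ∈ colG hg M j hi := by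
  refine ⟨(-(g i) / 2) • 1, sl j (eU g hM.two hi 1), hM.root_mem j hi 1, ?_⟩
  rw [sl_coe, eU_coe, rel, adj_one hg.wgT, ← ten_one_right j, nm]
  simp only [ten_sub_left, ten_add_left, ten_smul_left, ten_smul_right, ten_one, aa, one_smul, smul_sub, smul_smul]
  match_scalars <;> ring

/-- the operators with the second singular vector -/
theorem Ctx.cen_opp (j : Fin (s + 1)) {κ : Fin s → Ix n} (hκ : ∀ l, κ l ≠ 1)
    (hline : ∀ c : F, c • pat g κ ∈ cen M j) (c : F) :
    Mem1 M (ten j (cc : M1) (c • CfsgLib.Perm.Asch.pure fun l => phc g (κ l))) := by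
  classical
  have h2 := hM.two
  have hT : pureGL (fun _ : Fin (s + 1) => tauA hg h2 2) ∈ M := pureGL_mem_of M _ fun l => hM.tau_sl l Mid.two
  obtain ⟨a0, ha0, e0⟩ := cj_tauA_aa hg h2 (n := n) 2
  choose a ha ea using fun l => cj_tauA_phi hg h2 (p := 2) Mid.two (hκ l)
  have hd : a0 * ∏ l, a l ≠ 0 := mul_ne_zero ha0 (Finset.prod_ne_zero_iff.2 fun l _ => ha l)
  have h := (mem_cen.1 (hline (c * (a0 * ∏ l, a l)⁻¹))).conj hT
  convert h using 1
  have key : (fun l : Fin (s + 1) => cj (tauA hg h2 2) (Fin.insertNth (α := fun _ => M1) j (aa : M1) (fun l => phi g (κ l)) l)) =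
      fun l => Fin.insertNth (α := fun _ => F) j a0 a l •
        Fin.insertNth (α := fun _ => M1) j (cc : M1) (fun l => phc g (κ l)) l := funext fun l => by
    rcases Fin.eq_self_or_eq_succAbove j l with rfl | ⟨i, rfl⟩
    · simp only [Fin.insertNth_apply_same, e0]
    · simp only [Fin.insertNth_apply_succAbove, ea]
  rw [ten_smul_right, ten_smul_right, cj_smul, pat, ten_pure, ten_pure, cj_pureGL]
  erw [key]
  rw [pure_smul, Fin.prod_univ_succAbove _ j, Fin.insertNth_apply_same]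
  simp only [Fin.insertNth_apply_succAbove, smul_smul]
  rw [mul_assoc c, inv_mul_cancel₀ hd, mul_one]

/-- the involution of a pattern -/
theorem Ctx.exists_pivot (j : Fin (s + 1)) {κ : Fin s → Ix n} (hκ : ∀ l, κ l ≠ 1)
    (hline : ∀ c : F, c • pat g κ ∈ cen M j) :
    ∃ L ∈ M, L⁻¹ = L ∧ (L : MV) = 1 + (-2 : F) •
      (ten j (Matrix.single 0 0 1 : M1) (adj (gT g s) (sT n s) (CfsgLib.Perm.Asch.pure fun l => (prj (κ l) : M1))) +
        ten j (Matrix.single 1 1 1 : M1) (CfsgLib.Perm.Asch.pure fun l => (prj (κ l) : M1))) := by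
  classical
  set S : MU := pat g κ with hS
  set Q : MU := CfsgLib.Perm.Asch.pure fun l => phc g (κ l) with hQ
  set P' : MU := CfsgLib.Perm.Asch.pure fun l => (prj (κ l) : M1) with hP'
  set Λ := ∏ l, lam g (κ l) with hΛ
  have hΛ0 : Λ ≠ 0 := Finset.prod_ne_zero_iff.2 fun l _ => lam_ne hg _
  set S' : MU := (-Λ⁻¹) • Q with hS'
  have hX : Mem1 M (ten j (aa : M1) S) := by simpa using mem_cen.1 (hline 1)
  have hY : Mem1 M (ten j (cc : M1) S') := hM.cen_opp j hκ hline _
  have e1 : S * Q * S = Λ • S := by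
    rw [hS, hQ, pat, pure_mul, pure_mul,
      show ((fun l => phi g (κ l)) * fun l => phc g (κ l)) * (fun l => phi g (κ l)) = fun l => lam g (κ l) • phi g (κ l)
        from funext fun l => phi_phc_phi (hκ l), pure_smul]
  have e2 : Q * S * Q = Λ • Q := by
    rw [hS, hQ, pat, pure_mul, pure_mul,
      show ((fun l => phc g (κ l)) * fun l => phi g (κ l)) * (fun l => phc g (κ l)) = fun l => lam g (κ l) • phc g (κ l)
        from funext fun l => phc_phi_phc (hκ l), pure_smul]
  have e3 : Q * S = Λ • P' := by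
    rw [hS, hQ, pat, pure_mul,
      show ((fun l => phc g (κ l)) * fun l => phi g (κ l)) = fun l => lam g (κ l) • (prj (κ l) : M1)
        from funext fun l => phc_phi (hκ l), pure_smul]
  have hSS : S' * S = -P' := by
    rw [hS', Matrix.smul_mul, e3, smul_smul, neg_mul, inv_mul_cancel₀ hΛ0, neg_one_smul]
  have hXX : ten j (aa : M1) S * ten j aa S = 0 := by rw [ten_mul, aa_aa, ten_zero_left]
  have hYY : ten j (cc : M1) S' * ten j cc S' = 0 := by rw [ten_mul, cc_cc, ten_zero_left]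
  have hadjS : adj (gT g s) (sT n s) S = -S := cen_skew hM (by simpa using hline 1)
  have hadjS' : adj (gT g s) (sT n s) S' = -S' := by
    obtain ⟨m, hm, hme⟩ := hY
    have h := adj_of_one_add (hM.le_uT hm) hme hYY
    rw [adj_ten hg, adj_cc hg, ← ten_neg_right] at h
    refine ten_right_injective j (fun e => ?_) h
    have := congrFun (congrFun e 1) 0
    simp [cc] at this
  obtain ⟨L, hL, hLe, hLi⟩ := exists_sym hX hY hXX hYY
    (by rw [ten_mul, ten_mul, aa_cc_aa, hS', Matrix.mul_smul, Matrix.smul_mul, e1, smul_smul, neg_mul,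
      inv_mul_cancel₀ hΛ0, neg_one_smul, ten_neg_right])
    (by rw [ten_mul, ten_mul, cc_aa_cc, hS', Matrix.smul_mul, Matrix.smul_mul, Matrix.mul_smul, e2, smul_smul,
      smul_smul, show -Λ⁻¹ * -Λ⁻¹ * Λ = -(-Λ⁻¹) by field_simp, neg_smul, ten_neg_right])
  refine ⟨L, hL, hLi, ?_⟩
  have hP : adj (gT g s) (sT n s) P' = -(S * S') := by
    rw [← neg_neg P', ← hSS, adj_neg, adj_mul hg.wgT, hadjS, hadjS', neg_mul_neg]
  rw [hLe, ten_mul, ten_mul, aa_cc, cc_aa, hSS, hP, ten_neg_right, ten_neg_right]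
  module

/-- every column occurs -/
theorem Ctx.colG_top (j : Fin (s + 1)) {i : Ix n} (hi : Mid i) {κ : Fin s → Ix n} (hκ : ∀ l, κ l ≠ 1)
    (hline : ∀ c : F, c • pat g κ ∈ cen M j) (G : MU) : G ∈ colG hg M j hi := by
  obtain ⟨L, hL, hLi, hLe⟩ := hM.exists_pivot j hκ hline
  set P' : MU := CfsgLib.Perm.Asch.pure fun l => (prj (κ l) : M1) with hP'
  have hstep : ∀ H ∈ colG hg M j hi, H * P' ∈ colG hg M j hi := by
    intro H hH
    obtain ⟨Z, hZ⟩ := (mem_colG hg M j hi).1 hH
    have hmem : H + (-2 : F) • (H * P') ∈ colG hg M j hi := by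
      refine ⟨(1 + (-2 : F) • adj (gT g s) (sT n s) P') * Z * (1 + (-2 : F) • P'), ?_⟩
      convert hZ.conj hL using 1
      rw [cj, hLi, hLe]
      simp only [rel, aa, adj_add, adj_smul, adj_mul hg.wgT, mul_add, add_mul, mul_sub, sub_mul, one_mul, mul_one,
        Matrix.smul_mul, Matrix.mul_smul, ten_mul, single_mul_single', if_true, hi.1, hi.2, hi.1.symm, hi.2.symm,
        zero_ne_one', zero_ne_one'.symm, if_false, ten_zero_left, ten_add_right, ten_smul_right, smul_zero, sub_zero,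
        zero_sub, add_zero, zero_add]
      module
    have := hM.colG_smul j hi (sub_mem hmem hH) (-(2 : F)⁻¹)
    rwa [add_sub_cancel_left, smul_smul, neg_mul_neg, inv_mul_cancel₀ hM.two, one_smul] at this
  let R : Submodule F MU :=
    { carrier := {X | ∀ H ∈ colG hg M j hi, H * X ∈ colG hg M j hi}
      zero_mem' := fun H _ => by rw [mul_zero]; exact zero_mem _
      add_mem' := fun hX hY H hH => by rw [mul_add]; exact add_mem (hX H hH) (hY H hH)
      smul_mem' := fun c X hX H hH => by rw [Matrix.mul_smul]; exact hM.colG_smul j hi (hX H hH) c }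
  have hconj : ∀ b : GL (Fin s → Ix n) F, embGL j b ∈ M → ∀ X ∈ R, cj b X ∈ R := by
    intro b hb X hX H hH
    have h2 := hM.colG_conj j hi hb (hX _ (hM.colG_conj j hi (show embGL j b⁻¹ ∈ M by rw [map_inv]; exact M.inv_mem hb) hH))
    rwa [cj_mul, cj_cj, mul_inv_cancel, show cj (1 : GL (Fin s → Ix n) F) H = H by
      rw [cj, inv_one, Units.val_one, one_mul, mul_one]] at h2
  have hall := proj_full hg hM.two R (fun X hX Y hY H hH => by rw [← mul_assoc]; exact hY _ (hX H hH))
    (fun l q hq X hX => hconj _ (by rw [embGL_sl]; exact hM.root_mem _ hq 1) X hX)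
    (fun l p hp X hX => hconj _ (by rw [embGL_sl]; exact hM.tau_sl _ hp) X hX) (κ := κ) hstep
  have := hall G 1 (hM.colG_one j hi)
  rwa [one_mul] at this

/-- a pattern without ones -/
theorem Ctx.cen_of_pattern (j : Fin (s + 1)) {κ : Fin s → Ix n} (hκ : ∀ l, κ l ≠ 1)
    (hline : ∀ c : F, c • pat g κ ∈ cen M j) {S : MU} (hS : adj (gT g s) (sT n s) S = -S) : S ∈ cen M j := by
  have hi : Mid (2 : Ix n) := Mid.two
  have h2 := hM.two
  have hg2 := hg.nz (2 : Ix n)
  obtain ⟨Z1, a, ha, ea⟩ := hM.colG_top j hi hκ hline 1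
  obtain ⟨Z2, b, hb, eb⟩ := hM.colG_top j hi hκ hline ((2 * g 2)⁻¹ • S)
  refine mem_cen.2 ⟨b * a * (a * b)⁻¹, M.mul_mem (M.mul_mem hb ha) (M.inv_mem (M.mul_mem ha hb)), ?_⟩
  have e : (1 + ten j (aa : M1) S) * ((a * b : GL (Fin (s + 1) → Ix n) F) : MV) =
      ((b * a : GL (Fin (s + 1) → Ix n) F) : MV) := by
    rw [Units.val_mul, Units.val_mul, ea, eb]
    simp only [mul_add, add_mul, one_mul, mul_one, rel_mul j hi, adj_one hg.wgT, adj_smul, hS, Matrix.mul_smul,
      smul_neg, neg_mul, Matrix.smul_mul, ten_neg_right, ten_smul_right, mul_neg]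
    simp only [rel, aa, mul_add, mul_sub, Matrix.mul_smul, ten_mul, single_mul_single', zero_ne_one'.symm, hi.2.symm,
      if_false, ten_zero_left, smul_zero, sub_zero, add_zero, adj_one hg.wgT, adj_smul, hS]
    match_scalars <;> field_simp <;> ring
  rw [Units.val_mul, ← e, mul_assoc, gl_mul_inv, mul_one]

end CfsgLib.Perm.Trans.TensorPowerO
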