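import Cfsg.Agent.Lib.Perm.Trans.TensorPower.Main
import Cfsg.Agent.Lib.Perm.Trans.TensorPower.Odd

/-!
# Quadratic unipotent elements of the wreath subgroup act in one factor
-/

set_option autoImplicit false
set_option linter.all false

namespace CfsgLib.Perm.Trans.TensorPowerO

open scoped Matrix
open Matrix Cfsg.Geo CfsgLib.Perm.Asch CfsgLib.Perm.Trans CfsgLib.Perm.Trans.TensorPower

variable {m t : ℕ} {F : Type*} [Field F]

/-- a vector outside two lines -/
theorem exists_avoid (hm : 3 ≤ m) (B C : GL (Fin m) F) (w w' : Fin m → F) :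
    ∃ x : Fin m → F, x ≠ 0 ∧ (B : Matrix (Fin m) (Fin m) F) *ᵥ x ∉ Submodule.span F ({w} : Set (Fin m → F)) ∧
      w' ∉ Submodule.span F ({(C : Matrix (Fin m) (Fin m) F) *ᵥ x} : Set (Fin m → F)) ∨ w' = 0 := by
  by_cases hw : w' = 0
  · exact ⟨0, Or.inr hw⟩
  obtain ⟨x, hx⟩ := exists_not_mem_pair hm (((B⁻¹ : GL (Fin m) F) : Matrix (Fin m) (Fin m) F) *ᵥ w)
    (((C⁻¹ : GL (Fin m) F) : Matrix (Fin m) (Fin m) F) *ᵥ w')
  refine ⟨x, Or.inl ⟨fun e => hx (e ▸ Submodule.zero_mem _), fun h => hx ?_, fun h => hx ?_⟩⟩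
  · obtain ⟨c, hc⟩ := Submodule.mem_span_singleton.1 h
    have e : x = c • (((B⁻¹ : GL (Fin m) F) : Matrix (Fin m) (Fin m) F) *ᵥ w) := by
      rw [← mulVec_smul, hc, mulVec_mulVec, gl_inv_mul, one_mulVec]
    rw [e]
    exact Submodule.smul_mem _ _ (Submodule.subset_span (Set.mem_insert _ _))
  · obtain ⟨c, hc⟩ := Submodule.mem_span_singleton.1 h
    have hc0 : c ≠ 0 := fun e => hw (by rw [← hc, e, zero_smul])
    have e : x = c⁻¹ • (((C⁻¹ : GL (Fin m) F) : Matrix (Fin m) (Fin m) F) *ᵥ w') := by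
      rw [← hc, mulVec_smul, mulVec_mulVec, gl_inv_mul, one_mulVec, smul_smul, inv_mul_cancel₀ hc0, one_smul]
    rw [e]
    exact Submodule.smul_mem _ _ (Submodule.subset_span (Set.mem_insert_of_mem _ rfl))

variable [Fintype F]

/-- an element of the wreath subgroup whose difference from one squares to zero acts in one factor -/
theorem quad_wreath (hm : 3 ≤ m) (ht : 0 < t) (h2 : (2 : F) ≠ 0) {h : GL (Fin t → Fin m) F}
    (hw : h ∈ tensorWreathStandard m t F)
    (hsq : ((h : Matrix (Fin t → Fin m) (Fin t → Fin m) F) - 1) *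
      ((h : Matrix (Fin t → Fin m) (Fin t → Fin m) F) - 1) = 0) :
    ∃ (l : Fin t) (a : GL (Fin m) F), h = sl l a := by
  classical
  haveI : NeZero m := ⟨by omega⟩
  haveI : Nonempty (Fin m) := ⟨0⟩
  haveI : Nonempty (Fin t → Fin m) := ⟨fun _ => 0⟩
  obtain ⟨p, hchar⟩ := CharP.exists F
  haveI := hchar
  have hp : p.Prime := CharP.char_is_prime F p
  haveI : Fact p.Prime := ⟨hp⟩
  have hodd : Odd p := hp.odd_of_ne_two fun e => h2 (by subst e; exact_mod_cast CharP.cast_eq_zero F 2)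
  obtain ⟨σ, A, rfl⟩ := tw_shape hw
  set h := permGL σ * pureGL A with hh
  have hinv : ((h⁻¹ : GL (Fin t → Fin m) F) : Matrix (Fin t → Fin m) (Fin t → Fin m) F) =
      (2 : F) • 1 - (h : Matrix (Fin t → Fin m) (Fin t → Fin m) F) := by
    have e : (h : Matrix (Fin t → Fin m) (Fin t → Fin m) F) * ((2 : F) • 1 - (h : Matrix _ _ F)) = 1 := by
      rw [two_smul, mul_sub, mul_add, mul_one]
      rw [sub_mul, mul_sub, mul_one, one_mul] at hsq
      calc _ = 1 - ((h : Matrix (Fin t → Fin m) (Fin t → Fin m) F) * (h : Matrix _ _ F) -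
            (h : Matrix _ _ F) - ((h : Matrix _ _ F) - 1)) := by abel
        _ = 1 := by rw [hsq, sub_zero]
    calc _ = ((h⁻¹ : GL (Fin t → Fin m) F) : Matrix (Fin t → Fin m) (Fin t → Fin m) F) *
        ((h : Matrix (Fin t → Fin m) (Fin t → Fin m) F) * ((2 : F) • 1 - (h : Matrix _ _ F))) := by rw [e, mul_one]
      _ = _ := by rw [← mul_assoc, gl_inv_mul, one_mul]
  have hpow : h ^ p = 1 := Units.ext (by
    have h1 := sub_pow_char_of_commute p (Commute.one_right (h : Matrix (Fin t → Fin m) (Fin t → Fin m) F))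
    rw [one_pow, show ((h : Matrix (Fin t → Fin m) (Fin t → Fin m) F) - 1) ^ p = 0 by
      obtain ⟨q, hq⟩ : ∃ q, p = 2 + q := ⟨p - 2, by have := hp.two_le; omega⟩
      rw [hq, pow_add, pow_two, hsq, zero_mul]] at h1
    rw [Units.val_pow_eq_pow_val, Units.val_one]
    exact sub_eq_zero.1 h1.symm)
  have hσp : σ ^ p = 1 := by
    have hP : ∀ k : ℕ, HasPerm (h ^ k) (σ ^ k) := fun k => by
      induction k with
      | zero => exact ⟨1, by simp [pureGL_one, permGL_one]⟩
      | succ k ih => rw [pow_succ, pow_succ]; exact ih.mul ⟨A, rfl⟩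
    have h1 := hP p
    rw [hpow] at h1
    exact h1.unique (by omega) ⟨1, by simp [pureGL_one, permGL_one]⟩
  -- a functional killing a vector and its preimage, but not its image
  have key : ∀ (v : Fin t → Fin m → F), (∀ z, v z ≠ 0) → ∀ l l' : Fin t, l ≠ l' →
      (A (σ.symm l) : Matrix (Fin m) (Fin m) F) *ᵥ v (σ.symm l) ∉ Submodule.span F ({v l} : Set (Fin m → F)) →
      (A (σ.symm l') : Matrix (Fin m) (Fin m) F) *ᵥ v (σ.symm l') ∉
        Submodule.span F ({(((A l')⁻¹ : GL (Fin m) F) : Matrix (Fin m) (Fin m) F) *ᵥ v (σ l')} : Set (Fin m → F)) →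
      False := by
    intro v hv l l' hll hl hl'
    have hu : ∀ z, ((A (σ.symm z) : Matrix (Fin m) (Fin m) F) *ᵥ v (σ.symm z)) ≠ 0 :=
      fun z e => hv _ (gl_mulVec_eq_zero.1 e)
    obtain ⟨φl, hφl, hφl0⟩ := exists_dual _ hl
    obtain ⟨φl', hφl', hφl'0⟩ := exists_dual _ hl'
    choose γ hγ using fun z => TensorMax.exists_dot_one (hu z)
    obtain ⟨φ, hφ⟩ : ∃ φ : Fin t → Fin m → F, φ = Function.update (Function.update γ l φl) l' φl' := ⟨_, rfl⟩
    have e1 : TensorPower.pv φ ⬝ᵥ ((h : Matrix (Fin t → Fin m) (Fin t → Fin m) F) *ᵥ TensorPower.pv v) = 1 := by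
      rw [hh, wreath_pv, pv_dot]
      refine Finset.prod_eq_one fun z _ => ?_
      rcases eq_or_ne z l' with rfl | h1
      · rw [hφ, Function.update_self]; exact hφl'
      rcases eq_or_ne z l with rfl | h3
      · rw [hφ, Function.update_of_ne h1, Function.update_self]; exact hφl
      rw [hφ, Function.update_of_ne h1, Function.update_of_ne h3, dotProduct_comm]
      rw [dotProduct_comm]
      exact hγ z
    have e2 : TensorPower.pv φ ⬝ᵥ TensorPower.pv v = 0 := by
      rw [pv_dot]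
      refine Finset.prod_eq_zero (Finset.mem_univ l) ?_
      rw [hφ, Function.update_of_ne hll, Function.update_self]
      exact hφl0 _ (Submodule.mem_span_singleton_self _)
    have hback : ((h⁻¹ : GL (Fin t → Fin m) F) : Matrix (Fin t → Fin m) (Fin t → Fin m) F) *ᵥ TensorPower.pv v =
        TensorPower.pv fun z => (((A z)⁻¹ : GL (Fin m) F) : Matrix (Fin m) (Fin m) F) *ᵥ v (σ z) := by
      have e : (h : Matrix (Fin t → Fin m) (Fin t → Fin m) F) *ᵥ
          (TensorPower.pv fun z => (((A z)⁻¹ : GL (Fin m) F) : Matrix (Fin m) (Fin m) F) *ᵥ v (σ z)) =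
          TensorPower.pv v := by
        rw [hh, wreath_pv]
        congr 1
        funext z
        rw [mulVec_mulVec, gl_mul_inv, one_mulVec, Equiv.apply_symm_apply]
      rw [← e, mulVec_mulVec, gl_inv_mul, one_mulVec]
    have e3 : TensorPower.pv φ ⬝ᵥ
        (((h⁻¹ : GL (Fin t → Fin m) F) : Matrix (Fin t → Fin m) (Fin t → Fin m) F) *ᵥ TensorPower.pv v) = 0 := by
      rw [hback, pv_dot]
      refine Finset.prod_eq_zero (Finset.mem_univ l') ?_
      rw [hφ, Function.update_self]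
      exact hφl'0 _ (Submodule.mem_span_singleton_self _)
    rw [hinv, sub_mulVec, Matrix.smul_mulVec, one_mulVec, dotProduct_sub, dotProduct_smul, e1, e2, smul_zero,
      zero_sub, neg_eq_zero] at e3
    exact one_ne_zero e3
  have hσ : σ = 1 := by
    by_contra hne
    obtain ⟨a, ha⟩ : ∃ a, σ (σ a) ≠ a := by
      by_contra hcon
      push Not at hcon
      refine hne ?_
      obtain ⟨q, hq⟩ := hodd
      have h2' : σ * σ = 1 := Equiv.ext hcon
      rwa [hq, pow_succ, pow_mul, pow_two, h2', one_pow, one_mul] at hσp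
    have ha1 : σ a ≠ a := fun e => ha (by rw [e, e])
    obtain ⟨y, hy⟩ : ∃ y : Fin m → F, y ≠ 0 := ⟨Pi.single 0 1, by simp⟩
    have hw' : (A (σ a) : Matrix (Fin m) (Fin m) F) *ᵥ y ≠ 0 := fun e => hy (gl_mulVec_eq_zero.1 e)
    obtain ⟨x, hx⟩ := exists_avoid hm (A a) (A (σ (σ a)))⁻¹ y ((A (σ a) : Matrix (Fin m) (Fin m) F) *ᵥ y)
    obtain ⟨hx0, hx1, hx2⟩ := hx.resolve_right hw'
    have h3 : σ (σ (σ a)) ≠ σ a := fun e => ha (σ.injective e)
    refine key (fun z => if z = σ a then y else x) (fun z => by split_ifs <;> assumption) (σ a) (σ (σ a))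
      (fun e => ha1 (σ.injective e).symm) ?_ ?_
    · simpa [Equiv.symm_apply_apply, ha1.symm] using hx1
    · simpa [Equiv.symm_apply_apply, h3] using hx2
  subst hσ
  have hAp : pureGL (fun l => A l ^ p) = pureGL (1 : Fin t → GL (Fin m) F) := by
    rw [pureGL_one, ← hpow, hh, permGL_one, one_mul, pureGL_pow]
    rfl
  by_cases hex : ∃ l l' : Fin t, l ≠ l' ∧ (∀ c : F, (A l : Matrix (Fin m) (Fin m) F) ≠ c • 1) ∧
      ∀ c : F, (A l' : Matrix (Fin m) (Fin m) F) ≠ c • 1
  · obtain ⟨l, l', hll, hl, hl'⟩ := hex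
    obtain ⟨u, hu⟩ : ∃ u : Fin m → F, (A l : Matrix (Fin m) (Fin m) F) *ᵥ u ∉ Submodule.span F ({u} : Set _) := by
      by_contra hcon
      push Not at hcon
      obtain ⟨c, hc⟩ := TensorMax.scalar_of_eigen (A := (A l : Matrix (Fin m) (Fin m) F)) (by omega) fun u => by
        obtain ⟨c, hc⟩ := Submodule.mem_span_singleton.1 (hcon u)
        exact ⟨c, hc.symm⟩
      exact hl c (Matrix.ext_iff_mulVec.2 fun v => by rw [Matrix.smul_mulVec, one_mulVec, hc])
    obtain ⟨u', hu'⟩ : ∃ u : Fin m → F, (A l' : Matrix (Fin m) (Fin m) F) *ᵥ u ∉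
        Submodule.span F ({(((A l')⁻¹ : GL (Fin m) F) : Matrix (Fin m) (Fin m) F) *ᵥ u} : Set _) := by
      by_contra hcon
      push Not at hcon
      obtain ⟨c, hc⟩ := TensorMax.scalar_of_eigen (A := (A l' : Matrix (Fin m) (Fin m) F) * (A l' : Matrix _ _ F))
        (by omega) fun u => by
          obtain ⟨c, hc⟩ := Submodule.mem_span_singleton.1 (hcon u)
          exact ⟨c, by rw [← mulVec_mulVec, ← hc, mulVec_smul, mulVec_mulVec, gl_mul_inv, one_mulVec]⟩
      have hc' : ((A l' * A l' : GL (Fin m) F) : Matrix (Fin m) (Fin m) F) = c • 1 :=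
        Matrix.ext_iff_mulVec.2 fun v => by rw [Units.val_mul, Matrix.smul_mulVec, one_mulVec, hc]
      have hc0 : c ≠ 0 := fun e => by
        rw [e, zero_smul] at hc'
        exact gl_ne_zero (A l' * A l') hc'
      obtain ⟨d, -, hd⟩ := pure_prop (A := fun z => ((A z ^ p : GL (Fin m) F) : Matrix (Fin m) (Fin m) F))
        (B := fun z => ((1 : GL (Fin m) F) : Matrix (Fin m) (Fin m) F))
        (by rw [← pureGL_coe, ← pureGL_coe, hAp]; rfl) (fun z => gl_ne_zero _) (fun z => gl_ne_zero _) l'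
      obtain ⟨q, hq⟩ := hodd
      rw [hq, pow_succ, pow_mul, pow_two, Units.val_mul, Units.val_pow_eq_pow_val, hc', smul_pow, one_pow,
        Matrix.smul_mul, one_mul, Units.val_one] at hd
      refine hl' ((c ^ q)⁻¹ * d) ?_
      rw [← smul_smul, ← hd, smul_smul, inv_mul_cancel₀ (pow_ne_zero _ hc0), one_smul]
    refine (key (fun z => if z = l then u else u') (fun z => ?_) l l' hll ?_ ?_).elim
    · split_ifs
      · exact fun e => hu (by rw [e, mulVec_zero]; exact (Submodule.span F _).zero_mem)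
      · exact fun e => hu' (by rw [e, mulVec_zero, mulVec_zero]; exact (Submodule.span F _).zero_mem)
    · show (A ((1 : Equiv.Perm (Fin t)).symm l) : Matrix (Fin m) (Fin m) F) *ᵥ _ ∉ _
      rw [show (1 : Equiv.Perm (Fin t)).symm l = l from rfl]
      simpa using hu
    · show (A ((1 : Equiv.Perm (Fin t)).symm l') : Matrix (Fin m) (Fin m) F) *ᵥ _ ∉ _
      rw [show (1 : Equiv.Perm (Fin t)).symm l' = l' from rfl, show (1 : Equiv.Perm (Fin t)) l' = l' from rfl]
      simpa [hll.symm] using hu'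
  obtain ⟨l0, hl0⟩ : ∃ l0, ∀ l, l ≠ l0 → ∃ c : F, (A l : Matrix (Fin m) (Fin m) F) = c • 1 := by
    by_cases h1 : ∃ l0, ∀ c : F, (A l0 : Matrix (Fin m) (Fin m) F) ≠ c • 1
    · obtain ⟨l0, h0⟩ := h1
      refine ⟨l0, fun l hl => ?_⟩
      by_contra hcon
      push Not at hcon
      exact hex ⟨l, l0, hl, hcon, h0⟩
    · push Not at h1
      exact ⟨⟨0, ht⟩, fun l _ => h1 l⟩
  choose! c hc using hl0
  obtain ⟨cu, hcu⟩ : ∃ cu : F, cu = ∏ l, Function.update c l0 1 l := ⟨_, rfl⟩
  have hcu0 : cu ≠ 0 := by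
    rw [hcu]
    refine Finset.prod_ne_zero_iff.2 fun l _ => ?_
    rcases eq_or_ne l l0 with rfl | hl
    · simp
    · rw [Function.update_of_ne hl]
      intro e
      exact gl_ne_zero (A l) (by rw [hc l hl, e, zero_smul])
  refine ⟨l0, Matrix.GeneralLinearGroup.mkOfDetNeZero (cu • (A l0 : Matrix (Fin m) (Fin m) F)) ?_, Units.ext ?_⟩
  · rw [Matrix.det_smul]
    exact mul_ne_zero (pow_ne_zero _ hcu0) ((Matrix.isUnit_iff_isUnit_det _).1 (A l0).isUnit).ne_zero
  rw [hh, permGL_one, one_mul, sl_coe, pureGL_coe]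
  show _ = slot l0 (cu • (A l0 : Matrix (Fin m) (Fin m) F))
  rw [TensorPower.slot_smul, slot, hcu, ← pure_smul]
  congr 1
  funext l
  rcases eq_or_ne l l0 with rfl | hl
  · simp
  · simpa [Pi.mulSingle_eq_of_ne hl, Function.update_of_ne hl] using hc l hl

end CfsgLib.Perm.Trans.TensorPowerO
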