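import Mathlib
import Cfsg.Agent.Lib.Perm.Trans.TensorPowerO.Grow
import Cfsg.Agent.Lib.Perm.Trans.TensorPowerO.QuadWreath

/-!
# A non-zero centralising operator gives all skew operators
-/

set_option autoImplicit false
set_option linter.all false

namespace CfsgLib.Perm.Trans.TensorPowerO

open scoped Matrix
open Matrix Cfsg.Geo CfsgLib.Perm.Asch CfsgLib.Perm.Trans CfsgLib.Perm.Trans.TensorPower

variable {F : Type*} [Field F] {n s : ℕ} {g : Ix n → F}

local notation "M1" => Matrix (Ix n) (Ix n) F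
local notation "MU" => Matrix (Fin s → Ix n) (Fin s → Ix n) F
local notation "MV" => Matrix (Fin (s + 1) → Ix n) (Fin (s + 1) → Ix n) F

theorem aa_cc_ne : (aa : M1) * cc ≠ cc * aa := by
  rw [aa_cc, cc_aa]
  intro e
  have := congrFun (congrFun e 0) 0
  simp [Matrix.single_apply] at this

theorem nm_nc_ne (hg : Dg g) {i : Ix n} (hi : Mid i) : nm g i * nc g i ≠ nc g i * nm g i := by
  rw [nm_nc hi, nc_nm hi]
  intro e
  have := congrFun (congrFun e 0) 0
  simp [Matrix.single_apply, hi.1, hg.nz i] at this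

theorem phi_ne_zero (i : Ix n) : (phi g i : M1) ≠ 0 := fun e => by
  have := phi_e1 g i
  rw [e, zero_mulVec] at this
  have := congrFun this i
  simp at this

variable [Fintype F] {hg : Dg g} {M : Subgroup (GL (Fin (s + 1) → Ix n) F)} (hM : Ctx hg M)
include hM

/-- conjugation of the isometries of all factors but `k` to those of all but `l` -/
theorem Ctx.omega_move {k l : Fin (s + 1)} (hkl : k ≠ l) (hs : 2 ≤ s) (h : ∀ b ∈ Om hg s, embGL l b ∈ M)
    {b : GL (Fin s → Ix n) F} (hb : b ∈ Om hg s) : embGL k b ∈ M := by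
  obtain ⟨c, hck, hcl⟩ : ∃ c : Fin (s + 1), c ≠ k ∧ c ≠ l := by
    obtain ⟨c, -, hc⟩ := Finset.exists_mem_notMem_of_card_lt_card (s := ({k, l} : Finset (Fin (s + 1))))
      (t := Finset.univ) (by
        have := Finset.card_le_two (a := k) (b := l)
        simp at this ⊢; omega)
    exact ⟨c, fun e => hc (by simp [e]), fun e => hc (by simp [e])⟩
  obtain ⟨π, hπ, hπk, -, -⟩ := hM.exists_cycle hkl hcl.symm hck.symm
  set f := ((MulAut.conj (permGL π : GL (Fin (s + 1) → Ix n) F)).toMonoidHom).comp (embGL k) with hf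
  have hunit : ∀ x ∈ uT hg s, f x ∈ (uT hg s).map (embGL l) := by
    intro x hx
    have hm : f x ∈ uT hg (s + 1) :=
      mul_mem (mul_mem (permGL_mem_uT π) (embGL_mem_uT k hx)) (inv_mem (permGL_mem_uT π))
    obtain ⟨y, hy⟩ := exists_embGL l (x := f x) fun u v => by
      have e : cj (permGL π) (sx k u v : MV) = sx l u v := by rw [sx, sx, cj_permGL_slot, hπk]
      have e2 : (f x : MV) = cj (permGL π) (emb k (x : MU)) := by
        show ((permGL π * embGL k x * (permGL π)⁻¹ : GL (Fin (s + 1) → Ix n) F) : MV) = _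
        rw [← cj_coe, embGL_coe]
      rw [e2, ← e, ← cj_mul, ← cj_mul, emb_comm_units k _ u v]
    exact ⟨y, hM.embGL_uT l (by rw [← hy]; exact hm), hy.symm⟩
  have hle : (Om hg s).map f ≤ (Om hg s).map (embGL l) := by
    rw [Om, Subgroup.map_commutator, Subgroup.map_commutator]
    exact Subgroup.commutator_mono (Subgroup.map_le_iff_le_comap.2 hunit) (Subgroup.map_le_iff_le_comap.2 hunit)
  obtain ⟨y, hy, e⟩ := hle (Subgroup.mem_map_of_mem f hb)
  have h1 : f b ∈ M := e ▸ h y hy
  have h2 := M.mul_mem (M.mul_mem (M.inv_mem hπ) h1) hπ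
  convert h2 using 1
  show embGL k b = (permGL π)⁻¹ * (permGL π * embGL k b * (permGL π)⁻¹) * permGL π
  group

/-- a pure element with an identity factor -/
theorem Ctx.pure_mem (hs : 2 ≤ s) (hfull : ∀ k, ∀ b ∈ Om hg s, embGL k b ∈ M) {A : Fin (s + 1) → M1} {k k' : Fin (s + 1)}
    (hk : A k = 1) (hne : k' ≠ k) (h0 : A k' * A k' = 0)
    (hadj : adj (gT g (s + 1)) (sT n (s + 1)) (CfsgLib.Perm.Asch.pure A) = -CfsgLib.Perm.Asch.pure A) :
    Mem1 M (CfsgLib.Perm.Asch.pure A) := by
  obtain ⟨i, hi⟩ : ∃ i, k.succAbove i = k' := Fin.exists_succAbove_eq hne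
  set B : MU := CfsgLib.Perm.Asch.pure fun i => A (k.succAbove i) with hB
  have eA : (CfsgLib.Perm.Asch.pure A : MV) = emb k B := pure_emb k hk
  have hBB : B * B = 0 := by
    rw [hB, pure_mul]
    exact pure_eq_zero' (l := i) (by rw [Pi.mul_apply, hi, h0])
  have hskew : adj (gT g s) (sT n s) B = -B := by
    refine emb_injective k ?_
    rw [map_neg, ← adj_emb hg, ← eA, hadj]
  let b : GL (Fin s → Ix n) F := ⟨1 + B, 1 - B, by rw [mul_sub, mul_one, add_mul, one_mul, hBB]; abel,
    by rw [mul_add, mul_one, sub_mul, one_mul, hBB]; abel⟩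
  have hbu : b ∈ uT hg s := mem_of_one_add rfl hBB hskew
  refine ⟨embGL k b, hfull k b (unip_mem hM.two hs hbu ?_), ?_⟩
  · show (1 + B - 1) ^ 3 = 0
    rw [add_sub_cancel_left, pow_succ, pow_two, hBB, zero_mul]
  · rw [embGL_coe, eA]
    show emb k (1 + B) = 1 + emb k B
    rw [map_add, map_one]

/-- a pattern with a one gives the isometries of the other factors -/
theorem Ctx.omega_of_one (j : Fin (s + 1)) {κ : Fin s → Ix n} {l₀ o : Fin s} (h1 : κ l₀ = 1) (ho : Mid (κ o))
    (hline : ∀ c : F, c • pat g κ ∈ cen M j) : 2 ≤ s ∧ ∀ k, ∀ b ∈ Om hg s, embGL k b ∈ M := by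
  classical
  have h2 := hM.two
  have hlo : l₀ ≠ o := fun e => ho.2 (e ▸ h1)
  have hs : 2 ≤ s := by
    by_contra h
    exact hlo (Fin.ext (by have := l₀.isLt; have := o.isLt; omega))
  refine ⟨hs, ?_⟩
  set l := j.succAbove l₀ with hl
  set A : Fin (s + 1) → M1 := Fin.insertNth (α := fun _ => M1) j (aa : M1) (fun i => phi g (κ i)) with hA
  have hAl : A l = 1 := by rw [hA, hl, Fin.insertNth_apply_succAbove, h1, phi_one]
  have hA0 : ∀ k, A k ≠ 0 := fun k => by
    rcases Fin.eq_self_or_eq_succAbove j k with rfl | ⟨i, rfl⟩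
    · rw [hA, Fin.insertNth_apply_same]; exact fun e => by simpa [aa] using congrFun (congrFun e 0) 1
    · rw [hA, Fin.insertNth_apply_succAbove]; exact phi_ne_zero _
  obtain ⟨m, hm, hme⟩ : Mem1 M (ten j (aa : M1) (pat g κ)) := by simpa using mem_cen.1 (hline 1)
  rw [pat, ten_pure, ← hA, pure_emb l hAl] at hme
  set B : MU := CfsgLib.Perm.Asch.pure fun i => A (l.succAbove i) with hB
  obtain ⟨b, hb⟩ := exists_embGL l (x := m) fun u v => by
    rw [hme, mul_add, add_mul, mul_one, one_mul, emb_comm_units l B u v]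
  have hbe : (b : MU) = 1 + B := emb_injective l (by rw [map_add, map_one, ← hme, hb, embGL_coe])
  obtain ⟨j', hj'⟩ : ∃ i, l.succAbove i = j := Fin.exists_succAbove_eq (Fin.succAbove_ne j l₀).symm
  obtain ⟨o', ho'⟩ : ∃ i, l.succAbove i = j.succAbove o :=
    Fin.exists_succAbove_eq (Fin.succAbove_right_injective.ne hlo.symm)
  have hBB : B * B = 0 := by
    rw [hB, pure_mul]
    exact pure_eq_zero' (l := j') (by rw [Pi.mul_apply, hj', hA, Fin.insertNth_apply_same, aa_aa])
  have hbu : b ∈ uT hg s := hM.embGL_uT l (by rw [← hb]; exact hM.le_uT hm)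
  have hbO : b ∈ Om hg s := unip_mem h2 hs hbu (by rw [hbe, add_sub_cancel_left, pow_succ, pow_two, hBB, zero_mul])
  have hl0 : ∀ b' ∈ Om hg s, embGL l b' ∈ M := by
    rcases hM.inner (M.comap (embGL l) ⊓ Om hg s)
        (fun x hx => Subgroup.mem_inf.2 ⟨hM.embGL_mem l hx.1 hx.2, hx.2⟩) inf_le_right with hle | hle
    · exact fun b' hb' => (hle hb').1
    exfalso
    obtain ⟨k, a, hka⟩ := quad_wreath (by omega) (by omega) h2
      (hle (Subgroup.mem_inf.2 ⟨by rw [Subgroup.mem_comap, ← hb]; exact hm, hbO⟩))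
      (by rw [hbe, add_sub_cancel_left, hBB])
    have e : B = slot k ((a : M1) - 1) := by
      rw [TensorPower.slot_sub, TensorPower.slot_one, ← sl_coe, ← hka, hbe, add_sub_cancel_left]
    have hB0 : ∀ i, A (l.succAbove i) ≠ 0 := fun i => hA0 _
    have hjo : j' ≠ o' := fun e' => Fin.succAbove_ne j o (by rw [← ho', ← e', hj'])
    rcases eq_or_ne j' k with hk | hk
    · refine pure_not_slot hB0 (k := k) (k' := o') (hk ▸ hjo.symm) (E := nc g (κ o)) ?_ _ e
      rw [ho', hA, Fin.insertNth_apply_succAbove, phi_mid ho]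
      exact nm_nc_ne hg ho
    · refine pure_not_slot hB0 (k := k) (k' := j') hk (E := cc) ?_ _ e
      rw [hj', hA, Fin.insertNth_apply_same]
      exact aa_cc_ne
  intro k b' hb'
  rcases eq_or_ne k l with rfl | hk
  · exact hl0 b' hb'
  · exact hM.omega_move hk hs hl0 hb'

/-- the isometries of all factors but one give a pattern without ones -/
theorem Ctx.pattern_of_omega (hs : 2 ≤ s) (hfull : ∀ k, ∀ b ∈ Om hg s, embGL k b ∈ M) (j : Fin (s + 1)) :
    ∃ κ : Fin s → Ix n, (∀ l, κ l ≠ 1) ∧ ∀ c : F, c • pat g κ ∈ cen M j := by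
  classical
  have hi : Mid (2 : Ix n) := Mid.two
  set x₀ : Fin s := ⟨0, by omega⟩
  set l₀ : Fin s := ⟨1, by omega⟩
  have hxl : x₀ ≠ l₀ := fun e => absurd (congrArg Fin.val e) (by simp [x₀, l₀])
  refine ⟨Function.update (fun _ => 0) x₀ 2, fun l => ?_, fun c => mem_cen.2 ?_⟩
  · rcases eq_or_ne l x₀ with rfl | hl
    · rw [Function.update_self]; exact hi.2
    · rw [Function.update_of_ne hl]; exact zero_ne_one'
  set x := j.succAbove x₀ with hx
  set l := j.succAbove l₀ with hl
  have hxj : x ≠ j := Fin.succAbove_ne j x₀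
  have hlj : l ≠ j := Fin.succAbove_ne j l₀
  have hxl' : x ≠ l := Fin.succAbove_right_injective.ne hxl
  set e : M1 := Matrix.single 0 0 1 + Matrix.single 1 1 1 with he
  set h : M1 := Matrix.single 0 0 1 - Matrix.single 1 1 1 with hh
  let C : Fin (s + 1) → M1 := fun _ => aa
  let X0 : Fin (s + 1) → M1 := fun k => if k = j then 1 else if k = l then aa else e
  let Y0 : Fin (s + 1) → M1 := fun k => if k = l then 1 else aa
  have he' : adj g (s1 n) e = e := by
    rw [he, adj_add, adj_single hg.wg, adj_single hg.wg, s1_zero, s1_one, hg.g0, hg.g1, div_one, one_mul, add_comm]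
  have hh' : adj g (s1 n) (c • h) = -(c • h) := by
    rw [hh, adj_smul, adj_sub, adj_single hg.wg, adj_single hg.wg, s1_zero, s1_one, hg.g0, hg.g1, div_one, one_mul,
      ← smul_neg, neg_sub]
  have hneg : ∀ (A : Fin (s + 1) → M1) (Z : M1), CfsgLib.Perm.Asch.pure (Function.update A x (-Z)) =
      -(CfsgLib.Perm.Asch.pure (Function.update A x Z) : MV) := fun A Z => by
    rw [← updO_apply, ← updO_apply, map_neg]
  have hX : Mem1 M (CfsgLib.Perm.Asch.pure (Function.update X0 x (c • h))) := by
    refine hM.pure_mem hs hfull (k := j) (k' := l) ?_ hlj ?_ ?_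
    · rw [Function.update_of_ne hxj.symm]; exact if_pos rfl
    · rw [Function.update_of_ne hxl'.symm]; simp only [X0, if_neg hlj, if_true]; exact aa_aa
    · rw [adj_pure, ← hneg]
      congr 1
      funext k
      rcases eq_or_ne k x with rfl | hk
      · rw [Function.update_self, Function.update_self, hh']
      · rw [Function.update_of_ne hk, Function.update_of_ne hk]
        simp only [X0]
        split_ifs <;> [exact adj_one hg.wg; exact adj_aa hg; exact he']
  have hY : Mem1 M (CfsgLib.Perm.Asch.pure (Function.update Y0 x (nm g 2))) := by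
    refine hM.pure_mem hs hfull (k := l) (k' := j) ?_ hlj.symm ?_ ?_
    · rw [Function.update_of_ne hxl'.symm]; exact if_pos rfl
    · rw [Function.update_of_ne hxj.symm]; simp only [Y0, if_neg hlj.symm]; exact aa_aa
    · rw [adj_pure, ← hneg]
      congr 1
      funext k
      rcases eq_or_ne k x with rfl | hk
      · rw [Function.update_self, Function.update_self, adj_nm hi hg]
      · rw [Function.update_of_ne hk, Function.update_of_ne hk]
        simp only [Y0]
        split_ifs <;> [exact adj_one hg.wg; exact adj_aa hg]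
  have hea : e * aa = aa ∧ aa * e = aa := by
    rw [he, aa]
    simp [add_mul, mul_add, single_mul_single']
  have hprod : ∀ (U V : M1), CfsgLib.Perm.Asch.pure (Function.update X0 x U) *
      CfsgLib.Perm.Asch.pure (Function.update Y0 x V) = (updO C x (U * V) : MV) ∧
      CfsgLib.Perm.Asch.pure (Function.update Y0 x V) * CfsgLib.Perm.Asch.pure (Function.update X0 x U) =
      (updO C x (V * U) : MV) := fun U V => by
    rw [updO_apply, updO_apply, pure_mul, pure_mul]
    constructor
    all_goals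
      congr 1
      funext k
      rcases eq_or_ne k x with rfl | hk
      · simp
      simp only [Pi.mul_apply, Function.update_of_ne hk, X0, Y0, C]
      split_ifs with h1 h2'
    all_goals first
      | exact one_mul _
      | exact mul_one _
      | exact hea.1
      | exact hea.2
      | exact absurd (h1.symm.trans h2') hlj.symm
      | exact absurd (h2'.symm.trans h1) hlj.symm
  have hres := comm_two hX hY
    (by rw [pure_mul]; exact pure_eq_zero' (l := l) (by simp [X0, Function.update_of_ne hxl'.symm, hlj, aa_aa]))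
    (by rw [pure_mul]; exact pure_eq_zero' (l := j) (by simp [Y0, Function.update_of_ne hxj.symm, hlj.symm, aa_aa]))
    (by rw [pure_mul, pure_mul]; exact pure_eq_zero' (l := l) (by
      simp [X0, Y0, Function.update_of_ne hxl'.symm, hlj, aa_aa]))
    (by rw [pure_mul, pure_mul]; exact pure_eq_zero' (l := j) (by
      simp [X0, Y0, Function.update_of_ne hxj.symm, hlj.symm, aa_aa]))
  rw [(hprod _ _).1, (hprod _ _).2, ← map_sub] at hres
  convert hres using 1
  rw [show c • h * nm g 2 - nm g 2 * c • h = c • nm g 2 by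
    rw [hh, nm, Matrix.smul_mul, Matrix.mul_smul, ← smul_sub]
    simp only [sub_mul, mul_sub, Matrix.smul_mul, Matrix.mul_smul, single_mul_single', if_true, hi.1, hi.2, hi.1.symm,
      hi.2.symm, zero_ne_one'.symm, if_false, smul_zero, sub_zero, zero_sub]
    module, map_smul, updO_apply, ten_smul_right, pat, ten_pure]
  congr 2
  funext k
  rcases Fin.eq_self_or_eq_succAbove j k with rfl | ⟨i, rfl⟩
  · rw [Fin.insertNth_apply_same, Function.update_of_ne hxj.symm]
  · rw [Fin.insertNth_apply_succAbove]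
    rcases eq_or_ne i x₀ with rfl | hi'
    · rw [Function.update_self, hx, Function.update_self, phi_mid hi]
    · rw [Function.update_of_ne hi', Function.update_of_ne (Fin.succAbove_right_injective.ne hi'), phi_zero]

/-- **Theorem.** A non-zero operator gives all skew operators. -/
theorem Ctx.cen_full (j : Fin (s + 1)) (hne : ∃ S ∈ cen M j, S ≠ 0) {S : MU}
    (hS : adj (gT g s) (sT n s) S = -S) : S ∈ cen M j := by
  obtain ⟨κ, ⟨o, ho⟩, hline⟩ := hM.exists_pattern j hne
  by_cases h : ∀ l, κ l ≠ 1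
  · exact hM.cen_of_pattern j h hline hS
  push Not at h
  obtain ⟨l₀, hl₀⟩ := h
  obtain ⟨hs, hfull⟩ := hM.omega_of_one j hl₀ ho hline
  obtain ⟨κ', hκ', hline'⟩ := hM.pattern_of_omega hs hfull j
  exact hM.cen_of_pattern j hκ' hline' hS

end CfsgLib.Perm.Trans.TensorPowerO
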