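import Mathlib
import Cfsg.Agent.Lib.Perm.Trans.TensorPowerO.Ten

/-!
# Vectors with one factor split off
-/

set_option autoImplicit false
set_option linter.all false

namespace CfsgLib.Perm.Trans.TensorPowerO

open scoped Matrix
open Matrix Cfsg.Geo CfsgLib.Perm.Asch CfsgLib.Perm.Trans CfsgLib.Perm.Trans.TensorPower

variable {F : Type*} [Field F] {n s : ℕ} {g : Ix n → F}

local notation "M1" => Matrix (Ix n) (Ix n) F
local notation "MU" => Matrix (Fin s → Ix n) (Fin s → Ix n) F
local notation "VU" => (Fin s → Ix n) → F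
local notation "VV" => (Fin (s + 1) → Ix n) → F

/-- one vector in the factor `j` times a vector of the others -/
def tv (j : Fin (s + 1)) (x : Ix n → F) (w : VU) : VV := fun z => x (z j) * w (fun i => z (j.succAbove i))

theorem tv_apply_insertNth (j : Fin (s + 1)) (x : Ix n → F) (w : VU) (a : Ix n) (p : Fin s → Ix n) :
    tv j x w (j.insertNth a p) = x a * w p := by
  simp only [tv, Fin.insertNth_apply_same, Fin.insertNth_apply_succAbove]

theorem sum_insertNth (j : Fin (s + 1)) (f : (Fin (s + 1) → Ix n) → F) :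
    ∑ z, f z = ∑ a, ∑ p : Fin s → Ix n, f (j.insertNth a p) := by
  rw [← (Fin.insertNthEquiv (fun _ => Ix n) j).sum_comp, Fintype.sum_prod_type]
  rfl

theorem ten_tv (j : Fin (s + 1)) (A : M1) (S : MU) (x : Ix n → F) (w : VU) :
    ten j A S *ᵥ tv j x w = tv j (A *ᵥ x) (S *ᵥ w) := by
  funext z
  rw [mulVec, dotProduct, sum_insertNth j, tv, mulVec, mulVec, dotProduct, dotProduct, Finset.sum_mul_sum]
  refine Finset.sum_congr rfl fun a _ => Finset.sum_congr rfl fun p _ => ?_
  rw [ten_apply, tv_apply_insertNth, Fin.insertNth_apply_same]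
  simp only [Fin.insertNth_apply_succAbove]
  ring

theorem ten_vmv (j : Fin (s + 1)) (a ψ : Ix n → F) (w φ : VU) :
    ten j (vecMulVec a ψ) (vecMulVec w φ) = vecMulVec (tv j a w) (tv j ψ φ) := by
  ext x y
  rw [ten_apply, vecMulVec_apply, vecMulVec_apply, vecMulVec_apply, tv, tv]
  ring

theorem dual_tv (j : Fin (s + 1)) (x : Ix n → F) (w : VU) :
    dual (gT g (s + 1)) (sT n (s + 1)) (tv j x w) = tv j (dual g (s1 n) x) (dual (gT g s) (sT n s) w) := by
  funext z
  rw [dual, tv, tv, dual, dual, gT, Fin.prod_univ_succAbove _ j, gT]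
  simp only [sT]
  ring_nf
  rfl

theorem dot_tv (j : Fin (s + 1)) (x y : Ix n → F) (w v : VU) : tv j x w ⬝ᵥ tv j y v = (x ⬝ᵥ y) * (w ⬝ᵥ v) := by
  rw [dotProduct, sum_insertNth j, dotProduct, dotProduct, Finset.sum_mul_sum]
  refine Finset.sum_congr rfl fun a _ => Finset.sum_congr rfl fun p _ => ?_
  rw [tv_apply_insertNth, tv_apply_insertNth]
  ring

theorem bf_tv (j : Fin (s + 1)) (x y : Ix n → F) (w v : VU) :
    bf (gT g (s + 1)) (sT n (s + 1)) (tv j x w) (tv j y v) = bf g (s1 n) x y * bf (gT g s) (sT n s) w v := by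
  rw [bf, dual_tv, dot_tv]
  rfl

/-- linear in the second vector -/
def tvR (j : Fin (s + 1)) (x : Ix n → F) : VU →ₗ[F] VV where
  toFun w := tv j x w
  map_add' w v := funext fun z => mul_add _ _ _
  map_smul' c w := funext fun z => by simp only [tv, Pi.smul_apply, smul_eq_mul, RingHom.id_apply]; ring

/-- linear in the first vector -/
def tvL (j : Fin (s + 1)) (w : VU) : (Ix n → F) →ₗ[F] VV where
  toFun x := tv j x w
  map_add' x y := funext fun z => add_mul _ _ _
  map_smul' c x := funext fun z => by simp only [tv, Pi.smul_apply, smul_eq_mul, RingHom.id_apply]; ring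

theorem tvR_apply (j : Fin (s + 1)) (x : Ix n → F) (w : VU) : tvR j x w = tv j x w := rfl

theorem tvL_apply (j : Fin (s + 1)) (x : Ix n → F) (w : VU) : tvL j w x = tv j x w := rfl

theorem tv_expand (j : Fin (s + 1)) (z : VV) :
    z = ∑ a : Ix n, tv j (Pi.single a 1) (fun p => z (j.insertNth a p)) := by
  funext x
  rw [Finset.sum_apply, Finset.sum_eq_single (x j)]
  · simp only [tv, Pi.single_eq_same, one_mul]
    exact congrArg z (Fin.insertNth_self_removeNth j x).symm
  · intro a _ ha
    simp only [tv, Pi.single_eq_of_ne (Ne.symm ha), zero_mul]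
  · simp

end CfsgLib.Perm.Trans.TensorPowerO
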