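import Mathlib
import Cfsg.Agent.Lib.Perm.Trans.TensorPowerO.GrowCase
import Cfsg.Agent.Lib.Perm.Trans.TensorPowerO.Vec
import Cfsg.Agent.Lib.Perm.Trans.QuadMax

/-!
# A proper overgroup has no element centralising the hyperplanes of a singular slice
-/

set_option autoImplicit false
set_option linter.all false

namespace CfsgLib.Perm.Trans.TensorPowerO

open scoped Matrix
open Matrix Cfsg.Geo CfsgLib.Perm.Asch CfsgLib.Perm.Trans CfsgLib.Perm.Trans.TensorPower CfsgLib.Perm.Trans.Quad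

variable {F : Type*} [Field F] {n s : ℕ} {g : Ix n → F}

local notation "M1" => Matrix (Ix n) (Ix n) F
local notation "MU" => Matrix (Fin s → Ix n) (Fin s → Ix n) F
local notation "VU" => (Fin s → Ix n) → F
local notation "VV" => (Fin (s + 1) → Ix n) → F
local notation "B1" => bf g (s1 n)
local notation "BU" => bf (gT g s) (sT n s)
local notation "BV" => bf (gT g (s + 1)) (sT n (s + 1))
local notation "QV" => qf (gT g (s + 1)) (sT n (s + 1))

/-- all skew operators occur -/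
def CenAll (hg : Dg g) (M : Subgroup (GL (Fin (s + 1) → Ix n) F)) (j : Fin (s + 1)) : Prop :=
  ∀ S : MU, adj (gT g s) (sT n s) S = -S → S ∈ cen M j

variable [Fintype F] {hg : Dg g} {M : Subgroup (GL (Fin (s + 1) → Ix n) F)} (hM : Ctx hg M)
include hM

theorem Ctx.hQ : IsNondegenerateQuadraticForm QV := qf_nd hg.wgT hM.two

theorem Ctx.pol (x y : VV) : QuadraticMap.polar QV x y = BV x y := polar_qf hg.wgT hM.two x y

theorem Ctx.le_iso : M ≤ Cfsg.isometryGroup F QV := by rw [iso_qf hg.wgT hM.two]; exact hM.le_uT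

/-- the parameters of the transformations in `M` at `u` -/
def Ctx.epar {u : VV} (hu : QV u = 0) : Submodule F VV where
  carrier := {z | BV u z = 0 ∧ ∀ t : F, EIn QV M u (t • z)}
  zero_mem' := ⟨Orth.sym_zero_right (bf_symmetric hg.wgT) u, fun t => by
    rw [smul_zero]
    have := EIn.smul_self hM.hQ M hu 0
    rwa [zero_smul] at this⟩
  add_mem' := fun {z z'} hz hz' => ⟨by rw [bf_add_right, hz.1, hz'.1, add_zero], fun t => by
    rw [smul_add]
    exact EIn.add hM.hQ hu (by rw [hM.pol, bf_smul_right, hz.1, mul_zero]) (by rw [hM.pol, bf_smul_right, hz'.1, mul_zero])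
      (hz.2 t) (hz'.2 t)⟩
  smul_mem' := fun c z hz => ⟨by rw [bf_smul_right, hz.1, mul_zero], fun t => by rw [smul_smul]; exact hz.2 _⟩

theorem Ctx.epar_conj {u : VV} (hu : QV u = 0) {h : GL (Fin (s + 1) → Ix n) F} (hh : h ∈ M)
    (hfix : (h : Matrix (Fin (s + 1) → Ix n) (Fin (s + 1) → Ix n) F) *ᵥ u = u) {z : VV} (hz : z ∈ hM.epar hu) :
    (h : Matrix (Fin (s + 1) → Ix n) (Fin (s + 1) → Ix n) F) *ᵥ z ∈ hM.epar hu := by
  refine ⟨?_, fun t => ?_⟩
  · rw [← hfix, bf_of_mem (hM.le_uT hh)]; exact hz.1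
  · rw [← mulVec_smul]
    have h := EIn.conj (hz.2 t) (hM.le_iso hh) hh
    rwa [hfix] at h

theorem Ctx.exists_dual_pair {w0 : VU} (hw0 : BU w0 w0 ≠ 0) (w : VU) :
    ∃ y w2 : VU, BU w y = 0 ∧ BU w2 w0 = 0 ∧ BU w2 y = 1 := by
  classical
  have hs := bf_symmetric (hg.wgT (t := s))
  obtain ⟨y, hy, hy0⟩ : ∃ y ∈ LinearMap.ker (Orth.sfl hs w), y ∉ Submodule.span F ({w0} : Set VU) := by
    by_contra hcon
    push Not at hcon
    have h1 := Submodule.finrank_mono (show LinearMap.ker (Orth.sfl hs w) ≤ Submodule.span F {w0} from hcon)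
    have h2 := LinearMap.finrank_range_add_finrank_ker (Orth.sfl hs w)
    have h3 := Submodule.finrank_le (LinearMap.range (Orth.sfl hs w))
    rw [Module.finrank_self] at h3
    rw [Module.finrank_fintype_fun_eq_card] at h2
    have h4 : Module.finrank F ↥(Submodule.span F ({w0} : Set VU)) ≤ 1 := (finrank_span_le_card _).trans (by simp)
    have h5 : 3 ≤ Fintype.card (Fin s → Ix n) := by
      rw [Fintype.card_fun, Fintype.card_fin, Fintype.card_fin]
      calc 3 ≤ (n + 3) ^ 1 := by simp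
        _ ≤ (n + 3) ^ s := Nat.pow_le_pow_right (by omega) hM.one
    omega
  obtain ⟨v, hv, hvy⟩ : ∃ v : VU, BU v w0 = 0 ∧ BU v y ≠ 0 := by
    by_contra hcon
    push Not at hcon
    refine hy0 (Submodule.mem_span_singleton.2 ⟨BU w0 y / BU w0 w0, ?_⟩)
    by_contra hne
    obtain ⟨x, hx⟩ := (hs.nondegenerate _ (sub_ne_zero.2 hne)).1
    refine hx ?_
    have h := hcon (x - (BU x w0 / BU w0 w0) • w0) (by
      rw [Orth.sym_sub_left hs, bf_smul_left, div_mul_cancel₀ _ hw0, sub_self])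
    rw [Orth.sym_sub_left hs, bf_smul_left] at h
    rw [Orth.sym_sub_right hs, bf_smul_right]
    linear_combination -h
  refine ⟨y, (BU v y)⁻¹ • v, ?_, ?_, ?_⟩
  · have := LinearMap.mem_ker.1 hy
    rw [bf_comm hg.wgT]
    exact this
  · rw [bf_smul_left, hv, mul_zero]
  · rw [bf_smul_left, inv_mul_cancel₀ hvy]

omit hM in
theorem skew_pair (hg : Dg g) (w v : VU) :
    adj (gT g s) (sT n s) (vecMulVec w (dual (gT g s) (sT n s) v) - vecMulVec v (dual (gT g s) (sT n s) w)) =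
      -(vecMulVec w (dual (gT g s) (sT n s) v) - vecMulVec v (dual (gT g s) (sT n s) w)) := by
  rw [adj_sub, adj_vecMulVec hg.wgT, adj_vecMulVec hg.wgT, neg_sub]

variable {j : Fin (s + 1)} (hall : CenAll hg M j)
include hall

theorem Ctx.cen_cc {S : MU} (hS : adj (gT g s) (sT n s) S = -S) : Mem1 M (ten j (cc : M1) S) := by
  obtain ⟨c, hc, e⟩ := cj_tauA_aa hg hM.two (n := n) 2
  have h := (mem_cen.1 (hall (c⁻¹ • S) (by rw [adj_smul, hS, smul_neg]))).conj (hM.tau_sl j Mid.two)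
  rwa [cj_sl_ten, e, ten_smul_left, ← ten_smul_right, smul_smul, mul_inv_cancel₀ hc, one_smul] at h

theorem Ctx.ein_aa (w0 w : VU) : EIn QV M (tv j (Pi.single 0 1) w0) (tv j (Pi.single 0 1) w) := by
  obtain ⟨m, hm, hme⟩ := mem_cen.1 (hall _ (skew_pair hg w w0))
  refine ⟨m, hm, fun x => ?_⟩
  have e : (aa : M1) = vecMulVec (Pi.single 0 1) (dual g (s1 n) (Pi.single 0 1)) := by
    rw [dual_single hg.wg, s1_zero, hg.g0, mul_one, TensorPower.vmv_single]
    rfl
  have h00 : B1 (Pi.single 0 1) (Pi.single 0 1) = 0 := by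
    rw [bf_single hg.wg, s1_zero, Pi.single_eq_of_ne zero_ne_one'.symm, mul_zero]
  rw [hme, e, ten_sub_right, ten_vmv, ten_vmv, ← dual_tv, ← dual_tv, add_mulVec, one_mulVec, sub_mulVec,
    vecMulVec_mulVec, vecMulVec_mulVec, op_smul_eq_smul, op_smul_eq_smul, hM.pol, hM.pol, qf, bf_tv, h00, zero_mul,
    zero_div, zero_mul, zero_smul, sub_zero, bf_comm hg.wgT x, bf_comm hg.wgT x]
  show x + ((dual _ _ _ ⬝ᵥ x) • _ - (dual _ _ _ ⬝ᵥ x) • _) = _
  rw [← add_sub_assoc]
  rfl

theorem Ctx.epar_perp {w0 : VU} (hw0 : BU w0 w0 ≠ 0) (hu : QV (tv j (Pi.single 0 1) w0) = 0) (x : Ix n → F) {w : VU}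
    (hw : BU w w0 = 0) : tv j x w ∈ hM.epar hu := by
  classical
  set a : Ix n → F := Pi.single 0 1 with ha
  set P := hM.epar hu with hP
  have haa : ∀ w, tv j a w ∈ P := fun w => by
    refine ⟨?_, fun t => ?_⟩
    · rw [bf_tv, ha, bf_single hg.wg, s1_zero, Pi.single_eq_of_ne zero_ne_one'.symm, mul_zero, zero_mul]
    · rw [← tvR_apply j a w, ← map_smul, tvR_apply]
      exact hM.ein_aa hall w0 (t • w)
  have hcol : ∀ (p q : Ix n), Matrix.single p q (1 : F) *ᵥ (Pi.single q 1 : Ix n → F) = Pi.single p 1 := fun p q => by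
    rw [mulVec_single_one]
    funext v
    rw [Matrix.col_apply, Matrix.single_apply, Pi.single_apply]
    simp [eq_comm]
  have hcol0 : ∀ (p q r : Ix n), q ≠ r → Matrix.single p q (1 : F) *ᵥ (Pi.single r 1 : Ix n → F) = 0 := fun p q r h => by
    rw [mulVec_single_one]
    funext v
    rw [Matrix.col_apply, Matrix.single_apply, if_neg (fun e => h e.2)]
    rfl
  have hc : ∀ w, BU w w0 = 0 → tv j (Pi.single 1 1) w ∈ P := by
    intro w hw
    obtain ⟨y, w2, hwy, hw2, hw2y⟩ := hM.exists_dual_pair hw0 w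
    set S : MU := vecMulVec w (dual (gT g s) (sT n s) w2) - vecMulVec w2 (dual (gT g s) (sT n s) w) with hS
    have hSv : ∀ v, S *ᵥ v = BU w2 v • w - BU w v • w2 := fun v => by
      rw [hS, sub_mulVec, vecMulVec_mulVec, vecMulVec_mulVec, op_smul_eq_smul, op_smul_eq_smul]
      rfl
    obtain ⟨m, hm, hme⟩ := hM.cen_cc hall (hS ▸ skew_pair hg w w2)
    have hmv : ∀ v, (m : Matrix (Fin (s + 1) → Ix n) (Fin (s + 1) → Ix n) F) *ᵥ tv j a v =
        tv j a v + tv j (Pi.single 1 1) (S *ᵥ v) := fun v => by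
      rw [hme, add_mulVec, one_mulVec, ten_tv, cc, ha, hcol]
    have hfix : (m : Matrix (Fin (s + 1) → Ix n) (Fin (s + 1) → Ix n) F) *ᵥ tv j a w0 = tv j a w0 := by
      rw [hmv, hSv, hw2, hw, zero_smul, zero_smul, sub_self, ← tvR_apply j (Pi.single 1 1), map_zero, add_zero]
    have h := P.sub_mem (hM.epar_conj hu hm hfix (haa y)) (haa y)
    rwa [hmv, add_sub_cancel_left, hSv, hw2y, hwy, one_smul, zero_smul, sub_zero] at h
  have he : ∀ i : Ix n, tv j (Pi.single i 1) w ∈ P := by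
    intro i
    rcases idx_cases i with rfl | rfl | hi
    · exact haa w
    · exact hc w hw
    have hmv : ∀ v u, (sl j (eU g hM.two hi 1) : Matrix (Fin (s + 1) → Ix n) (Fin (s + 1) → Ix n) F) *ᵥ tv j v u =
        tv j ((eU g hM.two hi 1 : M1) *ᵥ v) u := fun v u => by
      rw [sl_coe, ← ten_one_right, ten_tv, one_mulVec]
    have e' : tv j (Pi.single 1 1 + Pi.single i 1 - (g i / 2) • a) w =
        tv j (Pi.single 1 1) w + tv j (Pi.single i 1) w - (g i / 2) • tv j a w := by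
      simp only [← tvL_apply, map_sub, map_add, map_smul]
    have h := hM.epar_conj hu (hM.root_mem j hi 1) (by rw [hmv, ha, eU_mulVec_zero]) (hc w hw)
    rw [hmv, show (eU g hM.two hi 1 : M1) *ᵥ (Pi.single 1 1 : Ix n → F) =
        Pi.single 1 1 + Pi.single i 1 - (g i / 2) • a by
      rw [eU_coe, sub_mulVec, add_mulVec, one_mulVec, Matrix.smul_mulVec, Matrix.smul_mulVec, nm, aa, sub_mulVec,
        Matrix.smul_mulVec, hcol, hcol, hcol0 _ _ _ hi.2, smul_zero, sub_zero, one_smul, one_mul, one_mul, ha],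
      e'] at h
    have h2 := P.sub_mem (P.add_mem h (P.smul_mem (g i / 2) (haa w))) (hc w hw)
    rwa [sub_add_cancel, add_sub_cancel_left] at h2
  have e : x = ∑ i, x i • (Pi.single i 1 : Ix n → F) := by
    funext v
    simp [Finset.sum_apply, Pi.single_apply]
  rw [← tvL_apply, e, map_sum]
  exact P.sum_mem fun i _ => by rw [map_smul, tvL_apply]; exact P.smul_mem _ (he i)

theorem Ctx.centre {w0 b1 : VU} (hw0 : BU w0 w0 ≠ 0) (hb1 : BU b1 b1 ≠ 0) (hb : BU b1 w0 = 0) :
    tv j (Pi.single 0 1) w0 ∈ eCentres QV M := by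
  classical
  set a : Ix n → F := Pi.single 0 1 with ha
  set c : Ix n → F := Pi.single 1 1 with hc
  have haa : B1 a a = 0 := by rw [ha, bf_single hg.wg, s1_zero, Pi.single_eq_of_ne zero_ne_one'.symm, mul_zero]
  have hca : B1 c a = 1 := by rw [hc, ha, bf_single hg.wg, s1_one, Pi.single_eq_same, hg.g1, mul_one]
  have hQ : ∀ w, QV (tv j a w) = 0 := fun w => by rw [qf, bf_tv, haa, zero_mul, zero_div]
  set P := hM.epar (hQ w0) with hP
  have hperp : ∀ a0 : Ix n → F, B1 a a0 = 0 → tv j a0 w0 ∈ P := by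
    intro a0 ha0
    have hz : tv j a0 w0 ∈ hM.epar (hQ b1) := hM.epar_perp hall hb1 (hQ b1) a0 (by rw [bf_comm hg.wgT]; exact hb)
    obtain ⟨m, hm, hmE⟩ := hz.2 1
    rw [one_smul] at hmE
    have hfix : (m : Matrix (Fin (s + 1) → Ix n) (Fin (s + 1) → Ix n) F) *ᵥ tv j a w0 = tv j a w0 := by
      rw [hmE, hM.pol, hM.pol, bf_tv, bf_tv, haa, ha0]
      simp
    have h := hM.epar_conj (hQ w0) hm hfix (hM.epar_perp hall hw0 (hQ w0) c hb)
    rw [hmE, hM.pol, hM.pol, bf_tv, bf_tv, hca, hb, one_mul, mul_zero, zero_smul, sub_zero] at h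
    have h2 := P.smul_mem (BU b1 b1)⁻¹ (P.add_mem (P.sub_mem h (hM.epar_perp hall hw0 (hQ w0) c hb))
      (P.smul_mem (QV (tv j a0 w0) * BU b1 b1) (hM.epar_perp hall hw0 (hQ w0) a hb)))
    convert h2 using 1
    match_scalars <;> field_simp <;> ring
  refine ⟨hQ w0, fun z hz => ?_⟩
  rw [hM.pol] at hz
  set y : Ix n → VU := fun i p => z (j.insertNth i p) with hy
  set ρ : Ix n → F := fun i => BU (y i) w0 / BU w0 w0 with hρ
  have hzd : z = (∑ i, tv j (Pi.single i 1) (y i - ρ i • w0)) + tv j ρ w0 := by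
    have eρ : ρ = ∑ i, ρ i • (Pi.single i 1 : Ix n → F) := by
      funext v
      simp [Finset.sum_apply, Pi.single_apply]
    have e1 : tv j ρ w0 = ∑ i, ρ i • tv j (Pi.single i 1) w0 := by
      conv_lhs => rw [eρ, ← tvL_apply, map_sum]
      simp only [map_smul, tvL_apply]
    rw [e1, ← Finset.sum_add_distrib]
    conv_lhs => rw [tv_expand j z]
    refine Finset.sum_congr rfl fun i _ => ?_
    rw [← tvR_apply j _ (y i - _), map_sub, map_smul, tvR_apply, tvR_apply, sub_add_cancel]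
  have hperp' : ∀ i, BU (y i - ρ i • w0) w0 = 0 := fun i => by
    rw [Orth.sym_sub_left (bf_symmetric hg.wgT), bf_smul_left, div_mul_cancel₀ _ hw0, sub_self]
  have hsum : (∑ i, tv j (Pi.single i 1) (y i - ρ i • w0)) ∈ P :=
    P.sum_mem fun i _ => hM.epar_perp hall hw0 (hQ w0) _ (hperp' i)
  have hρa : B1 a ρ = 0 := by
    have h : BV (tv j a w0) (∑ i, tv j (Pi.single i 1) (y i - ρ i • w0)) = 0 := hsum.1
    rw [hzd, bf_add_right, h, zero_add, bf_tv, mul_eq_zero, or_iff_left hw0] at hz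
    exact hz
  have h := (P.add_mem hsum (hperp ρ hρa)).2 1
  rwa [one_smul, ← hzd] at h

omit hall in
/-- **Theorem.** Only the identity centralises these hyperplanes. -/
theorem Ctx.cen_zero (j : Fin (s + 1)) {S : MU} (hS : S ∈ cen M j) : S = 0 := by
  classical
  by_contra hne
  have hall : CenAll hg M j := fun T hT => hM.cen_full j ⟨S, hS, hne⟩ hT
  have hgT := (hg.wgT (t := s))
  have h2 := hM.two
  set two' : Fin s → Ix n := fun _ => 2 with htwo
  set z0 : Fin s → Ix n := fun _ => 0 with hz0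
  set o1 : Fin s → Ix n := fun _ => 1 with ho1
  have hsT2 : sT n s two' = two' := funext fun l => s1_mid Mid.two.1 Mid.two.2
  have hsT0 : sT n s z0 = o1 := funext fun l => s1_zero
  have hsT1 : sT n s o1 = z0 := funext fun l => s1_one
  have hne01 : z0 ≠ o1 := fun e => zero_ne_one' (congrFun e ⟨0, hM.one⟩)
  have hne20 : two' ≠ z0 := fun e => Mid.two.1 (congrFun e ⟨0, hM.one⟩)
  have hne21 : two' ≠ o1 := fun e => Mid.two.2 (congrFun e ⟨0, hM.one⟩)
  set w0 : VU := Pi.single two' 1 with hw0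
  set b1 : VU := Pi.single z0 1 + Pi.single o1 1 with hb1
  have h00 : BU w0 w0 ≠ 0 := by rw [hw0, bf_single hgT, hsT2, Pi.single_eq_same, mul_one]; exact hgT.nz _
  have hb0 : BU b1 w0 = 0 := by
    rw [hb1, bf_add_left, bf_single hgT, bf_single hgT, hsT0, hsT1, hw0, Pi.single_eq_of_ne hne21.symm,
      Pi.single_eq_of_ne hne20.symm, mul_zero, mul_zero, add_zero]
  have hb11 : BU b1 b1 ≠ 0 := by
    rw [hb1, bf_add_left, bf_add_right, bf_add_right, bf_single hgT, bf_single hgT, bf_single hgT, bf_single hgT,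
      hsT0, hsT1, Pi.single_eq_same, Pi.single_eq_of_ne hne01.symm, Pi.single_eq_same, Pi.single_eq_of_ne hne01,
      mul_zero, mul_zero, mul_one, mul_one, zero_add, add_zero, show gT g s z0 = 1 from Finset.prod_eq_one fun _ _ => hg.g0,
      show gT g s o1 = 1 from Finset.prod_eq_one fun _ _ => hg.g1, one_add_one_eq_two]
    exact h2
  have he := hM.centre hall h00 hb11 hb0
  have hf : (sl j (tauA hg h2 2) : Matrix (Fin (s + 1) → Ix n) (Fin (s + 1) → Ix n) F) *ᵥ
      tv j (Pi.single 0 1) w0 ∈ eCentres QV M := eCentres_conj hM.le_iso (hM.tau_sl j Mid.two) he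
  refine hM.proper ?_
  rw [← Om_eq h2]
  refine omega_le_of_eCentres hM.hQ (card_ge hM.ht) fun u hu => eCentres_all hM.hQ hM.le_iso he hf ?_ hu
  rw [hM.pol, sl_coe, ← ten_one_right, ten_tv, one_mulVec, tauA, moG_mulVec, bf_tv, bf_smul_right,
    Equiv.swap_apply_left, bf_single hg.wg, s1_zero, Pi.single_eq_same, hg.g0, if_pos rfl, mul_one, mul_one]
  exact mul_ne_zero (div_ne_zero (neg_ne_zero.2 (hg.nz _)) h2) h00

end CfsgLib.Perm.Trans.TensorPowerO
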