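import Mathlib
import Cfsg.Agent.Lib.Perm.Trans.TensorPowerO.Full
import Cfsg.Agent.Lib.Perm.Trans.TensorPowerO.Blk

/-!
# The unipotent radical of the stabiliser of a singular slice inside a proper overgroup
-/

set_option autoImplicit false
set_option linter.all false

namespace CfsgLib.Perm.Trans.TensorPowerO

open scoped Matrix
open Matrix Cfsg.Geo CfsgLib.Perm.Asch CfsgLib.Perm.Trans CfsgLib.Perm.Trans.TensorPower
open CfsgLib.Perm.Trans.TensorOO

variable {F : Type*} [Field F] {n s : ℕ} {g : Ix n → F}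

local notation "M1" => Matrix (Ix n) (Ix n) F
local notation "MU" => Matrix (Fin s → Ix n) (Fin s → Ix n) F
local notation "MV" => Matrix (Fin (s + 1) → Ix n) (Fin (s + 1) → Ix n) F
local notation "TU" => Ix n → Matrix (Fin s → Ix n) (Fin s → Ix n) F
local notation "o1" => ones n s

/-- the middle indices -/
noncomputable def mids (n : ℕ) : Finset (Ix n) := by classical exact Finset.univ.filter fun i => Mid i

theorem mem_mids {i : Ix n} : i ∈ mids n ↔ Mid i := by classical simp [mids]

/-- the first part of an element of the radical -/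
noncomputable def rsum (g : Ix n → F) (j : Fin (s + 1)) (G : TU) : MV :=
  ∑ i ∈ mids n, (ten j (Matrix.single i 1 1 : M1) (G i) -
    g i • ten j (Matrix.single 0 i 1 : M1) (adj (gT g s) (sT n s) (G i)))

/-- an element of the radical -/
noncomputable def relT (g : Ix n → F) (j : Fin (s + 1)) (G : TU) (Z : MU) : MV := rsum g j G + ten j (aa : M1) Z

theorem rsum_add (j : Fin (s + 1)) (G H : TU) : rsum g j (G + H) = rsum g j G + rsum g j H := by
  rw [rsum, rsum, rsum, ← Finset.sum_add_distrib]
  refine Finset.sum_congr rfl fun i _ => ?_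
  simp only [Pi.add_apply, adj_add, ten_add_right, smul_add]
  abel

theorem rsum_neg (j : Fin (s + 1)) (G : TU) : rsum g j (-G) = -rsum g j G := by
  rw [rsum, rsum, ← Finset.sum_neg_distrib]
  refine Finset.sum_congr rfl fun i _ => ?_
  simp only [Pi.neg_apply, adj_neg, ten_neg_right, smul_neg]
  abel

theorem rsum_zero (j : Fin (s + 1)) : rsum g j (0 : TU) = 0 := by
  rw [rsum]
  exact Finset.sum_eq_zero fun i _ => by rw [Pi.zero_apply, adj_zero, ten_zero_right, ten_zero_right, smul_zero, sub_zero]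

/-- the product of the first parts -/
noncomputable def cross (g : Ix n → F) (G H : TU) : MU :=
  ∑ i ∈ mids n, g i • (adj (gT g s) (sT n s) (G i) * H i)

theorem rsum_mul (j : Fin (s + 1)) (G H : TU) : rsum g j G * rsum g j H = -ten j (aa : M1) (cross g G H) := by
  classical
  rw [rsum, rsum, Finset.sum_mul, cross, show ten j (aa : M1) (∑ i ∈ mids n, g i • (adj (gT g s) (sT n s) (G i) * H i))
    = ∑ i ∈ mids n, g i • ten j (aa : M1) (adj (gT g s) (sT n s) (G i) * H i) by
      rw [ten, map_sum, Finset.mul_sum]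
      exact Finset.sum_congr rfl fun i _ => by rw [← ten_smul_right]; rfl, ← Finset.sum_neg_distrib]
  refine Finset.sum_congr rfl fun i hi => ?_
  rw [Finset.mul_sum, Finset.sum_eq_single i]
  · have hi' := mem_mids.1 hi
    simp only [sub_mul, mul_sub, Matrix.smul_mul, Matrix.mul_smul, ten_mul, single_mul_single', if_true, hi'.1, hi'.2,
      hi'.1.symm, hi'.2.symm, zero_ne_one'.symm, if_false, ten_zero_left, smul_zero, sub_zero, zero_sub, aa]
  · intro k hk hki
    have hi' := mem_mids.1 hi
    have hk' := mem_mids.1 hk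
    simp only [sub_mul, mul_sub, Matrix.smul_mul, Matrix.mul_smul, ten_mul, single_mul_single', hk'.1, hi'.1, hi'.2,
      hi'.1.symm, hk'.2.symm, zero_ne_one'.symm, hki.symm, if_false, ten_zero_left, smul_zero, sub_zero]
  · exact fun h => absurd hi h

theorem aa_mul_rsum (j : Fin (s + 1)) (Z : MU) (G : TU) :
    ten j (aa : M1) Z * rsum g j G = 0 ∧ rsum g j G * ten j (aa : M1) Z = 0 := by
  rw [rsum, Finset.mul_sum, Finset.sum_mul]
  constructor <;> refine Finset.sum_eq_zero fun i hi => ?_ <;>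
    have hi' := mem_mids.1 hi <;>
    simp only [aa, sub_mul, mul_sub, Matrix.smul_mul, Matrix.mul_smul, ten_mul, single_mul_single', hi'.1,
      hi'.2.symm, zero_ne_one'.symm, if_false, ten_zero_left, smul_zero, sub_zero]

theorem relT_mul (j : Fin (s + 1)) (G H : TU) (Z W : MU) :
    relT g j G Z * relT g j H W = -ten j (aa : M1) (cross g G H) := by
  rw [relT, relT, add_mul, mul_add, mul_add, rsum_mul, (aa_mul_rsum j Z H).1, (aa_mul_rsum j W G).2,
    ten_mul, aa_aa, ten_zero_left, add_zero, add_zero, add_zero]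

/-- tuples of first parts occurring in `M` -/
noncomputable def radG (hg : Dg g) (M : Subgroup (GL (Fin (s + 1) → Ix n) F)) (j : Fin (s + 1)) : AddSubgroup TU where
  carrier := {G | (∀ i, ¬ Mid i → G i = 0) ∧ ∃ Z : MU, Mem1 M (relT g j G Z)}
  zero_mem' := ⟨fun _ _ => rfl, 0, by
    rw [relT, rsum_zero, ten_zero_right, add_zero]; exact Mem1.zero⟩
  add_mem' := by
    rintro G H ⟨hG, Z, hZ⟩ ⟨hH, W, hW⟩
    refine ⟨fun i hi => by rw [Pi.add_apply, hG i hi, hH i hi, add_zero], Z + W + -cross g G H, ?_⟩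
    convert Mem1.mul' hZ hW using 1
    rw [relT_mul]
    simp only [relT, rsum_add, ten_add_right, ten_neg_right]
    abel
  neg_mem' := by
    rintro G ⟨hG, Z, hZ⟩
    refine ⟨fun i hi => by rw [Pi.neg_apply, hG i hi, neg_zero], -Z + -cross g G G, Mem1.inv' hZ ?_⟩
    have e : cross g G (-G) = -cross g G G := by
      rw [cross, cross, ← Finset.sum_neg_distrib]
      exact Finset.sum_congr rfl fun i _ => by rw [Pi.neg_apply, mul_neg, smul_neg]
    rw [relT_mul, e]
    simp only [relT, rsum_neg, ten_add_right, ten_neg_right]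
    abel

theorem mem_radG (hg : Dg g) {M : Subgroup (GL (Fin (s + 1) → Ix n) F)} {j : Fin (s + 1)} {G : TU} :
    G ∈ radG hg M j ↔ (∀ i, ¬ Mid i → G i = 0) ∧ ∃ Z : MU, Mem1 M (relT g j G Z) := Iff.rfl

/-- the first parts of a root element -/
def rootT (k : Ix n) (c : F) : TU := fun i => if i = k then c • 1 else 0

theorem rootT_apply_self (k : Ix n) (c : F) : (rootT k c : TU) k = c • 1 := if_pos rfl

theorem cross_root_left (hg : Dg g) {k : Ix n} (hk : Mid k) (c : F) (H : TU) :
    cross g (rootT k c) H = (g k * c) • H k := by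
  classical
  rw [cross, Finset.sum_eq_single k]
  · rw [rootT_apply_self, adj_smul, adj_one hg.wgT, Matrix.smul_mul, one_mul, smul_smul]
  · intro i _ hi
    rw [rootT, if_neg hi, adj_zero, zero_mul, smul_zero]
  · exact fun h => absurd (mem_mids.2 hk) h

theorem cross_root_right {k : Ix n} (hk : Mid k) (c : F) (H : TU) :
    cross g H (rootT k c) = (g k * c) • adj (gT g s) (sT n s) (H k) := by
  classical
  rw [cross, Finset.sum_eq_single k]
  · rw [rootT_apply_self, Matrix.mul_smul, mul_one, smul_smul]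
  · intro i _ hi
    rw [rootT, if_neg hi, mul_zero, smul_zero]
  · exact fun h => absurd (mem_mids.2 hk) h

theorem rsum_root (hg : Dg g) (j : Fin (s + 1)) {k : Ix n} (hk : Mid k) (c : F) :
    rsum g j (rootT k c : TU) = slot j (c • nm g k) := by
  classical
  rw [rsum, Finset.sum_eq_single k]
  · rw [rootT_apply_self, adj_smul, adj_one hg.wgT, ← ten_one_right j, nm]
    simp only [ten_smul_left, ten_smul_right, ten_sub_left, smul_sub, smul_smul]
    match_scalars <;> ring
  · intro i _ hi
    rw [rootT, if_neg hi, adj_zero, ten_zero_right, ten_zero_right, smul_zero, sub_zero]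
  · exact fun h => absurd (mem_mids.2 hk) h

variable [Fintype F] {hg : Dg g} {M : Subgroup (GL (Fin (s + 1) → Ix n) F)} (hM : Ctx hg M)
include hM

theorem Ctx.root_radG (j : Fin (s + 1)) {k : Ix n} (hk : Mid k) (c : F) : (rootT k c : TU) ∈ radG hg M j := by
  refine ⟨fun i hi => by rw [rootT, if_neg (fun e => hi (by rw [e]; exact hk))], -(c * c * g k / 2) • 1,
    sl j (eU g hM.two hk c), hM.root_mem j hk c, ?_⟩
  rw [sl_coe, eU_coe, relT, rsum_root hg j hk, ← ten_one_right j, ← ten_one_right j]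
  simp only [ten_sub_left, ten_add_left, ten_smul_left, ten_smul_right, ten_one]
  module

/-- conjugation by a diagonal element of the line and an element of the others -/
theorem Ctx.radG_conj (j : Fin (s + 1)) {d : Ix n → F} (hd : ∀ y, d y ≠ 0) (h01 : d 0 * d 1 = 1)
    (hm : ∀ i, Mid i → d i * d i = 1) {b : GL (Fin s → Ix n) F} (h : sl j (moG 1 d hd) * embGL j b ∈ M)
    {G : TU} (hG : G ∈ radG hg M j) : (fun i => (d i / d 1) • cj b (G i)) ∈ radG hg M j := by
  have hb : b ∈ uT hg s := hM.embGL_uT j (by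
    have := mul_mem (inv_mem (sl_mem_uT (hg := hg) j (moG_one_mem hg hd h01 hm))) (hM.le_uT h)
    rwa [inv_mul_cancel_left] at this)
  obtain ⟨hG0, Z, hZ⟩ := hG
  refine ⟨fun i hi => by simp only [hG0 i hi, TensorPower.cj_zero, smul_zero], (d 0 / d 1) • cj b Z, ?_⟩
  convert hZ.conj h using 1
  have hsum : ∀ (S : Finset (Ix n)) (f : Ix n → MV),
      cj (sl j (moG 1 d hd) * embGL j b) (∑ i ∈ S, f i) = ∑ i ∈ S, cj (sl j (moG 1 d hd) * embGL j b) (f i) := by
    intro S f
    simp only [cj, Finset.mul_sum, Finset.sum_mul]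
  rw [relT, relT, rsum, rsum, cj_add, hsum, cj_ten, aa, cj_moG_single, ten_smul_left, ten_smul_right]
  congr 1
  refine Finset.sum_congr rfl fun i hi => ?_
  rw [cj_sub, cj_smul, cj_ten, cj_ten, cj_moG_single, cj_moG_single, adj_smul, adj_cj hb]
  simp only [Equiv.Perm.one_apply, ten_smul_left, ten_smul_right]
  rw [show d 0 / d i = d i / d 1 by
    have := hd 1
    have := hd i
    field_simp
    linear_combination h01 - hm i (mem_mids.1 hi)]

theorem Ctx.radG_conjR (j : Fin (s + 1)) {b : GL (Fin s → Ix n) F} (h : embGL j b ∈ M) {G : TU}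
    (hG : G ∈ radG hg M j) : (fun i => cj b (G i)) ∈ radG hg M j := by
  have hd : ∀ _ : Ix n, (1 : F) ≠ 0 := fun _ => one_ne_zero
  have e : moG (1 : Equiv.Perm (Ix n)) (fun _ => (1 : F)) hd = 1 := Units.ext moM_one
  have := hM.radG_conj j hd (one_mul 1) (fun _ _ => one_mul 1) (b := b) (by rwa [e, sl_one, one_mul]) hG
  simpa using this

theorem Ctx.cross_symm (j : Fin (s + 1)) {G H : TU} (hG : G ∈ radG hg M j) (hH : H ∈ radG hg M j) :
    cross g G H = cross g H G := by
  obtain ⟨-, Z, a, ha, ea⟩ := hG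
  obtain ⟨-, W, b, hb, eb⟩ := hH
  have hmem : cross g H G - cross g G H ∈ cen M j := by
    refine mem_cen.2 ⟨a * b * (b * a)⁻¹, M.mul_mem (M.mul_mem ha hb) (M.inv_mem (M.mul_mem hb ha)), ?_⟩
    have e : (1 + ten j (aa : M1) (cross g H G - cross g G H)) * ((b * a : GL (Fin (s + 1) → Ix n) F) : MV) =
        ((a * b : GL (Fin (s + 1) → Ix n) F) : MV) := by
      have e0 : ∀ (Z : MU) (K : TU) (L : MU), ten j (aa : M1) Z * relT g j K L = 0 := fun Z K L => by
        rw [relT, mul_add, (aa_mul_rsum j Z K).1, ten_mul, aa_aa, ten_zero_left, add_zero]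
      rw [Units.val_mul, Units.val_mul, ea, eb]
      simp only [add_mul, mul_add, one_mul, mul_one, relT_mul, mul_neg, ten_mul, aa_aa, ten_zero_left, e0, neg_zero,
        add_zero, ten_sub_right, sub_mul, sub_zero]
      abel
    rw [Units.val_mul, ← e, mul_assoc, gl_mul_inv, mul_one]
  exact (sub_eq_zero.1 (hM.cen_zero j hmem)).symm

theorem Ctx.radG_selfadj (j : Fin (s + 1)) {G : TU} (hG : G ∈ radG hg M j) (k : Ix n) :
    adj (gT g s) (sT n s) (G k) = G k := by
  by_cases hk : Mid k
  · have h := hM.cross_symm j hG (hM.root_radG j hk 1)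
    rw [cross_root_left hg hk, cross_root_right hk, mul_one] at h
    exact smul_right_injective _ (hg.nz k) h
  · rw [hG.1 k hk, adj_zero]

omit hM in
/-- removing the scalar at the base entry -/
noncomputable def nrm (n s : ℕ) (F : Type*) [Field F] :
    (Ix n → Matrix (Fin s → Ix n) (Fin s → Ix n) F) →+ (Ix n → Matrix (Fin s → Ix n) (Fin s → Ix n) F) where
  toFun G i := G i - G i (ones n s) (ones n s) • 1
  map_zero' := funext fun i => by simp
  map_add' G H := funext fun i => by simp only [Pi.add_apply, Matrix.add_apply, add_smul]; abel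

omit hM in
theorem nrm_apply (G : TU) (i : Ix n) : nrm n s F G i = G i - G i o1 o1 • 1 := rfl

theorem Ctx.nrm_mem (j : Fin (s + 1)) {G : TU} (hG : G ∈ radG hg M j) : nrm n s F G ∈ radG hg M j := by
  classical
  have e : nrm n s F G = G - ∑ k ∈ mids n, rootT k (G k o1 o1) := by
    funext i
    rw [nrm_apply, Pi.sub_apply, Finset.sum_apply]
    congr 1
    by_cases hi : Mid i
    · rw [Finset.sum_eq_single i (fun k _ hk => by rw [rootT, if_neg hk.symm]) (fun h => absurd (mem_mids.2 hi) h),
        rootT_apply_self]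
    · rw [hG.1 i hi, Matrix.zero_apply, zero_smul, Finset.sum_eq_zero fun k hk => ?_]
      rw [rootT, if_neg fun e : i = k => hi (e ▸ mem_mids.1 hk)]
  rw [e]
  exact sub_mem hG (sum_mem fun k hk => hM.root_radG j (mem_mids.1 hk) _)

omit hM in
theorem nrm_idem (G : TU) : nrm n s F (nrm n s F G) = nrm n s F G := by
  funext i
  simp [nrm_apply, Matrix.one_apply_eq]

/-- a non-scalar tuple gives one fixed by the roots of all factors -/
theorem Ctx.exists_fixT (j : Fin (s + 1)) {G₀ : TU} (hG₀ : G₀ ∈ radG hg M j) (hne : nrm n s F G₀ ≠ 0) :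
    ∃ G ∈ radG hg M j, G ≠ 0 ∧ (∀ i, G i o1 o1 = 0) ∧ ∀ i, Fixd g (G i) := by
  classical
  have h2 := hM.two
  obtain ⟨p, hp, hchar, -, -⟩ := exists_char (F := F) h2
  haveI := hchar
  haveI : Fact p.Prime := ⟨hp⟩
  set gens : Set (GL (Fin s → Ix n) F) := {u | ∃ (l : Fin s) (i : Ix n) (hi : Mid i) (x : F), u = sl l (eU g h2 hi x)}
    with hgens
  set K := Subgroup.closure gens with hK
  have hcomm : ∀ u ∈ gens, ∀ v ∈ gens, Commute u v := by
    rintro _ ⟨l, i, hi, x, rfl⟩ _ ⟨k, q, hq, y, rfl⟩
    rcases eq_or_ne l k with rfl | hlk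
    · show sl l _ * sl l _ = sl l _ * sl l _
      rw [sl_mul, sl_mul]
      congr 1
      refine Units.ext ?_
      rw [Units.val_mul, Units.val_mul, eU_coe, eU_coe]
      have e1 : nm g i * nm g q = nm g q * nm g i := by
        rw [nm_nm hi hq, nm_nm hq hi]
        by_cases h : i = q
        · subst h; rfl
        · rw [if_neg h, if_neg (Ne.symm h)]
      simp only [add_mul, sub_mul, mul_add, mul_sub, one_mul, mul_one, Matrix.smul_mul, Matrix.mul_smul, nm_aa hi,
        nm_aa hq, aa_nm hi, aa_nm hq, aa_aa, smul_zero, sub_zero, e1]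
      module
    · exact sl_comm hlk _ _
  have hcent : ∀ u ∈ K, ∀ v ∈ K, Commute u v := by
    have h1 : K ≤ Subgroup.centralizer gens := (Subgroup.closure_le _).2 fun u hu =>
      Subgroup.mem_centralizer_iff.2 fun v hv => (hcomm v hv u hu).eq
    intro u hu v hv
    have h2' : K ≤ Subgroup.centralizer {u} := (Subgroup.closure_le _).2 fun w hw =>
      Subgroup.mem_centralizer_iff.2 fun x hx => by
        rw [Set.mem_singleton_iff.1 hx]
        exact (Subgroup.mem_centralizer_iff.1 (h1 hu) w hw).symm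
    exact Subgroup.mem_centralizer_iff.1 (h2' hv) u rfl
  have hpow : ∀ u ∈ K, u ^ p = 1 := by
    intro u hu
    induction hu using Subgroup.closure_induction with
    | mem v hv =>
      obtain ⟨l, i, hi, x, rfl⟩ := hv
      rw [← sl_pow, eU_pow, CharP.cast_eq_zero, zero_mul, ← sl_one l]
      congr 1
      exact Units.ext (euM_zero i)
    | one => exact one_pow p
    | mul v w hv hw e1 e2 => rw [(hcent v hv w hw).mul_pow, e1, e2, one_mul]
    | inv v _ e1 => rw [inv_pow, e1, inv_one]
  have hKM : ∀ u ∈ K, embGL j u ∈ M := by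
    intro u hu
    induction hu using Subgroup.closure_induction with
    | mem v hv => obtain ⟨l, i, hi, x, rfl⟩ := hv; rw [embGL_sl]; exact hM.root_mem _ hi x
    | one => rw [map_one]; exact M.one_mem
    | mul v w _ _ e1 e2 => rw [map_mul]; exact M.mul_mem e1 e2
    | inv v _ e1 => rw [map_inv]; exact M.inv_mem e1
  set A : AddSubgroup TU := (radG hg M j).map (nrm n s F) with hA
  have hN : ∀ (u : GL (Fin s → Ix n) F) (G : TU),
      nrm n s F (fun i => cj u (nrm n s F G i)) = nrm n s F fun i => cj u (G i) := by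
    intro u G
    funext i
    simp only [nrm_apply, cj_sub, cj_smul, cj_one, Matrix.sub_apply, Matrix.smul_apply, Matrix.one_apply_eq, smul_eq_mul,
      mul_one, sub_smul]
    abel
  let act : K → A → A := fun u v => ⟨nrm n s F fun i => cj (u : GL (Fin s → Ix n) F) (v.1 i), by
    obtain ⟨G, hG, e⟩ := v.2
    exact ⟨_, hM.radG_conjR j (hKM u u.2) hG, by rw [← e, hN]⟩⟩
  obtain ⟨v, -, hv0, hfix⟩ := exists_fixed (p := p) (G := K) (fun u => ⟨1, Subtype.ext (by rw [pow_one]; exact hpow u u.2)⟩)
    (V := A) (fun v => Subtype.ext (by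
      show p • v.1 = 0
      funext i
      rw [Pi.smul_apply, ← Nat.cast_smul_eq_nsmul F, CharP.cast_eq_zero, zero_smul]; rfl)) ⊤ act
    (fun v => Subtype.ext (by
      obtain ⟨G, -, e⟩ := v.2
      show nrm n s F (fun i => cj ((1 : K) : GL (Fin s → Ix n) F) (v.1 i)) = v.1
      rw [← e, hN]
      simp [cj]))
    (fun u w v => Subtype.ext (by
      show nrm n s F (fun i => cj ((u * w : K) : GL (Fin s → Ix n) F) (v.1 i)) =
        nrm n s F fun i => cj (u : GL (Fin s → Ix n) F) (nrm n s F (fun i => cj (w : GL (Fin s → Ix n) F) (v.1 i)) i)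
      rw [hN]
      simp only [Subgroup.coe_mul, cj_cj]))
    (fun u => Subtype.ext (by
      show nrm n s F (fun i => cj (u : GL (Fin s → Ix n) F) ((0 : A).1 i)) = (0 : TU)
      rw [show (fun i => cj (u : GL (Fin s → Ix n) F) ((0 : A).1 i)) = (0 : TU) from funext fun i => TensorPower.cj_zero _,
        map_zero]))
    (fun _ _ _ => trivial) ⟨⟨_, G₀, hG₀, rfl⟩, trivial, fun e => hne (congrArg Subtype.val e)⟩
  obtain ⟨G, hG, e⟩ := v.2
  refine ⟨v.1, e ▸ hM.nrm_mem j hG, fun e' => hv0 (Subtype.ext e'), fun i => ?_, fun i l q hq => ?_⟩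
  · rw [← e, nrm_apply, Matrix.sub_apply, Matrix.smul_apply, Matrix.one_apply_eq, smul_eq_mul, mul_one, sub_self]
  have hx : ∀ x, cj (sl l (eU g h2 hq x)) (v.1 i) = v.1 i := by
    have hc : ∀ x, ∃ c : F, cj (sl l (eU g h2 hq x)) (v.1 i) = v.1 i + c • 1 := fun x => by
      have h := congrFun (congrArg Subtype.val (hfix ⟨_, Subgroup.subset_closure ⟨l, q, hq, x, rfl⟩⟩)) i
      refine ⟨cj (sl l (eU g h2 hq x)) (v.1 i) o1 o1, ?_⟩
      exact (eq_add_of_sub_eq h)
    intro x
    obtain ⟨c, hc'⟩ := hc x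
    rw [hc', lam_zero hg h2 hM.big l hq hc hc', zero_smul, add_zero]
  have hc : ∀ x, Commute (v.1 i) (slot l (eU g h2 hq x : M1) : MU) := fun x => by
    show v.1 i * _ = _ * v.1 i
    conv_lhs => rw [← hx x]
    rw [← sl_coe, cj, mul_assoc, gl_inv_mul, mul_one]
  have e' : nm g q = (2 : F)⁻¹ • ((eU g h2 hq 1 : M1) - (eU g h2 hq (-1) : M1)) := by
    rw [eU_coe, eU_coe, neg_mul_neg, neg_one_smul, one_smul]
    match_scalars <;> field_simp <;> ring
  rw [e', TensorPower.slot_smul, TensorPower.slot_sub]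
  exact ((hc 1).sub_right (hc (-1))).smul_right _

end CfsgLib.Perm.Trans.TensorPowerO
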