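import Mathlib
import Cfsg.Agent.Lib.Perm.Trans.TensorPowerO.Radical
import Cfsg.Agent.Lib.Perm.Trans.TensorPowerO.GrowTools

/-!
# The radical meets a proper overgroup in the root elements of one factor
-/

set_option autoImplicit false
set_option linter.all false

namespace CfsgLib.Perm.Trans.TensorPowerO

open scoped Matrix
open Matrix Cfsg.Geo CfsgLib.Perm.Asch CfsgLib.Perm.Trans CfsgLib.Perm.Trans.TensorPower

variable {F : Type*} [Field F] {n s t : ℕ} {g : Ix n → F}

local notation "M1" => Matrix (Ix n) (Ix n) F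
local notation "MT" => Matrix (Fin t → Ix n) (Fin t → Ix n) F
local notation "MU" => Matrix (Fin s → Ix n) (Fin s → Ix n) F
local notation "MV" => Matrix (Fin (s + 1) → Ix n) (Fin (s + 1) → Ix n) F
local notation "TU" => Ix n → Matrix (Fin s → Ix n) (Fin s → Ix n) F

/-! ### entries of combinations -/

theorem comb_apply (c : (Fin t → Ix n) → F) (x z : Fin t → Ix n) :
    comb g c x z = ∑ μ, c μ * ∏ l, phi g (μ l) (x l) (z l) := by
  rw [comb, Matrix.sum_apply]
  refine Finset.sum_congr rfl fun μ _ => ?_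
  rw [Matrix.smul_apply, pat, pure_apply, smul_eq_mul]

theorem adj_comb (hg : Dg g) (c : (Fin t → Ix n) → F) :
    adj (gT g t) (sT n t) (comb g c : MT) = comb g fun μ => c μ * ∏ l, (sgn (μ l) : F) := by
  classical
  rw [comb, comb]
  suffices ∀ x : Finset (Fin t → Ix n), adj (gT g t) (sT n t) (∑ μ ∈ x, c μ • (pat g μ : MT)) =
      ∑ μ ∈ x, (c μ * ∏ l, (sgn (μ l) : F)) • pat g μ from this Finset.univ
  intro x
  induction x using Finset.induction_on with
  | empty => simp [adj_zero]
  | insert a x ha ih =>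
    rw [Finset.sum_insert ha, Finset.sum_insert ha, adj_add, ih, adj_smul, adj_pat hg, smul_smul]

/-- the partner, with one at one -/
def phx (g : Ix n → F) (i : Ix n) : M1 := if i = 1 then 1 else phc g i

theorem exists_tau_phi (hg : Dg g) (h2 : (2 : F) ≠ 0) : ∃ c : Ix n → F,
    (∀ i, c i ≠ 0) ∧ ∀ i, cj (tauA hg h2 2) (phi g i) = c i • phx g i := by
  have : ∀ i : Ix n, ∃ c : F, c ≠ 0 ∧ cj (tauA hg h2 2) (phi g i) = c • phx g i := fun i => by
    by_cases h : i = 1
    · subst h
      exact ⟨1, one_ne_zero, by rw [phi_one, cj_one, phx, if_pos rfl, one_smul]⟩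
    · rw [phx, if_neg h]
      exact cj_tauA_phi hg h2 Mid.two h
  choose c hc e using this
  exact ⟨c, hc, e⟩

theorem cj_tau_comb (hg : Dg g) (h2 : (2 : F) ≠ 0) {e : Ix n → F}
    (he : ∀ i, cj (tauA hg h2 2) (phi g i) = e i • phx g i) (c : (Fin t → Ix n) → F) :
    cj (pureGL fun _ : Fin t => tauA hg h2 2) (comb g c : MT) =
      ∑ μ, (c μ * ∏ l, e (μ l)) • CfsgLib.Perm.Asch.pure fun l => phx g (μ l) := by
  rw [comb, cj, Finset.mul_sum, Finset.sum_mul]
  refine Finset.sum_congr rfl fun μ _ => ?_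
  rw [← cj, cj_smul, pat, cj_pureGL, show (fun l => cj (tauA hg h2 2) (phi g (μ l))) = fun l => e (μ l) • phx g (μ l)
    from funext fun l => he _, pure_smul, smul_smul]

variable [Fintype F] {hg : Dg g} {M : Subgroup (GL (Fin (s + 1) → Ix n) F)} (hM : Ctx hg M)
include hM

theorem Ctx.tau_all_mem (j : Fin (s + 1)) : embGL j (pureGL fun _ : Fin s => tauA hg hM.two 2) ∈ M :=
  pureGL_mem_of (M.comap (embGL j)) _ fun l => by
    rw [Subgroup.mem_comap, embGL_sl]; exact hM.tau_sl _ Mid.two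

/-- the case of a single middle index -/
theorem Ctx.rad_single (j : Fin (s + 1)) {G : TU} (hG : G ∈ radG hg M j) (hfix : ∀ i, Fixd g (G i)) {i₀ : Ix n}
    (hi₀ : Mid i₀) (hoth : ∀ i, i ≠ i₀ → G i = 0) (h11 : G i₀ (ones n s) (ones n s) = 0) {κ : Fin s → Ix n}
    (hκ : G i₀ κ (ones n s) ≠ 0)
    (hpar : ∀ μ, G i₀ μ (ones n s) ≠ 0 → ∀ l, (Mid (μ l) ↔ Mid (κ l)) ∧ (Mid (κ l) → μ l = κ l))
    (hminz : ∀ μ, G i₀ μ (ones n s) ≠ 0 → (∀ l, μ l = 0 → κ l = 0) → ∀ l, κ l = 0 → μ l = 0) : False := by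
  classical
  obtain ⟨e, he0, he⟩ := exists_tau_phi hg hM.two (n := n)
  set b := pureGL fun _ : Fin s => tauA hg hM.two 2 with hb
  have hH := hM.radG_conjR j (hM.tau_all_mem j) hG
  have h := hM.cross_symm j hG hH
  have hcr : ∀ K L : TU, ((∀ i, i ≠ i₀ → K i = 0) ∨ ∀ i, i ≠ i₀ → L i = 0) → K ∈ radG hg M j →
      cross g K L = g i₀ • (K i₀ * L i₀) := by
    intro K L hKL hK
    rw [cross, Finset.sum_eq_single i₀ (fun i _ hi => ?_) (fun h => absurd (mem_mids.2 hi₀) h), hM.radG_selfadj j hK]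
    rcases hKL with h | h
    · rw [h i hi, adj_zero, zero_mul, smul_zero]
    · rw [h i hi, mul_zero, smul_zero]
  rw [hcr _ _ (Or.inl hoth) hG, hcr _ _ (Or.inr hoth) hH] at h
  have h' := smul_right_injective MU (hg.nz i₀) h
  set x : Fin s → Ix n := fun l => if κ l = 1 then 2 else 0 with hx
  set y : Fin s → Ix n := fun l => if κ l = 1 then 2 else if κ l = 0 then 1 else κ l with hy
  set c : (Fin s → Ix n) → F := fun μ => G i₀ μ (ones n s) with hc
  have hGe : G i₀ = comb g c := (hfix i₀).expand hg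
  have hne1 : ∀ μ, c μ ≠ 0 → ∃ l, μ l ≠ 1 := fun μ hμ => by
    by_contra hcon
    push Not at hcon
    exact hμ (by rw [hc]; simp only; rw [show μ = ones n s from funext hcon]; exact h11)
  have hx' : ∀ l, x l = 0 ∨ x l = 2 := fun l => by rw [hx]; simp only; split_ifs <;> simp
  have h20 : (2 : Ix n) ≠ 0 := Mid.two.1
  have h21 : (2 : Ix n) ≠ 1 := Mid.two.2
  -- the other order kills the vector
  have hzero : ∀ z, G i₀ z x = 0 := by
    intro z
    rw [hGe, comb_apply]
    refine Finset.sum_eq_zero fun μ _ => ?_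
    by_cases hμ : c μ = 0
    · rw [hμ, zero_mul]
    obtain ⟨l, hl⟩ := hne1 μ hμ
    rw [Finset.prod_eq_zero (Finset.mem_univ l), mul_zero]
    rcases idx_cases (μ l) with h0 | h1 | hm
    · rw [h0, phi_zero, aa, Matrix.single_apply, if_neg]
      rintro ⟨-, e⟩
      rcases hx' l with e' | e' <;> rw [e'] at e
      · exact zero_ne_one'.symm e
      · exact h21 e.symm
    · exact absurd h1 hl
    · have hκl := ((hpar μ hμ l).1).1 hm
      rw [phi_mid hm, nm, hx]
      simp only [if_neg hκl.2, Matrix.sub_apply, Matrix.smul_apply, Matrix.single_apply, zero_ne_one'.symm, hm.1,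
        and_false, if_false, smul_zero, sub_zero]
  -- the conjugate sends it to one basis vector
  have himg : ∀ z, cj b (G i₀) z x =
      if z = y then c κ * (∏ l, e (κ l)) * ∏ l, phx g (κ l) (y l) (x l) else 0 := by
    intro z
    rw [hb, hGe, cj_tau_comb hg hM.two he, Matrix.sum_apply, Finset.sum_eq_single κ]
    · rw [Matrix.smul_apply, pure_apply, smul_eq_mul]
      split_ifs with hz
      · subst hz; rfl
      · obtain ⟨l, hl⟩ : ∃ l, z l ≠ y l := by
          by_contra hcon
          push Not at hcon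
          exact hz (funext hcon)
        refine mul_eq_zero_of_right _ (Finset.prod_eq_zero (Finset.mem_univ l) ?_)
        rw [hy] at hl
        rw [hx]
        dsimp only at hl ⊢
        rcases idx_cases (κ l) with h0 | h1 | hm
        · rw [h0] at hl ⊢
          simp only [if_neg zero_ne_one', if_true] at hl ⊢
          rw [phx, if_neg zero_ne_one', phc, if_pos rfl, cc, Matrix.single_apply, if_neg (fun e => hl e.1.symm)]
        · rw [h1] at hl ⊢
          simp only [if_true] at hl ⊢
          rw [phx, if_pos rfl, Matrix.one_apply, if_neg hl]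
        · simp only [if_neg hm.2, if_neg hm.1] at hl ⊢
          rw [phx, if_neg hm.2, phc, if_neg hm.1, nc]
          simp only [Matrix.sub_apply, Matrix.smul_apply, Matrix.single_apply, hm.1, Ne.symm hl, and_false, false_and,
            if_false, smul_zero, sub_zero]
    · intro μ _ hμκ
      rw [Matrix.smul_apply, pure_apply, smul_eq_mul]
      by_cases hμ : c μ = 0
      · rw [hμ, zero_mul, zero_mul]
      by_contra hne
      have hprod : ∀ l, phx g (μ l) (z l) (x l) ≠ 0 := fun l =>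
        Finset.prod_ne_zero_iff.1 (right_ne_zero_of_mul hne) l (Finset.mem_univ l)
      have hz0 : ∀ l, μ l = 0 → κ l = 0 := by
        intro l hl
        have h1 := hprod l
        rw [hl, phx, if_neg zero_ne_one', phc, if_pos rfl, cc, Matrix.single_apply] at h1
        have hxl : x l = 0 := by
          by_contra h'
          exact h1 (if_neg fun e => h' e.2.symm)
        rcases idx_cases (κ l) with h0 | h1' | hm
        · exact h0
        · rw [hx] at hxl; simp [h1', h20] at hxl
        · exact absurd (((hpar μ hμ l).1).2 hm) (by rw [hl]; exact fun h => h.1 rfl)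
      refine hμκ (funext fun l => ?_)
      rcases idx_cases (κ l) with h0 | h1 | hm
      · rw [h0]; exact hminz μ hμ hz0 l h0
      · rcases idx_cases (μ l) with g0 | g1 | gm
        · rw [hz0 l g0, g0]
        · rw [g1, h1]
        · exact absurd (((hpar μ hμ l).1).1 gm) (by rw [h1]; exact fun h => h.2 rfl)
      · exact (hpar μ hμ l).2 hm
    · simp
  have hent := congrFun (congrFun h' x) x
  rw [Matrix.mul_apply, Matrix.mul_apply, Finset.sum_eq_single y (fun z _ hz => by rw [himg, if_neg hz, mul_zero])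
    (by simp), Finset.sum_eq_zero (fun z _ => by rw [hzero, mul_zero]), himg, if_pos rfl] at hent
  refine absurd hent (mul_ne_zero ?_ (mul_ne_zero (mul_ne_zero hκ (Finset.prod_ne_zero_iff.2 fun l _ => he0 _)) ?_))
  · rw [hGe, comb_apply, Finset.sum_eq_single κ]
    · refine mul_ne_zero hκ (Finset.prod_ne_zero_iff.2 fun l _ => ?_)
      rw [hx, hy]
      rcases idx_cases (κ l) with h0 | h1 | hm
      · simp [h0, phi_zero, aa]
      · simp [h1, phi_one]
      · simp [hm.1, hm.2, phi_mid hm, nm, Ne.symm hm.1, Ne.symm hm.2, hg.nz]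
    · intro μ _ hμκ
      by_cases hμ : c μ = 0
      · rw [hμ, zero_mul]
      obtain ⟨l, hl⟩ : ∃ l, μ l ≠ κ l := by
        by_contra hcon
        push Not at hcon
        exact hμκ (funext hcon)
      rw [Finset.prod_eq_zero (Finset.mem_univ l), mul_zero]
      rw [hx, hy]
      rcases idx_cases (κ l) with h0 | h1 | hm
      · rcases idx_cases (μ l) with g0 | g1 | gm
        · exact absurd (g0.trans h0.symm) hl
        · simp [g1, phi_one, h0]
        · exact absurd (((hpar μ hμ l).1).1 gm) (by rw [h0]; exact fun h => h.1 rfl)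
      · rcases idx_cases (μ l) with g0 | g1 | gm
        · simp [g0, phi_zero, aa, h1, h20, h20.symm, h21, h21.symm]
        · exact absurd (g1.trans h1.symm) hl
        · exact absurd (((hpar μ hμ l).1).1 gm) (by rw [h1]; exact fun h => h.2 rfl)
      · exact absurd ((hpar μ hμ l).2 hm) hl
    · simp
  · refine Finset.prod_ne_zero_iff.2 fun l _ => ?_
    rw [hx, hy]
    dsimp only
    rcases idx_cases (κ l) with h0 | h1 | hm
    · simp [h0, phx, phc, cc]
    · simp [h1, phx, Matrix.one_apply]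
    · simp [hm.1, hm.2, phx, phc, nc, Ne.symm hm.1, Ne.symm hm.2]

/-- the case of middle indices in every factor -/
theorem Ctx.rad_multi (hs : 2 ≤ s) (j : Fin (s + 1)) {G : TU} (hG : G ∈ radG hg M j) (hfix : ∀ i, Fixd g (G i))
    {i₁ : Ix n} {κ₁ : Fin s → Ix n} (h1 : G i₁ κ₁ (ones n s) ≠ 0)
    (hodd : ∀ i μ, G i μ (ones n s) ≠ 0 → ∀ l, Mid (μ l))
    (huniq : ∀ i μ μ', G i μ (ones n s) ≠ 0 → G i μ' (ones n s) ≠ 0 → μ = μ')
    (hinj : ∀ i i' μ μ' (l : Fin s), G i μ (ones n s) ≠ 0 → G i' μ' (ones n s) ≠ 0 → μ l = μ' l → i = i') : False := by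
  classical
  obtain ⟨e, he0, he⟩ := exists_tau_phi hg hM.two (n := n)
  set b := pureGL fun _ : Fin s => tauA hg hM.two 2 with hb
  have hH := hM.radG_conjR j (hM.tau_all_mem j) hG
  have hi₁ : Mid i₁ := by
    by_contra hcon
    exact h1 (by rw [hG.1 i₁ hcon, Matrix.zero_apply])
  have h := hM.cross_symm j hG hH
  set l₀ : Fin s := ⟨0, by omega⟩
  set l₁ : Fin s := ⟨1, by omega⟩
  have h01 : l₁ ≠ l₀ := fun e => by simpa [l₀, l₁] using congrArg Fin.val e
  set x : Fin s → Ix n := fun l => if l = l₀ then κ₁ l₀ else 0 with hx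
  have hsingle : ∀ i μ, G i μ (ones n s) ≠ 0 → G i = G i μ (ones n s) • pat g μ := by
    intro i μ hμ
    conv_lhs => rw [(hfix i).expand hg, comb]
    exact Finset.sum_eq_single μ (fun ν _ hν => by
      by_contra hne
      exact hν (huniq i ν μ (fun h0 => hne (by rw [h0, zero_smul])) hμ)) (by simp)
  have hzeroG : ∀ i, (∀ μ, G i μ (ones n s) = 0) → G i = 0 := fun i hi =>
    (hfix i).eq_of_ones hg (fun l q hq => Commute.zero_left _) fun μ => by rw [hi, Matrix.zero_apply]
  -- the two products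
  have hprod : ∀ i μ, G i μ (ones n s) ≠ 0 →
      G i * cj b (G i) = (G i μ (ones n s) * (G i μ (ones n s) * ∏ l, e (μ l))) •
        CfsgLib.Perm.Asch.pure (fun l => -(g (μ l)) • (Matrix.single (μ l) (μ l) 1 + Matrix.single 0 0 1 : M1)) ∧
      cj b (G i) * G i = (G i μ (ones n s) * (G i μ (ones n s) * ∏ l, e (μ l))) •
        CfsgLib.Perm.Asch.pure (fun l => -(g (μ l)) • (Matrix.single (μ l) (μ l) 1 + Matrix.single 1 1 1 : M1)) := by
    intro i μ hμ
    set c := G i μ (ones n s) with hc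
    rw [hsingle i μ hμ, ← hc, hb, cj_smul, pat, cj_pureGL,
      show (fun l => cj (tauA hg hM.two 2) (phi g (μ l))) = fun l => e (μ l) • phx g (μ l) from funext fun l => he _,
      pure_smul]
    simp only [Matrix.smul_mul, Matrix.mul_smul, smul_smul, pure_mul]
    constructor <;> congr 1
    · ring
    · congr 1
      funext l
      rw [Pi.mul_apply, phi_mid (hodd i μ hμ l), phx, if_neg (hodd i μ hμ l).2, phc, if_neg (hodd i μ hμ l).1,
        nm_nc (hodd i μ hμ l)]
    · congr 1
      funext l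
      rw [Pi.mul_apply, phi_mid (hodd i μ hμ l), phx, if_neg (hodd i μ hμ l).2, phc, if_neg (hodd i μ hμ l).1,
        nc_nm (hodd i μ hμ l)]
  have hent := congrFun (congrFun h x) x
  simp only [cross, Matrix.sum_apply] at hent
  rw [Finset.sum_eq_single i₁, Finset.sum_eq_zero] at hent
  · rw [hM.radG_selfadj j hG, Matrix.smul_apply, (hprod i₁ κ₁ h1).1, Matrix.smul_apply, pure_apply] at hent
    simp only [smul_eq_mul, Matrix.smul_apply, Matrix.add_apply, Matrix.single_apply] at hent
    refine absurd hent (mul_ne_zero (hg.nz _) (mul_ne_zero (mul_ne_zero h1 (mul_ne_zero h1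
      (Finset.prod_ne_zero_iff.2 fun l _ => he0 _))) (Finset.prod_ne_zero_iff.2 fun l _ => ?_)))
    rcases eq_or_ne l l₀ with rfl | hl
    · simp [hx, Ne.symm (hodd i₁ κ₁ h1 _).1, (hodd i₁ κ₁ h1 _).1, hg.nz]
    · simp [hx, hl, (hodd i₁ κ₁ h1 l).1, hg.nz]
  · intro i hi
    rw [hM.radG_selfadj j hH]
    by_cases hne : ∃ μ, G i μ (ones n s) ≠ 0
    · obtain ⟨μ, hμ⟩ := hne
      rw [Matrix.smul_apply, (hprod i μ hμ).2, Matrix.smul_apply, pure_apply, smul_eq_mul, smul_eq_mul]
      refine mul_eq_zero_of_right _ (mul_eq_zero_of_right _ (Finset.prod_eq_zero (Finset.mem_univ l₁) ?_))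
      simp [hx, h01, (hodd i μ hμ l₁).1]
    · push Not at hne
      rw [hzeroG i hne, mul_zero, smul_zero, Matrix.zero_apply]
  · intro i hi hi1
    rw [hM.radG_selfadj j hG]
    by_cases hne : ∃ μ, G i μ (ones n s) ≠ 0
    · obtain ⟨μ, hμ⟩ := hne
      have hd : μ l₀ ≠ κ₁ l₀ := fun e => hi1 (hinj i i₁ μ κ₁ l₀ hμ h1 e)
      rw [Matrix.smul_apply, (hprod i μ hμ).1, Matrix.smul_apply, pure_apply, smul_eq_mul, smul_eq_mul]
      refine mul_eq_zero_of_right _ (mul_eq_zero_of_right _ (Finset.prod_eq_zero (Finset.mem_univ l₀) ?_))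
      simp [hx, hd, Ne.symm (hodd i₁ κ₁ h1 l₀).1]
    · push Not at hne
      rw [hzeroG i hne, zero_mul, smul_zero, Matrix.zero_apply]
  · exact fun h => absurd (mem_mids.2 hi₁) h

omit hM in
/-- the support of a tuple -/
noncomputable def suppT (G : TU) : Finset (Ix n × (Fin s → Ix n)) := by
  classical exact Finset.univ.filter fun p => G p.1 p.2 (ones n s) ≠ 0

omit hM in
theorem mem_suppT {G : TU} {p : Ix n × (Fin s → Ix n)} : p ∈ suppT G ↔ G p.1 p.2 (ones n s) ≠ 0 := by
  classical simp [suppT]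

/-- **Theorem.** The first parts in the radical are scalars. -/
theorem Ctx.rad_scalar (j : Fin (s + 1)) {G₀ : TU} (hG₀ : G₀ ∈ radG hg M j) : nrm n s F G₀ = 0 := by
  classical
  by_contra hne
  have hex : ∃ k, ∃ G ∈ radG hg M j, G ≠ 0 ∧ (∀ i, G i (ones n s) (ones n s) = 0) ∧ (∀ i, Fixd g (G i)) ∧
      (suppT G).card = k := by
    obtain ⟨G, h1, h2, h3, h4⟩ := hM.exists_fixT j hG₀ hne
    exact ⟨_, G, h1, h2, h3, h4, rfl⟩
  obtain ⟨G, hG, hG0, h11, hfix, hcard⟩ := Nat.find_spec hex
  have h2 := hM.two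
  have hmid : ∀ {i μ}, G i μ (ones n s) ≠ 0 → Mid i := fun {i μ} h => by
    by_contra hcon
    exact h (by rw [hG.1 i hcon, Matrix.zero_apply])
  obtain ⟨i₀, μ₀, h0⟩ : ∃ i μ, G i μ (ones n s) ≠ 0 := by
    by_contra hcon
    push Not at hcon
    exact hG0 (funext fun i => (hfix i).eq_of_ones hg (fun l q hq => Commute.zero_left _) fun μ => by
      rw [hcon, Pi.zero_apply, Matrix.zero_apply])
  -- signs
  have hsign : ∀ (l : Fin s) (d : Ix n → F) (hd : ∀ y, d y ≠ 0), d 0 = d 1 → (∀ y, d y * d y = 1) →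
      ∀ {i μ i' μ'}, G i μ (ones n s) ≠ 0 → G i' μ' (ones n s) ≠ 0 → d i * d (μ l) = d i' * d (μ' l) := by
    intro l d hd h01 hsq
    have hd01 : d 0 * d 1 = 1 := by rw [h01, hsq]
    have hpair : sl j (moG 1 d hd) * embGL j (sl l (moG 1 d hd)) ∈ M := by
      have := hM.pair_mem (Fin.succAbove_ne j l).symm (moG_one_mem hg hd hd01 fun i _ => hsq i)
      rw [moG_one_inv] at this
      rw [embGL_sl]
      convert this using 4
      funext y
      exact (inv_eq_of_mul_eq_one_right (hsq y)).symm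
    set T : TU := G - fun i => (d i / d 1) • cj (sl l (moG 1 d hd)) (G i) with hT
    have hTm : T ∈ radG hg M j := sub_mem hG (hM.radG_conj j hd hd01 (fun i _ => hsq i) hpair hG)
    have hTe : ∀ i μ, T i μ (ones n s) = (1 - d i * d (μ l)) * G i μ (ones n s) := by
      intro i μ
      rw [hT, Pi.sub_apply, Matrix.sub_apply, Matrix.smul_apply, cj_sl_diag_apply, show ones n s l = 1 from rfl,
        smul_eq_mul]
      have h1 := hd 1
      field_simp
      linear_combination G i μ (ones n s) * (d i * d (μ l)) * (hsq 1)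
    intro i μ i' μ' hμ hμ'
    by_contra hne'
    have hpm : ∀ a b : Ix n, d a * d b = 1 ∨ d a * d b = -1 := fun a b => mul_self_eq_one_iff.1 (by
      linear_combination (d b * d b) * hsq a + hsq b)
    obtain ⟨k, ν, k', ν', hν, hν', h1, h1'⟩ : ∃ k ν k' ν', G k ν (ones n s) ≠ 0 ∧ G k' ν' (ones n s) ≠ 0 ∧
        d k * d (ν l) = 1 ∧ d k' * d (ν' l) ≠ 1 := by
      rcases hpm i (μ l) with e | e
      · exact ⟨i, μ, i', μ', hμ, hμ', e, fun e' => hne' (e.trans e'.symm)⟩
      · refine ⟨i', μ', i, μ, hμ', hμ, ?_, fun e' => h2 (by linear_combination -(e.symm.trans e'))⟩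
        exact (hpm i' (μ' l)).resolve_right fun e' => hne' (e.trans e'.symm)
    refine Nat.find_min hex (m := (suppT T).card) ?_ ⟨T, hTm, ?_, fun a => ?_, fun a => ?_, rfl⟩
    · rw [← hcard]
      refine Finset.card_lt_card ((Finset.ssubset_iff_of_subset fun p hp => ?_).2 ⟨(k, ν), mem_suppT.2 hν, ?_⟩)
      · rw [mem_suppT] at hp ⊢
        exact fun e => hp (by rw [hTe, e, mul_zero])
      · rw [mem_suppT, hTe, h1, sub_self, zero_mul]
        exact fun h => h rfl
    · intro e
      have := hTe k' ν'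
      rw [e, Pi.zero_apply, Matrix.zero_apply] at this
      exact (mul_ne_zero (sub_ne_zero.2 (Ne.symm h1')) hν') this.symm
    · rw [hTe, h11, mul_zero]
    · exact (hfix a).sub (((hfix a).cj_diag hg l hd hd01 fun i _ => hsq i).smul _)
  have hne2 : (-1 : F) ≠ 1 := fun e => h2 (by linear_combination -e)
  have hparity : ∀ {i μ i' μ'}, G i μ (ones n s) ≠ 0 → G i' μ' (ones n s) ≠ 0 → ∀ l, Mid (μ l) → Mid (μ' l) := by
    intro i μ i' μ' hμ hμ' l hl
    have e := hsign l dSig dSig_ne (by simp [dSig]) (fun y => by unfold dSig; split_ifs <;> simp) hμ hμ'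
    by_contra hc
    unfold Mid at hc
    rw [not_and_or, not_not, not_not] at hc
    simp only [dSig, (hmid hμ).1, (hmid hμ).2, (hmid hμ').1, (hmid hμ').2, hl.1, hl.2, if_pos hc, or_self, if_false]
      at e
    exact hne2 (by linear_combination -e)
  have hswap : ∀ {i μ i' μ'}, G i μ (ones n s) ≠ 0 → G i' μ' (ones n s) ≠ 0 → ∀ (l : Fin s) (p : Ix n), Mid p →
      (dRef p i : F) * dRef p (μ l) = dRef p i' * dRef p (μ' l) := fun hμ hμ' l p hp =>
    hsign l (dRef p) (dRef_ne p) (by simp [dRef, hp.1.symm, hp.2.symm])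
      (fun y => by unfold dRef; split_ifs <;> simp) hμ hμ'
  have hsame : ∀ {i μ μ'}, G i μ (ones n s) ≠ 0 → G i μ' (ones n s) ≠ 0 → ∀ l, Mid (μ l) → μ' l = μ l := by
    intro i μ μ' hμ hμ' l hl
    have e := hswap hμ hμ' l (μ l) hl
    by_contra hne'
    have h3 := mul_left_cancel₀ (dRef_ne _ i) e
    simp [dRef, hne'] at h3
    exact hne2 h3
  by_cases heven : ∃ l, ¬ Mid (μ₀ l)
  · obtain ⟨l₀, hl₀⟩ := heven
    have hone : ∀ {i μ}, G i μ (ones n s) ≠ 0 → i = i₀ := by
      intro i μ hμ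
      have hl : ¬ Mid (μ l₀) := fun h => hl₀ (hparity hμ h0 l₀ h)
      have e := hswap hμ h0 l₀ i₀ (hmid h0)
      by_contra hne'
      have e1 : μ l₀ ≠ i₀ := fun h => hl (h ▸ hmid h0)
      have e2 : μ₀ l₀ ≠ i₀ := fun h => hl₀ (h ▸ hmid h0)
      simp [dRef, hne', e1, e2] at e
      exact hne2 e.symm
    have hsupp : (Finset.univ.filter fun μ => G i₀ μ (ones n s) ≠ 0).Nonempty :=
      ⟨μ₀, Finset.mem_filter.2 ⟨Finset.mem_univ _, h0⟩⟩
    obtain ⟨κ, hκ, hκmin⟩ := Finset.exists_min_image _ (fun μ : Fin s → Ix n => (Finset.univ.filter fun l => μ l = 0).card) hsupp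
    have hκ' := (Finset.mem_filter.1 hκ).2
    refine hM.rad_single j hG hfix (hmid h0) (fun i hi => (hfix i).eq_of_ones hg (fun l q hq => Commute.zero_left _)
      fun μ => ?_) (h11 _) hκ' (fun μ hμ l => ⟨⟨hparity hμ hκ' l, hparity hκ' hμ l⟩, hsame hκ' hμ l⟩) fun μ hμ hsub l hl => ?_
    · by_contra hne'
      exact hi (hone (by simpa using hne'))
    · have hle := hκmin μ (Finset.mem_filter.2 ⟨Finset.mem_univ _, hμ⟩)
      have he := Finset.eq_of_subset_of_card_le (fun k hk => Finset.mem_filter.2 ⟨Finset.mem_univ _,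
        hsub k (Finset.mem_filter.1 hk).2⟩) hle
      have : l ∈ Finset.univ.filter fun l => κ l = 0 := Finset.mem_filter.2 ⟨Finset.mem_univ _, hl⟩
      rw [← he] at this
      exact (Finset.mem_filter.1 this).2
  · push Not at heven
    have hodd : ∀ i μ, G i μ (ones n s) ≠ 0 → ∀ l, Mid (μ l) := fun i μ hμ l => hparity h0 hμ l (heven l)
    refine hM.rad_multi ?_ j hG hfix h0 hodd (fun i μ μ' hμ hμ' => funext fun l => (hsame hμ hμ' l (hodd i μ hμ l)).symm)
      (fun i i' μ μ' l hμ hμ' e => ?_)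
    · -- one factor would make the operator skew
      by_contra hs
      have h1 : s = 1 := by have := hM.one; omega
      have e := congrArg (fun X : MU => X μ₀ (ones n s)) (hM.radG_selfadj j hG i₀)
      rw [(hfix i₀).expand hg, adj_comb hg, comb_apply_ones, comb_apply_ones,
        Finset.prod_eq_pow_card (b := (-1 : F)) (fun l _ => by
          rw [sgn, if_neg (not_or.2 (hodd i₀ μ₀ h0 l))]), Finset.card_univ, Fintype.card_fin] at e
      subst h1
      exact h0 ((mul_eq_zero.1 (show (2 : F) * G i₀ μ₀ (ones n 1) = 0 by linear_combination -e)).resolve_left h2)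
    · have h := hswap hμ hμ' l i (hmid hμ)
      by_contra hne'
      rw [e] at h
      have h3 := mul_right_cancel₀ (dRef_ne _ (μ' l)) h
      simp [dRef, Ne.symm hne'] at h3
      exact hne2 h3

end CfsgLib.Perm.Trans.TensorPowerO
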