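import Mathlib
import Cfsg.Agent.Lib.Perm.Trans.TensorPowerO.RadicalPattern

/-!
# Blocks with respect to one factor; the stabiliser of a singular slice
-/

set_option autoImplicit false
set_option linter.all false

namespace CfsgLib.Perm.Trans.TensorPowerO

open scoped Matrix
open Matrix Cfsg.Geo CfsgLib.Perm.Asch CfsgLib.Perm.Trans CfsgLib.Perm.Trans.TensorPower

variable {F : Type*} [Field F] {n s : ℕ} {g : Ix n → F}

local notation "M1" => Matrix (Ix n) (Ix n) F
local notation "MU" => Matrix (Fin s → Ix n) (Fin s → Ix n) F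
local notation "MV" => Matrix (Fin (s + 1) → Ix n) (Fin (s + 1) → Ix n) F
local notation "TU" => Ix n → Matrix (Fin s → Ix n) (Fin s → Ix n) F

instance (i : Ix n) : Decidable (Mid i) := inferInstanceAs (Decidable (_ ∧ _))

/-- the block at a pair of values of the factor `j` -/
def bk (j : Fin (s + 1)) (a b : Ix n) (X : MV) : MU :=
  Matrix.of fun p q => X (j.insertNth (α := fun _ => Ix n) a p) (j.insertNth (α := fun _ => Ix n) b q)

theorem bk_apply (j : Fin (s + 1)) (a b : Ix n) (X : MV) (p q : Fin s → Ix n) :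
    bk j a b X p q = X (j.insertNth (α := fun _ => Ix n) a p) (j.insertNth (α := fun _ => Ix n) b q) := rfl

theorem bk_ext (j : Fin (s + 1)) {X Y : MV} (h : ∀ a b, bk j a b X = bk j a b Y) : X = Y := by
  ext x y
  have e := congrFun (congrFun (h (x j) (y j)) (j.removeNth x)) (j.removeNth y)
  rwa [bk_apply, bk_apply, Fin.insertNth_self_removeNth, Fin.insertNth_self_removeNth] at e

theorem bk_add (j : Fin (s + 1)) (a b : Ix n) (X Y : MV) : bk j a b (X + Y) = bk j a b X + bk j a b Y := rfl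

theorem bk_sub (j : Fin (s + 1)) (a b : Ix n) (X Y : MV) : bk j a b (X - Y) = bk j a b X - bk j a b Y := rfl

theorem bk_smul (j : Fin (s + 1)) (a b : Ix n) (c : F) (X : MV) : bk j a b (c • X) = c • bk j a b X := rfl

theorem bk_sum {κ : Type} (j : Fin (s + 1)) (a b : Ix n) (S : Finset κ) (f : κ → MV) :
    bk j a b (∑ i ∈ S, f i) = ∑ i ∈ S, bk j a b (f i) := by
  ext p q
  simp only [bk_apply, Matrix.sum_apply]

theorem bk_ten (j : Fin (s + 1)) (a b : Ix n) (A : M1) (S : MU) : bk j a b (ten j A S) = A a b • S := by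
  ext p q
  rw [bk_apply, ten_apply, Fin.insertNth_apply_same, Fin.insertNth_apply_same, Matrix.smul_apply, smul_eq_mul]
  simp only [Fin.insertNth_apply_succAbove]

theorem bk_one (j : Fin (s + 1)) (a b : Ix n) : bk j a b (1 : MV) = if a = b then 1 else 0 := by
  rw [← ten_one j, bk_ten, Matrix.one_apply]
  split_ifs <;> simp

theorem bk_emb (j : Fin (s + 1)) (a b : Ix n) (S : MU) : bk j a b (emb j S) = if a = b then S else 0 := by
  rw [← ten_one_left j, bk_ten, Matrix.one_apply]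
  split_ifs <;> simp

theorem bk_slot (j : Fin (s + 1)) (a b : Ix n) (A : M1) : bk j a b (slot j A : MV) = A a b • (1 : MU) := by
  rw [← ten_one_right j, bk_ten]

theorem bk_mul (j : Fin (s + 1)) (a b : Ix n) (X Y : MV) : bk j a b (X * Y) = ∑ c, bk j a c X * bk j c b Y := by
  ext p q
  rw [bk_apply, Matrix.mul_apply, sum_insertNth j, Matrix.sum_apply]
  refine Finset.sum_congr rfl fun c _ => ?_
  rw [Matrix.mul_apply]
  rfl

theorem bk_adj (hg : Dg g) (j : Fin (s + 1)) (a b : Ix n) (X : MV) :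
    bk j a b (adj (gT g (s + 1)) (sT n (s + 1)) X) =
      (g b / g a) • adj (gT g s) (sT n s) (bk j (s1 n b) (s1 n a) X) := by
  have hs : ∀ (c : Ix n) (p : Fin s → Ix n), sT n (s + 1) (j.insertNth (α := fun _ => Ix n) c p) =
      j.insertNth (α := fun _ => Ix n) (s1 n c) (sT n s p) := fun c p => by
    funext k
    rcases Fin.eq_self_or_eq_succAbove j k with rfl | ⟨i, rfl⟩ <;> simp [sT]
  have hgt : ∀ (c : Ix n) (p : Fin s → Ix n), gT g (s + 1) (j.insertNth (α := fun _ => Ix n) c p) =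
      g c * gT g s p := fun c p => by
    rw [gT, gT, Fin.prod_univ_succAbove _ j]
    simp only [Fin.insertNth_apply_same, Fin.insertNth_apply_succAbove]
  ext p q
  rw [bk_apply, adj_apply, hs, hs, hgt, hgt, Matrix.smul_apply, adj_apply, bk_apply, smul_eq_mul, mul_div_mul_comm,
    mul_assoc]

theorem sum_split {V : Type*} [AddCommMonoid V] (f : Ix n → V) : ∑ c, f c = f 0 + (f 1 + ∑ i ∈ mids n, f i) := by
  classical
  have e : (Finset.univ : Finset (Ix n)) = insert 0 (insert 1 (mids n)) := by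
    ext c
    rcases idx_cases c with rfl | rfl | hc <;> simp [*, mem_mids]
  rw [e, Finset.sum_insert, Finset.sum_insert]
  · simp [mem_mids, Mid]
  · simp [mem_mids, Mid]

/-- preserving the slice and its orthogonal space -/
def Stb (j : Fin (s + 1)) (X : MV) : Prop :=
  (∀ a, a ≠ 0 → bk j a 0 X = 0) ∧ ∀ b, b ≠ 1 → bk j 1 b X = 0

theorem Stb.one (j : Fin (s + 1)) : Stb j (1 : MV) :=
  ⟨fun a ha => by rw [bk_one, if_neg ha], fun b hb => by rw [bk_one, if_neg (Ne.symm hb)]⟩

theorem Stb.row1 {j : Fin (s + 1)} {X : MV} (h : Stb j X) (Y : MV) (b : Ix n) :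
    bk j 1 b (X * Y) = bk j 1 1 X * bk j 1 b Y := by
  rw [bk_mul, Finset.sum_eq_single 1]
  · intro c _ hc; rw [h.2 c hc, zero_mul]
  · simp

theorem Stb.mid {j : Fin (s + 1)} {X Y : MV} (hX : Stb j X) (hY : Stb j Y) {i l : Ix n} (hi : Mid i) (hl : Mid l) :
    bk j i l (X * Y) = ∑ c ∈ mids n, bk j i c X * bk j c l Y := by
  rw [bk_mul, sum_split, hX.1 i hi.1, zero_mul, hY.2 l hl.2, mul_zero, zero_add, zero_add]

theorem Stb.col {j : Fin (s + 1)} {X : MV} (hX : Stb j X) (Y : MV) {i : Ix n} (hi : Mid i) :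
    bk j i 1 (X * Y) = bk j i 1 X * bk j 1 1 Y + ∑ c ∈ mids n, bk j i c X * bk j c 1 Y := by
  rw [bk_mul, sum_split, hX.1 i hi.1, zero_mul, zero_add]

theorem Stb.mul {j : Fin (s + 1)} {X Y : MV} (hX : Stb j X) (hY : Stb j Y) : Stb j (X * Y) := by
  constructor
  · intro a ha
    rw [bk_mul, Finset.sum_eq_single 0]
    · rw [hX.1 a ha, zero_mul]
    · intro c _ hc; rw [hY.1 c hc, mul_zero]
    · simp
  · intro b hb
    rw [hX.row1, hY.2 b hb, mul_zero]

theorem Stb.ten_diag (j : Fin (s + 1)) {A : M1} (h0 : ∀ a, a ≠ 0 → A a 0 = 0) (h1 : ∀ b, b ≠ 1 → A 1 b = 0) (S : MU) :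
    Stb j (ten j A S) :=
  ⟨fun a ha => by rw [bk_ten, h0 a ha, zero_smul], fun b hb => by rw [bk_ten, h1 b hb, zero_smul]⟩

/-- diagonal action of the others -/
def Dia (j : Fin (s + 1)) (X : MV) (b : MU) : Prop :=
  Stb j X ∧ bk j 1 1 X = b ∧ ∀ i l, Mid i → Mid l → bk j i l X = if i = l then b else 0

theorem Dia.emb (j : Fin (s + 1)) (S : MU) : Dia j (emb j S : MV) S :=
  ⟨⟨fun a ha => by rw [bk_emb, if_neg ha], fun b hb => by rw [bk_emb, if_neg (Ne.symm hb)]⟩,
    by rw [bk_emb, if_pos rfl], fun i l _ _ => bk_emb j i l S⟩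

theorem Dia.one (j : Fin (s + 1)) : Dia j (1 : MV) (1 : MU) := by rw [← map_one (TensorPower.emb (F := F) j)]; exact Dia.emb j 1

theorem Dia.mul {j : Fin (s + 1)} {X Y : MV} {b c : MU} (hX : Dia j X b) (hY : Dia j Y c) : Dia j (X * Y) (b * c) := by
  refine ⟨hX.1.mul hY.1, by rw [hX.1.row1, hX.2.1, hY.2.1], fun i l hi hl => ?_⟩
  rw [hX.1.mid hY.1 hi hl, Finset.sum_eq_single i]
  · rw [hX.2.2 i i hi hi, if_pos rfl, hY.2.2 i l hi hl, mul_ite, mul_zero]
  · intro k hk hki
    rw [hX.2.2 i k hi (mem_mids.1 hk), if_neg (Ne.symm hki), zero_mul]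
  · exact fun h => absurd (mem_mids.2 hi) h

/-- the column of a product -/
theorem Dia.col {j : Fin (s + 1)} {X : MV} {b : MU} (hX : Dia j X b) (Y : MV) {i : Ix n} (hi : Mid i) :
    bk j i 1 (X * Y) = bk j i 1 X * bk j 1 1 Y + b * bk j i 1 Y := by
  rw [hX.1.col Y hi, Finset.sum_eq_single i]
  · rw [hX.2.2 i i hi hi, if_pos rfl]
  · intro k hk hki
    rw [hX.2.2 i k hi (mem_mids.1 hk), if_neg (Ne.symm hki), zero_mul]
  · exact fun h => absurd (mem_mids.2 hi) h

theorem bk_rsum (j : Fin (s + 1)) (G : TU) (a b : Ix n) : bk j a b (rsum g j G) =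
    ∑ i ∈ mids n, ((if i = a ∧ 1 = b then G i else 0) -
      if 0 = a ∧ i = b then g i • adj (gT g s) (sT n s) (G i) else 0) := by
  rw [rsum, bk_sum]
  refine Finset.sum_congr rfl fun i _ => ?_
  rw [bk_sub, bk_smul, bk_ten, bk_ten, Matrix.single_apply, Matrix.single_apply]
  split_ifs <;> simp

theorem bk_relT (j : Fin (s + 1)) (G : TU) (Z : MU) (a b : Ix n) : bk j a b (relT g j G Z) =
    (if Mid a ∧ b = 1 then G a else 0) - (if a = 0 ∧ Mid b then g b • adj (gT g s) (sT n s) (G b) else 0) +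
      if a = 0 ∧ b = 1 then Z else 0 := by
  classical
  rw [relT, bk_add, bk_rsum, Finset.sum_sub_distrib, bk_ten, aa, Matrix.single_apply]
  congr 1
  · congr 1
    · by_cases h : Mid a ∧ b = 1
      · rw [if_pos h, Finset.sum_eq_single a, if_pos ⟨rfl, h.2.symm⟩]
        · intro i _ hi; rw [if_neg (fun e => hi e.1)]
        · exact fun e => absurd (mem_mids.2 h.1) e
      · rw [if_neg h]
        exact Finset.sum_eq_zero fun i hi => if_neg fun (e : i = a ∧ (1 : Ix n) = b) => h ⟨e.1 ▸ mem_mids.1 hi, e.2.symm⟩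
    · by_cases h : a = 0 ∧ Mid b
      · rw [if_pos h, Finset.sum_eq_single b, if_pos ⟨h.1.symm, rfl⟩]
        · intro i _ hi; rw [if_neg (fun e => hi e.2)]
        · exact fun e => absurd (mem_mids.2 h.2) e
      · rw [if_neg h]
        exact Finset.sum_eq_zero fun i hi => if_neg fun (e : (0 : Ix n) = a ∧ i = b) => h ⟨e.1.symm, e.2 ▸ mem_mids.1 hi⟩
  · simp only [eq_comm (a := (0 : Ix n)), eq_comm (a := (1 : Ix n))]
    split_ifs <;> simp

section Group

variable [Fintype F]

theorem Stb.inv {j : Fin (s + 1)} {a : GL (Fin (s + 1) → Ix n) F} (h : Stb j (a : MV)) :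
    Stb j ((a⁻¹ : GL (Fin (s + 1) → Ix n) F) : MV) := by
  classical
  have hp : ∀ k : ℕ, Stb j ((a ^ k : GL (Fin (s + 1) → Ix n) F) : MV) := fun k => by
    induction k with
    | zero => rw [pow_zero, Units.val_one]; exact Stb.one j
    | succ k ih => rw [pow_succ, Units.val_mul]; exact ih.mul h
  have e : a ^ (orderOf a - 1) = a⁻¹ := by
    refine eq_inv_of_mul_eq_one_left ?_
    rw [← pow_succ, Nat.sub_add_cancel (orderOf_pos a), pow_orderOf_eq_one]
  rw [← e]
  exact hp _

theorem Dia.inv {j : Fin (s + 1)} {a : GL (Fin (s + 1) → Ix n) F} {b : GL (Fin s → Ix n) F}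
    (h : Dia j (a : MV) (b : MU)) :
    Dia j ((a⁻¹ : GL (Fin (s + 1) → Ix n) F) : MV) ((b⁻¹ : GL (Fin s → Ix n) F) : MU) := by
  classical
  have hp : ∀ k : ℕ, Dia j ((a ^ k : GL (Fin (s + 1) → Ix n) F) : MV) ((b ^ k : GL (Fin s → Ix n) F) : MU) := fun k => by
    induction k with
    | zero => rw [pow_zero, pow_zero, Units.val_one, Units.val_one]; exact Dia.one j
    | succ k ih => rw [pow_succ, pow_succ, Units.val_mul, Units.val_mul]; exact ih.mul h
  have hN : 1 ≤ orderOf a * orderOf b := Nat.mul_pos (orderOf_pos a) (orderOf_pos b)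
  have ea : a ^ (orderOf a * orderOf b - 1) = a⁻¹ := by
    refine eq_inv_of_mul_eq_one_left ?_
    rw [← pow_succ, Nat.sub_add_cancel hN, pow_mul, pow_orderOf_eq_one, one_pow]
  have eb : b ^ (orderOf a * orderOf b - 1) = b⁻¹ := by
    refine eq_inv_of_mul_eq_one_left ?_
    rw [← pow_succ, Nat.sub_add_cancel hN, mul_comm, pow_mul, pow_orderOf_eq_one, one_pow]
  rw [← ea, ← eb]
  exact hp _

/-- an isometry acting trivially on the graded pieces is of radical shape -/
theorem shape_relT {hg : Dg g} {j : Fin (s + 1)} {a : GL (Fin (s + 1) → Ix n) F} (ha : a ∈ uT hg (s + 1))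
    (h : Dia j (a : MV) (1 : MU)) : ∃ (G : TU) (Z : MU),
      (∀ i, ¬ Mid i → G i = 0) ∧ (∀ i, Mid i → G i = bk j i 1 (a : MV)) ∧ (a : MV) = 1 + relT g j G Z := by
  classical
  set A := (a : MV) with hA
  let G : TU := fun i => if Mid i then bk j i 1 A else 0
  have hGm : ∀ i, Mid i → G i = bk j i 1 A := fun i hi => if_pos hi
  refine ⟨G, bk j 0 1 A, fun i hi => if_neg hi, hGm, bk_ext j fun x y => ?_⟩
  have h0 : bk j 1 1 (adj (gT g (s + 1)) (sT n (s + 1)) A) = adj (gT g s) (sT n s) (bk j 0 0 A) := by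
    rw [bk_adj hg, s1_one, hg.g1, div_one, one_smul]
  have hadj : adj (gT g (s + 1)) (sT n (s + 1)) A * A = 1 := by rw [hA, adj_of_mem ha, gl_inv_mul]
  have h00 : bk j 0 0 A = 1 := by
    have e := congrArg (bk j 1 1) hadj
    rw [bk_one, if_pos rfl, bk_mul, Finset.sum_eq_single 1] at e
    · rw [h0, h.2.1, mul_one] at e
      rw [← adj_adj (hg.wgT (t := s)) (bk j 0 0 A), e, adj_one hg.wgT]
    · intro c _ hc
      rw [bk_adj hg, s1_one, h.1.1 (s1 n c) (fun e => hc (by rw [← s1_inv c, e, s1_zero])), adj_zero, smul_zero,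
        zero_mul]
    · simp
  have h0i : ∀ i, Mid i → bk j 0 i A = -(g i • adj (gT g s) (sT n s) (bk j i 1 A)) := fun i hi => by
    have e := congrArg (bk j i 1) hadj
    have hz : bk j i 0 (adj (gT g (s + 1)) (sT n (s + 1)) A) = 0 := by
      rw [bk_adj hg, s1_zero, s1_mid hi.1 hi.2, h.1.2 i hi.2, adj_zero, smul_zero]
    rw [bk_one, if_neg hi.2, bk_mul, sum_split, hz, zero_mul, zero_add, h.2.1, mul_one, Finset.sum_eq_single i,
      bk_adj hg, bk_adj hg, s1_one, hg.g1, s1_mid hi.1 hi.2, div_self (hg.nz i), one_smul, h.2.2 i i hi hi,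
      if_pos rfl, adj_one hg.wgT, one_mul] at e
    · rw [add_eq_zero_iff_eq_neg, one_div, inv_smul_eq_iff₀ (hg.nz i), smul_neg] at e
      rw [← adj_adj (hg.wgT (t := s)) (bk j 0 i A), e, adj_neg, adj_smul]
    · intro k hk hki
      have hk' := mem_mids.1 hk
      rw [bk_adj hg, s1_mid hk'.1 hk'.2, s1_mid hi.1 hi.2, h.2.2 k i hk' hi, if_neg hki, adj_zero, smul_zero, zero_mul]
    · exact fun e => absurd (mem_mids.2 hi) e
  rw [bk_add, bk_one, bk_relT]
  rcases idx_cases x with rfl | rfl | hx <;> rcases idx_cases y with rfl | rfl | hy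
  · simp [Mid, h00]
  · simp [Mid]
  · rw [h0i y hy]; simp [hy, hy.1, hy.1.symm, hy.2, hGm y hy, Mid]
  · rw [h.1.1 1 zero_ne_one'.symm]; simp [Mid]
  · rw [h.2.1]; simp [Mid]
  · rw [h.1.2 y hy.2]; simp [hy.2.symm, Mid]
  · rw [h.1.1 x hx.1]; simp [hx.1, Mid]
  · simp [hx, hx.1, hx.2, hGm x hx]
  · rw [h.2.2 x y hx hy]; simp [hx.1, hy.2]

theorem sl_root_coe (hg : Dg g) (h2 : (2 : F) ≠ 0) (j : Fin (s + 1)) {k : Ix n} (hk : Mid k) (c : F) :
    (sl j (eU g h2 hk c) : MV) = 1 + relT g j (rootT k c) (-(c * c * g k / 2) • 1) := by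
  rw [sl_coe, eU_coe, relT, rsum_root hg j hk, ← ten_one_right j, ← ten_one_right j]
  simp only [ten_sub_left, ten_add_left, ten_smul_left, ten_smul_right, ten_one]
  module

variable {hg : Dg g} {M : Subgroup (GL (Fin (s + 1) → Ix n) F)} (hM : Ctx hg M)
include hM

/-- an element of `M` of radical shape lies in one factor -/
theorem Ctx.rad_slot (j : Fin (s + 1)) {a : GL (Fin (s + 1) → Ix n) F} (ha : a ∈ M) {G : TU} {Z : MU}
    (hG0 : ∀ i, ¬ Mid i → G i = 0) (e : (a : MV) = 1 + relT g j G Z) :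
    (∀ i, G i = G i (ones n s) (ones n s) • 1) ∧ ∃ u ∈ u1 hg, a = sl j u := by
  classical
  have hrad : G ∈ radG hg M j := ⟨hG0, Z, a, ha, e⟩
  have hsc : ∀ i, G i = G i (ones n s) (ones n s) • 1 := fun i => by
    have := congrFun (hM.rad_scalar j hrad) i
    rwa [nrm_apply, Pi.zero_apply, sub_eq_zero] at this
  refine ⟨hsc, ?_⟩
  set c : Ix n → F := fun i => G i (ones n s) (ones n s) with hc
  have hroots : ∀ S : Finset (Ix n), (∀ i ∈ S, Mid i) → ∃ (u : GL (Ix n) F) (W : MU), u ∈ u1 hg ∧ sl j u ∈ M ∧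
      (sl j u : MV) = 1 + relT g j (∑ i ∈ S, rootT i (c i)) W := by
    intro S
    induction S using Finset.induction_on with
    | empty =>
      intro _
      exact ⟨1, 0, one_mem _, by rw [sl_one]; exact one_mem _, by
        rw [sl_one, Units.val_one, Finset.sum_empty, relT, rsum_zero, ten_zero_right, add_zero, add_zero]⟩
    | insert i S hi ih =>
      intro hS
      obtain ⟨u, W, hu, huM, hue⟩ := ih fun k hk => hS k (Finset.mem_insert_of_mem hk)
      have hmi := hS i (Finset.mem_insert_self i S)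
      refine ⟨eU g hM.two hmi (c i) * u, -(c i * c i * g i / 2) • 1 + W +
        -cross g (rootT i (c i)) (∑ k ∈ S, rootT k (c k)), mul_mem (eU_mem hg hM.two hmi _) hu,
        by rw [← sl_mul]; exact M.mul_mem (hM.root_mem j hmi _) huM, ?_⟩
      rw [← sl_mul, Units.val_mul, sl_root_coe hg, hue, Finset.sum_insert hi]
      simp only [add_mul, mul_add, one_mul, mul_one, relT_mul]
      simp only [relT, rsum_add, ten_add_right, ten_neg_right]
      abel
  obtain ⟨u, W, hu, huM, hue⟩ := hroots (mids n) fun i hi => mem_mids.1 hi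
  have hGsum : ∑ i ∈ mids n, rootT i (c i) = G := by
    funext i
    rw [Finset.sum_apply]
    by_cases hi : Mid i
    · rw [Finset.sum_eq_single i (fun k _ hk => by rw [rootT, if_neg hk.symm]) (fun h => absurd (mem_mids.2 hi) h),
        rootT_apply_self, hc, ← hsc]
    · rw [hG0 i hi]
      exact Finset.sum_eq_zero fun k hk => by rw [rootT, if_neg fun e : i = k => hi (e ▸ mem_mids.1 hk)]
  rw [hGsum] at hue
  have hmem : Z - W ∈ cen M j := by
    refine mem_cen.2 ⟨a * (sl j u)⁻¹, M.mul_mem ha (M.inv_mem huM), ?_⟩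
    have e1 : (a : MV) = (1 + ten j (aa : M1) (Z - W)) * (sl j u : MV) := by
      rw [e, hue, add_mul, one_mul, mul_add, mul_one]
      rw [relT, relT, mul_add, (aa_mul_rsum j (Z - W) G).1, ten_mul, aa_aa, ten_zero_left, add_zero, add_zero, ten_sub_right]
      abel
    rw [Units.val_mul, e1, mul_assoc, gl_mul_inv, mul_one]
  refine ⟨u, hu, Units.ext ?_⟩
  rw [e, hue, sub_eq_zero.1 (hM.cen_zero j hmem)]

end Group

end CfsgLib.Perm.Trans.TensorPowerO
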