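import Mathlib
import Cfsg.Agent.Lib.Perm.Trans.TensorPowerO.Vec
import Cfsg.Agent.Lib.Perm.Trans.TensorOO.Space
import Cfsg.Agent.Lib.Perm.Trans.TensorPower.Vec

/-!
# An orthogonal frame of one factor and its tensor powers
-/

set_option autoImplicit false
set_option linter.all false

namespace CfsgLib.Perm.Trans.TensorPowerO

open scoped Matrix
open Matrix Cfsg.Geo CfsgLib.Perm.Asch CfsgLib.Perm.Trans CfsgLib.Perm.Trans.TensorPower
open CfsgLib.Perm.Trans.TensorSO CfsgLib.Perm.Trans.TensorOO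

variable {F : Type*} [Field F] {n t : ℕ} {g : Ix n → F}

local notation "M1" => Matrix (Ix n) (Ix n) F
local notation "MT" => Matrix (Fin t → Ix n) (Fin t → Ix n) F
local notation "B1" => bf g (s1 n)

/-! ### reflections in coordinates -/

section General

variable {ι : Type} [Fintype ι] [DecidableEq ι] {g : ι → F} {S : ι → ι} (h : Wg g S)

theorem rfl_coe (d : ι → F) (hd : bf g S d d ≠ 0) :
    (refl (bf_symmetric h) d hd : Matrix ι ι F) = 1 - (2 / bf g S d d) • vecMulVec d (dual g S d) := by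
  refine Matrix.ext_iff_mulVec.2 fun x => ?_
  rw [refl_mulVec, sub_mulVec, one_mulVec, Matrix.smul_mulVec, vecMulVec_mulVec, op_smul_eq_smul, smul_smul,
    bf_comm h x d]
  rfl

theorem rfl_mem (d : ι → F) (hd : bf g S d d ≠ 0) : refl (bf_symmetric h) d hd ∈ uSub h :=
  mem_of_bf (refl_iso (bf_symmetric h) d hd)

end General

/-! ### the frame of one factor -/

/-- the frame -/
def fu (n : ℕ) (F : Type*) [Field F] (x : Ix n) : Ix n → F :=
  if x = 0 then Pi.single 0 1 + Pi.single 1 1 else if x = 1 then Pi.single 0 1 - Pi.single 1 1 else Pi.single x 1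

/-- the norms of the frame -/
def fg (g : Ix n → F) (x : Ix n) : F := if x = 0 then 2 else if x = 1 then -2 else g x

/-- the sign -/
def eps (x y : Ix n) : F := if x = y then -1 else 1

theorem fg_ne (hg : Dg g) (h2 : (2 : F) ≠ 0) (x : Ix n) : fg g x ≠ 0 := by
  unfold fg
  split_ifs <;> first | exact h2 | exact neg_ne_zero.2 h2 | exact hg.nz x

theorem fu_ortho (hg : Dg g) (x y : Ix n) : B1 (fu n F x) (fu n F y) = if x = y then fg g x else 0 := by
  have hs : ∀ a b : Ix n, B1 (Pi.single a 1) (Pi.single b 1) = if b = s1 n a then g a else 0 := fun a b => by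
    rw [bf_single hg.wg, Pi.single_apply, mul_ite, mul_one, mul_zero]
    simp [eq_comm]
  have hm : ∀ i, Mid i → ((0 : Ix n) ≠ i ∧ (1 : Ix n) ≠ i) := fun i hi => ⟨hi.1.symm, hi.2.symm⟩
  have hsub : ∀ u v w : Ix n → F, B1 (u - v) w = B1 u w - B1 v w := fun u v w =>
    Orth.sym_sub_left (bf_symmetric hg.wg) u v w
  have hsub' : ∀ u v w : Ix n → F, B1 u (v - w) = B1 u v - B1 u w := fun u v w =>
    Orth.sym_sub_right (bf_symmetric hg.wg) u v w
  rcases idx_cases x with rfl | rfl | hx <;> rcases idx_cases y with rfl | rfl | hy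
  all_goals simp only [fu, fg, if_true, zero_ne_one', zero_ne_one'.symm, if_false]
  all_goals try simp only [hx.1, hx.2, hx.1.symm, hx.2.symm, if_false]
  all_goals try simp only [hy.1, hy.2, hy.1.symm, hy.2.symm, if_false]
  all_goals simp only [bf_add_left, bf_add_right, hsub, hsub', hs, s1_zero, s1_one, hg.g0, hg.g1]
  all_goals try simp only [s1_mid hx.1 hx.2, hx.1, hx.2, hx.1.symm, hx.2.symm]
  all_goals try simp only [hy.1, hy.2, hy.1.symm, hy.2.symm]
  all_goals try simp only [zero_ne_one', zero_ne_one'.symm, if_true, if_false, eq_comm]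
  all_goals first
    | ring
    | rfl
    | simp

theorem fu_aniso (hg : Dg g) (h2 : (2 : F) ≠ 0) (x : Ix n) : B1 (fu n F x) (fu n F x) ≠ 0 := by
  rw [fu_ortho hg, if_pos rfl]; exact fg_ne hg h2 x

/-- the projection to a frame vector -/
def fE (g : Ix n → F) (x : Ix n) : M1 := (fg g x)⁻¹ • vecMulVec (fu n F x) (dual g (s1 n) (fu n F x))

theorem fE_mulVec (hg : Dg g) (h2 : (2 : F) ≠ 0) (x y : Ix n) :
    fE g x *ᵥ fu n F y = if x = y then fu n F y else 0 := by
  rw [fE, Matrix.smul_mulVec, vecMulVec_mulVec, op_smul_eq_smul, smul_smul,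
    show dual g (s1 n) (fu n F x) ⬝ᵥ fu n F y = B1 (fu n F x) (fu n F y) from rfl, fu_ortho hg]
  split_ifs with h
  · subst h; rw [inv_mul_cancel₀ (fg_ne hg h2 x), one_smul]
  · rw [mul_zero, zero_smul]

theorem ext_fu (h2 : (2 : F) ≠ 0) {X Y : M1} (h : ∀ y, X *ᵥ fu n F y = Y *ᵥ fu n F y) : X = Y := by
  refine Matrix.ext_of_mulVec_single fun i => ?_
  rcases idx_cases i with rfl | rfl | hi
  · have e : (Pi.single 0 1 : Ix n → F) = (2 : F)⁻¹ • (fu n F 0 + fu n F 1) := by
      simp only [fu, if_true, zero_ne_one'.symm, if_false]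
      match_scalars <;> field_simp <;> ring
    rw [e, mulVec_smul, mulVec_smul, mulVec_add, mulVec_add, h, h]
  · have e : (Pi.single 1 1 : Ix n → F) = (2 : F)⁻¹ • (fu n F 0 - fu n F 1) := by
      simp only [fu, if_true, zero_ne_one'.symm, if_false]
      match_scalars <;> field_simp <;> ring
    rw [e, mulVec_smul, mulVec_smul, mulVec_sub, mulVec_sub, h, h]
  · have e : (Pi.single i 1 : Ix n → F) = fu n F i := by simp [fu, hi.1, hi.2]
    rw [e, h]

theorem fE_mul (hg : Dg g) (h2 : (2 : F) ≠ 0) (x y : Ix n) : fE g x * fE g y = if x = y then fE g x else 0 := by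
  refine ext_fu h2 fun z => ?_
  rw [← mulVec_mulVec, fE_mulVec hg h2 y]
  split_ifs with h1 h3 h3
  · subst h1 h3; rfl
  · rw [fE_mulVec hg h2, if_neg (fun e => h3 (e.trans h1.symm)), zero_mulVec]
  · subst h3; rw [mulVec_zero, fE_mulVec hg h2, if_neg h1]
  · rw [mulVec_zero, zero_mulVec]

theorem fE_sum (hg : Dg g) (h2 : (2 : F) ≠ 0) : ∑ x, fE g x = (1 : M1) := by
  classical
  refine ext_fu h2 fun z => ?_
  rw [Matrix.sum_mulVec, one_mulVec, Finset.sum_eq_single z]
  · rw [fE_mulVec hg h2, if_pos rfl]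
  · intro x _ hx; rw [fE_mulVec hg h2, if_neg hx]
  · simp

theorem fE_adj (hg : Dg g) (x : Ix n) : adj g (s1 n) (fE g x) = fE g x := by
  rw [fE, adj_smul, adj_vecMulVec hg.wg]

/-- the reflection at a frame vector -/
noncomputable def fR (hg : Dg g) (h2 : (2 : F) ≠ 0) (x : Ix n) : GL (Ix n) F :=
  refl (bf_symmetric hg.wg) (fu n F x) (fu_aniso hg h2 x)

theorem fR_mem (hg : Dg g) (h2 : (2 : F) ≠ 0) (x : Ix n) : fR hg h2 x ∈ u1 hg := rfl_mem hg.wg _ _

theorem fR_coe (hg : Dg g) (h2 : (2 : F) ≠ 0) (x : Ix n) : (fR hg h2 x : M1) = 1 - (2 : F) • fE g x := by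
  rw [fR, rfl_coe hg.wg, fu_ortho hg, if_pos rfl, fE, smul_smul, div_eq_mul_inv]

theorem fR_inv (hg : Dg g) (h2 : (2 : F) ≠ 0) (x : Ix n) : (fR hg h2 x)⁻¹ = fR hg h2 x :=
  inv_eq_of_mul_eq_one_right (refl_sq (bf_symmetric hg.wg) _ _)

theorem fR_fE (hg : Dg g) (h2 : (2 : F) ≠ 0) (x y : Ix n) :
    (fR hg h2 x : M1) * fE g y = (eps x y : F) • fE g y ∧ fE g y * (fR hg h2 x : M1) = (eps x y : F) • fE g y := by
  rw [fR_coe, sub_mul, mul_sub, one_mul, mul_one, Matrix.smul_mul, Matrix.mul_smul, fE_mul hg h2, fE_mul hg h2, eps]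
  by_cases h : x = y
  · subst h; simp only [if_true]; constructor <;> module
  · rw [if_neg h, if_neg (Ne.symm h), if_neg h, smul_zero, sub_zero, one_smul]; exact ⟨rfl, rfl⟩

/-! ### tensor powers -/

/-- the projection to a tensor of frame vectors -/
def EE (g : Ix n → F) (μ : Fin t → Ix n) : MT := CfsgLib.Perm.Asch.pure fun l => fE g (μ l)

/-- a tensor of frame vectors -/
def fv (n t : ℕ) (F : Type*) [Field F] (μ : Fin t → Ix n) : (Fin t → Ix n) → F :=
  TensorPower.pv fun l => fu n F (μ l)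

theorem dual_pv (v : Fin t → Ix n → F) :
    dual (gT g t) (sT n t) (TensorPower.pv v) = TensorPower.pv fun l => dual g (s1 n) (v l) := by
  funext x
  simp only [dual, TensorPower.pv, gT, sT, ← Finset.prod_mul_distrib]

theorem vmv_pv (a b : Fin t → Ix n → F) :
    vecMulVec (TensorPower.pv a) (TensorPower.pv b) = CfsgLib.Perm.Asch.pure fun l => vecMulVec (a l) (b l) := by
  ext x y
  simp only [vecMulVec_apply, pure_apply, TensorPower.pv, ← Finset.prod_mul_distrib]

theorem bf_fv (hg : Dg g) (μ ν : Fin t → Ix n) :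
    bf (gT g t) (sT n t) (fv n t F μ) (fv n t F ν) = if μ = ν then ∏ l, fg g (μ l) else 0 := by
  classical
  rw [bf, fv, fv, dual_pv, pv_dot]
  split_ifs with h
  · subst h
    exact Finset.prod_congr rfl fun l _ => by
      show B1 (fu n F (μ l)) (fu n F (μ l)) = _
      rw [fu_ortho hg, if_pos rfl]
  · obtain ⟨l, hl⟩ := Function.ne_iff.1 h
    refine Finset.prod_eq_zero (Finset.mem_univ l) ?_
    show B1 (fu n F (μ l)) (fu n F (ν l)) = _
    rw [fu_ortho hg, if_neg hl]

theorem fv_aniso (hg : Dg g) (h2 : (2 : F) ≠ 0) (μ : Fin t → Ix n) :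
    bf (gT g t) (sT n t) (fv n t F μ) (fv n t F μ) ≠ 0 := by
  rw [bf_fv hg, if_pos rfl]
  exact Finset.prod_ne_zero_iff.2 fun l _ => fg_ne hg h2 _

theorem EE_eq (μ : Fin t → Ix n) :
    (EE g μ : MT) = (∏ l, fg g (μ l))⁻¹ • vecMulVec (fv n t F μ) (dual (gT g t) (sT n t) (fv n t F μ)) := by
  rw [fv, dual_pv, vmv_pv, ← Finset.prod_inv_distrib, ← pure_smul]
  rfl

theorem EE_mul (hg : Dg g) (h2 : (2 : F) ≠ 0) (μ ν : Fin t → Ix n) :
    (EE g μ : MT) * EE g ν = if μ = ν then EE g μ else 0 := by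
  classical
  rw [EE, EE, pure_mul]
  split_ifs with h
  · subst h
    congr 1
    funext l
    rw [Pi.mul_apply, fE_mul hg h2, if_pos rfl]
  · obtain ⟨l, hl⟩ := Function.ne_iff.1 h
    ext x y
    rw [pure_apply, Matrix.zero_apply]
    refine Finset.prod_eq_zero (Finset.mem_univ l) ?_
    rw [Pi.mul_apply, fE_mul hg h2, if_neg hl, Matrix.zero_apply]

theorem EE_sum (hg : Dg g) (h2 : (2 : F) ≠ 0) : ∑ μ : Fin t → Ix n, (EE g μ : MT) = 1 := by
  classical
  rw [← pure_one]
  ext x y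
  rw [Matrix.sum_apply, pure_apply]
  simp only [EE, pure_apply]
  rw [← Fintype.prod_sum fun l a => fE g a (x l) (y l)]
  refine Finset.prod_congr rfl fun l _ => ?_
  rw [← Matrix.sum_apply, fE_sum hg h2, Pi.one_apply]

theorem slot_EE (hg : Dg g) (h2 : (2 : F) ≠ 0) (l : Fin t) (x : Ix n) (μ : Fin t → Ix n) :
    (slot l (fR hg h2 x : M1) : MT) * EE g μ = (eps x (μ l) : F) • EE g μ ∧
      (EE g μ : MT) * slot l (fR hg h2 x : M1) = (eps x (μ l) : F) • EE g μ := by
  classical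
  have key : ∀ c : F, CfsgLib.Perm.Asch.pure (Function.update (fun k => fE g (μ k)) l (c • fE g (μ l))) =
      c • (EE g μ : MT) := fun c => by
    ext a b
    rw [Matrix.smul_apply, EE, pure_apply, pure_apply, smul_eq_mul,
      ← Finset.mul_prod_erase Finset.univ _ (Finset.mem_univ l),
      ← Finset.mul_prod_erase Finset.univ (fun k => fE g (μ k) (a k) (b k)) (Finset.mem_univ l),
      Function.update_self, Matrix.smul_apply, smul_eq_mul, mul_assoc]
    congr 2
    exact Finset.prod_congr rfl fun k hk => by rw [Function.update_of_ne (Finset.ne_of_mem_erase hk)]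
  constructor
  · rw [EE, slot_mul_pure, (fR_fE hg h2 x _).1]; exact key _
  · rw [EE, pure_mul_slot, (fR_fE hg h2 x _).2]; exact key _

/-- the reflection at a tensor of frame vectors -/
noncomputable def fT (hg : Dg g) (h2 : (2 : F) ≠ 0) (μ : Fin t → Ix n) : GL (Fin t → Ix n) F :=
  refl (bf_symmetric hg.wgT) (fv n t F μ) (fv_aniso hg h2 μ)

theorem fT_mem (hg : Dg g) (h2 : (2 : F) ≠ 0) (μ : Fin t → Ix n) : fT hg h2 μ ∈ uT hg t := rfl_mem hg.wgT _ _

theorem fT_coe (hg : Dg g) (h2 : (2 : F) ≠ 0) (μ : Fin t → Ix n) :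
    (fT hg h2 μ : MT) = 1 - (2 : F) • EE g μ := by
  rw [fT, rfl_coe hg.wgT, bf_fv hg, if_pos rfl, EE_eq, smul_smul, div_eq_mul_inv]

theorem fT_inv (hg : Dg g) (h2 : (2 : F) ≠ 0) (μ : Fin t → Ix n) : (fT hg h2 μ)⁻¹ = fT hg h2 μ :=
  inv_eq_of_mul_eq_one_right (refl_sq (bf_symmetric hg.wgT) _ _)

end CfsgLib.Perm.Trans.TensorPowerO
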