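import Mathlib
import Cfsg.Agent.Lib.Perm.Trans.TensorPowerO.Frame
import Cfsg.Agent.Lib.Perm.Trans.TensorPowerO.Base

/-!
# An involution outside the wreath subgroup with a large centraliser inside it
-/

set_option autoImplicit false
set_option linter.all false

namespace CfsgLib.Perm.Trans.TensorPowerO

open scoped Matrix
open Matrix Cfsg.Geo CfsgLib.Perm.Asch CfsgLib.Perm.Trans CfsgLib.Perm.Trans.TensorPower
open CfsgLib.Perm.Trans.TensorSO CfsgLib.Perm.Trans.TensorOO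

variable {F : Type*} [Field F] {n t : ℕ} {g : Ix n → F}

local notation "M1" => Matrix (Ix n) (Ix n) F
local notation "MT" => Matrix (Fin t → Ix n) (Fin t → Ix n) F
local notation "BT" => bf (gT g t) (sT n t)

/-- an isometry in two factors lies in `Ω` -/
theorem pair_Om {hg : Dg g} {l j : Fin t} (hlj : l ≠ j) {a : GL (Ix n) F} (ha : a ∈ u1 hg) :
    sl l a * sl j a⁻¹ ∈ Om hg t := by
  have h := comm_mem (hg := hg) (t := t) (permGL_mem_uT (Equiv.swap j l)) (sl_mem_uT j ha)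
  rw [sl_inv, show sl l a = permGL (Equiv.swap j l) * sl j a * (permGL (Equiv.swap j l))⁻¹ from Units.ext (by
    rw [← cj_coe, sl_coe, sl_coe, cj_permGL_slot, Equiv.swap_apply_left])]
  exact h

/-- two matrices agreeing on the frame are equal -/
theorem ext_EE (hg : Dg g) (h2 : (2 : F) ≠ 0) {X Y : MT} (h : ∀ κ, X * EE g κ = Y * EE g κ) : X = Y := by
  rw [← mul_one X, ← mul_one Y, ← EE_sum hg h2, Finset.mul_sum, Finset.mul_sum]
  exact Finset.sum_congr rfl fun κ _ => h κ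

theorem cj_EE {a : GL (Fin t → Ix n) F} {μ ν : Fin t → Ix n} {p q : F}
    (hl : (EE g μ : MT) * (a : MT) = p • EE g μ)
    (hr : ((a⁻¹ : GL (Fin t → Ix n) F) : MT) * EE g ν = q • EE g ν) (X : MT) :
    (EE g μ : MT) * cj a X * EE g ν = (p * q) • (EE g μ * X * EE g ν) := by
  rw [cj, ← mul_assoc, ← mul_assoc, hl, mul_assoc _ _ (EE g ν), hr, Matrix.smul_mul, Matrix.mul_smul,
    Matrix.smul_mul, smul_smul, mul_comm]

/-! ### the involution -/

/-- the first tensor -/
def xs (n t : ℕ) : Fin t → Ix n := fun l => if (l : ℕ) = 0 then 0 else if (l : ℕ) = 1 then 1 else 2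

/-- the second tensor -/
def ys (n t : ℕ) : Fin t → Ix n := fun l => if (l : ℕ) = 0 then 1 else if (l : ℕ) = 1 then 0 else 2

/-- the eigenvalues of the involution -/
def beta (κ : Fin t → Ix n) : F := if κ = xs n t ∨ κ = ys n t then -1 else 1

theorem xs_ne_ys (ht : 2 ≤ t) : xs n t ≠ ys n t := fun e => zero_ne_one' (n := n) (by
  have := congrFun e ⟨0, by omega⟩
  simpa [xs, ys] using this)

theorem ys_eq (ht : 2 ≤ t) :
    ys n t = xs n t ∘ (Equiv.swap (⟨0, by omega⟩ : Fin t) ⟨1, by omega⟩).symm := by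
  funext l
  rw [Function.comp_apply, Equiv.symm_swap]
  rcases eq_or_ne l ⟨0, by omega⟩ with rfl | h0
  · rw [Equiv.swap_apply_left]; simp [xs, ys]
  rcases eq_or_ne l ⟨1, by omega⟩ with rfl | h1
  · rw [Equiv.swap_apply_right]; simp [xs, ys]
  rw [Equiv.swap_apply_of_ne_of_ne h0 h1]
  have a0 : (l : ℕ) ≠ 0 := fun e => h0 (Fin.ext e)
  have a1 : (l : ℕ) ≠ 1 := fun e => h1 (Fin.ext e)
  simp [xs, ys, a0, a1]

/-- the involution -/
noncomputable def binv (hg : Dg g) (h2 : (2 : F) ≠ 0) (t : ℕ) : GL (Fin t → Ix n) F :=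
  fT hg h2 (xs n t) * fT hg h2 (ys n t)

theorem binv_EE (hg : Dg g) (h2 : (2 : F) ≠ 0) (ht : 2 ≤ t) (κ : Fin t → Ix n) :
    (binv hg h2 t : MT) * EE g κ = (beta κ : F) • EE g κ ∧ (EE g κ : MT) * (binv hg h2 t : MT) = (beta κ : F) • EE g κ := by
  have e : (binv hg h2 t : MT) = 1 - (2 : F) • EE g (xs n t) - (2 : F) • EE g (ys n t) := by
    rw [binv, Units.val_mul, fT_coe, fT_coe, sub_mul, one_mul, Matrix.smul_mul, mul_sub, mul_one, Matrix.mul_smul,
      EE_mul hg h2, if_neg (xs_ne_ys ht), smul_zero, sub_zero]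
    abel
  have hne := xs_ne_ys (n := n) ht
  rw [e, sub_mul, sub_mul, mul_sub, mul_sub, one_mul, mul_one, Matrix.smul_mul, Matrix.smul_mul, Matrix.mul_smul,
    Matrix.mul_smul, EE_mul hg h2, EE_mul hg h2, EE_mul hg h2, EE_mul hg h2, beta]
  by_cases h1 : κ = xs n t
  · subst h1
    simp only [if_true, hne, hne.symm, if_false, smul_zero, sub_zero, true_or]
    constructor <;> module
  by_cases h3 : κ = ys n t
  · subst h3
    simp only [if_true, hne, hne.symm, if_false, smul_zero, sub_zero, or_true]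
    constructor <;> module
  simp only [h1, h3, Ne.symm h1, Ne.symm h3, if_false, smul_zero, sub_zero, or_self, one_smul, and_self]

theorem beta_sq (κ : Fin t → Ix n) : (beta κ : F) * beta κ = 1 := by unfold beta; split_ifs <;> ring

theorem binv_sq (hg : Dg g) (h2 : (2 : F) ≠ 0) (ht : 2 ≤ t) : binv hg h2 t * binv hg h2 t = 1 :=
  Units.ext (ext_EE hg h2 fun κ => by
    rw [Units.val_mul, mul_assoc, (binv_EE hg h2 ht κ).1, Matrix.mul_smul, (binv_EE hg h2 ht κ).1, smul_smul,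
      beta_sq, one_smul, Units.val_one, one_mul])

theorem binv_mem_Om (hg : Dg g) (h2 : (2 : F) ≠ 0) (ht : 2 ≤ t) : binv hg h2 t ∈ Om hg t := by
  set σ := Equiv.swap (⟨0, by omega⟩ : Fin t) ⟨1, by omega⟩
  have h := comm_mem (hg := hg) (fT_mem hg h2 (xs n t)) (permGL_mem_uT σ)
  have e : fT hg h2 (ys n t) = permGL σ * (fT hg h2 (xs n t))⁻¹ * (permGL σ)⁻¹ := Units.ext (by
    rw [fT_inv, ← cj_coe, fT_coe, fT_coe, cj_sub, cj_one, cj_smul, EE, EE, cj_permGL_pure, ys_eq ht]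
    rfl)
  rw [binv, e]
  convert h using 1
  simp only [mul_assoc]

/-- **Theorem.** The involution is not in the wreath subgroup. -/
theorem binv_not_tw (hg : Dg g) (h2 : (2 : F) ≠ 0) (ht : 2 ≤ t) :
    binv hg h2 t ∉ tensorWreathStandard (n + 3) t F := by
  classical
  intro hb
  obtain ⟨σ, A, hA⟩ := tw_shape hb
  set l0 : Fin t := ⟨0, by omega⟩
  set l1 : Fin t := ⟨1, by omega⟩
  have h01 : l1 ≠ l0 := fun e => absurd (congrArg Fin.val e) (by simp [l0, l1])
  let v : Fin t → Ix n → F := fun l => if l = l0 then fu n F 0 + fu n F 2 else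
    if l = l1 then fu n F 1 + fu n F 0 else fu n F 2
  set w : Fin t → Ix n → F := fun l => (A (σ.symm l) : M1) *ᵥ v (σ.symm l) with hw
  have hbmem := Om_le (binv_mem_Om hg h2 ht)
  have hbin : ∀ κ : Fin t → Ix n, (binv hg h2 t : MT) *ᵥ fv n t F κ = (beta κ : F) • fv n t F κ := fun κ => by
    have e : (EE g κ : MT) *ᵥ fv n t F κ = fv n t F κ := by
      rw [EE, fv, pure_pv]
      congr 1
      funext l
      rw [fE_mulVec hg h2, if_pos rfl]
    conv_lhs => rw [← e]
    rw [mulVec_mulVec, (binv_EE hg h2 ht κ).1, Matrix.smul_mulVec, e]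
  have hval : ∀ κ : Fin t → Ix n, (∏ l, bf g (s1 n) (fu n F (κ l)) (w l)) =
      (beta κ : F) * ∏ l, bf g (s1 n) (fu n F (κ l)) (v l) := fun κ => by
    have e1 : (binv hg h2 t : MT) *ᵥ TensorPower.pv v = TensorPower.pv w := by rw [hA, wreath_pv, hw]
    have e2 : ∀ z : Fin t → Ix n → F, BT (fv n t F κ) (TensorPower.pv z) = ∏ l, bf g (s1 n) (fu n F (κ l)) (z l) :=
      fun z => by rw [bf, fv, dual_pv, pv_dot]; rfl
    rw [← e2, ← e2, ← e1, ← bf_smul_left, ← hbin]
    conv_rhs => rw [← bf_of_mem hbmem, mulVec_mulVec, ← Units.val_mul, binv_sq hg h2 ht, Units.val_one, one_mulVec]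
  let mk : Ix n → Ix n → Fin t → Ix n := fun p q l => if l = l0 then p else if l = l1 then q else 2
  have hex : ∀ z : Fin t → Ix n → F,
      (∏ l, bf g (s1 n) (fu n F (mk 0 1 l)) (z l)) * (∏ l, bf g (s1 n) (fu n F (mk 2 0 l)) (z l)) =
      (∏ l, bf g (s1 n) (fu n F (mk 0 0 l)) (z l)) * ∏ l, bf g (s1 n) (fu n F (mk 2 1 l)) (z l) := fun z => by
    rw [← Finset.prod_mul_distrib, ← Finset.prod_mul_distrib]
    refine Finset.prod_congr rfl fun l _ => ?_
    simp only [mk]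
    split_ifs <;> ring
  have hm0 : ∀ p q, mk p q l0 = p := fun p q => if_pos rfl
  have hm1 : ∀ p q, mk p q l1 = q := fun p q => by simp [mk, h01]
  have hx : mk 0 1 = xs n t := by
    funext l
    simp only [mk, xs, Fin.ext_iff, l0, l1]
  have hneg : (beta (mk 0 1) : F) = -1 := by rw [beta, if_pos (Or.inl hx)]
  have hne : ∀ p q, (p, q) = ((2 : Ix n), (0 : Ix n)) ∨ (p, q) = (0, 0) ∨ (p, q) = (2, 1) →
      (beta (mk p q) : F) = 1 := by
    intro p q h
    rw [beta, if_neg]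
    rintro (e | e) <;>
    · have a0 := congrFun e l0
      have a1 := congrFun e l1
      rw [hm0] at a0
      rw [hm1] at a1
      rcases h with h | h | h <;> obtain ⟨rfl, rfl⟩ := Prod.mk.inj h <;>
        simp [xs, ys, l0, l1, Mid.two.1, Mid.two.2, zero_ne_one'] at a0 a1
  have hA0 : (∏ l, bf g (s1 n) (fu n F (mk 0 1 l)) (v l)) ≠ 0 := by
    refine Finset.prod_ne_zero_iff.2 fun l _ => ?_
    simp only [mk, v]
    split_ifs
    · rw [bf_add_right, fu_ortho hg, fu_ortho hg, if_pos rfl, if_neg Mid.two.1.symm, add_zero]; exact fg_ne hg h2 0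
    · rw [bf_add_right, fu_ortho hg, fu_ortho hg, if_pos rfl, if_neg zero_ne_one'.symm, add_zero]; exact fg_ne hg h2 1
    · exact fu_aniso hg h2 2
  have hB0 : (∏ l, bf g (s1 n) (fu n F (mk 2 0 l)) (v l)) ≠ 0 := by
    refine Finset.prod_ne_zero_iff.2 fun l _ => ?_
    simp only [mk, v]
    split_ifs
    · rw [bf_add_right, fu_ortho hg, fu_ortho hg, if_pos rfl, if_neg Mid.two.1, zero_add]; exact fg_ne hg h2 2
    · rw [bf_add_right, fu_ortho hg, fu_ortho hg, if_pos rfl, if_neg zero_ne_one', zero_add]; exact fg_ne hg h2 0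
    · exact fu_aniso hg h2 2
  have h := hex w
  rw [hval, hval, hval, hval, hneg, hne 2 0 (Or.inl rfl), hne 0 0 (Or.inr (Or.inl rfl)), hne 2 1 (Or.inr (Or.inr rfl)),
    one_mul, one_mul, one_mul, ← hex v] at h
  exact mul_ne_zero h2 (mul_ne_zero hA0 hB0) (by linear_combination -h)

/-! ### its centraliser separates the frame -/

/-- a diagonal element of the wreath subgroup -/
noncomputable def hh (hg : Dg g) (h2 : (2 : F) ≠ 0) (x : Ix n) (l l' : Fin t) : GL (Fin t → Ix n) F :=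
  sl l (fR hg h2 x) * sl l' (fR hg h2 x)

theorem hh_mem (hg : Dg g) (h2 : (2 : F) ≠ 0) (x : Ix n) {l l' : Fin t} (h : l ≠ l') :
    hh hg h2 x l l' ∈ tensorWreathStandard (n + 3) t F ⊓ Om hg t :=
  ⟨mul_mem (sl_mem_tw _ _) (sl_mem_tw _ _), by
    have := pair_Om (hg := hg) h (fR_mem hg h2 x)
    rwa [fR_inv] at this⟩

theorem hh_EE (hg : Dg g) (h2 : (2 : F) ≠ 0) (x : Ix n) (l l' : Fin t) (κ : Fin t → Ix n) :
    (hh hg h2 x l l' : MT) * EE g κ = (eps x (κ l) * eps x (κ l') : F) • EE g κ ∧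
      (EE g κ : MT) * (hh hg h2 x l l' : MT) = (eps x (κ l) * eps x (κ l') : F) • EE g κ := by
  rw [hh, Units.val_mul, sl_coe, sl_coe]
  constructor
  · rw [mul_assoc, (slot_EE hg h2 l' x κ).1, Matrix.mul_smul, (slot_EE hg h2 l x κ).1, smul_smul, mul_comm]
  · rw [← mul_assoc, (slot_EE hg h2 l x κ).2, Matrix.smul_mul, (slot_EE hg h2 l' x κ).2, smul_smul]

theorem eps_sq (x y : Ix n) : (eps x y : F) * eps x y = 1 := by unfold eps; split_ifs <;> ring

theorem hh_inv (hg : Dg g) (h2 : (2 : F) ≠ 0) (x : Ix n) (l l' : Fin t) :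
    (hh hg h2 x l l')⁻¹ = hh hg h2 x l l' :=
  inv_eq_of_mul_eq_one_right (Units.ext (ext_EE hg h2 fun κ => by
    rw [Units.val_mul, mul_assoc, (hh_EE hg h2 x l l' κ).1, Matrix.mul_smul, (hh_EE hg h2 x l l' κ).1, smul_smul,
      mul_mul_mul_comm, eps_sq, eps_sq, one_mul, one_smul, Units.val_one, one_mul]))

theorem hh_comm (hg : Dg g) (h2 : (2 : F) ≠ 0) (ht : 2 ≤ t) (x : Ix n) (l l' : Fin t) :
    binv hg h2 t * hh hg h2 x l l' = hh hg h2 x l l' * binv hg h2 t :=
  Units.ext (ext_EE hg h2 fun κ => by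
    rw [Units.val_mul, Units.val_mul, mul_assoc, mul_assoc, (hh_EE hg h2 x l l' κ).1, (binv_EE hg h2 ht κ).1,
      Matrix.mul_smul, Matrix.mul_smul, (hh_EE hg h2 x l l' κ).1, (binv_EE hg h2 ht κ).1, smul_smul, smul_smul,
      mul_comm])

/-- the eigenspaces of the involution are separated -/
theorem separated (h2 : (2 : F) ≠ 0) (ht : 2 ≤ t) {μ ν : Fin t → Ix n} (hμ : μ = xs n t ∨ μ = ys n t)
    (hν : ν ≠ xs n t) (hν' : ν ≠ ys n t) : ∃ (x : Ix n) (l l' : Fin t), l ≠ l' ∧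
      (eps x (μ l) * eps x (μ l') : F) * (eps x (ν l) * eps x (ν l')) = -1 := by
  classical
  by_contra hcon
  push Not at hcon
  set l0 : Fin t := ⟨0, by omega⟩
  set l1 : Fin t := ⟨1, by omega⟩
  have hl : l0 ≠ l1 := fun e => absurd (congrArg Fin.val e) (by simp [l0, l1])
  have key : ∀ (x : Ix n) (l l' : Fin t), l ≠ l' → ((x = μ l ∧ x ≠ ν l) ∨ (x ≠ μ l ∧ x = ν l)) →
      ((x = μ l' ∧ x ≠ ν l') ∨ (x ≠ μ l' ∧ x = ν l')) := by
    intro x l l' hll h
    by_contra h'
    refine hcon x l l' hll ?_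
    rw [not_or, not_and, not_and, not_not] at h'
    rcases h with ⟨a, b⟩ | ⟨a, b⟩ <;> by_cases c : x = μ l' <;>
      simp_all [eps]
  have hne : ∀ l, μ l ≠ ν l := by
    obtain ⟨l, hl'⟩ := Function.ne_iff.1 (show μ ≠ ν from fun e => by rcases hμ with h | h <;> rw [e] at h <;> contradiction)
    intro k e
    rcases eq_or_ne l k with rfl | hlk
    · exact hl' e
    rcases key (μ l) l k hlk (Or.inl ⟨rfl, hl'⟩) with ⟨a, b⟩ | ⟨a, b⟩
    · exact b (a.trans e)
    · exact a (b.trans e.symm)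
  have hpair : ∀ l k, l ≠ k → (μ l = μ k ∨ μ l = ν k) ∧ (ν l = μ k ∨ ν l = ν k) := fun l k hlk => by
    refine ⟨?_, ?_⟩
    · rcases key (μ l) l k hlk (Or.inl ⟨rfl, hne l⟩) with ⟨a, -⟩ | ⟨-, b⟩
      exacts [Or.inl a, Or.inr b]
    · rcases key (ν l) l k hlk (Or.inr ⟨(hne l).symm, rfl⟩) with ⟨a, -⟩ | ⟨-, b⟩
      exacts [Or.inl a, Or.inr b]
  have hm01 : μ l0 ≠ μ l1 := by rcases hμ with rfl | rfl <;> simp [xs, ys, l0, l1, zero_ne_one']
  have e0 : μ l0 = ν l1 := (hpair l0 l1 hl).1.resolve_left hm01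
  have e1 : μ l1 = ν l0 := (hpair l1 l0 hl.symm).1.resolve_left hm01.symm
  have hother : ∀ k, k ≠ l0 → k ≠ l1 → False := by
    intro k h0 h1
    have a0 : (k : ℕ) ≠ 0 := fun e => h0 (Fin.ext e)
    have a1 : (k : ℕ) ≠ 1 := fun e => h1 (Fin.ext e)
    have hk : μ k = 2 := by rcases hμ with rfl | rfl <;> simp [xs, ys, a0, a1]
    have h01 : (μ l0 = 0 ∨ μ l0 = 1) ∧ (μ l1 = 0 ∨ μ l1 = 1) := by
      rcases hμ with rfl | rfl <;> simp [xs, ys, l0, l1]
    have f0 : μ l0 = ν k := (hpair l0 k (Ne.symm h0)).1.resolve_left fun e => by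
      rcases h01.1 with h | h <;> rw [h, hk] at e
      exacts [Mid.two.1 e.symm, Mid.two.2 e.symm]
    have f1 : μ l1 = ν k := (hpair l1 k (Ne.symm h1)).1.resolve_left fun e => by
      rcases h01.2 with h | h <;> rw [h, hk] at e
      exacts [Mid.two.1 e.symm, Mid.two.2 e.symm]
    exact hm01 (f0.trans f1.symm)
  have hcases : ∀ l, l = l0 ∨ l = l1 := fun l => by
    by_contra h
    push Not at h
    exact hother l h.1 h.2
  rcases hμ with rfl | rfl
  · refine hν' (funext fun l => ?_)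
    rcases hcases l with rfl | rfl
    · rw [← e1]; simp [xs, ys, l0, l1]
    · rw [← e0]; simp [xs, ys, l0, l1]
  · refine hν (funext fun l => ?_)
    rcases hcases l with rfl | rfl
    · rw [← e1]; simp [xs, ys, l0, l1]
    · rw [← e0]; simp [xs, ys, l0, l1]

/-- an operator fixed by the centraliser and negated by the involution, modulo scalars, is scalar -/
theorem anti_scalar (hg : Dg g) (h2 : (2 : F) ≠ 0) (ht : 2 ≤ t) {X : MT} {c : F}
    (hX : ∀ (x : Ix n) (l l' : Fin t), l ≠ l' → ∃ d : F, cj (hh hg h2 x l l') X = X + d • 1)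
    (hb : cj (binv hg h2 t) X + X = c • 1) : X = (c / 2) • 1 := by
  classical
  have hbi : (binv hg h2 t)⁻¹ = binv hg h2 t := inv_eq_of_mul_eq_one_right (binv_sq hg h2 ht)
  have key : ∀ μ ν, (EE g μ : MT) * X * EE g ν = (c / 2) • (EE g μ * EE g ν) := by
    intro μ ν
    have h0 := cj_EE (a := binv hg h2 t) (binv_EE hg h2 ht μ).2 (by rw [hbi]; exact (binv_EE hg h2 ht ν).1) X
    have h1 := congrArg (fun Z => (EE g μ : MT) * Z * EE g ν) hb
    simp only [mul_add, add_mul, h0, Matrix.mul_smul, Matrix.smul_mul, mul_one] at h1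
    by_cases hs : (beta μ : F) * beta ν = 1
    · rw [hs, one_smul] at h1
      have e := congrArg ((2 : F)⁻¹ • ·) h1
      simp only [smul_add, smul_smul, ← add_smul] at e
      rw [← one_smul F ((EE g μ : MT) * X * EE g ν)]
      convert e using 1
      · congr 1; field_simp; norm_num
      · rw [div_eq_inv_mul]
    have hμν : μ ≠ ν := fun e => hs (by rw [e, beta_sq])
    rw [EE_mul hg h2, if_neg hμν, smul_zero]
    obtain ⟨x, l, l', hll, hε⟩ : ∃ (x : Ix n) (l l' : Fin t), l ≠ l' ∧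
        (eps x (μ l) * eps x (μ l') : F) * (eps x (ν l) * eps x (ν l')) = -1 := by
      by_cases hm : μ = xs n t ∨ μ = ys n t
      · have hv : ¬ (ν = xs n t ∨ ν = ys n t) := fun hv => hs (by simp [beta, hm, hv])
        rw [not_or] at hv
        exact separated h2 ht hm hv.1 hv.2
      · have hv : ν = xs n t ∨ ν = ys n t := by
          by_contra hv
          exact hs (by simp [beta, hm, hv])
        rw [not_or] at hm
        obtain ⟨x, l, l', hll, hε⟩ := separated (F := F) h2 ht hv hm.1 hm.2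
        exact ⟨x, l, l', hll, by rw [mul_comm, hε]⟩
    obtain ⟨d, hd⟩ := hX x l l' hll
    have h3 := cj_EE (a := hh hg h2 x l l') (hh_EE hg h2 x l l' μ).2
      (by rw [hh_inv]; exact (hh_EE hg h2 x l l' ν).1) X
    rw [hd, mul_add, add_mul, Matrix.mul_smul, Matrix.smul_mul, mul_one, EE_mul hg h2, if_neg hμν, smul_zero, add_zero,
      hε, neg_one_smul, eq_neg_iff_add_eq_zero, ← two_smul F] at h3
    exact (smul_eq_zero.1 h3).resolve_left h2
  calc X = (∑ μ, (EE g μ : MT)) * X * ∑ ν, EE g ν := by rw [EE_sum hg h2, one_mul, mul_one]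
    _ = ∑ μ, ∑ ν, (EE g μ : MT) * X * EE g ν := by rw [Finset.sum_mul, Finset.sum_mul]; simp only [Finset.mul_sum]
    _ = (c / 2) • ((∑ μ, (EE g μ : MT)) * ∑ ν, EE g ν) := by
      rw [Finset.sum_mul, Finset.smul_sum]
      simp only [Finset.mul_sum, Finset.smul_sum, key]
    _ = _ := by rw [EE_sum hg h2, one_mul]

end CfsgLib.Perm.Trans.TensorPowerO
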