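import Mathlib
import Cfsg.Agent.Lib.Perm.Trans.TensorPowerO.Blocks
import Cfsg.Agent.Lib.Perm.Trans.TensorPowerO.Involution

/-!
# The stabiliser of a slice in a proper overgroup does not induce `Ω` on the slice
-/

set_option autoImplicit false
set_option linter.all false

namespace CfsgLib.Perm.Trans.TensorPowerO

open scoped Matrix
open Matrix Cfsg.Geo CfsgLib.Perm.Asch CfsgLib.Perm.Trans CfsgLib.Perm.Trans.TensorPower

variable {F : Type*} [Field F] {n s : ℕ} {g : Ix n → F}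

local notation "M1" => Matrix (Ix n) (Ix n) F
local notation "MU" => Matrix (Fin s → Ix n) (Fin s → Ix n) F
local notation "MV" => Matrix (Fin (s + 1) → Ix n) (Fin (s + 1) → Ix n) F

theorem Dia.radical (j : Fin (s + 1)) (G : Ix n → MU) (Z : MU) :
    Dia j (1 + relT g j G Z) (1 : MU) ∧ ∀ i, Mid i → bk j i 1 (1 + relT g j G Z) = G i := by
  refine ⟨⟨⟨fun a ha => ?_, fun b hb => ?_⟩, ?_, fun i l hi hl => ?_⟩, fun i hi => ?_⟩ <;>
    rw [bk_add, bk_one, bk_relT]
  · simp [ha, Mid]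
  · simp [Mid, hb.symm]
  · simp [Mid]
  · simp [hi.1, hl.2]
  · simp [hi, hi.1, hi.2]

variable [Fintype F] {hg : Dg g} {M : Subgroup (GL (Fin (s + 1) → Ix n) F)} (hM : Ctx hg M)
include hM

/-- elements of `M` trivial on the graded pieces lie in one factor -/
theorem Ctx.dia_slot (j : Fin (s + 1)) {a : GL (Fin (s + 1) → Ix n) F} (ha : a ∈ M) (h : Dia j (a : MV) (1 : MU)) :
    (∀ i, Mid i → ∃ c : F, bk j i 1 (a : MV) = c • 1) ∧ ∃ u ∈ u1 hg, a = sl j u := by
  obtain ⟨G, Z, hG0, hG, e⟩ := shape_relT (hM.le_uT ha) h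
  obtain ⟨hs, hu⟩ := hM.rad_slot j ha hG0 e
  exact ⟨fun i hi => ⟨_, (hG i hi).symm.trans (hs i)⟩, hu⟩

/-- roots of the slot with a given column -/
theorem Ctx.exists_rootcol (j : Fin (s + 1)) (c : Ix n → F) : ∀ S : Finset (Ix n), (∀ i ∈ S, Mid i) →
    ∃ a ∈ M, Dia j (a : MV) (1 : MU) ∧ (∀ b : GL (Fin s → Ix n) F, a * embGL j b = embGL j b * a) ∧
      ∀ i, Mid i → bk j i 1 (a : MV) = (if i ∈ S then c i else 0) • 1 := by
  intro S
  induction S using Finset.induction_on with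
  | empty =>
    exact fun _ => ⟨1, one_mem _, by rw [Units.val_one]; exact Dia.one j, fun b => by rw [one_mul, mul_one],
      fun i hi => by rw [Units.val_one, bk_one, if_neg hi.2]; simp⟩
  | insert k S hk ih =>
    intro hS
    obtain ⟨a, ha, hd, hcomm, hcol⟩ := ih fun i hi => hS i (Finset.mem_insert_of_mem hi)
    have hmk := hS k (Finset.mem_insert_self k S)
    have hr := Dia.radical (g := g) j (rootT k (c k)) (-(c k * c k * g k / 2) • (1 : MU))
    rw [← sl_root_coe hg hM.two j hmk (c k)] at hr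
    refine ⟨sl j (eU g hM.two hmk (c k)) * a, M.mul_mem (hM.root_mem j hmk _) ha, ?_, fun b => ?_, fun i hi => ?_⟩
    · rw [Units.val_mul, ← one_mul (1 : MU)]; exact hr.1.mul hd
    · rw [mul_assoc, hcomm, ← mul_assoc, ← mul_assoc, embGL_comm]
    · rw [Units.val_mul, hr.1.col _ hi, hr.2 i hi, hd.2.1, mul_one, one_mul, hcol i hi, rootT]
      rcases eq_or_ne i k with rfl | hik
      · simp [hk]
      · simp [hik]

/-- **Theorem.** No proper overgroup induces `Ω` on a slice. -/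
theorem Ctx.full_false (hs : 2 ≤ s) (j : Fin (s + 1))
    (hN : ∀ b ∈ Om hg s, ∃ a ∈ M, Dia j (a : MV) (b : MU)) : False := by
  classical
  have h2 := hM.two
  set b := binv hg h2 s with hb
  set B := (b : MU) with hB
  have hbO : b ∈ Om hg s := binv_mem_Om hg h2 hs
  have hbb : B * B = 1 := by rw [hB, ← Units.val_mul, binv_sq hg h2 hs, Units.val_one]
  have hbi : b⁻¹ = b := inv_eq_of_mul_eq_one_right (binv_sq hg h2 hs)
  have hcjb : ∀ X : MU, cj b X = B * X * B := fun X => by rw [cj, hbi]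
  have hhM : ∀ (x : Ix n) (l l' : Fin s), l ≠ l' → embGL j (hh hg h2 x l l') ∈ M := fun x l l' h =>
    hM.embGL_mem j (hh_mem hg h2 x h).1 (hh_mem hg h2 x h).2
  obtain ⟨y, hy, hyd⟩ := hN b hbO
  -- the columns
  set G : Ix n → MU := fun i => bk j i 1 (y : MV) * B with hG
  have hK : ∀ i, bk j i 1 (y : MV) = G i * B := fun i => by rw [hG]; simp only; rw [mul_assoc, hbb, mul_one]
  have hy2 : ∀ i, Mid i → ∃ w : F, cj b (G i) + G i = w • 1 := fun i hi => by
    have hd : Dia j ((y * y : GL (Fin (s + 1) → Ix n) F) : MV) (1 : MU) := by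
      rw [Units.val_mul, ← hbb]; exact hyd.mul hyd
    obtain ⟨w, hw⟩ := (hM.dia_slot j (M.mul_mem hy hy) hd).1 i hi
    refine ⟨w, ?_⟩
    rw [Units.val_mul, hyd.col _ hi, hyd.2.1, hK, mul_assoc, hbb, mul_one] at hw
    rw [← hw, hcjb, mul_assoc]
    abel
  have hyh : ∀ (x : Ix n) (l l' : Fin s), l ≠ l' → ∀ i, Mid i → ∃ d : F, cj (hh hg h2 x l l') (G i) = G i + d • 1 := by
    intro x l l' hll i hi
    set h := hh hg h2 x l l' with hh'
    have hbh : b * h = h * b := hh_comm hg h2 hs x l l'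
    set ah := embGL j h with hah
    set z := y * ah * y⁻¹ * ah⁻¹ with hz
    have hzM : z ∈ M := M.mul_mem (M.mul_mem (M.mul_mem hy (hhM x l l' hll)) (M.inv_mem hy)) (M.inv_mem (hhM x l l' hll))
    have had : Dia j (ah : MV) (h : MU) := by rw [hah, embGL_coe]; exact Dia.emb j _
    have hzd : Dia j (z : MV) (1 : MU) := by
      have e := ((hyd.mul had).mul hyd.inv).mul had.inv
      rwa [← Units.val_mul, ← Units.val_mul, ← Units.val_mul, ← Units.val_mul, ← Units.val_mul, ← Units.val_mul,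
        show b * h * b⁻¹ * h⁻¹ = 1 by rw [hbh, mul_inv_cancel_right, mul_inv_cancel], Units.val_one] at e
    obtain ⟨w, hw⟩ := (hM.dia_slot j hzM hzd).1 i hi
    have e : (z : MV) * ((ah : MV) * (y : MV)) = (y : MV) * (ah : MV) := by
      rw [← Units.val_mul, ← Units.val_mul, ← Units.val_mul, show z * (ah * y) = y * ah by rw [hz]; group]
    have e1 := congrArg (bk j i 1) e
    rw [hzd.col _ hi, hw, had.col _ hi, hyd.col _ hi, had.1.row1, had.2.1, hyd.2.1, hah, embGL_coe, bk_emb,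
      if_neg hi.2, zero_mul, zero_add, mul_zero, add_zero, one_mul, hK, Matrix.smul_mul, one_mul] at e1
    refine ⟨-w, ?_⟩
    have hhb : (h : MU) * B = B * (h : MU) := by rw [hB, ← Units.val_mul, ← Units.val_mul, hbh]
    have e2 := congrArg (fun X => X * (B * ((h⁻¹ : GL (Fin s → Ix n) F) : MU))) e1
    have hBB : ∀ X : MU, B * (B * X) = X := fun X => by rw [← mul_assoc, hbb, one_mul]
    simp only [add_mul, Matrix.smul_mul, mul_assoc, ← hB, hBB, gl_mul_inv, mul_one] at e2
    rw [show B * ((h : MU) * (B * ((h⁻¹ : GL (Fin s → Ix n) F) : MU))) = B * B by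
      rw [← mul_assoc (h : MU), hhb, mul_assoc, gl_mul_inv, mul_one], hbb, mul_one] at e2
    rw [cj, mul_assoc, neg_smul, ← sub_eq_add_neg, eq_sub_iff_add_eq, add_comm]
    exact e2
  have hGs : ∀ i, ∃ c : F, Mid i → G i = c • 1 := fun i => by
    by_cases hi : Mid i
    · obtain ⟨w, hw⟩ := hy2 i hi
      exact ⟨w / 2, fun _ => anti_scalar hg h2 hs (fun x l l' h => hyh x l l' h i hi) hw⟩
    · exact ⟨0, fun h => absurd h hi⟩
  choose c hc using hGs
  obtain ⟨r, hr, hrd, hrc, hrcol⟩ := hM.exists_rootcol j (fun i => -c i) (mids n) fun i hi => mem_mids.1 hi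
  set y0 := y * r with hy0def
  have hy0 : y0 ∈ M := M.mul_mem hy hr
  have hy0d : Dia j (y0 : MV) B := by rw [hy0def, Units.val_mul, ← mul_one B]; exact hyd.mul hrd
  set eb := embGL j b with heb
  have hebd : Dia j ((eb⁻¹ : GL (Fin (s + 1) → Ix n) F) : MV) B := by
    rw [heb, ← map_inv, hbi, embGL_coe]; exact Dia.emb j _
  have hebu : eb ∈ uT hg (s + 1) := embGL_mem_uT j (Om_le hbO)
  set z0 := y0 * eb⁻¹ with hz0
  have hz0d : Dia j (z0 : MV) (1 : MU) := by rw [hz0, Units.val_mul, ← hbb]; exact hy0d.mul hebd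
  obtain ⟨G', Z, hG'0, hG', ez⟩ := shape_relT (mul_mem (hM.le_uT hy0) (inv_mem hebu)) hz0d
  have hG'z : G' = 0 := funext fun i => by
    by_cases hi : Mid i
    · rw [hG' i hi, Units.val_mul, hy0d.col _ hi, hy0def, Units.val_mul, hyd.col _ hi, hrd.2.1, mul_one,
        hrcol i hi, if_pos (mem_mids.2 hi), hK, hc i hi, Matrix.smul_mul, one_mul, Matrix.mul_smul, mul_one, neg_smul,
        add_neg_cancel, zero_mul, zero_add, heb, ← map_inv, embGL_coe, bk_emb, if_neg hi.2, mul_zero]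
      rfl
    · exact hG'0 i hi
  rw [hG'z, relT, rsum_zero, zero_add] at ez
  have hsq : ten j (aa : M1) Z * ten j (aa : M1) Z = 0 := by rw [ten_mul, aa_aa, ten_zero_left]
  have hyz : y0 = z0 * eb := by rw [hz0, inv_mul_cancel_right]
  have hZb : cj b Z + Z = (0 : F) • 1 := by
    have hmem : Z + cj b Z ∈ cen M j := by
      refine mem_cen.2 ⟨y0 * y0, M.mul_mem hy0 hy0, ?_⟩
      have e : y0 * y0 = z0 * (eb * z0 * eb⁻¹) := by
        rw [hyz, show eb⁻¹ = eb by rw [heb, ← map_inv, hbi]]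
        group
      rw [e, Units.val_mul, ← cj_coe, ez, cj_add, cj_one, heb, cj_emb_ten, mul_add, mul_one, add_mul, one_mul, ten_mul,
        aa_aa, ten_zero_left, add_zero, ten_add_right, add_assoc]
    rw [zero_smul, add_comm]
    exact hM.cen_zero j hmem
  have hZh : ∀ (x : Ix n) (l l' : Fin s), l ≠ l' → ∃ d : F, cj (hh hg h2 x l l') Z = Z + d • 1 := by
    intro x l l' hll
    set h := hh hg h2 x l l'
    have hcm : eb * embGL j h = embGL j h * eb := by
      rw [heb, ← map_mul, ← map_mul, hh_comm hg h2 hs x l l']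
    have hmem : Z - cj h Z ∈ cen M j := by
      refine mem_cen.2 ⟨y0 * embGL j h * y0⁻¹ * (embGL j h)⁻¹,
        M.mul_mem (M.mul_mem (M.mul_mem hy0 (hhM x l l' hll)) (M.inv_mem hy0)) (M.inv_mem (hhM x l l' hll)), ?_⟩
      have e : y0 * embGL j h * y0⁻¹ * (embGL j h)⁻¹ = z0 * (embGL j h * z0⁻¹ * (embGL j h)⁻¹) := by
        rw [hyz, show z0 * eb * embGL j h = z0 * (embGL j h * eb) by rw [mul_assoc, hcm]]
        group
      rw [e, Units.val_mul, ← cj_coe, inv_one_add ez hsq, ez, cj_sub, cj_one, cj_emb_ten, mul_sub, mul_one, add_mul,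
        one_mul, ten_mul, aa_aa, ten_zero_left, add_zero, ten_sub_right]
      abel
    exact ⟨0, by rw [zero_smul, add_zero]; exact (sub_eq_zero.1 (hM.cen_zero j hmem)).symm⟩
  have hZ0 := anti_scalar hg h2 hs hZh hZb
  rw [zero_div, zero_smul] at hZ0
  have hebM : eb ∈ M := by
    have e : y0 = eb := by
      rw [hyz, show z0 = 1 from Units.ext (by rw [ez, hZ0, ten_zero_right, add_zero, Units.val_one]), one_mul]
    rwa [← e]
  rcases hM.inner (M.comap (embGL j) ⊓ Om hg s)
      (fun x hx => Subgroup.mem_inf.2 ⟨hM.embGL_mem j hx.1 hx.2, hx.2⟩) inf_le_right with hle | hle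
  · have hfull : ∀ k, ∀ b' ∈ Om hg s, embGL k b' ∈ M := fun k b' hb' => by
      rcases eq_or_ne k j with rfl | hk
      · exact (hle hb').1
      · exact hM.omega_move hk hs (fun x hx => (hle hx).1) hb'
    obtain ⟨κ, -, hline⟩ := hM.pattern_of_omega hs hfull j
    have := congrFun (congrFun (hM.cen_zero j (hline 1)) κ) (ones n s)
    rw [one_smul, pat_apply_ones, if_pos rfl, Matrix.zero_apply] at this
    exact one_ne_zero this
  · exact binv_not_tw hg h2 hs (hle (Subgroup.mem_inf.2 ⟨hebM, hbO⟩))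

end CfsgLib.Perm.Trans.TensorPowerO
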