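import Mathlib
import Cfsg.Agent.Lib.Perm.Trans.TensorPowerO.Involution
import Cfsg.Agent.Lib.Perm.Trans.QuadSimple
import Cfsg.Agent.Lib.Perm.Trans.QuadPlaneClass
import Cfsg.Agent.Lib.Perm.Trans.TensorOO.EvenSpinor

/-!
# The normaliser of the base group in the similitudes, in odd dimension
-/

set_option autoImplicit false
set_option linter.all false

namespace CfsgLib.Perm.Trans.TensorPowerO

open scoped Matrix
open Matrix Cfsg.Geo CfsgLib.Perm.Asch CfsgLib.Perm.Trans CfsgLib.Perm.Trans.TensorPower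
open CfsgLib.Perm.Trans.TensorSO CfsgLib.Perm.Trans.TensorOO

variable {F : Type*} [Field F] {n s t : ℕ} {g : Ix n → F} {hg : Dg g}

/-- normalising similitudes are in the wreath subgroup -/
def NormTw (hg : Dg g) (t : ℕ) : Prop :=
  ∀ (C : GL (Fin t → Ix n) F) (μ : F), μ ≠ 0 →
    adj (gT g t) (sT n t) (C : Matrix (Fin t → Ix n) (Fin t → Ix n) F) * (C : Matrix (Fin t → Ix n) (Fin t → Ix n) F) =
      μ • 1 →
    (∀ x ∈ tensorWreathStandard (n + 3) t F ⊓ Om hg t, C * x * C⁻¹ ∈ tensorWreathStandard (n + 3) t F) →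
    C ∈ tensorWreathStandard (n + 3) t F

/-- with one factor there is nothing to split -/
theorem mem_tw_one (C : GL (Fin 1 → Ix n) F) : C ∈ tensorWreathStandard (n + 3) 1 F := by
  refine tw_of_slots (by omega) (by omega) 1 fun i a b =>
    ⟨Matrix.of fun u v => cj C (sx i a b) (fun _ => u) (fun _ => v), ?_⟩
  ext x y
  rw [slot_apply, if_pos (fun k hk => absurd (Subsingleton.elim k _) hk), Matrix.of_apply]
  congr 1 <;> exact funext fun k => congrArg _ (Subsingleton.elim _ _)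

theorem of_eq_one {a : uT hg t} (h : Abelianization.of a = 1) : (a : GL (Fin t → Ix n) F) ∈ Om hg t := by
  rw [← MonoidHom.mem_ker, Abelianization.ker_of] at h
  rw [Om, ← Subgroup.map_subtype_commutator]
  exact Subgroup.mem_map_of_mem _ h

theorem of_one_iff {a : uT hg t} : Abelianization.of a = 1 ↔ (a : GL (Fin t → Ix n) F) ∈ Om hg t := by
  refine ⟨of_eq_one, fun h => ?_⟩
  rw [← MonoidHom.mem_ker, Abelianization.ker_of]
  rw [Om, ← Subgroup.map_subtype_commutator] at h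
  obtain ⟨b, hb, e⟩ := h
  rwa [← Subtype.ext e]

/-! ### classes of reflections -/

/-- a reflection as an isometry -/
noncomputable def rU (hg : Dg g) (v : (Fin t → Ix n) → F) (hv : bf (gT g t) (sT n t) v v ≠ 0) : uT hg t :=
  ⟨refl (bf_symmetric hg.wgT) v hv, rfl_mem hg.wgT v hv⟩

theorem rU_sq (v : (Fin t → Ix n) → F) (hv : bf (gT g t) (sT n t) v v ≠ 0) : rU hg v hv * rU hg v hv = 1 :=
  Subtype.ext (refl_sq (bf_symmetric hg.wgT) v hv)

theorem rU_isRefl (h2 : (2 : F) ≠ 0) (v : (Fin t → Ix n) → F) (hv : bf (gT g t) (sT n t) v v ≠ 0) :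
    Quad.IsRefl (qf (gT g t) (sT n t)) v (rU hg v hv : GL (Fin t → Ix n) F) := fun x => by
  rw [rU, refl_mulVec, polar_qf hg.wgT h2, qf]
  congr 2
  field_simp

theorem exists_vec (hg : Dg g) (h2 : (2 : F) ≠ 0) (ht : 0 < t) (c : F) :
    ∃ v : (Fin t → Ix n) → F, bf (gT g t) (sT n t) v v = c := by
  set z0 : Fin t → Ix n := fun _ => 0 with hz0
  set o1 : Fin t → Ix n := fun _ => 1 with ho1
  have h0 : sT n t z0 = o1 := funext fun l => s1_zero
  have h1 : sT n t o1 = z0 := funext fun l => s1_one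
  have hne : z0 ≠ o1 := fun e => zero_ne_one' (congrFun e ⟨0, ht⟩)
  refine ⟨Pi.single z0 1 + (c / 2) • Pi.single o1 1, ?_⟩
  rw [bf_add_left, bf_add_right, bf_add_right, bf_smul_left, bf_smul_left, bf_smul_right, bf_smul_right,
    bf_single hg.wgT, bf_single hg.wgT, bf_single hg.wgT, bf_single hg.wgT, h0, h1, Pi.single_eq_same,
    Pi.single_eq_of_ne hne.symm, Pi.single_eq_of_ne hne, Pi.single_eq_same,
    show gT g t z0 = 1 from Finset.prod_eq_one fun _ _ => hg.g0,
    show gT g t o1 = 1 from Finset.prod_eq_one fun _ _ => hg.g1]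
  field_simp
  ring

variable [Fintype F]

theorem of_rU_eq (h2 : (2 : F) ≠ 0) (ht : 2 ≤ t) {v w : (Fin t → Ix n) → F} (hv : bf (gT g t) (sT n t) v v ≠ 0)
    (hw : bf (gT g t) (sT n t) w w ≠ 0) (h : IsSquare (bf (gT g t) (sT n t) w w / bf (gT g t) (sT n t) v v)) :
    Abelianization.of (rU hg v hv) = Abelianization.of (rU hg w hw) := by
  have hm : ∀ z (hz : bf (gT g t) (sT n t) z z ≠ 0),
      (rU hg z hz : GL (Fin t → Ix n) F) ∈ Cfsg.isometryGroup F (qf (gT g t) (sT n t)) := fun z hz => by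
    rw [iso_qf hg.wgT h2]; exact (rU hg z hz).2
  have hmem : ((rU hg v hv * rU hg w hw : uT hg t) : GL (Fin t → Ix n) F) ∈ Om hg t := by
    rw [← Om_eq h2]
    refine Quad.refl_pair_omega' (qf_nd hg.wgT h2) (card_ge ht) ?_ ?_ ?_ (hm v hv) (hm w hw)
      (rU_isRefl h2 v hv) (rU_isRefl h2 w hw)
    · exact div_ne_zero hv h2
    · exact div_ne_zero hw h2
    · rwa [qf, qf, div_div_div_cancel_right₀ h2]
  have h1 := of_one_iff.2 hmem
  rw [map_mul] at h1
  rw [eq_inv_of_mul_eq_one_left h1, inv_eq_of_mul_eq_one_right (show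
    Abelianization.of (rU hg w hw) * Abelianization.of (rU hg w hw) = 1 by rw [← map_mul, rU_sq, map_one])]

theorem fg_tv (hg : Dg g) (d : (Fin s → Ix n) → F) (x : Ix n) :
    bf (gT g (s + 1)) (sT n (s + 1)) (tv 0 (fu n F x) d) (tv 0 (fu n F x) d) =
      fg g x * bf (gT g s) (sT n s) d d := by
  rw [bf_tv, fu_ortho hg, if_pos rfl]

/-- the reflection of the others is a product of reflections over the frame -/
theorem of_emb_refl (h2 : (2 : F) ≠ 0) (d : (Fin s → Ix n) → F) (hd : bf (gT g s) (sT n s) d d ≠ 0) :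
    Abelianization.of (⟨embGL 0 (rU hg d hd : GL (Fin s → Ix n) F), embGL_mem_uT 0 (rU hg d hd).2⟩ : uT hg (s + 1)) =
      ∏ x : Ix n, Abelianization.of (rU hg (tv 0 (fu n F x) d)
        (by rw [fg_tv hg]; exact mul_ne_zero (fg_ne hg h2 x) hd)) := by
  classical
  have hne : ∀ x : Ix n, bf (gT g (s + 1)) (sT n (s + 1)) (tv 0 (fu n F x) d) (tv 0 (fu n F x) d) ≠ 0 := fun x => by
    rw [fg_tv hg]; exact mul_ne_zero (fg_ne hg h2 x) hd
  set P := (2 / bf (gT g s) (sT n s) d d) • vecMulVec d (dual (gT g s) (sT n s) d) with hP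
  have hR : ∀ x, ((rU hg (tv 0 (fu n F x) d) (hne x) : GL (Fin (s + 1) → Ix n) F) :
      Matrix (Fin (s + 1) → Ix n) (Fin (s + 1) → Ix n) F) = 1 - ten 0 (fE g x) P := fun x => by
    rw [rU, rfl_coe hg.wgT, dual_tv, ← ten_vmv, fg_tv hg, hP, fE, ten_smul_left, ten_smul_right, smul_smul]
    congr 2
    have := fg_ne hg h2 x
    field_simp
  suffices ∀ S : Finset (Ix n), ∃ Y : uT hg (s + 1),
      ((Y : GL (Fin (s + 1) → Ix n) F) : Matrix (Fin (s + 1) → Ix n) (Fin (s + 1) → Ix n) F) =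
        1 - ten 0 (∑ x ∈ S, fE g x) P ∧
      Abelianization.of Y = ∏ x ∈ S, Abelianization.of (rU hg (tv 0 (fu n F x) d) (hne x)) by
    obtain ⟨Y, hY, hY'⟩ := this Finset.univ
    rw [← hY']
    congr 1
    refine Subtype.ext (Units.ext ?_)
    rw [hY, fE_sum hg h2, ten_one_left]
    show ((embGL 0 (rU hg d hd : GL (Fin s → Ix n) F) : GL (Fin (s + 1) → Ix n) F) :
      Matrix (Fin (s + 1) → Ix n) (Fin (s + 1) → Ix n) F) = _
    rw [embGL_coe, rU, rfl_coe hg.wgT, map_sub, map_one]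
  intro S
  induction S using Finset.induction_on with
  | empty =>
    exact ⟨1, by rw [Finset.sum_empty, ten_zero_left, sub_zero]; rfl, by rw [map_one, Finset.prod_empty]⟩
  | insert x S hx ih =>
    obtain ⟨Y, hY, hY'⟩ := ih
    refine ⟨rU hg (tv 0 (fu n F x) d) (hne x) * Y, ?_, by rw [map_mul, hY', Finset.prod_insert hx]⟩
    have hz : fE g x * ∑ y ∈ S, fE g y = (0 : Matrix (Ix n) (Ix n) F) := by
      rw [Finset.mul_sum]
      exact Finset.sum_eq_zero fun y hy => by rw [fE_mul hg h2, if_neg (fun e => hx (by rw [e]; exact hy))]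
    rw [Subgroup.coe_mul, Units.val_mul, hR, hY, sub_mul, one_mul, mul_sub, mul_one, ten_mul, hz, ten_zero_left,
      sub_zero, Finset.sum_insert hx, ten_add_left]
    abel

/-- every class of reflections meets the wreath subgroup -/
theorem refl_class (h2 : (2 : F) ≠ 0) (hn : Odd (n + 3)) : ∀ s, 1 ≤ s → ∀ (v : (Fin s → Ix n) → F)
    (hv : bf (gT g s) (sT n s) v v ≠ 0), ∃ w ∈ tensorWreathStandard (n + 3) s F ⊓ uT hg s,
      w * (rU hg v hv : GL (Fin s → Ix n) F) ∈ Om hg s := by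
  classical
  intro s hs
  induction s, hs using Nat.le_induction with
  | base =>
    intro v hv
    exact ⟨rU hg v hv, ⟨mem_tw_one _, (rU hg v hv).2⟩, by
      rw [← Subgroup.coe_mul, rU_sq]; exact one_mem _⟩
  | succ s hs ih =>
    intro v hv
    have ht : 2 ≤ s + 1 := by omega
    have hchar : ringChar F ≠ 2 := fun h => h2 (by haveI := ringChar.of_eq h; exact CharTwo.two_eq_zero)
    obtain ⟨ν, hν⟩ := FiniteField.exists_nonsquare (F := F) hchar
    have hν0 : ν ≠ 0 := fun h => hν (h ▸ IsSquare.zero)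
    set a := bf (gT g (s + 1)) (sT n (s + 1)) v v with ha
    -- the squares among the products
    let sq : F → Finset (Ix n) := fun c => Finset.univ.filter fun x => IsSquare (fg g x * c / a)
    have hflip : ∀ x, x ∈ sq ν ↔ x ∉ sq 1 := fun x => by
      simp only [sq, Finset.mem_filter, Finset.mem_univ, true_and, mul_one]
      have e : fg g x * ν / a = fg g x / a * ν := by ring
      rw [e]
      refine ⟨fun h h1 => hν ?_, fun h => nonsquare_mul h2 h hν⟩
      have hne : fg g x / a ≠ 0 := div_ne_zero (fg_ne hg h2 x) hv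
      have := h.mul (isSquare_inv.2 h1)
      rwa [mul_right_comm, mul_inv_cancel₀ hne, one_mul] at this
    obtain ⟨c, hc0, hodd⟩ : ∃ c : F, c ≠ 0 ∧ Odd (sq c).card := by
      by_cases h : Odd (sq 1).card
      · exact ⟨1, one_ne_zero, h⟩
      refine ⟨ν, hν0, ?_⟩
      rw [show sq ν = (sq 1)ᶜ from Finset.ext fun x => by rw [hflip, Finset.mem_compl], Finset.card_compl, Fintype.card_fin]
      exact Nat.Odd.sub_even (by have := Finset.card_le_univ (sq 1); rwa [Fintype.card_fin] at this) hn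
        (Nat.not_odd_iff_even.1 h)
    obtain ⟨d, hd⟩ := exists_vec hg h2 (show 0 < s by omega) c
    have hd0 : bf (gT g s) (sT n s) d d ≠ 0 := by rw [hd]; exact hc0
    obtain ⟨w, hw, hwm⟩ := ih d hd0
    refine ⟨embGL 0 w, ⟨embGL_tw 0 hw.1, embGL_mem_uT 0 hw.2⟩, ?_⟩
    have hne : ∀ x : Ix n, bf (gT g (s + 1)) (sT n (s + 1)) (tv 0 (fu n F x) d) (tv 0 (fu n F x) d) ≠ 0 := fun x => by
      rw [fg_tv hg]; exact mul_ne_zero (fg_ne hg h2 x) hd0
    set f := fun x : Ix n => Abelianization.of (rU hg (tv 0 (fu n F x) d) (hne x)) with hf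
    have hsq1 : ∀ (z : Abelianization (uT hg (s + 1))), z * z = 1 → ∀ k, Odd k → z ^ k = z := by
      rintro z hz k ⟨j, rfl⟩
      rw [pow_succ, pow_mul, pow_two, hz, one_pow, one_mul]
    have hsq2 : ∀ x, f x * f x = 1 := fun x => by rw [hf]; simp only; rw [← map_mul, rU_sq, map_one]
    have hin : ∀ x ∈ sq c, f x = Abelianization.of (rU hg v hv) := fun x hx => by
      refine of_rU_eq h2 ht _ _ ?_
      rw [fg_tv hg, hd, ← isSquare_inv, inv_div]
      exact (Finset.mem_filter.1 hx).2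
    have hout : ∏ x ∈ (sq c)ᶜ, f x = 1 := by
      rcases (sq c)ᶜ.eq_empty_or_nonempty with he | ⟨x0, hx0⟩
      · rw [he, Finset.prod_empty]
      rw [Finset.prod_congr rfl (g := fun _ => f x0) (fun x hx => by
        refine of_rU_eq h2 ht _ _ ?_
        rw [Finset.mem_compl] at hx hx0
        simp only [sq, Finset.mem_filter, Finset.mem_univ, true_and] at hx hx0
        rw [fg_tv hg, fg_tv hg, hd]
        have := nonsquare_mul h2 hx0 (show ¬ IsSquare (fg g x * c / a)⁻¹ from fun h => hx (isSquare_inv.1 h))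
        convert this using 1
        have := fg_ne hg h2 x
        field_simp), Finset.prod_const]
      obtain ⟨j, hj⟩ : Even (sq c)ᶜ.card := by
        rw [Finset.card_compl, Fintype.card_fin]
        exact Nat.Odd.sub_odd hn hodd
      rw [hj, pow_add, ← mul_pow, hsq2, one_pow]
    have hmain : Abelianization.of (⟨embGL 0 (rU hg d hd0 : GL (Fin s → Ix n) F), embGL_mem_uT 0 (rU hg d hd0).2⟩ :
        uT hg (s + 1)) = Abelianization.of (rU hg v hv) := by
      rw [of_emb_refl h2 d hd0, ← Finset.prod_mul_prod_compl (sq c), hout, mul_one,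
        Finset.prod_congr rfl hin, Finset.prod_const,
        hsq1 _ (by rw [← map_mul, rU_sq, map_one]) _ hodd]
    have h1 : Abelianization.of ((⟨embGL 0 w, embGL_mem_uT 0 hw.2⟩ : uT hg (s + 1)) * rU hg v hv) = 1 := by
      rw [map_mul, ← hmain, ← map_mul, of_one_iff]
      show embGL 0 w * embGL 0 _ ∈ _
      rw [← map_mul]
      exact embGL_mem_Om 0 hwm
    exact of_eq_one h1

/-- the isometries are the wreath ones times `Ω` -/
theorem uT_split (h2 : (2 : F) ≠ 0) (hn : Odd (n + 3)) (ht : 2 ≤ t) {a : GL (Fin t → Ix n) F} (ha : a ∈ uT hg t) :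
    ∃ w ∈ tensorWreathStandard (n + 3) t F ⊓ uT hg t, w⁻¹ * a ∈ Om hg t := by
  let T : Subgroup (GL (Fin t → Ix n) F) :=
    { carrier := {a | ∃ w ∈ tensorWreathStandard (n + 3) t F ⊓ uT hg t, w⁻¹ * a ∈ Om hg t}
      one_mem' := ⟨1, one_mem _, by simp⟩
      mul_mem' := by
        rintro a b ⟨w, hw, ha⟩ ⟨v, hv, hb⟩
        refine ⟨w * v, mul_mem hw hv, ?_⟩
        have h := mul_mem (Om_conj (inv_mem hv.2) ha) hb
        convert h using 1
        group
      inv_mem' := by
        rintro a ⟨w, hw, ha⟩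
        refine ⟨w⁻¹, inv_mem hw, ?_⟩
        have h := Om_conj hw.2 (inv_mem ha)
        convert h using 1
        group }
  have hQ := qf_nd (hg.wgT (t := t)) h2
  have hle : Quad.eRefl (qf (gT g t) (sT n t)) ≤ T := by
    refine sup_le ?_ ((Subgroup.closure_le _).2 ?_)
    · refine le_trans (Quad.eGroup_le_omega hQ (card_ge ht)) ?_
      rw [Om_eq h2]
      exact fun x hx => ⟨1, one_mem _, by rwa [inv_one, one_mul]⟩
    · rintro r ⟨-, v, hv, hr⟩
      have hv' : bf (gT g t) (sT n t) v v ≠ 0 := fun e => hv (by rw [qf, e, zero_div])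
      obtain ⟨w, hw, hwm⟩ := refl_class (hg := hg) h2 hn t (by omega) v hv'
      have e : r = (rU hg v hv' : GL (Fin t → Ix n) F) := Units.ext (Matrix.ext_iff_mulVec.2 fun x => by
        rw [hr, rU_isRefl h2 v hv'])
      exact ⟨w⁻¹, inv_mem hw, by rw [inv_inv, e]; exact hwm⟩
  exact hle (Quad.iso_le_eRefl hQ (by rwa [iso_qf hg.wgT h2]))

/-- the base group is not normal -/
theorem not_normal (hg : Dg g) (h2 : (2 : F) ≠ 0) (ht : 2 ≤ t)
    (hN : ∀ o ∈ Om hg t, ∀ x ∈ tensorWreathStandard (n + 3) t F ⊓ Om hg t,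
      o * x * o⁻¹ ∈ tensorWreathStandard (n + 3) t F ⊓ Om hg t) : False := by
  classical
  set Q := qf (gT g t) (sT n t)
  have hQ : IsNondegenerateQuadraticForm Q := qf_nd hg.wgT h2
  have hom : ∀ z : Cfsg.Omega F Q, Quad.omvHom Q z ∈ Om hg t := fun z => by
    rw [← Om_eq h2]; exact ⟨z.1, z.2, rfl⟩
  have hsurj : ∀ o ∈ Om hg t, ∃ z : Cfsg.Omega F Q, Quad.omvHom Q z = o := fun o ho => by
    rw [← Om_eq h2] at ho
    obtain ⟨z, hz, rfl⟩ := ho
    exact ⟨⟨z, hz⟩, rfl⟩
  set H := (tensorWreathStandard (n + 3) t F ⊓ Om hg t).comap (Quad.omvHom Q) with hH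
  haveI hnormal : H.Normal := ⟨fun x hx z => by
    show Quad.omvHom Q (z * x * z⁻¹) ∈ tensorWreathStandard (n + 3) t F ⊓ Om hg t
    rw [map_mul, map_mul, map_inv]
    exact hN _ (hom z) _ hx⟩
  haveI := Quad.pomega_isSimple hQ (card_ge ht)
  have hsc : ∀ z ∈ Subgroup.center (Cfsg.Omega F Q), ∃ c : F, ∀ x, (Quad.omv z :
      Matrix (Fin t → Ix n) (Fin t → Ix n) F) *ᵥ x = c • x := fun z hz =>
    Quad.scalar_of_fix hQ (card_ge ht) fun u hu => by
      by_cases hu0 : u = 0
      · exact ⟨0, by rw [hu0, mulVec_zero, smul_zero]⟩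
      · exact Quad.center_fix hQ (card_ge ht) hz hu0 hu
  have hmap : (H.map (QuotientGroup.mk' (Subgroup.center (Cfsg.Omega F Q)))).Normal :=
    hnormal.map _ (QuotientGroup.mk'_surjective _)
  rcases hmap.eq_bot_or_eq_top with h | h
  · set r : GL (Fin t → Ix n) F := sl ⟨0, by omega⟩ (eU g h2 Mid.two 1) with hr
    obtain ⟨p, hp, hc, hodd, -⟩ := exists_char (F := F) h2
    haveI := hc
    have hrO : r ∈ Om hg t := odd_mem h2 ht (sl_mem_uT _ (eU_mem hg h2 Mid.two 1)) hodd (by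
      rw [hr, ← sl_pow, eU_pow, CharP.cast_eq_zero, zero_mul, ← sl_one (⟨0, by omega⟩ : Fin t)]
      congr 1
      exact Units.ext (euM_zero _))
    obtain ⟨z, hz⟩ := hsurj r hrO
    have hzH : z ∈ H := by
      rw [hH, Subgroup.mem_comap, hz]; exact ⟨sl_mem_tw _ _, hrO⟩
    have hzc : z ∈ Subgroup.center (Cfsg.Omega F Q) := by
      have := Subgroup.mem_map_of_mem (QuotientGroup.mk' (Subgroup.center (Cfsg.Omega F Q))) hzH
      rw [h, Subgroup.mem_bot] at this
      exact (QuotientGroup.eq_one_iff _).1 this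
    obtain ⟨c, hc'⟩ := hsc z hzc
    set e0 : Fin t → Ix n → F := fun _ => Pi.single 0 1
    set v1 : Fin t → Ix n → F := Function.update e0 ⟨0, by omega⟩ (Pi.single 1 1)
    have hval : ∀ v : Fin t → Ix n → F, (r : Matrix (Fin t → Ix n) (Fin t → Ix n) F) *ᵥ TensorPower.pv v =
        c • TensorPower.pv v := fun v => by rw [← hz]; exact hc' _
    have hpv : ∀ v : Fin t → Ix n → F, (r : Matrix (Fin t → Ix n) (Fin t → Ix n) F) *ᵥ TensorPower.pv v =
        TensorPower.pv (Function.update v ⟨0, by omega⟩ ((eU g h2 Mid.two 1 : Matrix (Ix n) (Ix n) F) *ᵥ v ⟨0, by omega⟩)) := by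
      intro v
      rw [hr, sl_coe, slot, pure_pv]
      congr 1
      funext l
      rcases eq_or_ne l ⟨0, by omega⟩ with rfl | hl
      · rw [Pi.mulSingle_eq_same, Function.update_self]
      · rw [Pi.mulSingle_eq_of_ne hl, one_mulVec, Function.update_of_ne hl]
    have h0 := congrFun ((hval e0).symm.trans (hpv e0)) (fun _ => 0)
    rw [eU_mulVec_zero, show Function.update e0 ⟨0, by omega⟩ (Pi.single (0 : Ix n) (1 : F)) = e0 from
      Function.update_eq_self _ _] at h0
    have hc1 : c = 1 := by simpa [e0, TensorPower.pv] using h0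
    have h1 := congrFun ((hval v1).symm.trans (hpv v1)) (Function.update (fun _ => 0) ⟨0, by omega⟩ 2)
    rw [hc1, one_smul, TensorPower.pv, TensorPower.pv] at h1
    rw [Finset.prod_eq_zero (Finset.mem_univ (⟨0, by omega⟩ : Fin t)) (by simp [v1, Mid.two.2]),
      Finset.prod_eq_one (fun l _ => ?_)] at h1
    · exact zero_ne_one h1
    rcases eq_or_ne l ⟨0, by omega⟩ with rfl | hl
    · simp [v1, eU_coe, nm, aa, sub_mulVec, add_mulVec, Matrix.smul_mulVec, single_mulVec', Matrix.single_apply,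
        Mid.two.1, Mid.two.2, Mid.two.1.symm, zero_ne_one']
    · simp [v1, e0, Function.update_of_ne hl]
  · refine binv_not_tw hg h2 ht ?_
    obtain ⟨z, hz⟩ := hsurj _ (binv_mem_Om hg h2 ht)
    obtain ⟨x, hx, e⟩ := (h ▸ Subgroup.mem_top (QuotientGroup.mk' (Subgroup.center (Cfsg.Omega F Q)) z) :
      QuotientGroup.mk' (Subgroup.center (Cfsg.Omega F Q)) z ∈ H.map (QuotientGroup.mk' _))
    have hcen : x⁻¹ * z ∈ Subgroup.center (Cfsg.Omega F Q) := (QuotientGroup.eq).1 e
    obtain ⟨c, hc⟩ := hsc _ hcen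
    have hkey : Quad.omvHom Q (x⁻¹ * z) ∈ tensorWreathStandard (n + 3) t F := by
      refine tw_of_slots (by omega) (by omega) 1 fun i a b => ⟨Matrix.single a b 1, cj_eq_self ?_⟩
      have e' : ((Quad.omvHom Q (x⁻¹ * z) : GL (Fin t → Ix n) F) : Matrix (Fin t → Ix n) (Fin t → Ix n) F) =
          c • 1 := Matrix.ext_iff_mulVec.2 fun v => by rw [Matrix.smul_mulVec, one_mulVec]; exact hc v
      rw [e', Matrix.smul_mul, Matrix.mul_smul, one_mul, mul_one]
    rw [← hz, show z = x * (x⁻¹ * z) by group, map_mul]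
    exact mul_mem hx.1 hkey

theorem det_adj {ι : Type} [Fintype ι] [DecidableEq ι] {g : ι → F} {S : ι → ι} (h : Wg g S) (X : Matrix ι ι F) :
    (adj g S X).det = X.det := by
  have e : adj g S X = Matrix.diagonal (fun x => (g x)⁻¹) * Xᵀ.submatrix h.inv.toPerm h.inv.toPerm * Matrix.diagonal g := by
    ext x y
    rw [Matrix.mul_diagonal, Matrix.diagonal_mul, adj_apply, Matrix.submatrix_apply, Matrix.transpose_apply,
      Function.Involutive.coe_toPerm]
    ring
  rw [e, Matrix.det_mul, Matrix.det_mul, Matrix.det_diagonal, Matrix.det_diagonal, Matrix.det_submatrix_equiv_self,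
    Matrix.det_transpose, mul_right_comm, ← Finset.prod_mul_distrib,
    Finset.prod_eq_one (fun x _ => inv_mul_cancel₀ (h.nz x)), one_mul]

/-- **Theorem.** In odd dimension a similitude normalising the base group is in the wreath subgroup. -/
theorem normTw_odd (hg : Dg g) (h2 : (2 : F) ≠ 0) (hn : Odd (n + 3)) (hs : 1 ≤ s) (hin : Inner hg s) :
    NormTw hg s := by
  classical
  intro C μ hμ hC hnorm
  by_cases h1 : s = 1
  · subst h1; exact mem_tw_one C
  have ht : 2 ≤ s := by omega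
  obtain ⟨a, ha⟩ : Odd (Fintype.card (Fin s → Ix n)) := by
    rw [Fintype.card_fun, Fintype.card_fin, Fintype.card_fin]; exact hn.pow
  have hdet := congrArg Matrix.det hC
  rw [Matrix.det_mul, det_adj hg.wgT, Matrix.det_smul, Matrix.det_one, mul_one, ha] at hdet
  set x := (C : Matrix (Fin s → Ix n) (Fin s → Ix n) F).det / μ ^ a with hx
  have hμa : μ ^ a ≠ 0 := pow_ne_zero _ hμ
  have hxx : x * x = μ := by
    rw [hx, div_mul_div_comm, hdet, div_eq_iff (mul_ne_zero hμa hμa)]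
    ring
  have hx0 : x ≠ 0 := fun e => hμ (by rw [← hxx, e, mul_zero])
  let sc : GL (Fin s → Ix n) F := ⟨x • 1, x⁻¹ • 1,
    by rw [Matrix.smul_mul, one_mul, smul_smul, mul_inv_cancel₀ hx0, one_smul],
    by rw [Matrix.smul_mul, one_mul, smul_smul, inv_mul_cancel₀ hx0, one_smul]⟩
  have hsc : sc ∈ tensorWreathStandard (n + 3) s F := by
    refine tw_of_slots (by omega) (by omega) 1 fun i a b => ⟨Matrix.single a b 1, cj_eq_self ?_⟩
    show x • (1 : Matrix (Fin s → Ix n) (Fin s → Ix n) F) * _ = _ * x • (1 : Matrix (Fin s → Ix n) (Fin s → Ix n) F)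
    rw [Matrix.smul_mul, Matrix.mul_smul, one_mul, mul_one]
  have hscc : ∀ y : GL (Fin s → Ix n) F, sc * y = y * sc := fun y => Units.ext (by
    show x • (1 : Matrix (Fin s → Ix n) (Fin s → Ix n) F) * _ = _ * x • (1 : Matrix (Fin s → Ix n) (Fin s → Ix n) F)
    rw [Matrix.smul_mul, Matrix.mul_smul, one_mul, mul_one])
  set C0 := C * sc⁻¹ with hC0
  have hC0m : C0 ∈ uT hg s := by
    rw [mem_uSub, mul_eq_one_comm, hC0, Units.val_mul]
    show adj (gT g s) (sT n s) ((C : Matrix (Fin s → Ix n) (Fin s → Ix n) F) * (x⁻¹ • 1)) *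
      ((C : Matrix (Fin s → Ix n) (Fin s → Ix n) F) * (x⁻¹ • 1)) = 1
    rw [Matrix.mul_smul, mul_one, adj_smul, Matrix.smul_mul, Matrix.mul_smul, smul_smul, hC, smul_smul, ← hxx]
    rw [show x⁻¹ * x⁻¹ * (x * x) = 1 by field_simp, one_smul]
  have hC0n : ∀ y ∈ tensorWreathStandard (n + 3) s F ⊓ Om hg s,
      C0 * y * C0⁻¹ ∈ tensorWreathStandard (n + 3) s F ⊓ Om hg s := fun y hy => by
    refine ⟨?_, Om_conj hC0m hy.2⟩
    have e : C0 * y * C0⁻¹ = C * y * C⁻¹ := by
      rw [hC0, _root_.mul_inv_rev, inv_inv, show C * sc⁻¹ * y * (sc * C⁻¹) = C * (sc⁻¹ * (y * sc)) * C⁻¹ by group,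
        ← hscc y, inv_mul_cancel_left]
    rw [e]
    exact hnorm y hy
  obtain ⟨w, hw, hwo⟩ := uT_split (hg := hg) h2 hn ht hC0m
  set H := tensorWreathStandard (n + 3) s F ⊓ Om hg s with hH
  let N1 : Subgroup (GL (Fin s → Ix n) F) :=
    { carrier := {o | o ∈ Om hg s ∧ ∀ y ∈ H, o * y * o⁻¹ ∈ H}
      one_mem' := ⟨one_mem _, fun y hy => by simpa using hy⟩
      mul_mem' := fun {o p} ho hp => ⟨mul_mem ho.1 hp.1, fun y hy => by
        have := ho.2 _ (hp.2 y hy)
        convert this using 1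
        group⟩
      inv_mem' := fun {o} ho => ⟨inv_mem ho.1, fun y hy => by
        obtain ⟨z, hz⟩ := (Finite.injective_iff_surjective (f := fun z : H => (⟨o * z.1 * o⁻¹, ho.2 _ z.2⟩ : H))).1
          (fun z z' e => Subtype.ext (by simpa using congrArg Subtype.val e)) ⟨y, hy⟩
        have hz' : o * z.1 * o⁻¹ = y := congrArg Subtype.val hz
        rw [← hz', show o⁻¹ * (o * z.1 * o⁻¹) * o⁻¹⁻¹ = z.1 by group]
        exact z.2⟩ }
  have hon : w⁻¹ * C0 ∈ N1 := by
    refine ⟨hwo, fun y hy => ⟨?_, Om_conj (Om_le hwo) hy.2⟩⟩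
    have hwt : w ∈ tensorWreathStandard (n + 3) s F := hw.1
    have hyt : C0 * y * C0⁻¹ ∈ tensorWreathStandard (n + 3) s F := (hC0n y hy).1
    show w⁻¹ * C0 * y * (w⁻¹ * C0)⁻¹ ∈ tensorWreathStandard (n + 3) s F
    rw [show w⁻¹ * C0 * y * (w⁻¹ * C0)⁻¹ = w⁻¹ * (C0 * y * C0⁻¹) * w by group]
    exact mul_mem (mul_mem (inv_mem hwt) hyt) hwt
  rcases hin N1 (fun y hy => ⟨hy.2, fun z hz => H.mul_mem (H.mul_mem hy hz) (H.inv_mem hy)⟩) (fun y hy => hy.1) with h | h
  · exact (not_normal hg h2 ht fun o ho y hy => (h ho).2 y hy).elim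
  · have : C = w * (w⁻¹ * C0) * sc := by rw [hC0]; group
    rw [this]
    exact mul_mem (mul_mem hw.1 (h hon)) hsc

end CfsgLib.Perm.Trans.TensorPowerO
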