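import Mathlib
import Cfsg.Agent.Lib.Perm.Trans.TensorPowerO.FullSlice
import Cfsg.Agent.Lib.Perm.Trans.TensorPowerO.Normaliser

/-!
# Elements moving a singular slice to a singular slice
-/

set_option autoImplicit false
set_option linter.all false

namespace CfsgLib.Perm.Trans.TensorPowerO

open scoped Matrix
open Matrix Cfsg.Geo CfsgLib.Perm.Asch CfsgLib.Perm.Trans CfsgLib.Perm.Trans.TensorPower
open CfsgLib.Perm.Trans.TensorSO

variable {F : Type*} [Field F] {n s : ℕ} {g : Ix n → F}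

local notation "M1" => Matrix (Ix n) (Ix n) F
local notation "MU" => Matrix (Fin s → Ix n) (Fin s → Ix n) F
local notation "MV" => Matrix (Fin (s + 1) → Ix n) (Fin (s + 1) → Ix n) F
local notation "B1" => bf g (s1 n)
local notation "VU" => (Fin s → Ix n) → F

variable [Fintype F] {hg : Dg g} {M : Subgroup (GL (Fin (s + 1) → Ix n) F)} (hM : Ctx hg M)
include hM

/-- an element preserving the standard slice up to an isometry of the wreath subgroup -/
theorem Ctx.slice_tw (hN : NormTw hg s) {j : Fin (s + 1)} {x0 h0 : GL (Fin (s + 1) → Ix n) F} (hx : x0 ∈ M)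
    (hh0 : h0 ∈ tensorWreathStandard (n + 3) (s + 1) F) (hh0u : h0 ∈ uT hg (s + 1))
    (hst : Stb j ((h0⁻¹ * x0 : GL (Fin (s + 1) → Ix n) F) : MV)) : x0 ∈ tensorWreathStandard (n + 3) (s + 1) F := by
  classical
  have h2 := hM.two
  set g1 := h0⁻¹ * x0 with hg1
  have hg1u : g1 ∈ uT hg (s + 1) := mul_mem (inv_mem hh0u) (hM.le_uT hx)
  set G := (g1 : MV) with hGdef
  set Gi := ((g1⁻¹ : GL (Fin (s + 1) → Ix n) F) : MV) with hGidef
  have hGi : Stb j Gi := hst.inv
  have hadjG : adj (gT g (s + 1)) (sT n (s + 1)) G = Gi := adj_of_mem hg1u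
  have hM' := hM.conj (inv_mem hh0) (inv_mem hh0u)
  set M' := M.map (MulAut.conj h0⁻¹).toMonoidHom with hM'def
  have hconj : ∀ x ∈ M, g1 * x * g1⁻¹ ∈ M' := fun x hx' =>
    ⟨x0 * x * x0⁻¹, M.mul_mem (M.mul_mem hx hx') (M.inv_mem hx), by
      show h0⁻¹ * (x0 * x * x0⁻¹) * h0⁻¹⁻¹ = _
      rw [hg1]; group⟩
  -- the action on the slice
  let C : GL (Fin s → Ix n) F := ⟨bk j 1 1 G, bk j 1 1 Gi,
    by rw [← hst.row1, hGdef, hGidef, gl_mul_inv, bk_one, if_pos rfl],
    by rw [← hGi.row1, hGdef, hGidef, gl_inv_mul, bk_one, if_pos rfl]⟩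
  set C0 := (C : MU) with hC0
  set Ci := ((C⁻¹ : GL (Fin s → Ix n) F) : MU) with hCi
  have hGG : ∀ k l, Mid k → Mid l →
      ∑ c ∈ mids n, bk j k c G * bk j c l Gi = if k = l then 1 else 0 := fun k l hk hl => by
    rw [← hst.mid hGi hk hl, hGdef, hGidef, gl_mul_inv, bk_one]
  -- the middle block
  have hsig : ∀ k i, ∃ c : F, Mid k → Mid i → bk j k i G = c • C0 := fun k i => by
    by_cases hki : Mid k ∧ Mid i
    swap
    · exact ⟨0, fun a b => absurd ⟨a, b⟩ hki⟩
    obtain ⟨hk, hi⟩ := hki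
    set r := sl j (eU g h2 hi 1) with hr
    have hrd := Dia.radical (g := g) j (rootT i (1 : F)) (-((1 : F) * 1 * g i / 2) • (1 : MU))
    rw [← sl_root_coe hg h2 j hi 1] at hrd
    set r' := g1 * r * g1⁻¹ with hr'
    have hr'e : (r' : MV) = G * (r : MV) * Gi := by rw [hr', Units.val_mul, Units.val_mul]
    have hGr : ∀ a c, Mid a → Mid c → bk j a c (G * (r : MV)) = bk j a c G := fun a c ha hc => by
      rw [hst.mid hrd.1.1 ha hc, Finset.sum_eq_single c]
      · rw [hrd.1.2.2 c c hc hc, if_pos rfl, mul_one]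
      · intro d hd hdc; rw [hrd.1.2.2 d c (mem_mids.1 hd) hc, if_neg hdc, mul_zero]
      · exact fun e => absurd (mem_mids.2 hc) e
    have hr'd : Dia j (r' : MV) (1 : MU) := by
      refine ⟨by rw [hr'e]; exact (hst.mul hrd.1.1).mul hGi, ?_, fun a c ha hc => ?_⟩
      · rw [hr'e, (hst.mul hrd.1.1).row1, hst.row1, hrd.1.2.1, mul_one]
        exact C.mul_inv
      · rw [hr'e, (hst.mul hrd.1.1).mid hGi ha hc, ← hGG a c ha hc]
        exact Finset.sum_congr rfl fun d hd => by rw [hGr a d ha (mem_mids.1 hd)]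
    obtain ⟨c, hc⟩ := (hM'.dia_slot j (hconj r (hM.root_mem j hi 1)) hr'd).1 k hk
    refine ⟨c, fun _ _ => ?_⟩
    have e : bk j k 1 (r' : MV) = bk j k i G * Ci := by
      rw [hr'e, (hst.mul hrd.1.1).col Gi hk, hst.col _ hk, hrd.1.2.1, mul_one, Finset.sum_eq_single i]
      · rw [hrd.2 i hi, rootT_apply_self, one_smul, mul_one, add_mul]
        have e0 : bk j k 1 G * bk j 1 1 Gi + ∑ c ∈ mids n, bk j k c G * bk j c 1 Gi = 0 := by
          rw [← hst.col Gi hk, hGdef, hGidef, gl_mul_inv, bk_one, if_neg hk.2]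
        rw [Finset.sum_congr rfl (g := fun c => bk j k c G * bk j c 1 Gi) (fun d hd => by
          rw [hGr k d hk (mem_mids.1 hd)])]
        calc bk j k 1 G * bk j 1 1 Gi + bk j k i G * bk j 1 1 Gi + ∑ c ∈ mids n, bk j k c G * bk j c 1 Gi
            = bk j k i G * bk j 1 1 Gi +
              (bk j k 1 G * bk j 1 1 Gi + ∑ c ∈ mids n, bk j k c G * bk j c 1 Gi) := by abel
          _ = _ := by rw [e0, add_zero]; rfl
      · intro d hd hdi
        rw [hrd.2 d (mem_mids.1 hd), rootT, if_neg hdi, mul_zero]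
      · exact fun e => absurd (mem_mids.2 hi) e
    calc bk j k i G = bk j k i G * Ci * C0 := by rw [mul_assoc, hCi, hC0, gl_inv_mul, mul_one]
      _ = c • C0 := by rw [← e, hc, Matrix.smul_mul, one_mul]
  choose σ hσ using hsig
  set aC := adj (gT g s) (sT n s) C0 with haC
  have hGimid : ∀ l m, Mid l → Mid m → bk j l m Gi = (g m / g l * σ m l) • aC := fun l m hl hm => by
    rw [← hadjG, bk_adj hg, s1_mid hm.1 hm.2, s1_mid hl.1 hl.2, hσ m l hm hl, adj_smul, smul_smul]
  let S : Ix n → Ix n → F := fun k m => ∑ l ∈ mids n, σ k l * (g m / g l * σ m l)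
  have hS : ∀ k m, Mid k → Mid m → S k m • (C0 * aC) = if k = m then 1 else 0 := fun k m hk hm => by
    rw [← hGG k m hk hm, Finset.sum_smul]
    refine Finset.sum_congr rfl fun l hl => ?_
    rw [hσ k l hk (mem_mids.1 hl), hGimid l m (mem_mids.1 hl) hm, Matrix.smul_mul, Matrix.mul_smul, smul_smul]
  haveI : Nonempty (Fin s → Ix n) := ⟨fun _ => 0⟩
  have hs22 := hS 2 2 Mid.two Mid.two
  rw [if_pos rfl] at hs22
  have hS2 : S 2 2 ≠ 0 := fun e => by rw [e, zero_smul] at hs22; exact zero_ne_one hs22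
  set μ := (S 2 2)⁻¹ with hμ
  have hμ0 : μ ≠ 0 := inv_ne_zero hS2
  have hCaC : C0 * aC = μ • (1 : MU) := by rw [← hs22, smul_smul, hμ, inv_mul_cancel₀ hS2, one_smul]
  have haCC : aC * C0 = μ • (1 : MU) := by
    have h1 : C0 * (μ⁻¹ • aC) = 1 := by rw [Matrix.mul_smul, hCaC, smul_smul, inv_mul_cancel₀ hμ0, one_smul]
    have h3 := mul_eq_one_comm.1 h1
    rw [Matrix.smul_mul, inv_smul_eq_iff₀ hμ0] at h3
    exact h3
  have haCi : aC = μ • Ci := by
    calc aC = aC * (C0 * Ci) := by rw [hC0, hCi, gl_mul_inv, mul_one]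
      _ = _ := by rw [← mul_assoc, haCC, Matrix.smul_mul, one_mul]
  have hSd : ∀ k m, Mid k → Mid m → S k m * μ = if k = m then 1 else 0 := fun k m hk hm => by
    have e := hS k m hk hm
    rw [hCaC, smul_smul] at e
    have e1 := congrFun (congrFun e (fun _ => 0)) (fun _ => 0)
    rw [Matrix.smul_apply, Matrix.one_apply_eq, smul_eq_mul, mul_one] at e1
    rw [e1]
    split_ifs <;> simp
  -- the slice is the standard one
  have hC : C ∈ tensorWreathStandard (n + 3) s F := by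
    by_cases hs1 : s = 1
    · subst hs1; exact mem_tw_one C
    have hs2 : 2 ≤ s := by have := hM.one; omega
    refine hN C μ hμ0 haCC fun x hxH => ?_
    let N : Subgroup (GL (Fin s → Ix n) F) :=
      { carrier := {b | b ∈ Om hg s ∧ ∃ a ∈ M', Dia j (a : MV) (b : MU)}
        one_mem' := ⟨one_mem _, 1, one_mem _, by rw [Units.val_one, Units.val_one]; exact Dia.one j⟩
        mul_mem' := fun {b c} hb hc => by
          obtain ⟨hb', a, ha, had⟩ := hb
          obtain ⟨hc', d, hd, hdd⟩ := hc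
          exact ⟨mul_mem hb' hc', a * d, mul_mem ha hd, by rw [Units.val_mul, Units.val_mul]; exact had.mul hdd⟩
        inv_mem' := fun {b} hb => by
          obtain ⟨hb', a, ha, had⟩ := hb
          exact ⟨inv_mem hb', a⁻¹, inv_mem ha, had.inv⟩ }
    have hsim : ∀ z ∈ uT hg s, C * z * C⁻¹ ∈ uT hg s := by
      intro z hz
      have e1 : adj (gT g s) (sT n s) Ci = μ⁻¹ • C0 := by
        have : Ci = μ⁻¹ • aC := by rw [haCi, smul_smul, inv_mul_cancel₀ hμ0, one_smul]
        rw [this, adj_smul, haC, adj_adj hg.wgT]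
      rw [mem_uSub, Units.val_mul, Units.val_mul, ← hC0, ← hCi, adj_mul hg.wgT, adj_mul hg.wgT, e1, ← haC]
      calc C0 * (z : MU) * Ci * (μ⁻¹ • C0 * (adj (gT g s) (sT n s) (z : MU) * aC))
          = μ⁻¹ • (C0 * ((z : MU) * (Ci * C0) * adj (gT g s) (sT n s) (z : MU)) * aC) := by
            simp only [Matrix.smul_mul, Matrix.mul_smul, mul_assoc]
        _ = _ := by
            rw [hCi, hC0, gl_inv_mul, mul_one, mem_uSub.1 hz, mul_one, ← hC0, hCaC, smul_smul, inv_mul_cancel₀ hμ0,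
              one_smul]
    have hsimO : ∀ z ∈ Om hg s, C * z * C⁻¹ ∈ Om hg s := by
      have hle : (Om hg s).map (MulAut.conj C).toMonoidHom ≤ Om hg s := by
        rw [Om, Subgroup.map_commutator]
        exact Subgroup.commutator_mono (Subgroup.map_le_iff_le_comap.2 hsim) (Subgroup.map_le_iff_le_comap.2 hsim)
      exact fun z hz => hle (Subgroup.mem_map_of_mem _ hz)
    have hmemN : ∀ x ∈ tensorWreathStandard (n + 3) s F ⊓ Om hg s, C * x * C⁻¹ ∈ N := by
      intro x hxH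
      refine ⟨hsimO x hxH.2, g1 * embGL j x * g1⁻¹, hconj _ (hM.embGL_mem j hxH.1 hxH.2), ?_⟩
      rw [show ((g1 * embGL j x * g1⁻¹ : GL (Fin (s + 1) → Ix n) F) : MV) = G * emb j (x : MU) * Gi by
        rw [Units.val_mul, Units.val_mul, embGL_coe], show ((C * x * C⁻¹ : GL (Fin s → Ix n) F) : MU) = C0 * (x : MU) * Ci by
        rw [Units.val_mul, Units.val_mul]]
      have hXd := Dia.emb j (x : MU)
      refine ⟨(hst.mul hXd.1).mul hGi, ?_, fun a c ha hc => ?_⟩
      · rw [(hst.mul hXd.1).row1, hst.row1, hXd.2.1]; rfl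
      · rw [(hst.mul hXd.1).mid hGi ha hc]
        have e : ∀ d ∈ mids n, bk j a d (G * emb j (x : MU)) * bk j d c Gi =
            (σ a d * (g c / g d * σ c d) * μ) • (C0 * (x : MU) * Ci) := by
          intro d hd
          have hd' := mem_mids.1 hd
          rw [hst.mid hXd.1 ha hd', Finset.sum_eq_single d]
          · rw [bk_emb, if_pos rfl, hσ a d ha hd', hGimid d c hd' hc, haCi, smul_smul, Matrix.smul_mul, Matrix.smul_mul,
              Matrix.mul_smul, smul_smul, ← mul_assoc]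
          · intro k _ hk; rw [bk_emb, if_neg hk, mul_zero]
          · exact fun h => absurd hd h
        rw [Finset.sum_congr rfl e, ← Finset.sum_smul, ← Finset.sum_mul, hSd a c ha hc]
        split_ifs <;> simp
    rcases hM.inner N (fun z hz => ⟨hz.2, embGL j z, hM'.embGL_mem j hz.1 hz.2, by
      rw [embGL_coe]; exact Dia.emb j _⟩) (fun z hz => hz.1) with h | h
    · exact (hM'.full_false hs2 j fun b hb => (h hb).2).elim
    · exact h (hmemN x hxH)
  -- the monomial part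
  let Am : M1 := Matrix.of fun a b => if a = 0 ∧ b = 0 then μ⁻¹ else if a = 1 ∧ b = 1 then 1 else
    if Mid a ∧ Mid b then σ a b else 0
  let Ai : M1 := μ • adj g (s1 n) Am
  have hAm : ∀ a b, Am a b = if a = 0 ∧ b = 0 then μ⁻¹ else if a = 1 ∧ b = 1 then 1 else
    if Mid a ∧ Mid b then σ a b else 0 := fun a b => rfl
  have hAa : ∀ a b, Ai a b = μ * (g b / g a * Am (s1 n b) (s1 n a)) := fun a b => rfl
  have hnm0 : ¬ Mid (0 : Ix n) := fun h => h.1 rfl
  have hnm1 : ¬ Mid (1 : Ix n) := fun h => h.2 rfl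
  have hAA : Am * Ai = 1 := by
    ext a b
    rw [Matrix.mul_apply, sum_split]
    simp only [hAa, hAm, Matrix.one_apply, s1_zero, s1_one, hg.g0, hg.g1]
    rcases idx_cases a with rfl | rfl | ha <;> rcases idx_cases b with rfl | rfl | hb
    any_goals simp only [s1_zero, s1_one, hg.g0, hg.g1]
    any_goals rw [s1_mid hb.1 hb.2]
    · rw [Finset.sum_eq_zero (fun l hl => by simp [(mem_mids.1 hl).1, hnm0])]
      simp [hμ0, hnm0]
    · rw [Finset.sum_eq_zero (fun l hl => by simp [(mem_mids.1 hl).1, hnm0])]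
      simp [hnm0, hnm1]
    · rw [Finset.sum_eq_zero (fun l hl => by simp [(mem_mids.1 hl).1, hnm0])]
      simp [hnm0, hnm1, hb.1, hb.2, hb.1.symm]
    · rw [Finset.sum_eq_zero (fun l hl => by simp [(mem_mids.1 hl).2, hnm1])]
      simp [hnm0, hnm1]
    · rw [Finset.sum_eq_zero (fun l hl => by simp [(mem_mids.1 hl).2, hnm1])]
      simp [hμ0, hnm1]
    · rw [Finset.sum_eq_zero (fun l hl => by simp [(mem_mids.1 hl).2, hnm1])]
      simp [hnm0, hnm1, hb.1, hb.2, hb.2.symm]
    · rw [Finset.sum_eq_zero (fun l hl => by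
        simp [(mem_mids.1 hl).1, (mem_mids.1 hl).2, s1_mid (mem_mids.1 hl).1 (mem_mids.1 hl).2, hnm1])]
      simp [hnm0, hnm1, ha.1, ha.2]
    · rw [Finset.sum_eq_zero (fun l hl => by
        simp [(mem_mids.1 hl).1, (mem_mids.1 hl).2, s1_mid (mem_mids.1 hl).1 (mem_mids.1 hl).2, hnm0])]
      simp [hnm0, hnm1, ha.1, ha.2]
    · have := hSd a b ha hb
      rw [Finset.sum_mul] at this
      rw [Finset.sum_congr rfl (g := fun l => σ a l * (g b / g l * σ b l) * μ) (fun l hl => by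
        simp [(mem_mids.1 hl).1, (mem_mids.1 hl).2, s1_mid (mem_mids.1 hl).1 (mem_mids.1 hl).2, ha, ha.1, ha.2, hb,
          hb.1, hb.2, mem_mids.1 hl]
        ring), this]
      simp [ha.1, ha.2, hnm0, hnm1]
  let Au : GL (Ix n) F := ⟨Am, Ai, hAA, mul_eq_one_comm.1 hAA⟩
  set h := sl j Au * embGL j C with hh
  have hhe : (h : MV) = ten j Am C0 := by rw [hh, Units.val_mul, sl_coe, embGL_coe]; rfl
  have hhtw : h ∈ tensorWreathStandard (n + 3) (s + 1) F := mul_mem (sl_mem_tw _ _) (embGL_tw j hC)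
  have hhu : h ∈ uT hg (s + 1) := by
    rw [mem_uSub, mul_eq_one_comm, hhe, adj_ten hg, ten_mul, ← haC, haCC, ten_smul_right, ← ten_smul_left,
      ← Matrix.smul_mul, show μ • adj g (s1 n) Am = Ai from rfl, mul_eq_one_comm.1 hAA, ten_one]
  set t := h⁻¹ * g1 with ht
  have htu : t ∈ uT hg (s + 1) := mul_mem (inv_mem hhu) hg1u
  have hhi : ((h⁻¹ : GL (Fin (s + 1) → Ix n) F) : MV) = ten j Ai Ci := by
    rw [hh, embGL_comm, _root_.mul_inv_rev, ← sl_inv, ← map_inv, Units.val_mul, sl_coe, embGL_coe]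
    rfl
  have hAst : Stb j (ten j Ai Ci : MV) := by
    refine Stb.ten_diag j (fun a ha => ?_) (fun b hb => ?_) Ci
    · rw [hAa, hAm, s1_zero]
      have : s1 n a ≠ 1 := fun e => ha (by rw [← s1_inv a, e, s1_one])
      simp [this, hnm1]
    · rw [hAa, hAm, s1_one]
      have : s1 n b ≠ 0 := fun e => hb (by rw [← s1_inv b, e, s1_zero])
      simp [this, hnm0]
  have hAi11 : Ai 1 1 = 1 := by rw [hAa, hAm, s1_one]; simp [hg.g1, hμ0]
  have htd : Dia j (t : MV) (1 : MU) := by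
    rw [ht, Units.val_mul, hhi]
    refine ⟨hAst.mul hst, ?_, fun a c ha hc => ?_⟩
    · rw [hAst.row1, bk_ten, hAi11, one_smul]; exact C.inv_mul
    · rw [hAst.mid hst ha hc]
      have e : ∀ d ∈ mids n, bk j a d (ten j Ai Ci : MV) * bk j d c G = (Ai a d * Am d c) • (1 : MU) := by
        intro d hd
        have hd' := mem_mids.1 hd
        rw [bk_ten, hσ d c hd' hc, Matrix.smul_mul, Matrix.mul_smul, smul_smul, hCi, hC0, gl_inv_mul, hAm]
        simp [hd', hd'.1, hd'.2, hc, hc.1]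
      rw [Finset.sum_congr rfl e, ← Finset.sum_smul]
      have hAiA : Ai * Am = 1 := mul_eq_one_comm.1 hAA
      have h1 := congrFun (congrFun hAiA a) c
      rw [Matrix.mul_apply, sum_split, Matrix.one_apply] at h1
      have e0 : Am 0 c = 0 := by rw [hAm]; simp [hc.1, hnm0]
      have e1 : Am 1 c = 0 := by rw [hAm]; simp [hc.2, hnm1]
      rw [e0, e1, mul_zero, mul_zero, zero_add, zero_add] at h1
      rw [h1]
      split_ifs <;> simp
  obtain ⟨G', Z, -, -, et⟩ := shape_relT htu htd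
  have ht3 : ((t : MV) - 1) ^ 3 = 0 := by
    rw [et, add_sub_cancel_left, pow_succ, pow_two, relT_mul, neg_mul, relT, mul_add, (aa_mul_rsum j _ G').1,
      ten_mul, aa_aa, ten_zero_left, add_zero, neg_zero]
  have e : h0 * h = x0 * t⁻¹ := by rw [ht, hg1]; group
  have hhM : h0 * h ∈ M := hM.mem ⟨mul_mem hh0 hhtw, by
    show h0 * h ∈ Om hg (s + 1)
    rw [e]; exact mul_mem (hM.le hx) (inv_mem (unip_mem h2 hM.ht htu ht3))⟩
  have htM : t ∈ M := by
    rw [show t = (h0 * h)⁻¹ * x0 by rw [e]; group]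
    exact M.mul_mem (M.inv_mem hhM) hx
  obtain ⟨u, -, hu⟩ := (hM.dia_slot j htM htd).2
  rw [show x0 = h0 * h * t by rw [e]; group, hu]
  exact mul_mem (mul_mem hh0 hhtw) (sl_mem_tw _ _)

end CfsgLib.Perm.Trans.TensorPowerO
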