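import Mathlib
import Cfsg.Agent.Lib.Perm.Trans.TensorPowerO.Rigid

/-!
# Rigidity and fusion of roots
-/

set_option autoImplicit false
set_option linter.all false

namespace CfsgLib.Perm.Trans.TensorPowerO

open scoped Matrix
open Matrix Cfsg.Geo CfsgLib.Perm.Asch CfsgLib.Perm.Trans CfsgLib.Perm.Trans.TensorPower
open CfsgLib.Perm.Trans.TensorSO CfsgLib.Perm.Trans.TensorOO

variable {F : Type*} [Field F] {n s : ℕ} {g : Ix n → F}

local notation "M1" => Matrix (Ix n) (Ix n) F
local notation "MV" => Matrix (Fin (s + 1) → Ix n) (Fin (s + 1) → Ix n) F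
local notation "VU" => (Fin s → Ix n) → F
local notation "B1" => bf g (s1 n)

/-- non-zero pure tensors determine their factors up to scalars -/
theorem pv_prop {t : ℕ} {v w : Fin t → Ix n → F} (hv : ∀ l, v l ≠ 0) (h : TensorPower.pv w = TensorPower.pv v)
    (l : Fin t) : ∃ c : F, c ≠ 0 ∧ w l = c • v l := by
  classical
  choose x hx using fun k => Function.ne_iff.1 (hv k)
  set C := ∏ k ∈ Finset.univ.erase l, v k (x k) with hC
  set C' := ∏ k ∈ Finset.univ.erase l, w k (x k) with hC'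
  have hC0 : C ≠ 0 := Finset.prod_ne_zero_iff.2 fun k _ => hx k
  have key : ∀ a, w l a * C' = v l a * C := fun a => by
    have e := congrFun h (Function.update x l a)
    simp only [TensorPower.pv] at e
    rw [← Finset.mul_prod_erase Finset.univ _ (Finset.mem_univ l),
      ← Finset.mul_prod_erase Finset.univ (fun k => v k _) (Finset.mem_univ l)] at e
    simp only [Function.update_self] at e
    have hup : ∀ f : Fin t → Ix n → F, ∏ k ∈ Finset.univ.erase l, f k (Function.update x l a k) =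
        ∏ k ∈ Finset.univ.erase l, f k (x k) := fun f => Finset.prod_congr rfl fun k hk => by
      rw [Function.update_of_ne (Finset.ne_of_mem_erase hk)]
    rw [hup w, hup v] at e
    exact e
  have hC'0 : C' ≠ 0 := fun e => by
    have := key (x l)
    rw [e, mul_zero, eq_comm, mul_eq_zero] at this
    exact this.elim (hx l) hC0
  refine ⟨C / C', div_ne_zero hC0 hC'0, funext fun a => ?_⟩
  rw [Pi.smul_apply, smul_eq_mul, eq_comm, div_mul_eq_mul_div, div_eq_iff hC'0, key, mul_comm]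

/-- a pure tensor with one factor split off -/
theorem tv_pv (j : Fin (s + 1)) (v : Fin (s + 1) → Ix n → F) :
    tv j (v j) (TensorPower.pv fun i => v (j.succAbove i)) = TensorPower.pv v := by
  funext z
  simp only [tv, TensorPower.pv, Fin.prod_univ_succAbove _ j]

/-- a permutation of the factors on a split vector -/
theorem perm_tv (j l : Fin (s + 1)) (x : Ix n → F) (w : VU) :
    ∃ w' : VU, (permGL (Equiv.swap j l) : GL (Fin (s + 1) → Ix n) F).val *ᵥ tv j x w = tv l x w' := by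
  classical
  set σ := Equiv.swap j l with hσ
  refine ⟨fun p => w fun i => (l.insertNth (α := fun _ => Ix n) 0 p) (σ (j.succAbove i)), funext fun z => ?_⟩
  rw [permGL_coe, mulVec, dotProduct, Finset.sum_eq_single (z ∘ σ)]
  · rw [permMat, Matrix.of_apply, if_pos rfl, one_mul]
    simp only [tv, Function.comp_apply]
    rw [hσ, Equiv.swap_apply_left]
    congr 1
    congr 1
    funext i
    obtain ⟨k, hk⟩ := Fin.exists_succAbove_eq (show Equiv.swap j l (j.succAbove i) ≠ l from fun e =>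
      Fin.succAbove_ne j i ((Equiv.swap j l).injective (e.trans (Equiv.swap_apply_left j l).symm)))
    rw [← hk, Fin.insertNth_apply_succAbove]
  · intro y _ hy
    rw [permMat, Matrix.of_apply, if_neg hy, zero_mul]
  · simp

/-- the singular vectors form one orbit -/
theorem exists_to_e0 (hg : Dg g) (h2 : (2 : F) ≠ 0) {a : Ix n → F} (ha0 : a ≠ 0) (haa : B1 a a = 0) :
    ∃ A ∈ u1 hg, (A : M1) *ᵥ Pi.single 0 1 = a := by
  have hs := bf_symmetric hg.wg
  have step : ∀ u w : Ix n → F, B1 u u = 0 → B1 w w = 0 → B1 u w ≠ 0 → ∃ A ∈ u1 hg, (A : M1) *ᵥ u = w := by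
    intro u w hu hw huw
    have hd : B1 (u - w) (u - w) = -2 * B1 u w := by
      rw [Orth.sym_sub_left hs, Orth.sym_sub_right hs, Orth.sym_sub_right hs, hu, hw, bf_comm hg.wg w u]; ring
    have hd0 : B1 (u - w) (u - w) ≠ 0 := by rw [hd]; exact mul_ne_zero (neg_ne_zero.2 h2) huw
    refine ⟨refl hs (u - w) hd0, rfl_mem hg.wg _ _, ?_⟩
    rw [refl_mulVec, hd, Orth.sym_sub_right hs, hu, zero_sub,
      show 2 / (-2 * B1 u w) * -B1 u w = 1 by field_simp, one_smul, sub_sub_cancel]
  have h00 : B1 (Pi.single 0 1) (Pi.single 0 1) = 0 := by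
    rw [bf_single hg.wg, s1_zero, Pi.single_eq_of_ne zero_ne_one'.symm, mul_zero]
  by_cases h : a 1 = 0
  swap
  · exact step _ a h00 haa (by rw [bf_single hg.wg, s1_zero, hg.g0, one_mul]; exact h)
  obtain ⟨c, hcc, hc1, hac⟩ : ∃ c : Ix n → F, B1 c c = 0 ∧ c 1 ≠ 0 ∧ B1 c a ≠ 0 := by
    by_cases h0 : a 0 = 0
    · obtain ⟨k, hk⟩ := Function.ne_iff.1 ha0
      have hkm : Mid k := ⟨fun e => hk (by rw [e, h0]; rfl), fun e => hk (by rw [e, h]; rfl)⟩
      refine ⟨(-(g k) / 2) • Pi.single 0 1 + Pi.single 1 1 + Pi.single k 1, ?_, ?_, ?_⟩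
      · rw [bf_add_left, bf_add_left, bf_smul_left, bf_single hg.wg, bf_single hg.wg, bf_single hg.wg, s1_zero, s1_one,
          s1_mid hkm.1 hkm.2, hg.g0, hg.g1]
        simp [hkm.1, hkm.2, hkm.1.symm, hkm.2.symm]
        field_simp
        ring
      · simp [hkm.2.symm]
      · rw [bf_add_left, bf_add_left, bf_smul_left, bf_single hg.wg, bf_single hg.wg, bf_single hg.wg, s1_zero, s1_one,
          s1_mid hkm.1 hkm.2, h, h0]
        simpa [hg.nz k] using hk
    · refine ⟨Pi.single 1 1, ?_, by simp, ?_⟩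
      · rw [bf_single hg.wg, s1_one, Pi.single_eq_of_ne zero_ne_one', mul_zero]
      · rw [bf_single hg.wg, s1_one, hg.g1, one_mul]; exact h0
  obtain ⟨A, hA, hA'⟩ := step _ c h00 hcc (by rw [bf_single hg.wg, s1_zero, hg.g0, one_mul]; exact hc1)
  obtain ⟨B, hB, hB'⟩ := step c a hcc haa hac
  exact ⟨B * A, mul_mem hB hA, by rw [gl_mul_mulVec, hA', hB']⟩

/-- the slice through `e 0` and the blocks -/
theorem mulVec_slice (j : Fin (s + 1)) (X : MV) (w : VU) (c : Ix n) (p : Fin s → Ix n) :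
    (X *ᵥ tv j (Pi.single 0 1) w) (j.insertNth (α := fun _ => Ix n) c p) = (bk j c 0 X *ᵥ w) p := by
  rw [mulVec, dotProduct, sum_insertNth j, Finset.sum_eq_single 0]
  · rw [mulVec, dotProduct]
    refine Finset.sum_congr rfl fun q _ => ?_
    rw [tv_apply_insertNth, Pi.single_eq_same, one_mul]
    rfl
  · intro b _ hb
    exact Finset.sum_eq_zero fun q _ => by rw [tv_apply_insertNth, Pi.single_eq_of_ne hb, zero_mul, mul_zero]
  · simp

variable [Fintype F]

theorem stb_of_slice {hg : Dg g} {j : Fin (s + 1)} {x : GL (Fin (s + 1) → Ix n) F} (hx : x ∈ uT hg (s + 1))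
    (h : ∀ w, ∃ w', (x : MV) *ᵥ tv j (Pi.single 0 1) w = tv j (Pi.single 0 1) w') : Stb j (x : MV) := by
  classical
  have hcol : ∀ y : GL (Fin (s + 1) → Ix n) F,
      (∀ w, ∃ w', (y : MV) *ᵥ tv j (Pi.single 0 1) w = tv j (Pi.single 0 1) w') →
      ∀ c, c ≠ 0 → bk j c 0 (y : MV) = 0 := by
    intro y hy c hc
    refine Matrix.ext_iff_mulVec.2 fun w => funext fun p => ?_
    obtain ⟨w', e⟩ := hy w
    rw [← mulVec_slice, e, tv_apply_insertNth, Pi.single_eq_of_ne hc, zero_mul, zero_mulVec]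
    rfl
  have hp : ∀ k : ℕ, ∀ w, ∃ w', ((x ^ k : GL (Fin (s + 1) → Ix n) F) : MV) *ᵥ tv j (Pi.single 0 1) w =
      tv j (Pi.single 0 1) w' := by
    intro k
    induction k with
    | zero => exact fun w => ⟨w, by rw [pow_zero, Units.val_one, one_mulVec]⟩
    | succ k ih =>
      intro w
      obtain ⟨w', e⟩ := ih w
      obtain ⟨w'', e'⟩ := h w'
      exact ⟨w'', by rw [pow_succ', Units.val_mul, ← mulVec_mulVec, e, e']⟩
  have hinv : x ^ (orderOf x - 1) = x⁻¹ := by
    refine eq_inv_of_mul_eq_one_left ?_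
    rw [← pow_succ, Nat.sub_add_cancel (orderOf_pos x), pow_orderOf_eq_one]
  refine ⟨hcol x h, fun b hb => ?_⟩
  have e : (x : MV) = adj (gT g (s + 1)) (sT n (s + 1)) ((x⁻¹ : GL (Fin (s + 1) → Ix n) F) : MV) := by
    rw [← adj_of_mem hx, adj_adj hg.wgT]
  rw [e, bk_adj hg, s1_one, hcol x⁻¹ (hinv ▸ hp _) (s1 n b) (fun e => hb (by rw [← s1_inv b, e, s1_zero])), adj_zero,
    smul_zero]

/-- an element of the wreath subgroup fixing a slice pointwise lies in its factor -/
theorem tw_fix_slice {hg : Dg g} {x : GL (Fin (s + 1) → Ix n) F} (hx : x ∈ tensorWreathStandard (n + 3) (s + 1) F)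
    (hxU : x ∈ uT hg (s + 1)) {j : Fin (s + 1)} {a : Ix n → F} (ha : a ≠ 0)
    (h : ∀ w, (x : MV) *ᵥ tv j a w = tv j a w) : ∃ u ∈ u1 hg, x = sl j u ∧ (u : M1) *ᵥ a = a := by
  classical
  obtain ⟨σ, A, hA⟩ := tw_shape hx
  have key : ∀ v : Fin (s + 1) → Ix n → F, v j = a → (∀ l, v l ≠ 0) → ∀ l, ∃ c : F, c ≠ 0 ∧
      (A (σ.symm l) : M1) *ᵥ v (σ.symm l) = c • v l := by
    intro v hvj hv l
    refine pv_prop (w := fun l => (A (σ.symm l) : M1) *ᵥ v (σ.symm l)) hv ?_ l
    rw [← wreath_pv, ← hA]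
    conv_lhs => rw [← tv_pv j v, hvj, h, ← hvj, tv_pv j v]
  have hne : ∀ (e : Ix n), (Pi.single e (1 : F) : Ix n → F) ≠ 0 := fun e => by simp
  let v0 : Fin (s + 1) → Ix n → F := Function.update (fun _ => Pi.single 0 1) j a
  have hv0j : v0 j = a := Function.update_self _ _ _
  have hv0 : ∀ l, v0 l ≠ 0 := fun l => by
    simp only [v0]; rcases eq_or_ne l j with rfl | hl
    · rw [Function.update_self]; exact ha
    · rw [Function.update_of_ne hl]; exact hne 0
  have hfix : ∀ l, l ≠ j → σ.symm l = l := by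
    intro l hl
    by_contra hm
    obtain ⟨c, hc, e⟩ := key v0 hv0j hv0 l
    set v1 := Function.update v0 l (Pi.single 1 1) with hv1
    obtain ⟨d, hd, e'⟩ := key v1 (by rw [hv1, Function.update_of_ne hl.symm, hv0j]) (fun k => by
      rcases eq_or_ne k l with rfl | hk
      · rw [hv1, Function.update_self]; exact hne 1
      · rw [hv1, Function.update_of_ne hk]; exact hv0 k) l
    rw [hv1, Function.update_of_ne hm, Function.update_self, e] at e'
    have := congrFun e' 1
    simp only [v0, Function.update_of_ne hl, Pi.smul_apply, Pi.single_eq_same,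
      Pi.single_eq_of_ne (zero_ne_one'.symm), smul_eq_mul, mul_zero, mul_one] at this
    exact hd this.symm
  have hσ : σ = 1 := by
    have hj : σ.symm j = j := by
      by_contra hm
      exact hm (σ.symm.injective (hfix _ hm))
    refine Equiv.ext fun l => ?_
    have : σ.symm l = l := by
      rcases eq_or_ne l j with rfl | hl
      exacts [hj, hfix l hl]
    rw [Equiv.Perm.one_apply]
    exact ((Equiv.symm_apply_eq σ).1 this).symm
  have hsc : ∀ l, ∃ c : F, l ≠ j → (A l : M1) = c • 1 := by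
    intro l
    rcases eq_or_ne l j with rfl | hl
    · exact ⟨0, fun h => absurd rfl h⟩
    have hev : ∀ v : Ix n → F, ∃ c : F, (A l : M1) *ᵥ v = c • v := by
      intro v
      by_cases hv : v = 0
      · exact ⟨0, by rw [hv, mulVec_zero, smul_zero]⟩
      obtain ⟨c, -, e⟩ := key (Function.update v0 l v) (by rw [Function.update_of_ne hl.symm, hv0j]) (fun k => by
        rcases eq_or_ne k l with rfl | hk
        · rw [Function.update_self]; exact hv
        · rw [Function.update_of_ne hk]; exact hv0 k) l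
      rw [hfix l hl, Function.update_self] at e
      exact ⟨c, e⟩
    obtain ⟨c, hc⟩ := TensorMax.scalar_of_eigen (by omega) hev
    exact ⟨c, fun _ => Matrix.ext_iff_mulVec.2 fun v => by rw [hc, Matrix.smul_mulVec, one_mulVec]⟩
  choose c hc using hsc
  let cc : Fin (s + 1) → F := fun l => if l = j then 1 else c l
  let u' : M1 := (∏ l, cc l) • (A j : M1)
  have hxe : (x : MV) = slot j u' := by
    rw [hA, hσ, permGL_one, one_mul, pureGL_coe, TensorPower.slot_smul, slot, ← pure_smul]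
    congr 1
    funext l
    rcases eq_or_ne l j with rfl | hl
    · simp [cc]
    · simp [cc, hl, hc l hl, Pi.mulSingle_eq_of_ne hl]
  have hu' : IsUnit u' := by
    have hP : ∏ l, cc l ≠ 0 := by
      intro e
      have := congrArg (fun X : M1 => (slot j X : MV)) (show u' = 0 by simp only [u', e, zero_smul])
      simp only [← hxe, TensorPower.slot_zero] at this
      exact (haveI inst : Nonempty (Fin (s + 1) → Ix n) := ⟨fun _ => 0⟩; x.ne_zero this)
    simp only [u']
    exact ⟨⟨_, (∏ l, cc l)⁻¹ • ((A j)⁻¹ : GL (Ix n) F).val,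
      by rw [Matrix.smul_mul, Matrix.mul_smul, gl_mul_inv, smul_smul, mul_inv_cancel₀ hP, one_smul],
      by rw [Matrix.smul_mul, Matrix.mul_smul, gl_inv_mul, smul_smul, inv_mul_cancel₀ hP, one_smul]⟩, rfl⟩
  obtain ⟨u, hu⟩ := hu'
  have hxu : x = sl j u := Units.ext (by rw [sl_coe, hu, hxe])
  refine ⟨u, (sl_mem_iff (hg := hg) j).1 (hxu ▸ hxU), hxu, ?_⟩
  have e := h (TensorPower.pv fun _ => Pi.single 0 1)
  rw [hxu, sl_coe, ← ten_one_right, ten_tv, one_mulVec] at e
  funext b
  have e2 := congrFun e (j.insertNth (α := fun _ => Ix n) b fun _ => 0)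
  rw [tv_apply_insertNth, tv_apply_insertNth] at e2
  simpa [TensorPower.pv] using e2

variable {hg : Dg g} {M : Subgroup (GL (Fin (s + 1) → Ix n) F)} (hM : Ctx hg M)
include hM

/-- **Theorem.** Elements moving a singular slice to a singular slice lie in the wreath subgroup. -/
theorem Ctx.pure_rigid (hN : NormTw hg s) {x : GL (Fin (s + 1) → Ix n) F} (hx : x ∈ M) {j l : Fin (s + 1)}
    {a a' : Ix n → F} (ha : a ≠ 0) (haa : B1 a a = 0) (ha' : a' ≠ 0) (ha'a' : B1 a' a' = 0)
    (h : ∀ w, ∃ w', (x : MV) *ᵥ tv j a w = tv l a' w') : x ∈ tensorWreathStandard (n + 3) (s + 1) F := by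
  obtain ⟨A, hA, hAe⟩ := exists_to_e0 hg hM.two ha haa
  obtain ⟨B, hB, hBe⟩ := exists_to_e0 hg hM.two ha' ha'a'
  have hha : sl j A ∈ tensorWreathStandard (n + 3) (s + 1) F := sl_mem_tw _ _
  have hhau : sl j A ∈ uT hg (s + 1) := sl_mem_uT _ hA
  set h0 := sl l B * permGL (Equiv.swap j l) with hh0
  have hh0t : h0 ∈ tensorWreathStandard (n + 3) (s + 1) F := mul_mem (sl_mem_tw _ _) (perm_mem_tw _)
  have hh0u : h0 ∈ uT hg (s + 1) := mul_mem (sl_mem_uT _ hB) (permGL_mem_uT _)
  have hMa := hM.conj (inv_mem hha) (inv_mem hhau)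
  have hslA : ∀ (j : Fin (s + 1)) (A : GL (Ix n) F) (v : Ix n → F) (w : VU),
      (sl j A : MV) *ᵥ tv j v w = tv j ((A : M1) *ᵥ v) w := fun j A v w => by
    rw [sl_coe, ← ten_one_right, ten_tv, one_mulVec]
  have hst : Stb j (((((sl j A)⁻¹ * h0)⁻¹ * ((sl j A)⁻¹ * x * sl j A) : GL (Fin (s + 1) → Ix n) F)) : MV) := by
    rw [show ((sl j A)⁻¹ * h0)⁻¹ * ((sl j A)⁻¹ * x * sl j A) = h0⁻¹ * x * sl j A by group]
    refine stb_of_slice (hg := hg) (mul_mem (mul_mem (inv_mem hh0u) (hM.le_uT hx)) hhau) fun w => ?_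
    obtain ⟨w', e⟩ := h w
    rw [Units.val_mul, Units.val_mul, ← mulVec_mulVec, ← mulVec_mulVec, hslA, hAe, e]
    obtain ⟨w'', e'⟩ := perm_tv (n := n) (F := F) l j a' w'
    obtain ⟨w''', e''⟩ := perm_tv (n := n) (F := F) l j (Pi.single 0 1) w'
    refine ⟨w''', ?_⟩
    rw [hh0, _root_.mul_inv_rev, ← sl_inv, Units.val_mul, ← mulVec_mulVec, hslA,
      show ((B⁻¹ : GL (Ix n) F) : M1) *ᵥ a' = Pi.single 0 1 by rw [← hBe, gl_inv_mulVec],
      show (permGL (Equiv.swap j l))⁻¹ = (permGL (Equiv.swap l j) : GL (Fin (s + 1) → Ix n) F) from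
        inv_eq_of_mul_eq_one_right (by rw [permGL_mul, Equiv.swap_comm l j, Equiv.swap_mul_self, permGL_one])]
    exact e''
  have hmem : (sl j A)⁻¹ * x * sl j A ∈ M.map (MulAut.conj (sl j A)⁻¹).toMonoidHom :=
    ⟨x, hx, by simp [MulAut.conj]⟩
  have := hMa.slice_tw hN hmem (h0 := (sl j A)⁻¹ * h0) (mul_mem (inv_mem hha) hh0t) (mul_mem (inv_mem hhau) hh0u) hst
  have e : x = sl j A * ((sl j A)⁻¹ * x * sl j A) * (sl j A)⁻¹ := by group
  rw [e]
  exact mul_mem (mul_mem hha this) (inv_mem hha)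

/-- **Theorem.** An element fixing a singular slice pointwise lies in its factor. -/
theorem Ctx.pointwise_slot (hN : NormTw hg s) {x : GL (Fin (s + 1) → Ix n) F} (hx : x ∈ M) {j : Fin (s + 1)}
    {a : Ix n → F} (ha : a ≠ 0) (haa : B1 a a = 0) (h : ∀ w, (x : MV) *ᵥ tv j a w = tv j a w) :
    ∃ u ∈ u1 hg, x = sl j u ∧ (u : M1) *ᵥ a = a := by
  exact tw_fix_slice (hM.pure_rigid hN hx ha haa ha haa fun w => ⟨w, h w⟩) (hM.le_uT hx) ha h

/-- **Theorem.** A conjugate of a root fixes a singular slice pointwise only for elements of the wreath subgroup. -/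
theorem Ctx.root_fix (hN : NormTw hg s) {x : GL (Fin (s + 1) → Ix n) F} (hx : x ∈ M) {j l : Fin (s + 1)}
    {u : GL (Ix n) F} {a ψ : Ix n → F} (hu : sl j u ∈ M) (ha : a ≠ 0) (haa : B1 a a = 0) (hψ : ψ ≠ 0)
    (hN2 : ((u : M1) - 1) * ((u : M1) - 1) = vecMulVec a ψ) (hN3 : ((u : M1) - 1) * vecMulVec a ψ = 0)
    {a' : Ix n → F} (ha' : a' ≠ 0) (ha'a' : B1 a' a' = 0)
    (hfix : ∀ w, ((x * sl j u * x⁻¹ : GL (Fin (s + 1) → Ix n) F) : MV) *ᵥ tv l a' w = tv l a' w) :
    x ∈ tensorWreathStandard (n + 3) (s + 1) F := by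
  classical
  obtain ⟨v, hv, hy, -⟩ := hM.pointwise_slot hN (M.mul_mem (M.mul_mem hx hu) (M.inv_mem hx)) ha' ha'a' hfix
  set N := (u : M1) - 1 with hNdef
  set N' := (v : M1) - 1 with hN'def
  have hcj : cj x (slot j N : MV) = slot l N' := by
    rw [hNdef, hN'def, TensorPower.slot_sub, TensorPower.slot_sub, TensorPower.slot_one, TensorPower.slot_one,
      cj_sub, cj_one, ← sl_coe, ← sl_coe, ← hy, cj_coe]
  have h2 : cj x (slot j (vecMulVec a ψ) : MV) = slot l (N' * N') := by
    rw [← hN2, ← slot_mul, ← slot_mul, cj_mul, hcj]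
  have h4 : N' * N' * (N' * N') = 0 := by
    haveI : Nonempty (Ix n) := ⟨0⟩
    refine slot_injective (t := s + 1) l ?_
    rw [← slot_mul, ← h2, ← cj_mul, slot_mul, ← hN2, mul_assoc, hN2, hN3, mul_zero, TensorPower.slot_zero,
      TensorPower.cj_zero, TensorPower.slot_zero]
  -- the image of the square is a singular line
  have hr1 : (N' * N').rank ≤ 1 := by
    have e : (slot l (N' * N') : MV).rank = (slot j (vecMulVec a ψ) : MV).rank := by rw [← h2, rank_cj]
    rw [rank_slot (by omega), rank_slot (by omega)] at e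
    rw [Nat.eq_of_mul_eq_mul_right (by positivity) e]
    exact rank_vecMulVec_le _ _
  obtain ⟨z, hz⟩ : ∃ z, (N' * N') *ᵥ z ≠ 0 := by
    by_contra hcon
    push Not at hcon
    have h0 : N' * N' = 0 := Matrix.ext_iff_mulVec.2 fun z => by rw [hcon, zero_mulVec]
    rw [h0, TensorPower.slot_zero] at h2
    haveI : Nonempty (Ix n) := ⟨0⟩
    have h1 : vecMulVec a ψ = (0 : M1) := slot_injective j (cj_injective x (by
      rw [h2, TensorPower.slot_zero, TensorPower.cj_zero]))
    exact vmv_ne_zero ha hψ h1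
  set b := (N' * N') *ᵥ z with hb
  have hadj : adj g (s1 n) (v : M1) = ((v⁻¹ : GL (Ix n) F) : M1) := adj_of_mem hv
  have hvb : B1 b b = 0 := by
    have e1 : adj g (s1 n) N' = -(((v⁻¹ : GL (Ix n) F) : M1) * N') := by
      rw [hN'def, adj_sub, adj_one hg.wg, hadj, mul_sub, mul_one, gl_inv_mul, neg_sub]
    have e2 : Commute ((v⁻¹ : GL (Ix n) F) : M1) N' :=
      (Units.commute_coe_inv v).symm.sub_right (Commute.one_right _)
    have e3 : adj g (s1 n) (N' * N') = ((v⁻¹ : GL (Ix n) F) : M1) * ((v⁻¹ : GL (Ix n) F) : M1) * (N' * N') := by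
      rw [adj_mul hg.wg, e1, neg_mul_neg]
      calc _ = ((v⁻¹ : GL (Ix n) F) : M1) * (N' * ((v⁻¹ : GL (Ix n) F) : M1)) * N' := by simp only [mul_assoc]
        _ = _ := by rw [← e2.eq]; simp only [mul_assoc]
    rw [hb, bf_mulVec_left hg.wg, mulVec_mulVec, e3, mul_assoc, h4, mul_zero, zero_mulVec]
    exact Orth.sym_zero_right (bf_symmetric hg.wg) z
  have himg : ∀ y, ∃ c : F, (N' * N') *ᵥ y = c • b := by
    intro y
    by_contra hcon
    push Not at hcon
    have hli : LinearIndependent F ![b, (N' * N') *ᵥ y] := by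
      rw [LinearIndependent.pair_iff]
      intro p q hpq
      by_cases hq : q = 0
      · rw [hq, zero_smul, add_zero] at hpq
        exact ⟨(smul_eq_zero.1 hpq).resolve_right hz, hq⟩
      · refine absurd ?_ (hcon (-(p / q)))
        linear_combination (norm := skip) q⁻¹ • hpq
        match_scalars <;> field_simp <;> ring
    have hle : Submodule.span F (Set.range ![b, (N' * N') *ᵥ y]) ≤ LinearMap.range (N' * N').mulVecLin :=
      Submodule.span_le.2 (by
        rintro _ ⟨i, rfl⟩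
        fin_cases i
        · exact LinearMap.mem_range.2 ⟨z, rfl⟩
        · exact LinearMap.mem_range.2 ⟨y, rfl⟩)
    have := Submodule.finrank_mono hle
    rw [finrank_span_eq_card hli, Fintype.card_fin] at this
    exact absurd (this.trans hr1) (by norm_num)
  choose cy hcy using himg
  refine hM.pure_rigid hN hx ha haa hz hvb (j := j) (l := l) fun w => ?_
  obtain ⟨y0, hy0⟩ := TensorMax.exists_dot_one hψ
  have e0 : (slot j (vecMulVec a ψ) : MV) *ᵥ tv j y0 w = tv j a w := by
    rw [← ten_one_right, ten_tv, one_mulVec, vecMulVec_mulVec, op_smul_eq_smul, dotProduct_comm, hy0, one_smul]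
  have e1 : (x : MV) *ᵥ tv j a w = (slot l (N' * N') : MV) *ᵥ ((x : MV) *ᵥ tv j y0 w) := by
    rw [← e0, ← h2, cj, mulVec_mulVec, mulVec_mulVec, mul_assoc _ _ (x : MV), gl_inv_mul, mul_one]
  rw [e1, tv_expand l ((x : MV) *ᵥ tv j y0 w), mulVec_sum]
  refine ⟨∑ c, cy (Pi.single c 1) • fun p => ((x : MV) *ᵥ tv j y0 w) (l.insertNth c p), ?_⟩
  rw [← tvR_apply l b, map_sum]
  refine Finset.sum_congr rfl fun c _ => ?_
  rw [← ten_one_right, ten_tv, one_mulVec, hcy, map_smul, tvR_apply, ← tvL_apply, map_smul, tvL_apply]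

end CfsgLib.Perm.Trans.TensorPowerO
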