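import Mathlib
import Cfsg.Agent.Lib.Perm.Trans.TensorPowerO.Frame
import Cfsg.Agent.Lib.IsometryConj.Norm

/-!
# Singular planes of one factor and their elements
-/

set_option autoImplicit false
set_option linter.all false

namespace CfsgLib.Perm.Trans.TensorPowerO

open scoped Matrix
open Matrix Cfsg.Geo CfsgLib.Perm.Asch CfsgLib.Perm.Trans CfsgLib.Perm.Trans.TensorPower
open CfsgLib.Perm.Trans.TensorSO CfsgLib.Perm.Trans.TensorOO

variable {F : Type*} [Field F] {n : ℕ} {g : Ix n → F}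

local notation "M1" => Matrix (Ix n) (Ix n) F
local notation "V1" => Ix n → F
local notation "B1" => bf g (s1 n)

/-- two vectors spanning a totally singular plane -/
structure Sing2 (g : Ix n → F) (a b : Ix n → F) : Prop where
  left : bf g (s1 n) a a = 0
  right : bf g (s1 n) b b = 0
  orth : bf g (s1 n) a b = 0
  li : LinearIndependent F ![a, b]

/-- the element attached to a singular plane -/
def bigD (g : Ix n → F) (a b : Ix n → F) : Matrix (Ix n) (Ix n) F :=
  vecMulVec a (dual g (s1 n) b) - vecMulVec b (dual g (s1 n) a)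

theorem bigD_mulVec (a b x : V1) : bigD g a b *ᵥ x = B1 b x • a - B1 a x • b := by
  rw [bigD, sub_mulVec, vecMulVec_mulVec, vecMulVec_mulVec, op_smul_eq_smul, op_smul_eq_smul]
  rfl

theorem bigD_adj (hg : Dg g) (a b : V1) : adj g (s1 n) (bigD g a b) = -bigD g a b := by
  rw [bigD, adj_sub, adj_vecMulVec hg.wg, adj_vecMulVec hg.wg, neg_sub]

theorem bigD_zero_iff (hg : Dg g) {a b x : V1} (h : Sing2 g a b) :
    bigD g a b *ᵥ x = 0 ↔ B1 a x = 0 ∧ B1 b x = 0 := by
  rw [bigD_mulVec]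
  refine ⟨fun e => ?_, fun e => by rw [e.1, e.2, zero_smul, zero_smul, sub_zero]⟩
  have := LinearIndependent.pair_iff.1 h.li (B1 b x) (-(B1 a x)) (by rw [neg_smul, ← sub_eq_add_neg, e])
  exact ⟨neg_eq_zero.1 this.2, this.1⟩

theorem Sing2.sq (hg : Dg g) {a b : V1} (h : Sing2 g a b) : bigD g a b * bigD g a b = 0 := by
  have hs := bf_symmetric hg.wg
  refine Matrix.ext_iff_mulVec.2 fun x => ?_
  rw [zero_mulVec, ← mulVec_mulVec, bigD_mulVec (x := x), (bigD_zero_iff hg h).2]
  refine ⟨?_, ?_⟩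
  · rw [Orth.sym_sub_right hs, bf_smul_right, bf_smul_right, h.left, h.orth, mul_zero, mul_zero, sub_zero]
  · rw [Orth.sym_sub_right hs, bf_smul_right, bf_smul_right, bf_comm hg.wg b a, h.orth, h.right, mul_zero, mul_zero,
      sub_zero]

/-- independent dual vectors -/
theorem Sing2.exists_coord (hg : Dg g) {a b : V1} (h : Sing2 g a b) :
    ∃ x : V1, B1 b x = 1 ∧ B1 a x = 0 := by
  have hb : dual g (s1 n) b ∉ Submodule.span F ({dual g (s1 n) a} : Set V1) := fun hm => by
    obtain ⟨c, hc⟩ := Submodule.mem_span_singleton.1 hm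
    have e : b - c • a = 0 := dual_eq_zero hg.wg (by rw [dual_sub, dual_smul, hc, sub_self])
    have := (LinearIndependent.pair_iff.1 h.li (-c) 1 (by rw [neg_smul, one_smul, ← e]; abel)).2
    exact one_ne_zero this
  obtain ⟨φ, hφ, hφ0⟩ := CfsgLib.Perm.Asch.exists_dual _ hb
  refine ⟨φ, ?_, ?_⟩
  · rw [bf, dotProduct_comm]; exact hφ
  · rw [bf, dotProduct_comm]; exact hφ0 _ (Submodule.mem_span_singleton_self _)

theorem Sing2.ne_zero (hg : Dg g) {a b : V1} (h : Sing2 g a b) : bigD g a b ≠ 0 := fun e => by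
  obtain ⟨x, hx, hx'⟩ := h.exists_coord hg
  have h1 := congrArg (· *ᵥ x) e
  simp only [bigD_mulVec, hx, hx', one_smul, zero_smul, sub_zero, zero_mulVec] at h1
  exact (LinearIndependent.ne_zero 0 h.li) h1

/-- the big root -/
def bigU (hg : Dg g) {a b : Ix n → F} (h : Sing2 g a b) : GL (Ix n) F :=
  ⟨1 + bigD g a b, 1 - bigD g a b, by rw [add_mul, one_mul, mul_sub, mul_one, h.sq hg, sub_zero, sub_add_cancel],
    by rw [sub_mul, one_mul, mul_add, mul_one, h.sq hg, add_zero, add_sub_cancel_right]⟩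

theorem bigU_coe (hg : Dg g) {a b : V1} (h : Sing2 g a b) : (bigU hg h : M1) = 1 + bigD g a b := rfl

theorem bigU_mem (hg : Dg g) {a b : V1} (h : Sing2 g a b) : bigU hg h ∈ u1 hg :=
  mem_of_one_add rfl (h.sq hg) (bigD_adj hg a b)

/-! ### Siegel elements -/

/-- the infinitesimal Siegel element -/
def sgN (g : Ix n → F) (x v : Ix n → F) : Matrix (Ix n) (Ix n) F :=
  vecMulVec v (dual g (s1 n) x) - vecMulVec x (dual g (s1 n) v)

theorem sgN_mulVec (x v w : V1) : sgN g x v *ᵥ w = B1 x w • v - B1 v w • x := bigD_mulVec v x w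

theorem sgN_sq (hg : Dg g) {x v : V1} (hxx : B1 x x = 0) (hxv : B1 x v = 0) :
    sgN g x v * sgN g x v = vecMulVec x (-(B1 v v) • dual g (s1 n) x) := by
  have hs := bf_symmetric hg.wg
  refine Matrix.ext_iff_mulVec.2 fun w => ?_
  rw [← mulVec_mulVec, sgN_mulVec, sgN_mulVec, vecMulVec_mulVec, op_smul_eq_smul, smul_dotProduct, smul_eq_mul,
    Orth.sym_sub_right hs, Orth.sym_sub_right hs, bf_smul_right, bf_smul_right, bf_smul_right, bf_smul_right, hxx, hxv,
    bf_comm hg.wg v x, hxv]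
  show _ = (-(B1 v v) * B1 x w) • x
  module

theorem sgN_centre (hg : Dg g) {x v : V1} (hxx : B1 x x = 0) (hxv : B1 x v = 0) : sgN g x v *ᵥ x = 0 := by
  rw [sgN_mulVec, bf_comm hg.wg v x, hxx, hxv, zero_smul, zero_smul, sub_zero]

theorem sgN_cube (hg : Dg g) {x v : V1} (hxx : B1 x x = 0) (hxv : B1 x v = 0) :
    sgN g x v * (sgN g x v * sgN g x v) = 0 := by
  rw [sgN_sq hg hxx hxv, mul_vecMulVec, sgN_centre hg hxx hxv]
  ext; simp [vecMulVec_apply]

theorem sgN_adj (hg : Dg g) (x v : V1) : adj g (s1 n) (sgN g x v) = -sgN g x v := bigD_adj hg v x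

/-- the Siegel element -/
theorem exists_sieg (hg : Dg g) (h2 : (2 : F) ≠ 0) {x v : V1} (hxx : B1 x x = 0) (hxv : B1 x v = 0) :
    ∃ u ∈ u1 hg, (u : M1) - 1 = sgN g x v + (2 : F)⁻¹ • (sgN g x v * sgN g x v) ∧
      ((u : M1) - 1) ^ 3 = 0 ∧ ((u : M1) - 1) * ((u : M1) - 1) = vecMulVec x (-(B1 v v) • dual g (s1 n) x) ∧
      ((u : M1) - 1) * vecMulVec x (-(B1 v v) • dual g (s1 n) x) = 0 := by
  set N := sgN g x v with hN
  have h3 : N * (N * N) = 0 := sgN_cube hg hxx hxv
  have h3' : N * N * N = 0 := by rw [mul_assoc, h3]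
  have h4 : N * N * (N * N) = 0 := by rw [← mul_assoc, h3', zero_mul]
  have key : ∀ c : F, c * c = 1 → (1 + c • N + (2 : F)⁻¹ • (N * N)) * (1 - c • N + (2 : F)⁻¹ • (N * N)) = 1 := by
    intro c hc
    simp only [add_mul, mul_add, mul_sub, one_mul, mul_one, Matrix.smul_mul, Matrix.mul_smul, h3, h3', h4, smul_zero,
      smul_smul, hc, one_smul]
    match_scalars <;> field_simp <;> ring
  let u : GL (Ix n) F := ⟨1 + N + (2 : F)⁻¹ • (N * N), 1 - N + (2 : F)⁻¹ • (N * N),
    by simpa using key 1 (one_mul 1), by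
      have := key (-1) (by ring)
      simpa [sub_eq_add_neg] using this⟩
  have hu : (u : M1) - 1 = N + (2 : F)⁻¹ • (N * N) := by
    show 1 + N + (2 : F)⁻¹ • (N * N) - 1 = _
    abel
  have hsq : ((u : M1) - 1) * ((u : M1) - 1) = N * N := by
    rw [hu, add_mul, mul_add, mul_add, Matrix.mul_smul, Matrix.smul_mul, Matrix.smul_mul, h3, h3',
      Matrix.mul_smul, h4]
    simp
  refine ⟨u, ?_, hu, ?_, hsq.trans (sgN_sq hg hxx hxv), ?_⟩
  · rw [mem_uSub]
    show (1 + N + (2 : F)⁻¹ • (N * N)) * adj g (s1 n) (1 + N + (2 : F)⁻¹ • (N * N)) = 1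
    rw [adj_add, adj_add, adj_one hg.wg, adj_smul, adj_mul hg.wg, sgN_adj hg, neg_mul_neg, ← sub_eq_add_neg]
    simpa using key 1 (one_mul 1)
  · rw [pow_succ', pow_two, hsq, hu, add_mul, h3, Matrix.smul_mul, h4]
    simp
  · rw [← sgN_sq hg hxx hxv, ← hN, hu, add_mul, h3, Matrix.smul_mul, h4]
    simp

/-! ### vectors -/

/-- an isometry moving one anisotropic vector to another of the same value -/
theorem exists_to_aniso (hg : Dg g) (h2 : (2 : F) ≠ 0) {u w : V1} (hu : B1 u u ≠ 0) (hw : B1 w w = B1 u u) :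
    ∃ A ∈ u1 hg, (A : M1) *ᵥ u = w := by
  have hs := bf_symmetric hg.wg
  have hwu := bf_comm hg.wg w u
  by_cases hd : B1 (u - w) (u - w) = 0
  · have hsum : B1 (u + w) (u + w) ≠ 0 := fun e => by
      have e1 : B1 (u + w) (u + w) + B1 (u - w) (u - w) = 4 * B1 u u := by
        rw [bf_add_left, bf_add_right, bf_add_right, Orth.sym_sub_left hs, Orth.sym_sub_right hs,
          Orth.sym_sub_right hs, hw]; ring
      rw [e, hd, add_zero] at e1
      have h4 : (4 : F) = 2 * 2 := by norm_num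
      rw [h4] at e1
      exact hu ((mul_eq_zero.1 e1.symm).resolve_left (mul_ne_zero h2 h2))
    refine ⟨refl hs w (by rw [hw]; exact hu) * refl hs (u + w) hsum, mul_mem (rfl_mem hg.wg _ _) (rfl_mem hg.wg _ _), ?_⟩
    have e2 : B1 (u + w) (u + w) = 2 * B1 u (u + w) := by
      rw [bf_add_left, bf_add_right, bf_add_right, hw, hwu]; ring
    have e3 : B1 u (u + w) ≠ 0 := fun e => hsum (by rw [e2, e, mul_zero])
    rw [gl_mul_mulVec, refl_mulVec hs (u + w), e2, show 2 / (2 * B1 u (u + w)) * B1 u (u + w) = 1 by field_simp,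
      one_smul, show u - (u + w) = -w by abel, mulVec_neg, refl_mulVec, hw,
      show 2 / B1 u u * B1 u u = 2 by field_simp, two_smul]
    abel
  · refine ⟨refl hs (u - w) hd, rfl_mem hg.wg _ _, ?_⟩
    have e2 : B1 (u - w) (u - w) = 2 * B1 u (u - w) := by
      rw [Orth.sym_sub_left hs, Orth.sym_sub_right hs, Orth.sym_sub_right hs, hw, hwu]; ring
    have e3 : B1 u (u - w) ≠ 0 := fun e => hd (by rw [e2, e, mul_zero])
    rw [refl_mulVec, e2, show 2 / (2 * B1 u (u - w)) * B1 u (u - w) = 1 by field_simp, one_smul]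
    abel

/-- two orthogonal anisotropic vectors represent everything -/
theorem represent [Fintype F] (hg : Dg g) (h2 : (2 : F) ≠ 0) {u w : V1} (hu : B1 u u ≠ 0) (hw : B1 w w ≠ 0)
    (huw : B1 u w = 0) (c : F) : ∃ α β : F, B1 (α • u + β • w) (α • u + β • w) = c := by
  obtain ⟨α, β, e⟩ := CfsgLib.IsometryConj.field_quadratic (c / B1 u u) 0 (B1 w w / B1 u u) (by
    rw [zero_mul, zero_sub, neg_ne_zero]
    have h4 : (4 : F) ≠ 0 := by rw [show (4 : F) = 2 * 2 by norm_num]; exact mul_ne_zero h2 h2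
    exact mul_ne_zero h4 (div_ne_zero hw hu))
  refine ⟨α, β, ?_⟩
  rw [bf_add_left, bf_add_right, bf_add_right, bf_smul_left, bf_smul_left, bf_smul_left, bf_smul_left, bf_smul_right,
    bf_smul_right, bf_smul_right, bf_smul_right, huw, bf_comm hg.wg w u, huw]
  field_simp at e
  linear_combination e

theorem bf_mid (hg : Dg g) {i j : Ix n} (hi : Mid i) :
    B1 (Pi.single i 1) (Pi.single j 1) = if i = j then g i else 0 := by
  rw [bf_single hg.wg, s1_mid hi.1 hi.2, Pi.single_apply, mul_ite, mul_one, mul_zero]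

/-- a standard singular plane with an anisotropic vector orthogonal to it -/
theorem exists_std [Fintype F] (hg : Dg g) (h2 : (2 : F) ≠ 0) (hn : 2 ≤ n) :
    ∃ b v : V1, Sing2 g (Pi.single 0 1) b ∧ B1 v v ≠ 0 ∧ B1 (Pi.single 0 1) v = 0 ∧ B1 b v = 0 := by
  obtain ⟨i3, h30, h31, h32⟩ : ∃ i : Ix n, (i : ℕ) ≠ 0 ∧ (i : ℕ) ≠ 1 ∧ (i : ℕ) = 3 := ⟨⟨3, by omega⟩, by simp, by simp, rfl⟩
  obtain ⟨i4, h40, h41, h42⟩ : ∃ i : Ix n, (i : ℕ) ≠ 0 ∧ (i : ℕ) ≠ 1 ∧ (i : ℕ) = 4 := ⟨⟨4, by omega⟩, by simp, by simp, rfl⟩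
  obtain ⟨i2, h20, h21, h22⟩ : ∃ i : Ix n, (i : ℕ) ≠ 0 ∧ (i : ℕ) ≠ 1 ∧ (i : ℕ) = 2 := ⟨⟨2, by omega⟩, by simp, by simp, rfl⟩
  have hm : ∀ {i : Ix n}, (i : ℕ) ≠ 0 → (i : ℕ) ≠ 1 → Mid i := fun {i} h0 h1 =>
    ⟨fun e => h0 (by rw [e]; rfl), fun e => h1 (by rw [e]; exact Nat.mod_eq_of_lt (show 1 < n + 3 by omega))⟩
  have m2 := hm h20 h21
  have m3 := hm h30 h31
  have m4 := hm h40 h41
  have n23 : i2 ≠ i3 := fun e => by rw [e, h32] at h22; omega
  have n24 : i2 ≠ i4 := fun e => by rw [e, h42] at h22; omega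
  have n34 : i3 ≠ i4 := fun e => by rw [e, h42] at h32; omega
  obtain ⟨p, q, hpq⟩ := represent hg h2 (u := Pi.single i2 1) (w := Pi.single i3 1)
    (by rw [bf_mid hg m2, if_pos rfl]; exact hg.nz _) (by rw [bf_mid hg m3, if_pos rfl]; exact hg.nz _)
    (by rw [bf_mid hg m2, if_neg n23]) (-(g i4))
  simp only [bf_add_left, bf_add_right, bf_smul_left, bf_smul_right, bf_mid hg m2, bf_mid hg m3, if_true, n23,
    n23.symm, if_false, mul_zero, add_zero, zero_add] at hpq
  set b : V1 := p • Pi.single i2 1 + q • Pi.single i3 1 + Pi.single i4 1 with hb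
  set v : V1 := (g i3 * q) • Pi.single i2 1 - (g i2 * p) • Pi.single i3 1 with hv
  have h0 : ∀ {i : Ix n}, Mid i → B1 (Pi.single 0 1) (Pi.single i 1) = 0 := fun {i} hi => by
    rw [bf_single hg.wg, s1_zero, Pi.single_eq_of_ne hi.2.symm, mul_zero]
  have hs := bf_symmetric hg.wg
  refine ⟨b, v, ⟨?_, ?_, ?_, LinearIndependent.pair_iff.2 fun s t e => ?_⟩, ?_, ?_, ?_⟩
  · rw [bf_single hg.wg, s1_zero, Pi.single_eq_of_ne zero_ne_one'.symm, mul_zero]
  · simp only [hb, bf_add_left, bf_add_right, bf_smul_left, bf_smul_right, bf_mid hg m2, bf_mid hg m3, bf_mid hg m4,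
      if_true, n23, n23.symm, n24, n24.symm, n34, n34.symm, if_false, mul_zero, add_zero, zero_add]
    linear_combination hpq
  · simp only [hb, bf_add_right, bf_smul_right, h0 m2, h0 m3, h0 m4, mul_zero, add_zero]
  · have e0 := congrFun e 0
    have e4 := congrFun e i4
    simp [hb, m2.1.symm, m3.1.symm, m4.1.symm, m4.1, n24.symm, n34.symm] at e0 e4
    exact ⟨e0, e4⟩
  · simp only [hv, Orth.sym_sub_left hs, Orth.sym_sub_right hs, bf_smul_left, bf_smul_right, bf_mid hg m2,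
      bf_mid hg m3, if_true, n23, n23.symm, if_false, mul_zero, sub_zero, zero_sub]
    intro e
    refine mul_ne_zero (mul_ne_zero (hg.nz i2) (hg.nz i3)) (hg.nz i4) ?_
    linear_combination (-1 : F) * e + (g i2 * g i3) * hpq
  · simp only [hv, Orth.sym_sub_right hs, bf_smul_right, h0 m2, h0 m3, mul_zero, sub_zero]
  · simp only [hb, hv, bf_add_left, bf_smul_left, Orth.sym_sub_right hs, bf_smul_right, bf_mid hg m2, bf_mid hg m3,
      bf_mid hg m4, if_true, n23, n23.symm, n24.symm, n34.symm, if_false, mul_zero, sub_zero, zero_sub, add_zero]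
    ring

/-- **Theorem.** An anisotropic vector orthogonal to a singular vector and one vector orthogonal to it. -/
theorem exists_aniso_orth (hg : Dg g) (h2 : (2 : F) ≠ 0) (hn : 2 ≤ n) (x y : V1) :
    ∃ v : V1, B1 v v ≠ 0 ∧ B1 x v = 0 ∧ B1 y v = 0 := by
  classical
  by_contra hcon
  push Not at hcon
  let L : V1 →ₗ[F] (Fin 2 → F) :=
    (Matrix.of ![dual g (s1 n) x, dual g (s1 n) y]).mulVecLin
  set T := LinearMap.ker L with hT
  have hmem : ∀ t, t ∈ T ↔ B1 x t = 0 ∧ B1 y t = 0 := fun t => by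
    rw [hT, LinearMap.mem_ker]
    constructor
    · exact fun e => ⟨congrFun e 0, congrFun e 1⟩
    · exact fun e => funext fun i => by fin_cases i; exacts [e.1, e.2]
  have hts : ∀ t ∈ T, ∀ u ∈ T, B1 t u = 0 := by
    intro t ht u hu
    have hq : ∀ w ∈ T, B1 w w = 0 := fun w hw => by
      by_contra e
      exact hcon w e ((hmem w).1 hw).1 ((hmem w).1 hw).2
    have := hq (t + u) (T.add_mem ht hu)
    rw [bf_add_left, bf_add_right, bf_add_right, hq t ht, hq u hu, bf_comm hg.wg u t, zero_add, add_zero,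
      ← two_mul] at this
    exact (mul_eq_zero.1 this).resolve_left h2
  have hle : T ≤ Submodule.span F {x, y} := by
    intro t ht
    have hmem' : Orth.dotFun (dual g (s1 n) t) ∈
        Submodule.span F (Set.range ![Orth.dotFun (dual g (s1 n) x), Orth.dotFun (dual g (s1 n) y)]) := by
      refine mem_span_of_iInf_ker_le_ker fun u hu => ?_
      simp only [Submodule.mem_iInf, LinearMap.mem_ker] at hu
      exact hts t ht u ((hmem u).2 ⟨by exact hu 0, by exact hu 1⟩)
    rw [show Set.range ![Orth.dotFun (dual g (s1 n) x), Orth.dotFun (dual g (s1 n) y)] =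
        {Orth.dotFun (dual g (s1 n) x), Orth.dotFun (dual g (s1 n) y)} by simp [Set.pair_comm], Submodule.mem_span_pair] at hmem'
    obtain ⟨c, d, e⟩ := hmem'
    refine Submodule.mem_span_pair.2 ⟨c, d, ?_⟩
    refine sub_eq_zero.1 (sym_eq_zero (bf_symmetric hg.wg) fun w => ?_)
    have e1 := LinearMap.congr_fun e w
    simp only [LinearMap.add_apply, LinearMap.smul_apply, smul_eq_mul] at e1
    rw [Orth.sym_sub_left (bf_symmetric hg.wg), bf_add_left, bf_smul_left, bf_smul_left]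
    simp only [Orth.dotFun_apply] at e1
    exact sub_eq_zero.2 e1
  have h1 : Module.finrank F T ≤ 2 := (Submodule.finrank_mono hle).trans
    ((finrank_span_le_card _).trans (by
      rw [Set.toFinset_insert, Set.toFinset_singleton]; exact (Finset.card_insert_le _ _).trans (by simp)))
  have h3 := LinearMap.finrank_range_add_finrank_ker L
  have h4 : Module.finrank F (LinearMap.range L) ≤ 2 := (Submodule.finrank_le _).trans (by simp)
  rw [Module.finrank_fintype_fun_eq_card, Fintype.card_fin] at h3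
  rw [hT] at h1
  omega

end CfsgLib.Perm.Trans.TensorPowerO
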