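import Mathlib
import Cfsg.Agent.Lib.Perm.Trans.TensorPowerO.Fusion
import Cfsg.Agent.Lib.Perm.Trans.TensorPowerO.Plane
import Cfsg.Agent.Lib.Perm.Trans.TensorPowerO.QuadWreath

/-!
# Factors of dimension at least five: roots of singular planes
-/

set_option autoImplicit false
set_option linter.all false

namespace CfsgLib.Perm.Trans.TensorPowerO

open scoped Matrix
open Matrix Cfsg.Geo CfsgLib.Perm.Asch CfsgLib.Perm.Trans CfsgLib.Perm.Trans.TensorPower
open CfsgLib.Perm.Trans.TensorSO CfsgLib.Perm.Trans.TensorOO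

section General

variable {F : Type*} [Field F] {m t : ℕ}

local notation "Mat" => Matrix (Fin t → Fin m) (Fin t → Fin m) F

/-- nothing commuting with one factor is killed by a non-zero element of it -/
theorem slot_zero_prod {i : Fin t} {X : Matrix (Fin m) (Fin m) F} {Z : Mat}
    (hZ : ∀ x y, sx i x y * Z = Z * sx i x y) (h : slot i X * Z = 0) (hX : X ≠ 0) : Z = 0 := by
  obtain ⟨x, y, hxy⟩ : ∃ x y, X x y ≠ 0 := by
    by_contra hcon; push Not at hcon; exact hX (Matrix.ext hcon)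
  have he : ∀ e, X x y • sx i e e * Z = (0 : Mat) := fun e => by
    have h1 : sx i e x * slot i X * sx i y e = X x y • sx i e e := by
      rw [sx, sx, sx, slot_mul, slot_mul, Matrix.single_mul_mul_single, ← slot_smul, one_mul, mul_one,
        Matrix.smul_single, smul_eq_mul, mul_one]
    rw [← h1, mul_assoc (sx i e x * slot i X), hZ, ← mul_assoc, mul_assoc (sx i e x) (slot i X), h, mul_zero, zero_mul]
  have h1 : X x y • Z = 0 := by
    rw [← one_mul Z, ← sx_sum i, Finset.sum_mul, Finset.smul_sum]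
    exact Finset.sum_eq_zero fun e _ => by rw [← Matrix.smul_mul]; exact he e
  exact (smul_eq_zero.1 h1).resolve_left hxy

/-- the minus part of an element `1 + (NY + YN)θ` meets the kernel of `N` in its image -/
theorem free_casimir {ι : Type} [Fintype ι] [DecidableEq ι] (h2 : (2 : F) ≠ 0) {N Y θ z X : Matrix ι ι F}
    (hθ : Cen N Y θ) (hz : z = 1 + (N * Y + Y * N) * θ) (hX1 : (z + 1) * X = 0) (hX2 : N * X = 0) :
    ∃ X', X = N * X' := by
  refine ⟨(-(2 : F)⁻¹) • (Y * θ * X), ?_⟩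
  have h3 : (2 : F) • X + (N * (Y * θ * X)) = 0 := by
    have e1 : (N * Y + Y * N) * θ * X = N * (Y * θ * X) := by
      rw [add_mul, add_mul, mul_assoc Y N θ, ← hθ.1, mul_assoc, mul_assoc Y _ X, mul_assoc θ, hX2, mul_zero,
        mul_zero, add_zero]
      simp only [mul_assoc]
    rw [← e1, two_smul, ← hX1, hz]
    simp only [add_mul, one_mul]
    abel
  rw [Matrix.mul_smul, neg_smul, eq_neg_iff_add_eq_zero]
  have h4 := congrArg ((2 : F)⁻¹ • ·) h3
  simpa [smul_smul, inv_mul_cancel₀ h2] using h4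

end General

variable {F : Type*} [Field F] {n s : ℕ} {g : Ix n → F}

local notation "M1" => Matrix (Ix n) (Ix n) F
local notation "MV" => Matrix (Fin (s + 1) → Ix n) (Fin (s + 1) → Ix n) F
local notation "V1" => Ix n → F
local notation "B1" => bf g (s1 n)

theorem Sing2.swap (hg : Dg g) {a b : V1} (h : Sing2 g a b) : Sing2 g b a :=
  ⟨h.right, h.left, by rw [bf_comm hg.wg]; exact h.orth,
    LinearIndependent.pair_iff.2 fun p q e => (LinearIndependent.pair_iff.1 h.li q p (by rw [← e, add_comm])).symm⟩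

theorem Sing2.span_sing (hg : Dg g) {a b v : V1} (h : Sing2 g a b) (hv : v ∈ Submodule.span F ({a, b} : Set V1)) :
    B1 v v = 0 := by
  obtain ⟨p, q, rfl⟩ := Submodule.mem_span_pair.1 hv
  simp only [bf_add_left, bf_add_right, bf_smul_left, bf_smul_right, h.left, h.right, h.orth, bf_comm hg.wg b a,
    mul_zero, add_zero]

theorem Sing2.range (a b x : V1) : bigD g a b *ᵥ x ∈ Submodule.span F ({a, b} : Set V1) :=
  Submodule.mem_span_pair.2 ⟨B1 b x, -(B1 a x), by rw [bigD_mulVec, neg_smul, sub_eq_add_neg]⟩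

theorem Sing2.left_mem (hg : Dg g) {a b : V1} (h : Sing2 g a b) : ∃ x, bigD g a b *ᵥ x = a := by
  obtain ⟨x, hx, hx'⟩ := h.exists_coord hg
  exact ⟨x, by rw [bigD_mulVec, hx, hx', one_smul, zero_smul, sub_zero]⟩

theorem Sing2.right_mem (hg : Dg g) {a b : V1} (h : Sing2 g a b) : ∃ x, bigD g a b *ᵥ x = b := by
  obtain ⟨x, hx, hx'⟩ := (h.swap hg).exists_coord hg
  exact ⟨-x, by rw [mulVec_neg, bigD_mulVec, hx, hx', one_smul, zero_smul, zero_sub, neg_neg]⟩

/-- something is killed by the element of a plane and lies outside it -/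
theorem Sing2.exists_ker (hn : 2 ≤ n) (a b : V1) :
    ∃ x, bigD g a b *ᵥ x = 0 ∧ x ∉ Submodule.span F ({a, b} : Set V1) := by
  classical
  by_contra hcon
  push Not at hcon
  set L := (bigD g a b).mulVecLin with hL
  have h1 : Module.finrank F (Submodule.span F ({a, b} : Set V1)) ≤ 2 := (finrank_span_le_card _).trans (by
    rw [Set.toFinset_insert, Set.toFinset_singleton]; exact (Finset.card_insert_le _ _).trans (by simp))
  have h2 : Module.finrank F (LinearMap.ker L) ≤ 2 := (Submodule.finrank_mono fun x hx => hcon x hx).trans h1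
  have h3 := LinearMap.finrank_range_add_finrank_ker L
  have h4 : Module.finrank F (LinearMap.range L) ≤ 2 := (Submodule.finrank_mono (by
    rintro _ ⟨x, rfl⟩; exact Sing2.range a b x)).trans h1
  rw [Module.finrank_fintype_fun_eq_card, Fintype.card_fin] at h3
  omega

/-- an involution freely splitting a big root lies in its factor and is `-1` on the plane -/
theorem minus_big (hg : Dg g) (h2 : (2 : F) ≠ 0) (hn : 2 ≤ n) {i : Fin (s + 1)} {a b : V1} (hab : Sing2 g a b)
    {z : GL (Fin (s + 1) → Ix n) F} (hztw : z ∈ tensorWreathStandard (n + 3) (s + 1) F)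
    (hzu : z ∈ uT hg (s + 1)) (hzN : (z : MV) * slot i (bigD g a b) = slot i (bigD g a b) * (z : MV))
    (hzz : z * z = 1) (hz1 : z ≠ 1)
    (hfree : ∀ X, ((z : MV) + 1) * X = 0 → slot i (bigD g a b) * X = 0 → ∃ X', X = slot i (bigD g a b) * X') :
    ∃ A : GL (Ix n) F, z = sl i A ∧ ((A : M1) + 1) * bigD g a b = 0 ∧
      ∀ x, ((A : M1) + 1) *ᵥ x = 0 → bigD g a b *ᵥ x = 0 → x ∈ Submodule.span F ({a, b} : Set V1) := by
  classical
  haveI : Nonempty (Ix n) := ⟨0⟩
  set D := bigD g a b with hD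
  have hDD : D * D = 0 := hab.sq hg
  have hD0 : D ≠ 0 := hab.ne_zero hg
  -- a rank one idempotent killing the plane from the left
  have proj : ∀ x, x ∉ Submodule.span F ({a, b} : Set V1) → ∃ χ : V1, χ ⬝ᵥ x = 1 ∧ vecMulVec x χ * D = 0 := by
    intro x hx
    obtain ⟨χ, h1, h0⟩ := CfsgLib.Perm.Asch.exists_dual _ hx
    refine ⟨χ, h1, ?_⟩
    rw [hD, bigD, mul_sub, vecMulVec_mul_vecMulVec, vecMulVec_mul_vecMulVec,
      h0 a (Submodule.subset_span (Set.mem_insert _ _)),
      h0 b (Submodule.subset_span (Set.mem_insert_of_mem _ rfl))]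
    simp
  obtain ⟨σ, As, hz⟩ := tw_shape hztw
  have hfix : cj (permGL σ * pureGL As) (slot i D : MV) = slot i D := by rw [← hz]; exact cj_eq_self hzN
  rw [cj_wreath_slot] at hfix
  have hσi : σ i = i := by
    by_contra hne
    obtain ⟨c, hc⟩ := scalar_of_slot_eq (by omega) hne hfix
    have h0 : c = 0 := by
      have h1 : cj (As i) D * cj (As i) D = (c • (1 : M1)) * (c • 1) := by rw [hc]
      rw [← cj_mul, hDD, TensorPower.cj_zero, Matrix.smul_mul, one_mul, smul_smul] at h1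
      have := congrFun (congrFun h1 0) 0
      simpa using this.symm
    rw [h0, zero_smul, ← TensorPower.cj_zero (As i)] at hc
    exact hD0 (cj_injective _ hc)
  set B : MV := slot i (((As i)⁻¹ : GL (Ix n) F) : M1) * (z : MV) with hB
  have hzB : (z : MV) = slot i (As i : M1) * B := by rw [hB, ← mul_assoc, slot_mul, gl_mul_inv, slot_one, one_mul]
  have hBc : ∀ x y, sx i x y * B = B * sx i x y := by
    intro x y
    have h1 : (z : MV) * sx i x y = slot i (cj (As i) (Matrix.single x y 1)) * (z : MV) := by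
      have e : cj z (slot i (Matrix.single x y (1 : F)) : MV) = slot i (cj (As i) (Matrix.single x y 1)) := by
        rw [hz, cj_wreath_slot, hσi]
      rw [sx, ← e, cj, mul_assoc _ _ (z : MV), gl_inv_mul, mul_one]
    rw [hB, mul_assoc, h1, ← mul_assoc (slot i _), slot_mul, cj, ← mul_assoc (((As i)⁻¹ : GL (Ix n) F) : M1),
      ← mul_assoc (((As i)⁻¹ : GL (Ix n) F) : M1), gl_inv_mul, one_mul, ← mul_assoc, sx, slot_mul]
  obtain ⟨x0, hx0, hx0'⟩ := Sing2.exists_ker (g := g) hn a b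
  obtain ⟨χ, hχ, hχD⟩ := proj x0 hx0'
  set E := vecMulVec x0 χ with hE
  have hDE : D * E = 0 := by rw [hE, mul_vecMulVec, hx0]; ext; simp [vecMulVec_apply]
  have hEE : E * E = E := by rw [hE, vecMulVec_mul_vecMulVec, hχ, one_smul]
  have hzz' : (z : MV) * (z : MV) = 1 := by rw [← Units.val_mul, hzz, Units.val_one]
  obtain ⟨X', hX'⟩ := hfree ((1 - (z : MV)) * slot i E) (by
      rw [← mul_assoc, add_mul, one_mul, mul_sub, mul_one, hzz']
      rw [show (z : MV) - 1 + (1 - (z : MV)) = 0 by abel, zero_mul]) (by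
      rw [← mul_assoc, mul_sub, mul_one, ← hzN, show (slot i D : MV) - (z : MV) * slot i D = (1 - (z : MV)) * slot i D by
        rw [sub_mul, one_mul], mul_assoc, slot_mul, hDE, TensorPower.slot_zero, mul_zero])
  set c := χ ⬝ᵥ ((As i : M1) *ᵥ x0) with hc
  have hB1 : (1 : MV) - c • B = 0 := by
    refine slot_zero_prod (i := i) (X := E) (fun x y => ?_) ?_ (vmv_ne_zero (fun e => hx0' (e ▸ Submodule.zero_mem _))
      (fun e => by rw [e, zero_dotProduct] at hχ; exact zero_ne_one hχ))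
    · rw [mul_sub, sub_mul, mul_one, one_mul, Matrix.mul_smul, Matrix.smul_mul, hBc]
    · have h1 := congrArg (slot i E * ·) hX'
      simp only [← mul_assoc, slot_mul, hχD, TensorPower.slot_zero, zero_mul] at h1
      rw [mul_sub, mul_one, sub_mul, slot_mul, hEE, hzB, ← mul_assoc (slot i E), slot_mul, mul_assoc _ B,
        ← comm_slot_of_units hBc E, ← mul_assoc, slot_mul] at h1
      rw [show E * (As i : M1) * E = c • E by
        rw [hE, vecMulVec_mul, vecMulVec_mul_vecMulVec, ← dotProduct_mulVec, ← hc]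
        ext; simp [vecMulVec_apply]; ring] at h1
      rw [mul_sub, mul_one, Matrix.mul_smul, ← Matrix.smul_mul, ← TensorPower.slot_smul]
      exact h1
  have hcB : c • B = 1 := (sub_eq_zero.1 hB1).symm
  have hc0 : c ≠ 0 := fun e => by
    haveI : Nonempty (Fin (s + 1) → Ix n) := ⟨fun _ => 0⟩
    rw [e, zero_smul] at hcB
    exact zero_ne_one hcB
  let A : GL (Ix n) F := ⟨c⁻¹ • (As i : M1), c • ((As i)⁻¹ : GL (Ix n) F).val,
    by rw [Matrix.smul_mul, Matrix.mul_smul, gl_mul_inv, smul_smul, inv_mul_cancel₀ hc0, one_smul],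
    by rw [Matrix.smul_mul, Matrix.mul_smul, gl_inv_mul, smul_smul, mul_inv_cancel₀ hc0, one_smul]⟩
  have hzA : z = sl i A := Units.ext (by
    rw [sl_coe, hzB]
    show _ = slot i (c⁻¹ • (As i : M1))
    rw [TensorPower.slot_smul, show B = c⁻¹ • (1 : MV) by rw [← hcB, smul_smul, inv_mul_cancel₀ hc0, one_smul],
      Matrix.mul_smul, mul_one])
  have hAD : (A : M1) * D = D * (A : M1) := by
    rw [hzA, sl_coe, slot_mul, slot_mul] at hzN
    exact slot_injective i hzN
  have hAA : (A : M1) * (A : M1) = 1 := by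
    rw [hzA, sl_coe, slot_mul, ← TensorPower.slot_one i] at hzz'
    exact slot_injective i hzz'
  have hAu : A ∈ u1 hg := (sl_mem_iff (hg := hg) i).1 (hzA ▸ hzu)
  have hker : ∀ x, ((A : M1) + 1) *ᵥ x = 0 → D *ᵥ x = 0 → x ∈ Submodule.span F ({a, b} : Set V1) := by
    intro x hx hDx
    by_contra hxP
    obtain ⟨ξ, hξ, hξD⟩ := proj x hxP
    have hz0 : vecMulVec (0 : V1) ξ = 0 := by ext; simp [vecMulVec_apply]
    obtain ⟨X'', hX''⟩ := hfree (slot i (vecMulVec x ξ))
      (by rw [hzA, sl_coe, ← TensorPower.slot_one i, ← TensorPower.slot_add, slot_mul, mul_vecMulVec, hx, hz0,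
        TensorPower.slot_zero])
      (by rw [slot_mul, mul_vecMulVec, hDx, hz0, TensorPower.slot_zero])
    have h4 := congrArg (slot i (vecMulVec x ξ) * ·) hX''
    simp only [← mul_assoc, slot_mul, hξD, TensorPower.slot_zero, zero_mul, vecMulVec_mul_vecMulVec, hξ,
      one_smul] at h4
    exact vmv_ne_zero (fun e => hxP (by rw [e]; exact Submodule.zero_mem _))
      (fun e => by rw [e, zero_dotProduct] at hξ; exact zero_ne_one hξ)
      (slot_injective i (h4.trans (TensorPower.slot_zero i).symm))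
  refine ⟨A, hzA, ?_, hker⟩
  -- the action on the plane
  have hAAv : ∀ x : V1, (A : M1) *ᵥ ((A : M1) *ᵥ x) = x := fun x => by rw [mulVec_mulVec, hAA, one_mulVec]
  have hADv : ∀ x : V1, (A : M1) *ᵥ (D *ᵥ x) = D *ᵥ ((A : M1) *ᵥ x) := fun x => by
    rw [mulVec_mulVec, mulVec_mulVec, hAD]
  by_cases hw : ∀ y, D *ᵥ (y - (A : M1) *ᵥ y) = 0
  · exfalso
    suffices hA1 : (A : M1) = 1 from
      hz1 (hzA.trans (Units.ext (by rw [sl_coe, hA1, TensorPower.slot_one, Units.val_one])))
    refine Matrix.ext_iff_mulVec.2 fun x => ?_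
    rw [one_mulVec, eq_comm, ← sub_eq_zero]
    set w := x - (A : M1) *ᵥ x with hwdef
    have hAw : (A : M1) *ᵥ w = -w := by rw [hwdef, mulVec_sub, hAAv, neg_sub]
    have hfixP : ∀ y, (A : M1) *ᵥ (D *ᵥ y) = D *ᵥ y := fun y => by
      rw [hADv, eq_comm, ← sub_eq_zero, ← mulVec_sub, hw]
    obtain ⟨p, q, hpq⟩ := Submodule.mem_span_pair.1 (hker w (by rw [add_mulVec, one_mulVec, hAw, neg_add_cancel]) (hw x))
    obtain ⟨xa, hxa⟩ := hab.left_mem hg
    obtain ⟨xb, hxb⟩ := hab.right_mem hg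
    have hAw' : (A : M1) *ᵥ w = w := by
      have ea : (A : M1) *ᵥ a = a := hxa ▸ hfixP xa
      have eb : (A : M1) *ᵥ b = b := hxb ▸ hfixP xb
      rw [← hpq, mulVec_add, mulVec_smul, mulVec_smul, ea, eb]
    rw [hAw'] at hAw
    have h3 : (2 : F) • w = 0 := by rw [two_smul]; nth_rewrite 1 [hAw]; exact neg_add_cancel w
    exact (smul_eq_zero.1 h3).resolve_left h2
  push Not at hw
  obtain ⟨y, hy⟩ := hw
  set y' := y - (A : M1) *ᵥ y with hy'
  have hAy' : (A : M1) *ᵥ y' = -y' := by rw [hy', mulVec_sub, hAAv, neg_sub]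
  set w := D *ᵥ y' with hwdef
  have hAw : (A : M1) *ᵥ w = -w := by rw [hwdef, hADv, hAy', mulVec_neg]
  have hu : ∀ x, D *ᵥ (x + (A : M1) *ᵥ x) = 0 := by
    intro x
    set x' := x + (A : M1) *ᵥ x with hx'
    set u := D *ᵥ x' with hudef
    have hAx' : (A : M1) *ᵥ x' = x' := by rw [hx', mulVec_add, hAAv, add_comm]
    have hAu' : (A : M1) *ᵥ u = u := by rw [hudef, hADv, hAx']
    have hphi : B1 x' w = 0 := by
      have e := bf_of_mem hAu x' w
      rw [hAx', hAw, show -w = (-1 : F) • w by rw [neg_one_smul], bf_smul_right] at e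
      have e2 : (2 : F) * B1 x' w = 0 := by linear_combination (-1 : F) * e
      exact (mul_eq_zero.1 e2).resolve_left h2
    rw [hwdef, hD, bigD_mulVec, Orth.sym_sub_right (bf_symmetric hg.wg), bf_smul_right, bf_smul_right,
      bf_comm hg.wg x' a, bf_comm hg.wg x' b] at hphi
    have key : ∀ r r' : F, r • w = r' • u → r = 0 := by
      intro r r' e
      have e1 := congrArg ((A : M1) *ᵥ ·) e
      simp only [mulVec_smul, hAw, hAu', smul_neg] at e1
      rw [← e] at e1
      have h3 : (2 : F) • (r • w) = 0 := by rw [two_smul]; nth_rewrite 1 [← e1]; exact neg_add_cancel _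
      exact (smul_eq_zero.1 ((smul_eq_zero.1 h3).resolve_left h2)).resolve_right hy
    have hb0 : B1 b x' = 0 := key _ (B1 b y') (by
      rw [hudef, hwdef, hD, bigD_mulVec, bigD_mulVec]
      match_scalars
      · ring
      · linear_combination hphi)
    have ha0 : B1 a x' = 0 := key _ (B1 a y') (by
      rw [hudef, hwdef, hD, bigD_mulVec, bigD_mulVec]
      match_scalars
      · linear_combination hphi
      · ring)
    rw [hudef, hD, bigD_mulVec, hb0, ha0, zero_smul, zero_smul, sub_zero]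
  refine Matrix.ext_iff_mulVec.2 fun x => ?_
  rw [← mulVec_mulVec, add_mulVec, one_mulVec, hADv, zero_mulVec, ← mulVec_add, add_comm ((A : M1) *ᵥ x) x]
  exact hu x

/-- roots of singular planes in one factor -/
def IsBig (hg : Dg g) (r : GL (Fin (s + 1) → Ix n) F) : Prop :=
  ∃ (i : Fin (s + 1)) (a b : Ix n → F) (h : Sing2 g a b), r = sl i (bigU hg h)

theorem IsBig.mem_tw {hg : Dg g} {r : GL (Fin (s + 1) → Ix n) F} (hr : IsBig hg r) :
    r ∈ tensorWreathStandard (n + 3) (s + 1) F := by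
  obtain ⟨i, a, b, h, rfl⟩ := hr
  exact sl_mem_tw _ _

theorem big_coe (hg : Dg g) (i : Fin (s + 1)) {a b : V1} (h : Sing2 g a b) :
    (sl i (bigU hg h) : MV) = 1 + slot i (bigD g a b) := by
  rw [sl_coe, bigU_coe, TensorPower.slot_add, TensorPower.slot_one]

variable [Fintype F] {hg : Dg g} {M : Subgroup (GL (Fin (s + 1) → Ix n) F)} (hM : Ctx hg M)
include hM

theorem Ctx.cube_mem (i : Fin (s + 1)) {u : GL (Ix n) F} (hu : u ∈ u1 hg) (h : ((u : M1) - 1) ^ 3 = 0) :
    sl i u ∈ M := by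
  refine hM.mem ⟨sl_mem_tw _ _, unip_mem hM.two hM.ht (sl_mem_uT i hu) ?_⟩
  rw [sl_coe, ← TensorPower.slot_one i, ← TensorPower.slot_sub, ← slotHom_apply, ← map_pow, h, map_zero]

theorem Ctx.big_mem {r : GL (Fin (s + 1) → Ix n) F} (hr : IsBig hg r) : r ∈ M := by
  obtain ⟨i, a, b, h, rfl⟩ := hr
  refine hM.cube_mem i (bigU_mem hg h) ?_
  rw [bigU_coe, add_sub_cancel_left, pow_succ, pow_two, h.sq hg, zero_mul]

/-- **Theorem.** Fusion of big roots is controlled by the wreath subgroup. -/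
theorem Ctx.big_fusion (hn : 2 ≤ n) (hN : NormTw hg s) {r x : GL (Fin (s + 1) → Ix n) F} (hr : IsBig hg r)
    (hx : x ∈ M) (hw : x * r * x⁻¹ ∈ tensorWreathStandard (n + 3) (s + 1) F) :
    x ∈ tensorWreathStandard (n + 3) (s + 1) F := by
  classical
  have h2 := hM.two
  have hrM := hM.big_mem hr
  obtain ⟨i, a, b, hab, rfl⟩ := hr
  set y := x * sl i (bigU hg hab) * x⁻¹ with hy
  have hyu : y ∈ uT hg (s + 1) := hM.le_uT (M.mul_mem (M.mul_mem hx hrM) (M.inv_mem hx))
  have hYe : (y : MV) - 1 = cj x (slot i (bigD g a b)) := by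
    rw [hy, ← cj_coe, big_coe, cj_add, cj_one, add_sub_cancel_left]
  obtain ⟨l, v, hv⟩ := quad_wreath (m := n + 3) (by omega) (Nat.succ_pos s) h2 hw (by
    rw [hYe, ← cj_mul, slot_mul, hab.sq hg, TensorPower.slot_zero, TensorPower.cj_zero])
  set N' := (v : M1) - 1 with hN'def
  have hYs : cj x (slot i (bigD g a b) : MV) = slot l N' := by
    rw [← hYe, hv, sl_coe, hN'def, TensorPower.slot_sub, TensorPower.slot_one]
  haveI : Nonempty (Ix n) := ⟨0⟩
  have hN'N' : N' * N' = 0 := slot_injective (t := s + 1) l (by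
    rw [← slot_mul, ← hYs, ← cj_mul, slot_mul, hab.sq hg, TensorPower.slot_zero, TensorPower.cj_zero,
      TensorPower.slot_zero])
  have hvu : v ∈ u1 hg := (sl_mem_iff (hg := hg) l).1 (hv ▸ hyu)
  obtain ⟨z, hz⟩ : ∃ z, N' *ᵥ z ≠ 0 := by
    by_contra hcon
    push Not at hcon
    have h0 : N' = 0 := Matrix.ext_iff_mulVec.2 fun z => by rw [hcon, zero_mulVec]
    rw [h0, TensorPower.slot_zero] at hYs
    exact hab.ne_zero hg (slot_injective i (cj_injective x (by
      rw [hYs, TensorPower.slot_zero, TensorPower.cj_zero])))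
  have hsing : B1 (N' *ᵥ z) (N' *ᵥ z) = 0 := by
    rw [bf_mulVec_left hg.wg, mulVec_mulVec, adj_of_one_add hvu (by rw [hN'def, add_sub_cancel]) hN'N', neg_mul,
      hN'N', neg_zero, zero_mulVec]
    exact Orth.sym_zero_right (bf_symmetric hg.wg) z
  obtain ⟨w, hw0, haw, hbw⟩ := exists_aniso_orth hg h2 hn a b
  obtain ⟨u, hu, hue, hu3, hu4, hu5⟩ := exists_sieg hg h2 hab.left haw
  have hkill : sgN g a w * bigD g a b = 0 := by
    refine Matrix.ext_iff_mulVec.2 fun y => ?_
    rw [← mulVec_mulVec, bigD_mulVec, sgN_mulVec, zero_mulVec, Orth.sym_sub_right (bf_symmetric hg.wg),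
      Orth.sym_sub_right (bf_symmetric hg.wg)]
    simp only [bf_smul_right, hab.left, hab.orth, bf_comm hg.wg w a, bf_comm hg.wg w b, haw, hbw, mul_zero, sub_zero,
      zero_smul]
  have huD : (u : M1) * bigD g a b = bigD g a b := by
    rw [show (u : M1) = 1 + ((u : M1) - 1) by abel, add_mul, one_mul, hue, add_mul, hkill, Matrix.smul_mul, mul_assoc,
      hkill, mul_zero, smul_zero, add_zero, add_zero]
  refine hM.root_fix hN hx (j := i) (l := l) (a := a) (hM.cube_mem i hu hu3) (LinearIndependent.ne_zero 0 hab.li)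
    hab.left (fun e => ?_) hu4 hu5 hz hsing fun w' => ?_
  · rw [neg_smul, neg_eq_zero, smul_eq_zero] at e
    exact LinearIndependent.ne_zero 0 hab.li (dual_eq_zero hg.wg (e.resolve_left hw0))
  have e1 : tv l (N' *ᵥ z) w' = cj x (slot i (bigD g a b) : MV) *ᵥ tv l z w' := by
    rw [hYs, ← ten_one_right, ten_tv, one_mulVec]
  rw [e1, mulVec_mulVec, ← cj_coe, ← cj_mul, sl_coe, slot_mul, huD]

theorem Ctx.big_centraliser (hn : 2 ≤ n) (hN : NormTw hg s) {r x : GL (Fin (s + 1) → Ix n) F} (hr : IsBig hg r)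
    (hx : x ∈ M) (hc : x * r = r * x) : x ∈ tensorWreathStandard (n + 3) (s + 1) F :=
  hM.big_fusion hn hN hr hx (by rw [hc, mul_inv_cancel_right]; exact hr.mem_tw)

theorem Ctx.big_pgroup (hn : 2 ≤ n) (hN : NormTw hg s) {p : ℕ} [Fact p.Prime]
    {Q : Subgroup (GL (Fin (s + 1) → Ix n) F)} (hQ : IsPGroup p Q) (hQM : Q ≤ M)
    {r : GL (Fin (s + 1) → Ix n) F} (hr : IsBig hg r) (hrQ : r ∈ Q) :
    Q ≤ tensorWreathStandard (n + 3) (s + 1) F := by
  haveI := hQ.isNilpotent
  set H : Subgroup Q := (tensorWreathStandard (n + 3) (s + 1) F).subgroupOf Q with hH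
  by_cases htop : H = ⊤
  · exact Subgroup.subgroupOf_eq_top.1 htop
  exfalso
  have hlt := Group.normalizerCondition_of_isNilpotent H (lt_top_iff_ne_top.2 htop)
  obtain ⟨q, hq, hqH⟩ := SetLike.exists_of_lt hlt
  have h1 : q * ⟨r, hrQ⟩ * q⁻¹ ∈ H :=
    (Subgroup.mem_normalizer_iff.1 hq ⟨r, hrQ⟩).1 (show r ∈ tensorWreathStandard (n + 3) (s + 1) F from hr.mem_tw)
  exact hqH (hM.big_fusion hn hN hr (hQM q.2) h1)

/-- a conjugate of a root lies in the wreath subgroup or is killed by half of the factor of a root -/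
theorem Ctx.big_cases (hn : 2 ≤ n) (hN : NormTw hg s) {x : GL (Fin (s + 1) → Ix n) F} (hx : x ∈ M)
    {i i0 : Fin (s + 1)} {a b a0 b0 : V1} (hab : Sing2 g a b) (hab0 : Sing2 g a0 b0) :
    x * sl i0 (bigU hg hab0) * x⁻¹ ∈ tensorWreathStandard (n + 3) (s + 1) F ∨ ∃ A : GL (Ix n) F,
      slot i ((A : M1) + 1) * cj x (slot i0 (bigD g a0 b0) : MV) = 0 ∧
      ∀ f, ((A : M1) + 1) *ᵥ f = 0 → bigD g a b *ᵥ f = 0 → f ∈ Submodule.span F ({a, b} : Set V1) := by
  classical
  have h2 := hM.two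
  set r := sl i (bigU hg hab) with hrdef
  set r0 := sl i0 (bigU hg hab0) with hr0def
  have hr : IsBig hg r := ⟨i, a, b, hab, rfl⟩
  have hr0 : IsBig hg r0 := ⟨i0, a0, b0, hab0, rfl⟩
  set y := x * r0 * x⁻¹ with hydef
  have hyM : y ∈ M := M.mul_mem (M.mul_mem hx (hM.big_mem hr0)) (M.inv_mem hx)
  set N := (slot i (bigD g a b) : MV) with hNdef
  set N0 := (slot i0 (bigD g a0 b0) : MV) with hN0def
  set Y := cj x N0 with hYdef
  have hNN : N * N = 0 := by rw [hNdef, slot_mul, hab.sq hg, TensorPower.slot_zero]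
  have hYY : Y * Y = 0 := by
    rw [hYdef, ← cj_mul, hN0def, slot_mul, hab0.sq hg, TensorPower.slot_zero, TensorPower.cj_zero]
  have he : (r : MV) = 1 + N := big_coe hg i hab
  have hym : (y : MV) = 1 + Y := by rw [hydef, ← cj_coe, hr0def, big_coe, cj_add, cj_one]
  set K := Subgroup.closure ({r, y} : Set (GL (Fin (s + 1) → Ix n) F)) with hK
  have hKM : K ≤ M := by
    rw [hK, Subgroup.closure_le]
    rintro z (rfl | rfl)
    · exact hM.big_mem hr
    · exact hyM
  by_cases hnil : IsNilpotent (N * Y + Y * N)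
  · left
    haveI : Fact (ringChar F).Prime := ⟨CharP.char_is_prime F _⟩
    haveI : Nonempty (Fin (s + 1) → Ix n) := ⟨fun _ => 0⟩
    haveI : CharP MV (ringChar F) := inferInstance
    have hKp : IsPGroup (ringChar F) K := by
      rintro ⟨z, hz⟩
      obtain ⟨k, hk⟩ := casimir_unipotent he hym hNN hYY hnil hz
      refine ⟨k, Subtype.ext (Units.ext ?_)⟩
      show ((z ^ ringChar F ^ k : GL (Fin (s + 1) → Ix n) F) : MV) = 1
      have hle : k ≤ ringChar F ^ k := (Nat.lt_pow_self (Fact.out : (ringChar F).Prime).one_lt).le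
      rw [Units.val_pow_eq_pow_val, ← sub_eq_zero]
      have := sub_pow_char_pow_of_commute (R := MV)
        (p := ringChar F) (n := k) (Commute.one_right (z : MV))
      rw [one_pow] at this
      rw [← this]
      exact pow_eq_zero_of_le hle hk
    exact hM.big_pgroup hn hN hKp hKM hr (Subgroup.subset_closure (Or.inl rfl))
      (Subgroup.subset_closure (Or.inr rfl))
  right
  obtain ⟨⟨z, hz⟩, hord⟩ := exists_prime_orderOf_dvd_card' 2 (casimir_even he hym hNN hYY h2 hnil)
  have hzz : z * z = 1 := by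
    have := pow_orderOf_eq_one (⟨z, hz⟩ : K)
    rw [hord, pow_two] at this
    exact congrArg Subtype.val this
  have hz1 : z ≠ 1 := fun e => by
    have h1 : (⟨z, hz⟩ : K) = 1 := Subtype.ext e
    rw [h1, orderOf_one] at hord
    omega
  obtain ⟨θ, hθ, hzθ⟩ := casimir_involution he hym hNN hYY h2 hz hzz
  have hzcen : Cen N Y (z : MV) := by rw [hzθ]; exact Cen.one.add ((cen_casimir hNN hYY).mul hθ)
  have hzr : z * r = r * z := Units.ext (by
    rw [Units.val_mul, Units.val_mul, he, mul_add, add_mul, mul_one, one_mul, hzcen.1])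
  obtain ⟨A, hzA, hAD, hker⟩ := minus_big hg h2 hn hab (hM.big_centraliser hn hN hr (hKM hz) hzr) (hM.le_uT (hKM hz))
    hzcen.1 hzz hz1 fun X hX1 hX2 => free_casimir h2 hθ hzθ hX1 hX2
  refine ⟨A, ?_, hker⟩
  -- the same seen from the other root
  set z0 := x⁻¹ * z * x with hz0
  have hgz : ∀ X, (x : MV) * (((z0 : GL (Fin (s + 1) → Ix n) F) : MV) + 1) * X =
      ((z : MV) + 1) * ((x : MV) * X) := fun X => by
    rw [hz0, Units.val_mul, Units.val_mul, mul_add, add_mul, add_mul, mul_one, one_mul, ← mul_assoc, ← mul_assoc,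
      gl_mul_inv, one_mul, mul_assoc]
  have hgY : ∀ X, Y * ((x : MV) * X) = (x : MV) * (N0 * X) := fun X => by
    rw [hYdef, cj, mul_assoc _ _ ((x : MV) * X), ← mul_assoc _ (x : MV) X, gl_inv_mul, one_mul, mul_assoc]
  have hz0c : (z0 : MV) * N0 = N0 * (z0 : MV) := by
    have e1 : cj z Y = Y := cj_eq_self hzcen.2
    have e2 : cj z0 N0 = N0 := by
      rw [hz0, ← cj_cj, ← cj_cj, ← hYdef, e1, hYdef, cj_cj, inv_mul_cancel, cj, inv_one, Units.val_one, one_mul, mul_one]
    conv_rhs => rw [← e2]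
    rw [cj, mul_assoc _ _ (z0 : MV), gl_inv_mul, mul_one]
  have hz0M : z0 ∈ M := M.mul_mem (M.mul_mem (M.inv_mem hx) (hKM hz)) hx
  have hz0r : z0 * r0 = r0 * z0 := Units.ext (by
    rw [Units.val_mul z0, Units.val_mul r0, hr0def, big_coe, mul_add, add_mul, mul_one, one_mul, hz0c])
  obtain ⟨A0, hzA0, hA0u, -⟩ := minus_big (z := z0) hg h2 hn hab0 (hM.big_centraliser hn hN hr0 hz0M hz0r)
    (hM.le_uT hz0M) hz0c
    (by rw [hz0, show x⁻¹ * z * x * (x⁻¹ * z * x) = x⁻¹ * (z * z) * x by group, hzz]; group)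
    (fun e => hz1 (by
      have e1 : z = x * z0 * x⁻¹ := by rw [hz0]; group
      rw [e1, e]; group))
    fun X hX1 hX2 => by
      obtain ⟨X', hX'⟩ := free_casimir (X := (x : MV) * X) (z := (z : MV)) h2 (show Cen Y N θ from ⟨hθ.2, hθ.1⟩)
        (by rw [hzθ, add_comm (N * Y)]) (by rw [← hgz, mul_assoc, hX1, mul_zero]) (by rw [hgY, hX2, mul_zero])
      refine ⟨((x⁻¹ : GL (Fin (s + 1) → Ix n) F) : MV) * X', ?_⟩
      calc X = ((x⁻¹ : GL (Fin (s + 1) → Ix n) F) : MV) * ((x : MV) * X) := by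
            rw [← mul_assoc, gl_inv_mul, one_mul]
        _ = _ := by rw [hX', hYdef, cj]; simp only [← mul_assoc, gl_inv_mul, one_mul]; rfl
  have hkill : (((z0 : GL (Fin (s + 1) → Ix n) F) : MV) + 1) * N0 = 0 := by
    rw [hzA0, hN0def, sl_coe, ← TensorPower.slot_one i0, ← TensorPower.slot_add, slot_mul, hA0u, TensorPower.slot_zero]
  have hzi : slot i ((A : M1) + 1) = (z : MV) + 1 := by
    rw [TensorPower.slot_add, TensorPower.slot_one, ← sl_coe, ← hzA]
  rw [hzi, hYdef, cj, mul_assoc (x : MV), ← hgz, mul_assoc (x : MV), ← mul_assoc (_ + _) N0, hkill, zero_mul, mul_zero]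

/-- **Theorem.** Factors of dimension at least five. -/
theorem Ctx.main_big (hn : 2 ≤ n) (hN : NormTw hg s) : M ≤ tensorWreathStandard (n + 3) (s + 1) F := by
  classical
  intro x hx
  have h2 := hM.two
  have hs := bf_symmetric hg.wg
  obtain ⟨b0, v0, hab0, hv0, he0v, hb0v⟩ := exists_std hg h2 hn
  set e0 : V1 := Pi.single 0 1 with he0def
  let i : Fin (s + 1) := 0
  set r := sl i (bigU hg hab0) with hrdef
  have hr : IsBig hg r := ⟨i, e0, b0, hab0, rfl⟩
  suffices hy : x * r * x⁻¹ ∈ tensorWreathStandard (n + 3) (s + 1) F from hM.big_fusion hn hN hr hx hy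
  set y := x * r * x⁻¹ with hydef
  by_contra hy
  set Y := cj x (slot i (bigD g e0 b0) : MV) with hYdef
  let S : Submodule F V1 :=
    { carrier := {f | ∀ L : M1, slot i L * Y = 0 → L *ᵥ f = 0}
      add_mem' := fun hf hf' L hL => by rw [mulVec_add, hf L hL, hf' L hL, add_zero]
      zero_mem' := fun L _ => mulVec_zero L
      smul_mem' := fun c f hf L hL => by rw [mulVec_smul, hf L hL, smul_zero] }
  have hS : ∀ {a b : V1}, Sing2 g a b → ∀ f ∈ S, B1 a f = 0 → B1 b f = 0 →
      f ∈ Submodule.span F ({a, b} : Set V1) := by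
    intro a b hab f hf h1 h3
    obtain ⟨A, hA, hker⟩ := (hM.big_cases hn hN hx (i := i) hab hab0).resolve_left hy
    exact hker f (hf _ hA) ((bigD_zero_iff hg hab).2 ⟨h1, h3⟩)
  have hval : ∀ z ∈ S, B1 z z ≠ B1 v0 v0 := by
    intro z hz e
    obtain ⟨A, hA, hAv⟩ := exists_to_aniso hg h2 hv0 e
    have hab' : Sing2 g ((A : M1) *ᵥ e0) ((A : M1) *ᵥ b0) := ⟨by rw [bf_of_mem hA]; exact hab0.left,
      by rw [bf_of_mem hA]; exact hab0.right, by rw [bf_of_mem hA]; exact hab0.orth,
      LinearIndependent.pair_iff.2 fun p q epq => LinearIndependent.pair_iff.1 hab0.li p q (by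
        rw [← mulVec_smul, ← mulVec_smul, ← mulVec_add] at epq
        exact gl_mulVec_eq_zero.1 epq)⟩
    have := hS hab' z hz (by rw [← hAv, bf_of_mem hA, he0v]) (by rw [← hAv, bf_of_mem hA, hb0v])
    exact hv0 (e.symm.trans (hab'.span_sing hg this))
  have hpair : ∀ u ∈ S, ∀ w ∈ S, B1 u u ≠ 0 → B1 u w = 0 → B1 w w = 0 := by
    intro u hu w hw hu0 huw
    by_contra hw0
    obtain ⟨p, q, e⟩ := represent hg h2 hu0 hw0 huw (B1 v0 v0)
    exact hval _ (S.add_mem (S.smul_mem p hu) (S.smul_mem q hw)) e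
  obtain ⟨z, hz, hzR, hsplit⟩ : ∃ z ∈ S, (∀ w ∈ S, B1 z w = 0 → B1 w w = 0) ∧
      ∀ f ∈ S, ∃ c : F, B1 z (f - c • z) = 0 := by
    by_cases hex : ∃ z ∈ S, B1 z z ≠ 0
    · obtain ⟨z, hz, hz0⟩ := hex
      refine ⟨z, hz, fun w hw hzw => hpair z hz w hw hz0 hzw, fun f hf => ⟨B1 z f / B1 z z, ?_⟩⟩
      rw [Orth.sym_sub_right hs, bf_smul_right, div_mul_cancel₀ _ hz0, sub_self]
    · push Not at hex
      exact ⟨0, S.zero_mem, fun w hw _ => hex w hw, fun f hf => ⟨0, by rw [Orth.sym_zero_left hs]⟩⟩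
  have hTS : ∀ u ∈ S, ∀ w ∈ S, B1 z u = 0 → B1 z w = 0 → B1 u w = 0 := by
    intro u hu w hw h1 h3
    have := hzR (u + w) (S.add_mem hu hw) (by rw [bf_add_right, h1, h3, add_zero])
    rw [bf_add_left, bf_add_right, bf_add_right, hzR u hu h1, hzR w hw h3, bf_comm hg.wg w u, zero_add, add_zero,
      ← two_mul] at this
    exact (mul_eq_zero.1 this).resolve_left h2
  obtain ⟨p, q, hp0, hpp, hpq, hcover⟩ : ∃ p q : V1, p ≠ 0 ∧ B1 p p = 0 ∧ B1 p q = 0 ∧
      ∀ f ∈ S, f ∈ Submodule.span F ({p, q} : Set V1) := by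
    by_cases hR : ∃ p ∈ S, B1 z p = 0 ∧ p ≠ 0
    · obtain ⟨p, hp, hzp, hp0⟩ := hR
      have hpp := hzR p hp hzp
      by_cases hR2 : ∃ q ∈ S, B1 z q = 0 ∧ q ∉ Submodule.span F ({p} : Set V1)
      · obtain ⟨q, hq, hzq, hqp⟩ := hR2
        have hab : Sing2 g p q := ⟨hpp, hzR q hq hzq, hTS p hp q hq hzp hzq, LinearIndependent.pair_iff.2 fun c d e => by
          have hd : d = 0 := by
            by_contra hd
            exact hqp (Submodule.mem_span_singleton.2 ⟨-(c / d), by
              linear_combination (norm := skip) (-d⁻¹) • e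
              match_scalars <;> field_simp <;> ring⟩)
          rw [hd, zero_smul, add_zero] at e
          exact ⟨(smul_eq_zero.1 e).resolve_right hp0, hd⟩⟩
        refine ⟨p, q, hp0, hpp, hab.orth, fun f hf => ?_⟩
        obtain ⟨c, hc⟩ := hsplit f hf
        have hm := S.sub_mem hf (S.smul_mem c hz)
        refine hS hab f hf ?_ ?_
        · rw [show f = c • z + (f - c • z) by abel, bf_add_right, bf_smul_right, bf_comm hg.wg p z, hzp,
            hTS p hp _ hm hzp hc, mul_zero, add_zero]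
        · rw [show f = c • z + (f - c • z) by abel, bf_add_right, bf_smul_right, bf_comm hg.wg q z, hzq,
            hTS q hq _ hm hzq hc, mul_zero, add_zero]
      · push Not at hR2
        refine ⟨p, z, hp0, hpp, by rw [bf_comm hg.wg]; exact hzp, fun f hf => ?_⟩
        obtain ⟨c, hc⟩ := hsplit f hf
        obtain ⟨d, hd⟩ := Submodule.mem_span_singleton.1 (hR2 _ (S.sub_mem hf (S.smul_mem c hz)) hc)
        exact Submodule.mem_span_pair.2 ⟨d, c, by rw [hd, sub_add_cancel]⟩
    · push Not at hR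
      obtain ⟨p, hp0, hpp, hpz⟩ : ∃ p : V1, p ≠ 0 ∧ B1 p p = 0 ∧ B1 p z = 0 := by
        have he00 : B1 e0 e0 = 0 := hab0.left
        have he0 : e0 ≠ 0 := LinearIndependent.ne_zero 0 hab0.li
        by_cases hz0 : B1 z z = 0
        · rw [hR z hz hz0]
          exact ⟨e0, he0, he00, Orth.sym_zero_right hs _⟩
        obtain ⟨i3, h3⟩ : ∃ i : Ix n, (i : ℕ) = 3 := ⟨⟨3, by omega⟩, rfl⟩
        have hm3 : Mid i3 := ⟨fun e => by rw [e] at h3; simp at h3,
          fun e => by rw [e, show ((1 : Ix n) : ℕ) = 1 from Nat.mod_eq_of_lt (show 1 < n + 3 by omega)] at h3; omega⟩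
        have n23 : (2 : Ix n) ≠ i3 := fun e => by
          rw [← e, show ((2 : Ix n) : ℕ) = 2 from Nat.mod_eq_of_lt (show 2 < n + 3 by omega)] at h3; omega
        obtain ⟨c, d, e⟩ := represent hg h2 (u := Pi.single 2 1) (w := Pi.single i3 1)
          (by rw [bf_mid hg Mid.two, if_pos rfl]; exact hg.nz _) (by rw [bf_mid hg hm3, if_pos rfl]; exact hg.nz _)
          (by rw [bf_mid hg Mid.two, if_neg n23]) (B1 z z)
        obtain ⟨A, hA, hAv⟩ := exists_to_aniso hg h2
          (u := c • Pi.single (2 : Ix n) (1 : F) + d • Pi.single i3 1) (w := z) (by rw [e]; exact hz0) e.symm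
        refine ⟨(A : M1) *ᵥ e0, fun e' => he0 (gl_mulVec_eq_zero.1 e'), by rw [bf_of_mem hA]; exact he00, ?_⟩
        rw [← hAv, bf_of_mem hA, he0def, bf_single hg.wg, s1_zero]
        simp [hm3.2.symm, Mid.two.2.symm]
      refine ⟨p, z, hp0, hpp, hpz, fun f hf => ?_⟩
      obtain ⟨c, hc⟩ := hsplit f hf
      exact Submodule.mem_span_pair.2 ⟨0, c, by
        rw [zero_smul, zero_add, eq_comm, ← sub_eq_zero]; exact hR _ (S.sub_mem hf (S.smul_mem c hz)) hc⟩
  obtain ⟨v, hv, hpv, hqv⟩ := exists_aniso_orth hg h2 hn p q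
  obtain ⟨u, hu, hue, hu3, hu4, hu5⟩ := exists_sieg hg h2 hpp hpv
  set N := sgN g p v with hNdef
  have hleft : slot i N * Y = 0 := Matrix.ext fun a c => by
    rw [slot_mul_apply, Matrix.zero_apply]
    set f := fun k => Y (Function.update a i k) c with hf
    have hfS : f ∈ S := fun L hL => funext fun k => by
      have := congrFun (congrFun hL (Function.update a i k)) c
      rw [slot_mul_apply, Matrix.zero_apply] at this
      simpa [hf, mulVec, dotProduct, Function.update_idem] using this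
    obtain ⟨c1, c2, e⟩ := Submodule.mem_span_pair.1 (hcover f hfS)
    show (N *ᵥ f) (a i) = 0
    rw [← e, mulVec_add, mulVec_smul, mulVec_smul, hNdef, sgN_centre hg hpp hpv, sgN_mulVec, hpq,
      bf_comm hg.wg v q, hqv]
    simp
  have hyM : y ∈ M := M.mul_mem (M.mul_mem hx (hM.big_mem hr)) (M.inv_mem hx)
  have hym : (y : MV) = 1 + Y := by rw [hydef, ← cj_coe, hrdef, big_coe, cj_add, cj_one]
  have hYY : Y * Y = 0 := by
    rw [hYdef, ← cj_mul, slot_mul, hab0.sq hg, TensorPower.slot_zero, TensorPower.cj_zero]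
  have hadj := adj_of_one_add (h := hg.wgT) (hM.le_uT hyM) hym hYY
  have hright : Y * slot i N = 0 := by
    have e1 := congrArg (adj (gT g (s + 1)) (sT n (s + 1))) hleft
    rw [adj_mul hg.wgT, adj_slot hg, hNdef, sgN_adj hg, ← hNdef, hadj, adj_zero] at e1
    simpa [← slotHom_apply] using e1
  have hcomm : y * sl i u = sl i u * y := Units.ext (by
    have he : (sl i u : MV) = 1 + slot i ((u : M1) - 1) := by
      rw [TensorPower.slot_sub, TensorPower.slot_one, sl_coe, add_sub_cancel]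
    rw [Units.val_mul y, Units.val_mul _ y, hym, he, hue, TensorPower.slot_add, TensorPower.slot_smul,
      ← slot_mul]
    simp only [add_mul, mul_add, one_mul, mul_one, Matrix.smul_mul, Matrix.mul_smul]
    rw [mul_assoc (slot i N) (slot i N) Y, hleft, ← mul_assoc Y (slot i N) (slot i N), hright]
    simp only [mul_zero, zero_mul, smul_zero, add_zero]
    abel)
  refine hy (hM.root_fix hN hyM (j := i) (l := i) (a := p) (hM.cube_mem i hu hu3) hp0 hpp (fun e => ?_) hu4 hu5
    hp0 hpp fun w => ?_)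
  · rw [neg_smul, neg_eq_zero, smul_eq_zero] at e
    exact hp0 (dual_eq_zero hg.wg (e.resolve_left hv))
  rw [hcomm, mul_inv_cancel_right, sl_coe, ← ten_one_right, ten_tv, one_mulVec]
  congr 1
  rw [show (u : M1) = 1 + ((u : M1) - 1) by abel, hue, add_mulVec, add_mulVec, one_mulVec, Matrix.smul_mulVec,
    ← mulVec_mulVec, sgN_centre hg hpp hpv]
  simp

end CfsgLib.Perm.Trans.TensorPowerO
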