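import Cfsg.Agent.Lib.Perm.Trans.TensorPower.Main
import Cfsg.Agent.Lib.Perm.Trans.TensorPower.Odd

/-!
# Adjoints for a symmetric form with a weighted monomial Gram matrix, and its tensor powers
-/

set_option autoImplicit false
set_option linter.all false

namespace CfsgLib.Perm.Trans.TensorPowerO

open scoped Matrix
open Matrix Cfsg.Geo CfsgLib.Perm.Asch CfsgLib.Perm.Trans CfsgLib.Perm.Trans.TensorPower

variable {F : Type*} [Field F]

section General

variable {ι : Type} [Fintype ι] [DecidableEq ι]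

/-- non-zero weights constant on the orbits of the involution `S` -/
structure Wg (g : ι → F) (S : ι → ι) : Prop where
  inv : Function.Involutive S
  nz : ∀ x, g x ≠ 0
  sym : ∀ x, g (S x) = g x

/-- the adjoint for the form `∑ g x * v x * w (S x)` -/
def adj (g : ι → F) (S : ι → ι) (X : Matrix ι ι F) : Matrix ι ι F :=
  Matrix.of fun x y => g y / g x * X (S y) (S x)

/-- the functional of a vector -/
def dual (g : ι → F) (S : ι → ι) (u : ι → F) : ι → F := fun x => g x * u (S x)

/-- the form -/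
def bf (g : ι → F) (S : ι → ι) (u w : ι → F) : F := dual g S u ⬝ᵥ w

variable {g : ι → F} {S : ι → ι}

omit [Fintype ι] [DecidableEq ι] in
theorem adj_apply (X : Matrix ι ι F) (x y : ι) : adj g S X x y = g y / g x * X (S y) (S x) := rfl

omit [Fintype ι] [DecidableEq ι] in
theorem adj_add (X Y : Matrix ι ι F) : adj g S (X + Y) = adj g S X + adj g S Y := by ext; simp [adj_apply, mul_add]

omit [Fintype ι] [DecidableEq ι] in
theorem adj_sub (X Y : Matrix ι ι F) : adj g S (X - Y) = adj g S X - adj g S Y := by ext; simp [adj_apply, mul_sub]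

omit [Fintype ι] [DecidableEq ι] in
theorem adj_neg (X : Matrix ι ι F) : adj g S (-X) = -adj g S X := by ext; simp [adj_apply]

omit [Fintype ι] [DecidableEq ι] in
theorem adj_smul (c : F) (X : Matrix ι ι F) : adj g S (c • X) = c • adj g S X := by
  ext; simp [adj_apply]; ring

omit [Fintype ι] [DecidableEq ι] in
theorem adj_zero : adj g S (0 : Matrix ι ι F) = 0 := by ext; simp [adj_apply]

omit [Fintype ι] in
theorem adj_one (h : Wg g S) : adj g S (1 : Matrix ι ι F) = 1 := by
  ext x y
  by_cases e : x = y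
  · subst e; simp [adj_apply, div_self (h.nz x)]
  · simp [adj_apply, Matrix.one_apply_ne e, Matrix.one_apply_ne (fun e' => e (h.inv.injective e').symm)]

omit [Fintype ι] [DecidableEq ι] in
theorem adj_adj (h : Wg g S) (X : Matrix ι ι F) : adj g S (adj g S X) = X := by
  ext x y
  rw [adj_apply, adj_apply, h.inv, h.inv, h.sym, h.sym, ← mul_assoc, div_mul_div_comm, mul_comm (g x),
    div_self (mul_ne_zero (h.nz y) (h.nz x)), one_mul]

omit [DecidableEq ι] in
theorem adj_mul (h : Wg g S) (X Y : Matrix ι ι F) : adj g S (X * Y) = adj g S Y * adj g S X := by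
  ext x y
  rw [adj_apply, Matrix.mul_apply, Matrix.mul_apply, Finset.mul_sum]
  refine Fintype.sum_equiv h.inv.toPerm _ _ fun z => ?_
  rw [adj_apply, adj_apply, Function.Involutive.coe_toPerm, h.inv, h.sym]
  have hz := h.nz z
  field_simp

omit [Fintype ι] in
theorem adj_single (h : Wg g S) (a b : ι) (c : F) :
    adj g S (Matrix.single a b c) = Matrix.single (S b) (S a) (g a / g b * c) := by
  ext x y
  rw [adj_apply, Matrix.single_apply, Matrix.single_apply, mul_ite, mul_zero]
  split_ifs with h1 h2 h2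
  · rw [h1.1, h1.2, h.sym, h.sym]
  · exact absurd ⟨by rw [h1.2, h.inv], by rw [h1.1, h.inv]⟩ h2
  · exact absurd ⟨by rw [← h2.2, h.inv], by rw [← h2.1, h.inv]⟩ h1
  · rfl

omit [Fintype ι] [DecidableEq ι] in
theorem dual_add (u w : ι → F) : dual g S (u + w) = dual g S u + dual g S w := funext fun x => mul_add _ _ _

omit [Fintype ι] [DecidableEq ι] in
theorem dual_sub (u w : ι → F) : dual g S (u - w) = dual g S u - dual g S w := funext fun x => mul_sub _ _ _

omit [Fintype ι] [DecidableEq ι] in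
theorem dual_smul (c : F) (u : ι → F) : dual g S (c • u) = c • dual g S u :=
  funext fun x => by simp [dual]; ring

omit [Fintype ι] [DecidableEq ι] in
theorem dual_zero : dual g S (0 : ι → F) = 0 := funext fun x => by simp [dual]

omit [Fintype ι] in
theorem dual_single (h : Wg g S) (a : ι) (c : F) :
    dual g S (Pi.single a c) = Pi.single (S a) (g a * c) := by
  funext x
  rw [dual, Pi.single_apply, Pi.single_apply, mul_ite, mul_zero]
  split_ifs with h1 h2 h2
  · rw [h2, h.sym]
  · exact absurd (by rw [← h1, h.inv]) h2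
  · exact absurd (by rw [h2, h.inv]) h1
  · rfl

omit [Fintype ι] [DecidableEq ι] in
theorem dual_eq_zero (h : Wg g S) {u : ι → F} (e : dual g S u = 0) : u = 0 := funext fun y => by
  have := congrFun e (S y)
  rw [dual, h.inv, Pi.zero_apply, mul_eq_zero] at this
  exact this.resolve_left (h.nz _)

omit [Fintype ι] [DecidableEq ι] in
theorem adj_vecMulVec (h : Wg g S) (u w : ι → F) :
    adj g S (vecMulVec u (dual g S w)) = vecMulVec w (dual g S u) := by
  ext x y
  rw [adj_apply, vecMulVec_apply, vecMulVec_apply, dual, dual, h.inv, h.sym]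
  have := h.nz x
  field_simp

omit [DecidableEq ι] in
theorem bf_comm (h : Wg g S) (u w : ι → F) : bf g S u w = bf g S w u := by
  rw [bf, bf, dotProduct, dotProduct]
  refine Fintype.sum_equiv h.inv.toPerm _ _ fun x => ?_
  rw [dual, dual, Function.Involutive.coe_toPerm, h.inv, h.sym]
  ring

omit [DecidableEq ι] in
theorem dual_mulVec (h : Wg g S) (X : Matrix ι ι F) (u : ι → F) :
    dual g S (X *ᵥ u) = dual g S u ᵥ* adj g S X := by
  funext y
  rw [dual, mulVec, vecMul, dotProduct, dotProduct, Finset.mul_sum]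
  refine Fintype.sum_equiv h.inv.toPerm _ _ fun z => ?_
  rw [dual, adj_apply, Function.Involutive.coe_toPerm, h.inv, h.sym]
  have := h.nz z
  field_simp

omit [DecidableEq ι] in
theorem bf_mulVec_left (h : Wg g S) (X : Matrix ι ι F) (u w : ι → F) :
    bf g S (X *ᵥ u) w = bf g S u (adj g S X *ᵥ w) := by
  rw [bf, bf, dual_mulVec h, dotProduct_mulVec]

/-- the isometries -/
def uSub (h : Wg g S) : Subgroup (GL ι F) where
  carrier := {a | (a : Matrix ι ι F) * adj g S (a : Matrix ι ι F) = 1}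
  one_mem' := by show (1 : GL ι F).val * _ = 1; rw [Units.val_one, adj_one h, one_mul]
  mul_mem' := by
    intro a b ha hb
    show (a * b : GL ι F).val * adj g S (a * b : GL ι F).val = 1
    rw [Units.val_mul, adj_mul h, mul_assoc, ← mul_assoc (b : Matrix ι ι F), hb, one_mul, ha]
  inv_mem' := by
    intro a ha
    have h1 : adj g S (a : Matrix ι ι F) = ((a⁻¹ : GL ι F) : Matrix ι ι F) := by
      have := congrArg (((a⁻¹ : GL ι F) : Matrix ι ι F) * ·) ha
      simpa only [← mul_assoc, gl_inv_mul, one_mul, mul_one] using this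
    show ((a⁻¹ : GL ι F) : Matrix ι ι F) * adj g S ((a⁻¹ : GL ι F) : Matrix ι ι F) = 1
    rw [← h1, adj_adj h, h1, gl_inv_mul]

variable {h : Wg g S}

theorem mem_uSub {a : GL ι F} : a ∈ uSub h ↔ (a : Matrix ι ι F) * adj g S (a : Matrix ι ι F) = 1 := Iff.rfl

theorem adj_of_mem {a : GL ι F} (ha : a ∈ uSub h) :
    adj g S (a : Matrix ι ι F) = ((a⁻¹ : GL ι F) : Matrix ι ι F) := by
  have := congrArg (((a⁻¹ : GL ι F) : Matrix ι ι F) * ·) (mem_uSub.1 ha)
  simpa only [← mul_assoc, gl_inv_mul, one_mul, mul_one] using this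

theorem adj_cj {a : GL ι F} (ha : a ∈ uSub h) (X : Matrix ι ι F) :
    adj g S (cj a X) = cj a (adj g S X) := by
  rw [cj, cj, adj_mul h, adj_mul h, ← adj_of_mem ha, adj_adj h, mul_assoc]

/-- an isometry moves the dual vector along -/
theorem dual_image {a : GL ι F} (ha : a ∈ uSub h) (u : ι → F) :
    dual g S ((a : Matrix ι ι F) *ᵥ u) = dual g S u ᵥ* ((a⁻¹ : GL ι F) : Matrix ι ι F) := by
  rw [dual_mulVec h, adj_of_mem ha]

theorem bf_of_mem {a : GL ι F} (ha : a ∈ uSub h) (u w : ι → F) :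
    bf g S ((a : Matrix ι ι F) *ᵥ u) ((a : Matrix ι ι F) *ᵥ w) = bf g S u w := by
  rw [bf_mulVec_left h, adj_of_mem ha, mulVec_mulVec, gl_inv_mul, one_mulVec]

theorem mem_of_bf {a : GL ι F}
    (ha : ∀ u w, bf g S ((a : Matrix ι ι F) *ᵥ u) ((a : Matrix ι ι F) *ᵥ w) = bf g S u w) : a ∈ uSub h := by
  rw [mem_uSub, mul_eq_one_comm]
  refine Matrix.ext fun x y => ?_
  have e := ha (Pi.single (S x) 1) (Pi.single y 1)
  rw [bf_mulVec_left h, mulVec_mulVec, bf, bf, dual_single h, h.inv, mulVec_single_one, single_dotProduct,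
    single_dotProduct, mul_one] at e
  have e2 := mul_left_cancel₀ (h.nz _) e
  rw [Matrix.col_apply] at e2
  rw [e2, Pi.single_apply, Matrix.one_apply]

/-- the skew adjoint condition of a square-zero element -/
theorem adj_of_one_add {a : GL ι F} {X : Matrix ι ι F} (ha : a ∈ uSub h) (he : (a : Matrix ι ι F) = 1 + X)
    (hX : X * X = 0) : adj g S X = -X := by
  have h' := adj_of_mem ha
  rw [he, adj_add, adj_one h, inv_one_add he hX, sub_eq_add_neg, add_right_inj] at h'
  exact h'

theorem mem_of_one_add {a : GL ι F} {X : Matrix ι ι F} (he : (a : Matrix ι ι F) = 1 + X)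
    (hX : X * X = 0) (hθ : adj g S X = -X) : a ∈ uSub h := by
  rw [mem_uSub, he, adj_add, adj_one h, hθ, ← sub_eq_add_neg, add_mul, one_mul, mul_sub, mul_one, hX, sub_zero,
    sub_add_cancel]

end General

/-! ### the coordinates of a tensor power -/

variable {n t : ℕ}

/-- the index of one factor -/
abbrev Ix (n : ℕ) := Fin (n + 3)

/-- the hyperbolic pair is the pair `0`, `1` -/
def s1 (n : ℕ) : Ix n → Ix n := Equiv.swap (0 : Ix n) 1

/-- weights of one factor -/
structure Dg (g : Ix n → F) : Prop where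
  g0 : g 0 = 1
  g1 : g 1 = 1
  nz : ∀ x, g x ≠ 0

/-- the weights of the tensor power -/
def gT (g : Ix n → F) (t : ℕ) (x : Fin t → Ix n) : F := ∏ l, g (x l)

/-- the involution in every factor -/
def sT (n t : ℕ) : (Fin t → Ix n) → (Fin t → Ix n) := fun x l => s1 n (x l)

theorem s1_zero : s1 n 0 = 1 := Equiv.swap_apply_left _ _

theorem s1_one : s1 n 1 = 0 := Equiv.swap_apply_right _ _

theorem s1_mid {a : Ix n} (h0 : a ≠ 0) (h1 : a ≠ 1) : s1 n a = a := Equiv.swap_apply_of_ne_of_ne h0 h1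

theorem s1_inv : Function.Involutive (s1 n) := fun x => Equiv.swap_apply_self _ _ x

theorem zero_ne_one' : (0 : Ix n) ≠ 1 := by simp

variable {g : Ix n → F}

theorem Dg.wg (hg : Dg g) : Wg g (s1 n) where
  inv := s1_inv
  nz := hg.nz
  sym x := by
    rcases eq_or_ne x 0 with rfl | h0
    · rw [s1_zero, hg.g0, hg.g1]
    rcases eq_or_ne x 1 with rfl | h1
    · rw [s1_one, hg.g0, hg.g1]
    rw [s1_mid h0 h1]

theorem Dg.wgT (hg : Dg g) : Wg (gT g t) (sT n t) where
  inv x := funext fun l => s1_inv (x l)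
  nz x := Finset.prod_ne_zero_iff.2 fun l _ => hg.nz _
  sym x := Finset.prod_congr rfl fun l _ => hg.wg.sym _

theorem adj_pure (A : Fin t → Matrix (Ix n) (Ix n) F) :
    adj (gT g t) (sT n t) (CfsgLib.Perm.Asch.pure A) =
      CfsgLib.Perm.Asch.pure (fun l => adj g (s1 n) (A l)) := by
  ext x y
  rw [adj_apply, pure_apply, pure_apply, gT, gT, ← Finset.prod_div_distrib, ← Finset.prod_mul_distrib]
  rfl

theorem adj_slot (hg : Dg g) (i : Fin t) (X : Matrix (Ix n) (Ix n) F) :
    adj (gT g t) (sT n t) (slot i X) = slot i (adj g (s1 n) X) := by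
  rw [slot, slot, adj_pure]
  congr 1
  funext l
  rcases eq_or_ne l i with rfl | hl
  · simp
  · simp [Pi.mulSingle_eq_of_ne hl, adj_one hg.wg]

theorem adj_permMat (hg : Dg g) (π : Equiv.Perm (Fin t)) :
    adj (gT g t) (sT n t) (permMat π : Matrix (Fin t → Ix n) _ F) = permMat π⁻¹ := by
  have key : ∀ x y : Fin t → Ix n, (sT n t x = fun l => sT n t y (π l)) ↔ (y = fun l => x (π⁻¹ l)) := fun x y =>
    ⟨fun h => funext fun l => s1_inv.injective (by simpa [sT] using (congrFun h (π⁻¹ l)).symm),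
      fun h => funext fun l => by rw [h]; simp [sT]⟩
  ext x y
  rw [adj_apply, permMat, permMat, Matrix.of_apply, Matrix.of_apply, mul_ite, mul_one, mul_zero]
  split_ifs with h1 h2 h2
  · have e : gT g t y = gT g t x := by
      rw [(key x y).1 h1]
      exact Fintype.prod_equiv π⁻¹ _ _ fun l => rfl
    rw [e, div_self (hg.wgT.nz x)]
  · exact absurd ((key x y).1 h1) h2
  · exact absurd ((key x y).2 h2) h1
  · rfl

theorem adj_emb {s : ℕ} (hg : Dg g) (j : Fin (s + 1)) (X : Matrix (Fin s → Ix n) (Fin s → Ix n) F) :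
    adj (gT g (s + 1)) (sT n (s + 1)) (emb j X) = emb j (adj (gT g s) (sT n s) X) := by
  ext x y
  rw [adj_apply, emb_apply, emb_apply, adj_apply, gT, gT, Fin.prod_univ_succAbove _ j,
    Fin.prod_univ_succAbove _ j]
  have hiff : sT n (s + 1) y j = sT n (s + 1) x j ↔ x j = y j :=
    ⟨fun h => (s1_inv.injective h).symm, fun h => by simp [sT, h]⟩
  by_cases h : x j = y j
  · rw [if_pos (hiff.2 h), if_pos h, h, mul_div_mul_left _ _ (hg.nz _)]
    rfl
  · rw [if_neg (fun h' => h (hiff.1 h')), if_neg h, mul_zero]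

/-- the isometries of one factor -/
abbrev u1 (hg : Dg g) : Subgroup (GL (Ix n) F) := uSub hg.wg

/-- the isometries of the tensor power -/
abbrev uT (hg : Dg g) (t : ℕ) : Subgroup (GL (Fin t → Ix n) F) := uSub (hg.wgT (t := t))

variable {hg : Dg g}

theorem pureGL_mem_uT {A : Fin t → GL (Ix n) F} (hA : ∀ l, A l ∈ u1 hg) : pureGL A ∈ uT hg t := by
  rw [mem_uSub, pureGL_coe, adj_pure, pure_mul, ← pure_one]
  congr 1
  funext l
  exact mem_uSub.1 (hA l)

theorem sl_mem_uT (i : Fin t) {a : GL (Ix n) F} (ha : a ∈ u1 hg) : sl i a ∈ uT hg t := by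
  rw [mem_uSub, sl_coe, adj_slot hg, slot_mul, mem_uSub.1 ha]
  exact slot_one i

theorem sl_mem_iff (i : Fin t) {a : GL (Ix n) F} : sl i a ∈ uT hg t ↔ a ∈ u1 hg := by
  refine ⟨fun h => ?_, sl_mem_uT i⟩
  rw [mem_uSub, sl_coe, adj_slot hg, slot_mul, ← slot_one i] at h
  haveI : Nonempty (Ix n) := ⟨0⟩
  exact slot_injective i h

theorem permGL_mem_uT (π : Equiv.Perm (Fin t)) : (permGL π : GL (Fin t → Ix n) F) ∈ uT hg t := by
  rw [mem_uSub, permGL_coe, adj_permMat hg, ← permGL_coe π, ← permGL_coe π⁻¹, ← Units.val_mul, permGL_mul,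
    mul_inv_cancel, permGL_one, Units.val_one]

theorem embGL_mem_uT {s : ℕ} (j : Fin (s + 1)) {b : GL (Fin s → Ix n) F} (hb : b ∈ uT hg s) :
    embGL j b ∈ uT hg (s + 1) := by
  rw [mem_uSub, embGL_coe, adj_emb hg, ← map_mul, mem_uSub.1 hb, map_one]

end CfsgLib.Perm.Trans.TensorPowerO
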