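import Mathlib
import Cfsg.Agent.Lib.Perm.Trans.TensorPowerO.Fusion

/-!
# Maps between slices of a tensor power
-/

set_option autoImplicit false
set_option linter.all false

namespace CfsgLib.Perm.Trans.TensorPowerO

open scoped Matrix
open Matrix Cfsg.Geo CfsgLib.Perm.Asch CfsgLib.Perm.Trans CfsgLib.Perm.Trans.TensorPower

variable {F : Type*} [Field F] {n s : ℕ} {g : Ix n → F}

local notation "M1" => Matrix (Ix n) (Ix n) F
local notation "MU" => Matrix (Fin s → Ix n) (Fin s → Ix n) F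
local notation "MV" => Matrix (Fin (s + 1) → Ix n) (Fin (s + 1) → Ix n) F
local notation "V1" => Ix n → F
local notation "VU" => (Fin s → Ix n) → F
local notation "B1" => bf g (s1 n)
local notation "BU" => bf (gT g s) (sT n s)

theorem tv_smul_left (j : Fin (s + 1)) (c : F) (x : V1) (w : VU) : tv j (c • x) w = c • tv j x w := by
  rw [← tvL_apply, map_smul, tvL_apply]

theorem tv_smul_right (j : Fin (s + 1)) (c : F) (x : V1) (w : VU) : tv j x (c • w) = c • tv j x w := by
  rw [← tvR_apply, map_smul, tvR_apply]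

theorem tv_inj_right (j : Fin (s + 1)) {x : V1} (hx : x ≠ 0) {w w' : VU} (h : tv j x w = tv j x w') : w = w' := by
  obtain ⟨a, ha⟩ := Function.ne_iff.1 hx
  funext p
  have e := congrFun h (j.insertNth a p)
  rw [tv_apply_insertNth, tv_apply_insertNth] at e
  exact mul_left_cancel₀ ha e

theorem tv_inj_left (j : Fin (s + 1)) {w : VU} (hw : w ≠ 0) {x x' : V1} (h : tv j x w = tv j x' w) : x = x' := by
  obtain ⟨p, hp⟩ := Function.ne_iff.1 hw
  funext a
  have e := congrFun h (j.insertNth a p)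
  rw [tv_apply_insertNth, tv_apply_insertNth] at e
  exact mul_right_cancel₀ hp e

/-- a split tensor equal to one with a given factor -/
theorem tv_parallel (j : Fin (s + 1)) {x x' : V1} {w w' : VU} (hw : w ≠ 0) (h : tv j x w = tv j x' w') :
    ∃ c : F, x = c • x' := by
  obtain ⟨p, hp⟩ := Function.ne_iff.1 hw
  have hp' : w p ≠ 0 := hp
  refine ⟨w' p / w p, funext fun a => ?_⟩
  have e := congrFun h (j.insertNth a p)
  rw [tv_apply_insertNth, tv_apply_insertNth] at e
  rw [Pi.smul_apply, smul_eq_mul, div_mul_eq_mul_div, eq_div_iff hp', e, mul_comm]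

theorem slot_tv (j : Fin (s + 1)) (A : M1) (x : V1) (w : VU) : (slot j A : MV) *ᵥ tv j x w = tv j (A *ᵥ x) w := by
  rw [← ten_one_right, ten_tv, one_mulVec]

theorem sl_tv (j : Fin (s + 1)) (A : GL (Ix n) F) (x : V1) (w : VU) :
    (sl j A : MV) *ᵥ tv j x w = tv j ((A : M1) *ᵥ x) w := by
  rw [sl_coe, slot_tv]

theorem embGL_tv (j : Fin (s + 1)) (b : GL (Fin s → Ix n) F) (x : V1) (w : VU) :
    (embGL j b : MV) *ᵥ tv j x w = tv j x ((b : MU) *ᵥ w) := by
  rw [embGL_coe, ← ten_one_left, ten_tv, one_mulVec]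

/-- the operator with image the slice -/
theorem slot_vmv_range (j : Fin (s + 1)) (d φ : V1) (z : (Fin (s + 1) → Ix n) → F) :
    ∃ w, (slot j (vecMulVec d φ) : MV) *ᵥ z = tv j d w := by
  refine ⟨∑ a, (φ ⬝ᵥ Pi.single a 1) • fun p => z (j.insertNth a p), ?_⟩
  conv_lhs => rw [tv_expand j z]
  rw [mulVec_sum, ← tvR_apply, map_sum]
  refine Finset.sum_congr rfl fun a _ => ?_
  rw [slot_tv, map_smul, tvR_apply, vecMulVec_mulVec, op_smul_eq_smul, tv_smul_left]

theorem slot_vmv_tv (j : Fin (s + 1)) (d x : V1) (w : VU) :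
    (slot j (vecMulVec d (dual g (s1 n) d)) : MV) *ᵥ tv j x w = B1 d x • tv j d w := by
  rw [slot_tv, vecMulVec_mulVec, op_smul_eq_smul, tv_smul_left]
  rfl

/-- `x` carries the slice at `(j, d)` to the slice at `(j', d')` by `C` -/
def Maps (x : GL (Fin (s + 1) → Ix n) F) (j : Fin (s + 1)) (d : Ix n → F) (j' : Fin (s + 1)) (d' : Ix n → F)
    (C : GL (Fin s → Ix n) F) : Prop :=
  ∀ w, (x : Matrix (Fin (s + 1) → Ix n) (Fin (s + 1) → Ix n) F) *ᵥ tv j d w =
    tv j' d' ((C : Matrix (Fin s → Ix n) (Fin s → Ix n) F) *ᵥ w)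

section

variable {x y : GL (Fin (s + 1) → Ix n) F} {j j' j'' : Fin (s + 1)} {d d' d'' : Ix n → F} {C D : GL (Fin s → Ix n) F}

theorem Maps.one : Maps (1 : GL (Fin (s + 1) → Ix n) F) j d j d 1 := fun w => by
  rw [Units.val_one, Units.val_one, one_mulVec, one_mulVec]

theorem Maps.mul (hy : Maps y j' d' j'' d'' D) (hx : Maps x j d j' d' C) : Maps (y * x) j d j'' d'' (D * C) :=
  fun w => by rw [gl_mul_mulVec, hx, hy, ← gl_mul_mulVec]

theorem Maps.inv (hx : Maps x j d j' d' C) : Maps x⁻¹ j' d' j d C⁻¹ := fun w => by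
  have e := congrArg (((x⁻¹ : GL (Fin (s + 1) → Ix n) F) : MV) *ᵥ ·) (hx (((C⁻¹ : GL (Fin s → Ix n) F) : MU) *ᵥ w))
  simp only [gl_inv_mulVec, gl_mulVec_inv] at e
  exact e.symm

theorem Maps.unique (hd' : d' ≠ 0) (hx : Maps x j d j' d' C) (hx' : Maps x j d j' d' D) : C = D :=
  Units.ext (Matrix.ext_iff_mulVec.2 fun w => tv_inj_right j' hd' ((hx w).symm.trans (hx' w)))

theorem maps_embGL (j : Fin (s + 1)) (d : V1) (b : GL (Fin s → Ix n) F) : Maps (embGL j b) j d j d b := fun w =>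
  embGL_tv j b d w

theorem maps_one_iff : Maps x j d j d 1 ↔ ∀ w, (x : MV) *ᵥ tv j d w = tv j d w := by
  simp only [Maps, Units.val_one, one_mulVec]

/-- two linear bijections between slices -/
theorem exists_maps (hd : d ≠ 0) (hd' : d' ≠ 0) (h : ∀ w, ∃ w', (x : MV) *ᵥ tv j d w = tv j' d' w')
    (h' : ∀ w, ∃ w', ((x⁻¹ : GL (Fin (s + 1) → Ix n) F) : MV) *ᵥ tv j' d' w = tv j d w') :
    ∃ C, Maps x j d j' d' C := by
  classical
  choose f hf using h
  choose f' hf' using h'
  let L : VU →ₗ[F] VU :=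
    { toFun := f
      map_add' := fun u v => tv_inj_right j' hd' (by
        rw [← hf, ← tvR_apply, map_add, tvR_apply, tvR_apply, mulVec_add, hf, hf]
        simp only [← tvR_apply, map_add])
      map_smul' := fun c v => tv_inj_right j' hd' (by
        rw [← hf, RingHom.id_apply, tv_smul_right, mulVec_smul, hf, tv_smul_right]) }
  let L' : VU →ₗ[F] VU :=
    { toFun := f'
      map_add' := fun u v => tv_inj_right j hd (by
        rw [← hf', ← tvR_apply, map_add, tvR_apply, tvR_apply, mulVec_add, hf', hf']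
        simp only [← tvR_apply, map_add])
      map_smul' := fun c v => tv_inj_right j hd (by
        rw [← hf', RingHom.id_apply, tv_smul_right, mulVec_smul, hf', tv_smul_right]) }
  have h1 : ∀ w, f (f' w) = w := fun w => tv_inj_right j' hd' (by rw [← hf, ← hf', gl_mulVec_inv])
  have h2 : ∀ w, f' (f w) = w := fun w => tv_inj_right j hd (by rw [← hf', ← hf, gl_inv_mulVec])
  let C : GL (Fin s → Ix n) F :=
    ⟨LinearMap.toMatrix' L, LinearMap.toMatrix' L',
      by rw [← LinearMap.toMatrix'_comp, show L.comp L' = LinearMap.id from LinearMap.ext h1, LinearMap.toMatrix'_id],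
      by rw [← LinearMap.toMatrix'_comp, show L'.comp L = LinearMap.id from LinearMap.ext h2, LinearMap.toMatrix'_id]⟩
  refine ⟨C, fun w => ?_⟩
  rw [hf, show (C : MU) *ᵥ w = L w from LinearMap.toMatrix'_mulVec L w]
  rfl

variable {hg : Dg g}

theorem Maps.bf_eq (hxu : x ∈ uT hg (s + 1)) (hx : Maps x j d j' d' C) (u v : VU) :
    B1 d' d' * BU ((C : MU) *ᵥ u) ((C : MU) *ᵥ v) = B1 d d * BU u v := by
  rw [← bf_tv j', ← hx, ← hx, bf_of_mem hxu, bf_tv]

/-- the induced map is a similitude -/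
theorem Maps.sim (hxu : x ∈ uT hg (s + 1)) (hd' : B1 d' d' ≠ 0) (hx : Maps x j d j' d' C) :
    adj (gT g s) (sT n s) (C : MU) * (C : MU) = (B1 d d / B1 d' d') • 1 := by
  refine Matrix.ext fun a b => ?_
  have e := hx.bf_eq hxu (Pi.single (sT n s a) 1) (Pi.single b 1)
  rw [bf_mulVec_left hg.wgT, mulVec_mulVec, bf_single hg.wgT, bf_single hg.wgT, hg.wgT.inv, mulVec_single_one,
    Matrix.col_apply, Pi.single_apply] at e
  have hne := (hg.wgT (t := s)).nz (sT n s a)
  rw [Matrix.smul_apply, Matrix.one_apply, smul_eq_mul, eq_comm, div_mul_eq_mul_div, div_eq_iff hd']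
  apply mul_left_cancel₀ hne
  linear_combination -e

theorem Maps.mem_uT (hxu : x ∈ uT hg (s + 1)) (hd : B1 d d ≠ 0) (hx : Maps x j d j d C) : C ∈ uT hg s :=
  mem_of_bf fun u v => mul_left_cancel₀ hd (hx.bf_eq hxu u v)

/-- an element of the wreath subgroup between slices induces one on the slices -/
theorem tw_restrict (hs : 0 < s) (hx : x ∈ tensorWreathStandard (n + 3) (s + 1) F) (hd : d ≠ 0) (hd' : d' ≠ 0)
    (h : Maps x j d j' d' C) : C ∈ tensorWreathStandard (n + 3) s F := by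
  classical
  obtain ⟨σ, A, rfl⟩ := tw_shape hx
  have hw : ∀ (a : Ix n → F) (e : Fin s → Ix n → F),
      ((permGL σ * pureGL A : GL (Fin (s + 1) → Ix n) F) : MV) *ᵥ tv j a (TensorPower.pv e) =
      tv j' ((A (σ.symm j') : M1) *ᵥ Fin.insertNth (α := fun _ => V1) j a e (σ.symm j'))
        (TensorPower.pv fun i => (A (σ.symm (j'.succAbove i)) : M1) *ᵥ
          Fin.insertNth (α := fun _ => V1) j a e (σ.symm (j'.succAbove i))) := by
    intro a e
    have e0 : tv j a (TensorPower.pv e) = TensorPower.pv (Fin.insertNth (α := fun _ => V1) j a e) := by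
      rw [← tv_pv j, Fin.insertNth_apply_same]
      simp only [Fin.insertNth_apply_succAbove]
    rw [e0, wreath_pv]
    exact (tv_pv j' _).symm
  have hne : ∀ e : Ix n, (Pi.single e (1 : F) : V1) ≠ 0 := fun e => by simp
  have hins : ∀ e : Fin s → V1, (∀ i, e i ≠ 0) → ∀ l, Fin.insertNth (α := fun _ => V1) j d e l ≠ 0 := by
    intro e he l
    rcases Fin.eq_self_or_eq_succAbove j l with rfl | ⟨i, rfl⟩
    · rwa [Fin.insertNth_apply_same]
    · rw [Fin.insertNth_apply_succAbove]; exact he i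
  have hmul : ∀ (l : Fin (s + 1)) (v : V1), v ≠ 0 → (A l : M1) *ᵥ v ≠ 0 := fun l v hv e => hv (gl_mulVec_eq_zero.1 e)
  have hpv : ∀ e : Fin s → V1, (∀ i, e i ≠ 0) → TensorPower.pv e ≠ 0 := fun e he h0 => by
    choose p hp using fun i => Function.ne_iff.1 (he i)
    exact Finset.prod_ne_zero_iff.2 (fun i _ => hp i) (congrFun h0 p)
  have hkey : ∀ e : Fin s → V1, (∀ i, e i ≠ 0) →
      ∃ c : F, (A (σ.symm j') : M1) *ᵥ Fin.insertNth (α := fun _ => V1) j d e (σ.symm j') = c • d' := fun e he =>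
    tv_parallel j' (hpv _ fun i => hmul _ _ (hins e he _)) ((hw d e).symm.trans (h (TensorPower.pv e)))
  have hσ : σ.symm j' = j := by
    by_contra hne'
    obtain ⟨i, hi⟩ := Fin.exists_succAbove_eq hne'
    obtain ⟨c, hc⟩ := hkey (fun _ => Pi.single 0 1) (fun _ => hne 0)
    obtain ⟨c', hc'⟩ := hkey (fun _ => Pi.single 1 1) (fun _ => hne 1)
    rw [← hi, Fin.insertNth_apply_succAbove] at hc hc'
    have hc0 : c ≠ 0 := fun e => hmul _ _ (hne 0) (by rw [hc, e, zero_smul])
    have e : (A (j.succAbove i) : M1) *ᵥ (Pi.single 1 1 - (c' / c) • Pi.single 0 1 : V1) = 0 := by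
      rw [mulVec_sub, mulVec_smul, hc, hc', smul_smul, div_mul_cancel₀ _ hc0, sub_self]
    have := congrFun (gl_mulVec_eq_zero.1 e) 1
    simp [zero_ne_one'.symm] at this
  have hσ' : σ j = j' := by rw [← hσ, Equiv.apply_symm_apply]
  obtain ⟨κ, hκ⟩ : ∃ κ : F, (A j : M1) *ᵥ d = κ • d' := by
    obtain ⟨c, hc⟩ := hkey (fun _ => Pi.single 0 1) (fun _ => hne 0)
    rw [hσ, Fin.insertNth_apply_same] at hc
    exact ⟨c, hc⟩
  have hκ0 : κ ≠ 0 := fun e => hmul j d hd (by rw [hκ, e, zero_smul])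
  have hnj : ∀ i, σ (j.succAbove i) ≠ j' := fun i e => Fin.succAbove_ne j i (σ.injective (e.trans hσ'.symm))
  choose r hr using fun i => Fin.exists_succAbove_eq (hnj i)
  have hrinj : Function.Injective r := fun a b e =>
    Fin.succAbove_right_injective (σ.injective (by rw [← hr, ← hr, e]))
  let ρ : Equiv.Perm (Fin s) := Equiv.ofBijective r (Finite.injective_iff_bijective.1 hrinj)
  let κu : GL (Fin s → Ix n) F := ⟨κ • 1, κ⁻¹ • 1,
    by rw [Matrix.smul_mul, one_mul, smul_smul, mul_inv_cancel₀ hκ0, one_smul],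
    by rw [Matrix.smul_mul, one_mul, smul_smul, inv_mul_cancel₀ hκ0, one_smul]⟩
  have hκu : ∀ v : VU, (κu : MU) *ᵥ v = κ • v := fun v => by
    show (κ • (1 : MU)) *ᵥ v = _
    rw [Matrix.smul_mulVec, one_mulVec]
  set C0 := κu * (permGL ρ * pureGL fun i => A (j.succAbove i)) with hC0
  suffices hC : C = C0 by
    rw [hC, hC0]
    refine mul_mem ?_ (mul_mem (perm_mem_tw _) (pure_mem_tw _))
    refine tw_of_slots (by omega) hs 1 fun i a b => ⟨Matrix.single a b 1, cj_eq_self ?_⟩
    show κ • (1 : MU) * _ = _ * κ • (1 : MU)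
    rw [Matrix.smul_mul, Matrix.mul_smul, one_mul, mul_one]
  refine Units.ext (Matrix.ext_of_mulVec_single fun p => tv_inj_right j' hd' ?_)
  have hp : (Pi.single p 1 : VU) = TensorPower.pv fun i => Pi.single (p i) (1 : F) := by
    funext z
    simp only [TensorPower.pv, Pi.single_apply]
    by_cases e : z = p
    · subst e; simp
    · obtain ⟨i, hi⟩ := Function.ne_iff.1 e
      rw [if_neg e, Finset.prod_eq_zero (Finset.mem_univ i) (if_neg hi)]
  rw [← h, hp, hw, hσ, Fin.insertNth_apply_same, hκ, tv_smul_left, hC0, gl_mul_mulVec, hκu, tv_smul_right, wreath_pv]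
  congr 2
  refine congrArg TensorPower.pv (funext fun i => ?_)
  have hi : σ.symm (j'.succAbove i) = j.succAbove (ρ.symm i) := by
    rw [Equiv.symm_apply_eq, ← hr]
    show _ = j'.succAbove (ρ (ρ.symm i))
    rw [Equiv.apply_symm_apply]
  rw [hi, Fin.insertNth_apply_succAbove]

end

end CfsgLib.Perm.Trans.TensorPowerO
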