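import Mathlib
import Cfsg.Agent.Lib.Perm.Trans.TensorPowerO.Slices

/-!
# Rotations of order two of a three-dimensional factor
-/

set_option autoImplicit false
set_option linter.all false

namespace CfsgLib.Perm.Trans.TensorPowerO

open scoped Matrix Kronecker
open Matrix Cfsg.Geo CfsgLib.Perm.Asch CfsgLib.Perm.Trans CfsgLib.Perm.Trans.TensorPower
open CfsgLib.Perm.Trans.TensorOO

/-- an involutive matrix in a basis of eigenvectors -/
theorem invol_basis {κ : Type} [Fintype κ] [DecidableEq κ] {F : Type*} [Field F] (h2 : (2 : F) ≠ 0) {A : GL κ F}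
    (hA : A * A = 1) : ∃ (Q : GL κ F) (ε : κ → F), (∀ i, ε i = 1 ∨ ε i = -1) ∧
      ∀ i, (A : Matrix κ κ F) *ᵥ ((Q : Matrix κ κ F) *ᵥ Pi.single i 1) =
        ε i • ((Q : Matrix κ κ F) *ᵥ Pi.single i 1) := by
  classical
  have hc : IsCompl (fixSp A) (negSp A) := ⟨disjoint_iff.2 (fix_neg_disjoint h2 A),
    codisjoint_iff.2 (eq_top_iff.2 fun x _ => by
      obtain ⟨h1, h3, h4⟩ := invol_decomp h2 hA x
      rw [h4]; exact Submodule.add_mem_sup h1 h3)⟩
  set b0 := ((Module.finBasis F (fixSp A)).prod (Module.finBasis F (negSp A))).map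
    (Submodule.prodEquivOfIsCompl _ _ hc) with hb0
  have hev : ∀ k, ∃ c : F, (c = 1 ∨ c = -1) ∧ (A : Matrix κ κ F) *ᵥ b0 k = c • b0 k := by
    rintro (k | k)
    · refine ⟨1, Or.inl rfl, ?_⟩
      rw [one_smul, hb0, Module.Basis.map_apply, Module.Basis.prod_apply, Sum.elim_inl, Function.comp_apply,
        Submodule.coe_prodEquivOfIsCompl']
      simp [mem_fixSp.1 (Module.finBasis F (fixSp A) k).2]
    · refine ⟨-1, Or.inr rfl, ?_⟩
      rw [neg_one_smul, hb0, Module.Basis.map_apply, Module.Basis.prod_apply, Sum.elim_inr, Function.comp_apply,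
        Submodule.coe_prodEquivOfIsCompl']
      simp [mem_negSp.1 (Module.finBasis F (negSp A) k).2]
  have hcard : Fintype.card (Fin (Module.finrank F (fixSp A)) ⊕ Fin (Module.finrank F (negSp A))) = Fintype.card κ := by
    rw [Fintype.card_sum, Fintype.card_fin, Fintype.card_fin, invol_finrank h2 hA]
  set e := Fintype.equivOfCardEq hcard
  set b := b0.reindex e with hb
  choose c hc1 hc2 using hev
  let L := b.equivFun.symm
  let Q : GL κ F := ⟨LinearMap.toMatrix' L.toLinearMap, LinearMap.toMatrix' L.symm.toLinearMap,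
    by rw [← LinearMap.toMatrix'_comp, show L.toLinearMap.comp L.symm.toLinearMap = LinearMap.id from
      LinearMap.ext fun x => L.apply_symm_apply x, LinearMap.toMatrix'_id],
    by rw [← LinearMap.toMatrix'_comp, show L.symm.toLinearMap.comp L.toLinearMap = LinearMap.id from
      LinearMap.ext fun x => L.symm_apply_apply x, LinearMap.toMatrix'_id]⟩
  refine ⟨Q, fun i => c (e.symm i), fun i => hc1 _, fun i => ?_⟩
  have hQ : (Q : Matrix κ κ F) *ᵥ Pi.single i 1 = b0 (e.symm i) := by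
    show LinearMap.toMatrix' L.toLinearMap *ᵥ _ = _
    rw [LinearMap.toMatrix'_mulVec, LinearEquiv.coe_coe]
    simp only [L, Module.Basis.equivFun_symm_apply, hb, Module.Basis.reindex_apply, Pi.single_apply, ite_smul, one_smul,
      zero_smul, Finset.sum_ite_eq', Finset.mem_univ, if_true]
  rw [hQ]
  exact hc2 _

section Det

variable {F : Type*} [Field F] {n s : ℕ}

theorem det_ten (j : Fin (s + 1)) (A : Matrix (Ix n) (Ix n) F) (S : Matrix (Fin s → Ix n) (Fin s → Ix n) F) :
    (ten j A S).det = A.det ^ Fintype.card (Fin s → Ix n) * S.det ^ Fintype.card (Ix n) := by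
  have : ten j A S = (A ⊗ₖ S).submatrix (Fin.insertNthEquiv (fun _ => Ix n) j).symm
      (Fin.insertNthEquiv (fun _ => Ix n) j).symm := by
    ext x y
    rw [ten_apply, Matrix.submatrix_apply, Matrix.kronecker_apply]
    rfl
  rw [this, Matrix.det_submatrix_equiv_self, Matrix.det_kronecker]

theorem det_Om {g : Ix n → F} {hg : Dg g} {t : ℕ} {x : GL (Fin t → Ix n) F} (hx : x ∈ Om hg t) :
    (x : Matrix (Fin t → Ix n) (Fin t → Ix n) F).det = 1 := by
  have h : Om hg t ≤ (Matrix.GeneralLinearGroup.det (n := Fin t → Ix n) (R := F)).ker := by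
    rw [Om, Subgroup.commutator_le]
    intro a _ b _
    rw [MonoidHom.mem_ker, commutatorElement_def, map_mul, map_mul, map_mul, map_inv, map_inv, mul_inv_cancel_comm, mul_inv_cancel]
  exact congrArg Units.val (h hx)

theorem det_u1 [Fintype F] {g : Ix n → F} {hg : Dg g} {a : GL (Ix n) F} (ha : a ∈ u1 hg) :
    (a : Matrix (Ix n) (Ix n) F).det = 1 ∨ (a : Matrix (Ix n) (Ix n) F).det = -1 := by
  have h := congrArg Matrix.det (mem_uSub.1 ha)
  rw [Matrix.det_mul, det_adj hg.wg, Matrix.det_one] at h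
  exact mul_self_eq_one_iff.1 h

/-- an isometry of odd dimensional factors lying in `Ω` in one slot has determinant one -/
theorem det_of_slot [Fintype F] {g : Ix n → F} {hg : Dg g} (hn : Odd (n + 3)) {j : Fin (s + 1)} {a : GL (Ix n) F}
    (ha : a ∈ u1 hg) (h : sl j a ∈ Om hg (s + 1)) : (a : Matrix (Ix n) (Ix n) F).det = 1 := by
  have e := det_Om h
  rw [sl_coe, ← ten_one_right, det_ten, Matrix.det_one, one_pow, mul_one, Fintype.card_fun, Fintype.card_fin,
    Fintype.card_fin] at e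
  rcases det_u1 ha with h' | h'
  · exact h'
  · rw [h', hn.pow.neg_one_pow] at e
    rw [h', e]

end Det

section Any

variable {F : Type*} [Field F] {n : ℕ} {g : Ix n → F}

/-- the half turn about an anisotropic vector -/
def htau (hg : Dg g) (d : Ix n → F) (hd : bf g (s1 n) d d ≠ 0) : GL (Ix n) F :=
  ⟨(2 / bf g (s1 n) d d) • vecMulVec d (dual g (s1 n) d) - 1,
    (2 / bf g (s1 n) d d) • vecMulVec d (dual g (s1 n) d) - 1, by
    rw [sub_mul, mul_sub, mul_one, one_mul, Matrix.smul_mul, Matrix.mul_smul, vecMulVec_mul_vecMulVec, ← bf]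
    rw [smul_smul, show vecMulVec d (bf g (s1 n) d d • dual g (s1 n) d) =
      bf g (s1 n) d d • vecMulVec d (dual g (s1 n) d) from by ext; simp [vecMulVec_apply]; ring, smul_smul]
    match_scalars <;> field_simp <;> ring, by
    rw [sub_mul, mul_sub, mul_one, one_mul, Matrix.smul_mul, Matrix.mul_smul, vecMulVec_mul_vecMulVec, ← bf]
    rw [smul_smul, show vecMulVec d (bf g (s1 n) d d • dual g (s1 n) d) =
      bf g (s1 n) d d • vecMulVec d (dual g (s1 n) d) from by ext; simp [vecMulVec_apply]; ring, smul_smul]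
    match_scalars <;> field_simp <;> ring⟩

local notation "M1" => Matrix (Ix n) (Ix n) F
local notation "V1" => Ix n → F
local notation "B1" => bf g (s1 n)

variable (hg : Dg g)

theorem htau_mulVec (d : V1) (hd : B1 d d ≠ 0) (x : V1) :
    (htau hg d hd : M1) *ᵥ x = (2 / B1 d d * B1 d x) • d - x := by
  show ((2 / B1 d d) • vecMulVec d (dual g (s1 n) d) - 1) *ᵥ x = _
  rw [sub_mulVec, one_mulVec, Matrix.smul_mulVec, vecMulVec_mulVec, op_smul_eq_smul, smul_smul]
  rfl

theorem htau_sq (d : V1) (hd : B1 d d ≠ 0) : htau hg d hd * htau hg d hd = 1 :=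
  Units.ext (htau hg d hd).val_inv

theorem htau_mem (d : V1) (hd : B1 d d ≠ 0) : htau hg d hd ∈ u1 hg := by
  rw [mem_uSub]
  show ((2 / B1 d d) • vecMulVec d (dual g (s1 n) d) - 1) * adj g (s1 n) ((2 / B1 d d) • vecMulVec d (dual g (s1 n) d) - 1) = 1
  rw [adj_sub, adj_smul, adj_vecMulVec hg.wg, adj_one hg.wg]
  exact congrArg Units.val (htau_sq hg d hd)

theorem htau_self (d : V1) (hd : B1 d d ≠ 0) : (htau hg d hd : M1) *ᵥ d = d := by
  rw [htau_mulVec, div_mul_cancel₀ _ hd, two_smul, add_sub_cancel_right]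

theorem htau_perp (d : V1) (hd : B1 d d ≠ 0) {x : V1} (hx : B1 d x = 0) : (htau hg d hd : M1) *ᵥ x = -x := by
  rw [htau_mulVec, hx, mul_zero, zero_smul, zero_sub]

theorem htau_fixed (h2 : (2 : F) ≠ 0) {d : V1} (hd : B1 d d ≠ 0) {x : V1}
    (hx : (htau hg d hd : M1) *ᵥ x = x) : x = (B1 d x / B1 d d) • d := by
  rw [htau_mulVec, sub_eq_iff_eq_add, ← two_smul F x] at hx
  have e := congrArg ((2 : F)⁻¹ • ·) hx
  simp only [smul_smul, inv_mul_cancel₀ h2, one_smul] at e
  refine e.symm.trans ?_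
  congr 1
  field_simp

theorem htau_conj {A : GL (Ix n) F} (hA : A ∈ u1 hg) {d d' : V1} (hd : B1 d d ≠ 0) (hd' : B1 d' d' ≠ 0)
    (h : (A : M1) *ᵥ d = d') : A * htau hg d hd * A⁻¹ = htau hg d' hd' := by
  refine Units.ext (Matrix.ext_iff_mulVec.2 fun x => ?_)
  have e1 : B1 d (((A⁻¹ : GL (Ix n) F) : M1) *ᵥ x) = B1 d' x := by
    rw [← bf_of_mem hA, gl_mulVec_inv, h]
  rw [gl_mul_mulVec, gl_mul_mulVec, htau_mulVec, htau_mulVec, mulVec_sub, mulVec_smul, h, gl_mulVec_inv, e1]
  congr 3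
  rw [← h, bf_of_mem hA]

theorem htau_smul {d : V1} (hd : B1 d d ≠ 0) {c : F} (hc : c ≠ 0) (hcd : B1 (c • d) (c • d) ≠ 0) :
    htau hg (c • d) hcd = htau hg d hd := by
  refine Units.ext (Matrix.ext_iff_mulVec.2 fun x => ?_)
  rw [htau_mulVec, htau_mulVec, bf_smul_left, bf_smul_right, bf_smul_left, smul_smul]
  congr 2
  field_simp

theorem htau_inj (h2 : (2 : F) ≠ 0) {d d' : V1} (hd : B1 d d ≠ 0) (hd' : B1 d' d' ≠ 0)
    (h : htau hg d hd = htau hg d' hd') : ∃ c : F, d' = c • d :=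
  ⟨_, htau_fixed hg h2 hd (h ▸ htau_self hg d' hd')⟩

theorem htau_comm (h2 : (2 : F) ≠ 0) {d d' : V1} (hd : B1 d d ≠ 0) (hd' : B1 d' d' ≠ 0) (h : B1 d d' = 0) :
    htau hg d hd * htau hg d' hd' = htau hg d' hd' * htau hg d hd := by
  refine Units.ext (Matrix.ext_iff_mulVec.2 fun x => ?_)
  rw [gl_mul_mulVec, gl_mul_mulVec, htau_mulVec hg d' hd' x, htau_mulVec hg d hd x, mulVec_sub, mulVec_sub, mulVec_smul,
    mulVec_smul, htau_perp hg d hd h, htau_perp hg d' hd' (by rw [bf_comm hg.wg]; exact h), htau_mulVec hg d' hd' x,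
    htau_mulVec hg d hd x]
  module

theorem htau_ne_scalar (h2 : (2 : F) ≠ 0) {d : V1} (hd : B1 d d ≠ 0) (c : F) :
    (htau hg d hd : M1) ≠ c • 1 := by
  intro e
  have h1 := htau_self hg d hd
  rw [e, Matrix.smul_mulVec, one_mulVec] at h1
  have hd0 : d ≠ 0 := fun e => hd (by rw [e]; exact Orth.sym_zero_left (bf_symmetric hg.wg) _)
  have hc : c = 1 := smul_left_injective F hd0 (h1.trans (one_smul F d).symm)
  rw [hc, one_smul] at e
  have h3 : ∀ x : V1, x = (B1 d x / B1 d d) • d := fun x => htau_fixed hg h2 hd (by rw [e, one_mulVec])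
  have e0 := h3 (Pi.single 0 1)
  have e1 := h3 (Pi.single 1 1)
  have h4 : (B1 d (Pi.single 1 1) / B1 d d) • (Pi.single 0 1 : V1) =
      (B1 d (Pi.single 0 1) / B1 d d) • (Pi.single 1 1 : V1) := by
    conv_lhs => rw [e0]
    conv_rhs => rw [e1]
    rw [smul_comm]
  have h5 := congrFun h4 0
  simp only [Pi.smul_apply, Pi.single_eq_same, Pi.single_eq_of_ne zero_ne_one', smul_eq_mul, mul_one, mul_zero] at h5
  rw [h5, zero_smul] at e1
  have := congrFun e1 1
  simp at this

end Any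

section Three

variable {F : Type*} [Field F] [Fintype F] {g : Ix 0 → F} (hg : Dg g) (h2 : (2 : F) ≠ 0)

local notation "M3" => Matrix (Ix 0) (Ix 0) F
local notation "V3" => Ix 0 → F
local notation "B3" => bf g (s1 0)

include hg h2

/-- an involutive rotation -/
theorem exists_htau {A : GL (Ix 0) F} (hA : A ∈ u1 hg) (hAA : A * A = 1)
    (hdet : (A : M3).det = 1) (hA1 : A ≠ 1) : ∃ (x : V3) (hx : B3 x x ≠ 0), A = htau hg x hx := by
  classical
  obtain ⟨Q, ε, hε, hQ⟩ := invol_basis h2 hAA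
  have hAQ : (A : M3) * (Q : M3) = (Q : M3) * Matrix.diagonal ε := Matrix.ext_of_mulVec_single fun i => by
    rw [← mulVec_mulVec, hQ, ← mulVec_mulVec, Matrix.diagonal_mulVec_single, mul_one,
      show (Pi.single i (ε i) : V3) = ε i • Pi.single i 1 by rw [← Pi.single_smul', smul_eq_mul, mul_one],
      mulVec_smul]
  have hprod : ε 0 * ε 1 * ε 2 = 1 := by
    have e := congrArg Matrix.det hAQ
    rw [Matrix.det_mul, Matrix.det_mul, Matrix.det_diagonal, hdet, one_mul, Fin.prod_univ_three] at e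
    exact mul_left_cancel₀ (show (Q : M3).det ≠ 0 from (Matrix.GeneralLinearGroup.det_ne_zero Q)) (e.symm.trans (mul_one _).symm)
  have hneg : (-1 : F) ≠ 1 := fun e => h2 (by linear_combination -e)
  obtain ⟨i, hi, hoth⟩ : ∃ i : Ix 0, ε i = 1 ∧ ∀ l, l ≠ i → ε l = -1 := by
    have h3 : ε 0 ≠ 1 ∨ ε 1 ≠ 1 ∨ ε 2 ≠ 1 := by
      by_contra hcon
      push Not at hcon
      refine hA1 (Units.ext (Matrix.ext_of_mulVec_single fun l => ?_))
      have hl : ∀ v : V3, (A : M3) *ᵥ v = v := fun v => by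
        have hone : Matrix.diagonal ε = (1 : M3) := by
          rw [← Matrix.diagonal_one]
          congr 1
          funext l
          fin_cases l
          exacts [hcon.1, hcon.2.1, hcon.2.2]
        rw [hone, mul_one] at hAQ
        rw [← gl_mulVec_inv Q v, mulVec_mulVec, hAQ]
      rw [hl, Units.val_one, one_mulVec]
    rcases hε 0 with h0 | h0 <;> rcases hε 1 with h1 | h1 <;> rcases hε 2 with h3' | h3' <;>
      simp only [h0, h1, h3', mul_one, one_mul, mul_neg, neg_neg, ne_eq, not_true, or_self] at hprod h3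
    all_goals first
      | exact absurd hprod hneg
      | exact h3.elim
      | exact ⟨0, h0, fun l hl => by fin_cases l <;> first | exact absurd rfl hl | assumption⟩
      | exact ⟨1, h1, fun l hl => by fin_cases l <;> first | exact absurd rfl hl | assumption⟩
      | exact ⟨2, h3', fun l hl => by fin_cases l <;> first | exact absurd rfl hl | assumption⟩
  set x := (Q : M3) *ᵥ Pi.single i 1 with hx0
  have hAx : (A : M3) *ᵥ x = x := by rw [hx0, hQ, hi, one_smul]
  have horth : ∀ l, l ≠ i → B3 x ((Q : M3) *ᵥ Pi.single l 1) = 0 := fun l hl => by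
    have e := bf_of_mem hA x ((Q : M3) *ᵥ Pi.single l 1)
    rw [hAx, hQ l, hoth l hl, bf_smul_right] at e
    exact (mul_eq_zero.1 (show (2 : F) * B3 x ((Q : M3) *ᵥ Pi.single l 1) = 0 by linear_combination -e)).resolve_left h2
  have hxx : B3 x x ≠ 0 := fun e => by
    have h0 : x ≠ 0 := fun e => by
      have := gl_mulVec_eq_zero.1 e
      simp at this
    obtain ⟨w, hw⟩ := ((bf_symmetric hg.wg).nondegenerate x h0).2
    refine hw ?_
    have hexp : w = ∑ l, (((Q⁻¹ : GL (Ix 0) F) : M3) *ᵥ w) l • ((Q : M3) *ᵥ Pi.single l 1) := by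
      conv_lhs => rw [← gl_mulVec_inv Q w]
      rw [show ((Q⁻¹ : GL (Ix 0) F) : M3) *ᵥ w = ∑ l, (((Q⁻¹ : GL (Ix 0) F) : M3) *ᵥ w) l • (Pi.single l 1 : V3) from
        (pi_eq_sum_univ' _), mulVec_sum]
      refine Finset.sum_congr rfl fun l _ => ?_
      rw [mulVec_smul]
      simp [mulVec_sum, Pi.single_apply]
    rw [hexp, bf, dotProduct_sum, Finset.sum_eq_zero]
    intro l _
    rw [dotProduct_smul, smul_eq_mul]
    rcases eq_or_ne l i with rfl | hl
    · rw [show dual g (s1 0) x ⬝ᵥ ((Q : M3) *ᵥ Pi.single l 1) = B3 x x from rfl, e, mul_zero]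
    · rw [show dual g (s1 0) x ⬝ᵥ ((Q : M3) *ᵥ Pi.single l 1) = B3 x ((Q : M3) *ᵥ Pi.single l 1) from rfl, horth l hl,
        mul_zero]
  refine ⟨x, hxx, Units.ext ?_⟩
  have key : (A : M3) * (Q : M3) = (htau hg x hxx : M3) * (Q : M3) := Matrix.ext_of_mulVec_single fun l => by
    rw [← mulVec_mulVec, ← mulVec_mulVec, hQ]
    rcases eq_or_ne l i with rfl | hl
    · rw [hi, one_smul, ← hx0, htau_self]
    · rw [hoth l hl, neg_one_smul, htau_perp hg x hxx (horth l hl)]
  calc (A : M3) = (A : M3) * (Q : M3) * ((Q⁻¹ : GL (Ix 0) F) : M3) := by rw [mul_assoc, gl_mul_inv, mul_one]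
    _ = _ := by rw [key, mul_assoc, gl_mul_inv, mul_one]

theorem htau_det {d : V3} (hd : B3 d d ≠ 0) : (htau hg d hd : M3).det = 1 := by
  classical
  rcases det_u1 (htau_mem hg d hd) with h | h
  · exact h
  exfalso
  let A : GL (Ix 0) F := -htau hg d hd
  have hA : A ∈ u1 hg := by
    rw [mem_uSub, Units.val_neg, adj_neg, neg_mul_neg]
    exact mem_uSub.1 (htau_mem hg d hd)
  have hAA : A * A = 1 := by rw [show A * A = htau hg d hd * htau hg d hd from neg_mul_neg _ _, htau_sq]
  have hdet : (A : M3).det = 1 := by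
    rw [Units.val_neg, Matrix.det_neg, h, Fintype.card_fin]
    norm_num
  have hA1 : A ≠ 1 := fun e => by
    refine htau_ne_scalar hg h2 hd (-1) ?_
    rw [neg_one_smul, ← Units.val_one, ← e, Units.val_neg, neg_neg]
  obtain ⟨x, hx, e⟩ := exists_htau hg h2 hA hAA hdet hA1
  -- `d` and `x` would both be fixed by one and negated by the other
  have hneg : ∀ v, (htau hg x hx : M3) *ᵥ v = -((htau hg d hd : M3) *ᵥ v) := fun v => by
    rw [← e, Units.val_neg, neg_mulVec]
  obtain ⟨Q, ε, hε, hQ⟩ := invol_basis h2 (htau_sq hg d hd)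
  have hline : ∀ l, (∃ c : F, (Q : M3) *ᵥ Pi.single l 1 = c • d) ∨ (∃ c : F, (Q : M3) *ᵥ Pi.single l 1 = c • x) := by
    intro l
    rcases hε l with hl | hl
    · exact Or.inl ⟨_, htau_fixed hg h2 hd (by rw [hQ, hl, one_smul])⟩
    · exact Or.inr ⟨_, htau_fixed hg h2 hx (by rw [hneg, hQ, hl, neg_one_smul, neg_neg])⟩
  have hsp : (⊤ : Submodule F V3) ≤ Submodule.span F {d, x} := by
    intro v _
    rw [← gl_mulVec_inv Q v, show ((Q⁻¹ : GL (Ix 0) F) : M3) *ᵥ v =
      ∑ l, (((Q⁻¹ : GL (Ix 0) F) : M3) *ᵥ v) l • (Pi.single l 1 : V3) from (pi_eq_sum_univ' _), mulVec_sum]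
    refine Submodule.sum_mem _ fun l _ => ?_
    rw [mulVec_smul]
    refine Submodule.smul_mem _ _ ?_
    rcases hline l with ⟨c, hc⟩ | ⟨c, hc⟩ <;> rw [hc] <;> refine Submodule.smul_mem _ _ (Submodule.subset_span ?_) <;> simp
  have h1 := Submodule.finrank_mono hsp
  rw [finrank_top, Module.finrank_fintype_fun_eq_card, Fintype.card_fin] at h1
  have h3 := finrank_span_le_card (R := F) ({d, x} : Set V3)
  rw [Set.toFinset_insert, Set.toFinset_singleton] at h3
  have := h3.trans ((Finset.card_insert_le _ _).trans (by simp : _ ≤ 2))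
  omega

/-- commuting half turns have equal or orthogonal axes and multiply to the third -/
theorem htau_pair {d d' : V3} (hd : B3 d d ≠ 0) (hd' : B3 d' d' ≠ 0)
    (hc : htau hg d hd * htau hg d' hd' = htau hg d' hd' * htau hg d hd) (hne : htau hg d hd ≠ htau hg d' hd') :
    ∃ (x : V3) (hx : B3 x x ≠ 0), htau hg d hd * htau hg d' hd' = htau hg x hx := by
  refine exists_htau hg h2 (mul_mem (htau_mem _ _ _) (htau_mem _ _ _)) ?_ ?_ ?_
  · rw [mul_assoc, ← mul_assoc (htau hg d' hd') (htau hg d hd), ← hc, mul_assoc (htau hg d hd),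
      htau_sq, mul_one, htau_sq]
  · rw [Units.val_mul, Matrix.det_mul, htau_det hg h2, htau_det hg h2, one_mul]
  · exact fun e => hne (by rw [eq_comm, ← mul_one (htau hg d hd), ← e, ← mul_assoc, htau_sq, one_mul])

/-- an anisotropic vector has an orthogonal pair of anisotropic partners -/
theorem exists_triple {d : V3} (hd : B3 d d ≠ 0) : ∃ b c : V3, B3 b b ≠ 0 ∧ B3 c c ≠ 0 ∧
    B3 d b = 0 ∧ B3 d c = 0 ∧ B3 b c = 0 := by
  classical
  have hs := bf_symmetric hg.wg
  obtain ⟨b, hb, hdb⟩ : ∃ b : V3, B3 b b ≠ 0 ∧ B3 d b = 0 := by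
    by_contra hcon
    push Not at hcon
    have hp : ∀ v, B3 d (v - (B3 d v / B3 d d) • d) = 0 := fun v => by
      rw [Orth.sym_sub_right hs, bf_smul_right, div_mul_cancel₀ _ hd, sub_self]
    have hz : ∀ v, B3 d v = 0 → B3 v v = 0 := fun v hv => by
      by_contra e
      exact hcon v e hv
    have hall : ∀ v w, B3 d v = 0 → B3 d w = 0 → B3 v w = 0 := fun v w hv hw => by
      have e := hz (v + w) (by rw [bf_add_right, hv, hw, add_zero])
      rw [bf_add_left, bf_add_right, bf_add_right, hz v hv, hz w hw, bf_comm hg.wg w v, zero_add, add_zero,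
        ← two_mul] at e
      exact (mul_eq_zero.1 e).resolve_left h2
    obtain ⟨v, hv⟩ : ∃ v : V3, v - (B3 d v / B3 d d) • d ≠ 0 := by
      by_contra e
      push Not at e
      refine htau_ne_scalar hg h2 hd 1 (Matrix.ext_iff_mulVec.2 fun v => ?_)
      conv_lhs => rw [sub_eq_zero.1 (e v)]
      rw [mulVec_smul, htau_self, one_smul, one_mulVec, ← sub_eq_zero.1 (e v)]
    set v' := v - (B3 d v / B3 d d) • d
    obtain ⟨w, hw⟩ := (hs.nondegenerate v' hv).2
    apply hw
    rw [show w = (w - (B3 d w / B3 d d) • d) + (B3 d w / B3 d d) • d by abel, bf_add_right, hall v' _ (hp v) (hp w),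
      bf_smul_right, bf_comm hg.wg v' d, hp v, mul_zero, add_zero]
  obtain ⟨c, hc, hbc⟩ := htau_pair hg h2 hd hb (htau_comm hg h2 hd hb hdb) fun e => by
    obtain ⟨k, hk⟩ := htau_inj hg h2 hd hb e
    rw [hk, bf_smul_right, mul_eq_zero] at hdb
    rcases hdb with h | h
    · exact hb (by rw [hk, h, zero_smul]; exact Orth.sym_zero_left hs _)
    · exact hd h
  have hfix : (htau hg d hd : M3) *ᵥ ((htau hg b hb : M3) *ᵥ c) = c := by
    rw [← gl_mul_mulVec, hbc, htau_self]
  have h1 : (htau hg b hb : M3) *ᵥ c = (htau hg d hd : M3) *ᵥ c := by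
    conv_rhs => rw [← hfix]
    rw [← gl_mul_mulVec, htau_sq, Units.val_one, one_mulVec]
  rw [htau_mulVec, htau_mulVec, sub_left_inj] at h1
  have hb' : B3 b c = 0 ∧ B3 d c = 0 := by
    have e1 := congrArg (B3 b) h1
    have e3 := congrArg (B3 d) h1
    rw [bf_smul_right, bf_smul_right, bf_comm hg.wg b d, hdb, mul_zero] at e1
    rw [bf_smul_right, bf_smul_right, hdb, mul_zero] at e3
    have e3' := e3.symm
    simp only [mul_eq_zero, div_eq_zero_iff, h2, hb, hd, false_or, or_false] at e1 e3'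
    exact ⟨e1, e3'⟩
  exact ⟨b, c, hb, hc, hdb, hb'.2, hb'.1⟩

end Three

end CfsgLib.Perm.Trans.TensorPowerO
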