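import Mathlib
import Cfsg.Agent.Lib.Perm.Trans.TensorPowerO.Htau
import Cfsg.Agent.Lib.Perm.Trans.TensorPowerO.BigRoot
import Cfsg.Agent.Lib.Perm.Trans.TensorOO.Coprime

/-!
# Three-dimensional factors: elements between anisotropic slices
-/

set_option autoImplicit false
set_option linter.all false

namespace CfsgLib.Perm.Trans.TensorPowerO

open scoped Matrix
open Matrix Cfsg.Geo CfsgLib.Perm.Asch CfsgLib.Perm.Trans CfsgLib.Perm.Trans.TensorPower
open CfsgLib.Perm.Trans.TensorSO CfsgLib.Perm.Trans.TensorOO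

/-- an element of order `p` in a coset of a normalised `p'`-group is conjugate to the given one -/
theorem exists_conj_coset {G : Type*} [Group G] [Finite G] {p : ℕ} [Fact p.Prime] {K : Subgroup G} {x x' : G}
    (hx : x ^ p = 1) (hx' : x' ^ p = 1) (hn : ∀ y ∈ K, x * y * x⁻¹ ∈ K) (hc : x⁻¹ * x' ∈ K)
    (hK : ¬ p ∣ Nat.card K) : ∃ y ∈ K, x' = y * x * y⁻¹ := by
  classical
  haveI := Fintype.ofFinite K
  have hmem : ∀ y ∈ K, x' * y * x⁻¹ ∈ K := fun y hy => by
    rw [show x' * y * x⁻¹ = x * (x⁻¹ * x' * y) * x⁻¹ by group]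
    exact hn _ (mul_mem hc hy)
  let f : K → K := fun y => ⟨x' * y * x⁻¹, hmem y y.2⟩
  have hit : ∀ (k : ℕ) (y : K), ((f^[k] y : K) : G) = x' ^ k * y * (x ^ k)⁻¹ := by
    intro k
    induction k with
    | zero => intro y; simp
    | succ k ih =>
      intro y
      rw [Function.iterate_succ_apply', show ((f (f^[k] y) : K) : G) = x' * (f^[k] y : K) * x⁻¹ from rfl, ih,
        pow_succ', pow_succ]
      group
  have hfp : ∀ y, f^[p] y = y := fun y => Subtype.ext (by rw [hit, hx, hx']; simp)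
  have hbij : Function.Bijective f := by
    refine Finite.injective_iff_bijective.1 fun a b e => Subtype.ext ?_
    simpa [f] using e
  set σ := Equiv.ofBijective f hbij with hσ
  have hσp : σ ^ p ^ 1 = 1 := Equiv.ext fun y => by
    rw [pow_one, ← Equiv.Perm.iterate_eq_pow]
    exact hfp y
  obtain ⟨y, hy⟩ := Equiv.Perm.exists_fixed_point_of_prime (by rwa [← Nat.card_eq_fintype_card]) hσp
  refine ⟨y, y.2, ?_⟩
  have e : x' * (y : G) * x⁻¹ = y := congrArg Subtype.val hy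
  calc x' = x' * (y : G) * x⁻¹ * (x * (y : G)⁻¹) := by group
    _ = _ := by rw [e]; group

section General

variable {F : Type*} [Field F] {n s : ℕ} {g : Ix n → F}

local notation "M1" => Matrix (Ix n) (Ix n) F
local notation "MU" => Matrix (Fin s → Ix n) (Fin s → Ix n) F
local notation "MV" => Matrix (Fin (s + 1) → Ix n) (Fin (s + 1) → Ix n) F
local notation "B1" => bf g (s1 n)
local notation "BU" => bf (gT g s) (sT n s)

/-- conjugation by a similitude preserves the isometries -/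
theorem sim_conj_uT {hg : Dg g} {t : ℕ} {C : GL (Fin t → Ix n) F} {μ : F} (hμ : μ ≠ 0)
    (hC : adj (gT g t) (sT n t) (C : Matrix (Fin t → Ix n) (Fin t → Ix n) F) *
      (C : Matrix (Fin t → Ix n) (Fin t → Ix n) F) = μ • 1) {z : GL (Fin t → Ix n) F} (hz : z ∈ uT hg t) :
    C * z * C⁻¹ ∈ uT hg t := by
  have hadj : adj (gT g t) (sT n t) ((C⁻¹ : GL (Fin t → Ix n) F) : Matrix (Fin t → Ix n) (Fin t → Ix n) F) =
      μ⁻¹ • (C : Matrix (Fin t → Ix n) (Fin t → Ix n) F) := by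
    have e1 : adj (gT g t) (sT n t) (C : Matrix (Fin t → Ix n) (Fin t → Ix n) F) =
        μ • ((C⁻¹ : GL (Fin t → Ix n) F) : Matrix (Fin t → Ix n) (Fin t → Ix n) F) := by
      rw [← mul_one (adj (gT g t) (sT n t) _), ← gl_mul_inv C, ← mul_assoc, hC, Matrix.smul_mul, one_mul]
    have e3 := congrArg (adj (gT g t) (sT n t)) e1
    rw [adj_adj hg.wgT, adj_smul] at e3
    rw [e3, smul_smul, inv_mul_cancel₀ hμ, one_smul]
  rw [mem_uSub, mul_eq_one_comm, Units.val_mul, Units.val_mul, adj_mul hg.wgT, adj_mul hg.wgT, hadj,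
    adj_of_mem hz]
  simp only [Matrix.smul_mul, mul_assoc]
  rw [← mul_assoc (adj (gT g t) (sT n t) _) (C : Matrix (Fin t → Ix n) (Fin t → Ix n) F), hC]
  simp only [Matrix.smul_mul, Matrix.mul_smul, smul_smul, one_mul]
  rw [← mul_assoc ((z⁻¹ : GL (Fin t → Ix n) F) : Matrix (Fin t → Ix n) (Fin t → Ix n) F), gl_inv_mul, one_mul,
    gl_mul_inv, inv_mul_cancel₀ hμ, one_smul]

theorem sim_conj_Om {hg : Dg g} {t : ℕ} {C : GL (Fin t → Ix n) F} {μ : F} (hμ : μ ≠ 0)
    (hC : adj (gT g t) (sT n t) (C : Matrix (Fin t → Ix n) (Fin t → Ix n) F) *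
      (C : Matrix (Fin t → Ix n) (Fin t → Ix n) F) = μ • 1) {z : GL (Fin t → Ix n) F} (hz : z ∈ Om hg t) :
    C * z * C⁻¹ ∈ Om hg t := by
  have hle : (Om hg t).map (MulAut.conj C).toMonoidHom ≤ Om hg t := by
    rw [Om, Subgroup.map_commutator]
    exact Subgroup.commutator_mono (Subgroup.map_le_iff_le_comap.2 fun x hx => sim_conj_uT hμ hC hx)
      (Subgroup.map_le_iff_le_comap.2 fun x hx => sim_conj_uT hμ hC hx)
  exact hle (Subgroup.mem_map_of_mem _ hz)

/-- the elements of `M` fixing a slice pointwise -/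
def fixSlice (M : Subgroup (GL (Fin (s + 1) → Ix n) F)) (j : Fin (s + 1)) (d : Ix n → F) :
    Subgroup (GL (Fin (s + 1) → Ix n) F) where
  carrier := {x | x ∈ M ∧ Maps x j d j d 1}
  one_mem' := ⟨M.one_mem, Maps.one⟩
  mul_mem' := fun {a b} ha hb => ⟨M.mul_mem ha.1 hb.1, by simpa using ha.2.mul hb.2⟩
  inv_mem' := fun {a} ha => ⟨M.inv_mem ha.1, by simpa using ha.2.inv⟩

theorem mem_fixSlice {M : Subgroup (GL (Fin (s + 1) → Ix n) F)} {j : Fin (s + 1)} {d : Ix n → F}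
    {x : GL (Fin (s + 1) → Ix n) F} : x ∈ fixSlice M j d ↔ x ∈ M ∧ Maps x j d j d 1 := Iff.rfl

theorem Maps.conj_fix {a x : GL (Fin (s + 1) → Ix n) F} {j j' : Fin (s + 1)} {d d' : Ix n → F}
    {C : GL (Fin s → Ix n) F} (ha : Maps a j d j' d' C) (hx : Maps x j d j d 1) : Maps (a * x * a⁻¹) j' d' j' d' 1 := by
  have := (ha.mul hx).mul ha.inv
  simpa using this

theorem sl_maps (j : Fin (s + 1)) (d : Ix n → F) (i : Fin s) (u : GL (Ix n) F) :
    Maps (sl (j.succAbove i) u) j d j d (sl i u) := by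
  rw [← embGL_sl]
  exact maps_embGL j d _

theorem fix_normalised {M : Subgroup (GL (Fin (s + 1) → Ix n) F)} {j : Fin (s + 1)} {d : Ix n → F}
    {a x : GL (Fin (s + 1) → Ix n) F} {C : GL (Fin s → Ix n) F} (ha : a ∈ M) (hC : Maps a j d j d C)
    (hx : x ∈ fixSlice M j d) : a * x * a⁻¹ ∈ fixSlice M j d :=
  ⟨M.mul_mem (M.mul_mem ha hx.1) (M.inv_mem ha), hC.conj_fix hx.2⟩

theorem bf_pv (hg : Dg g) {t : ℕ} (u v : Fin t → Ix n → F) :
    bf (gT g t) (sT n t) (TensorPower.pv u) (TensorPower.pv v) = ∏ l, B1 (u l) (v l) := by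
  rw [bf, dual_pv, pv_dot]
  rfl

theorem bf00 (hg : Dg g) : B1 (Pi.single 0 1) (Pi.single 0 1) = 0 := by
  rw [bf_single hg.wg, s1_zero, Pi.single_eq_of_ne zero_ne_one'.symm, mul_zero]

end General

/-! ### three-dimensional factors -/

variable {F : Type*} [Field F] [Fintype F] {s : ℕ} {g : Ix 0 → F}

local notation "M3" => Matrix (Ix 0) (Ix 0) F
local notation "MU" => Matrix (Fin s → Ix 0) (Fin s → Ix 0) F
local notation "MV" => Matrix (Fin (s + 1) → Ix 0) (Fin (s + 1) → Ix 0) F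
local notation "B3" => bf g (s1 0)

/-- the half turn in one slot -/
def kk (hg : Dg g) (j : Fin (s + 1)) (d : Ix 0 → F) (hd : bf g (s1 0) d d ≠ 0) : GL (Fin (s + 1) → Ix 0) F :=
  sl j (htau hg d hd)

theorem kk_coe (hg : Dg g) (j : Fin (s + 1)) (d : Ix 0 → F) (hd : B3 d d ≠ 0) :
    (kk hg j d hd : MV) = (2 / B3 d d) • slot j (vecMulVec d (dual g (s1 0) d)) - 1 := by
  rw [kk, sl_coe, ← TensorPower.slot_smul, ← TensorPower.slot_one j, ← TensorPower.slot_sub]
  rfl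

theorem kk_maps (hg : Dg g) (j : Fin (s + 1)) (d : Ix 0 → F) (hd : B3 d d ≠ 0) : Maps (kk hg j d hd) j d j d 1 :=
  fun w => by rw [kk, sl_tv, htau_self, Units.val_one, one_mulVec]

theorem kk_sq (hg : Dg g) (j : Fin (s + 1)) (d : Ix 0 → F) (hd : B3 d d ≠ 0) : kk hg j d hd * kk hg j d hd = 1 := by
  rw [kk, sl_mul, htau_sq, sl_one]

theorem kk_inv (hg : Dg g) (j : Fin (s + 1)) (d : Ix 0 → F) (hd : B3 d d ≠ 0) : (kk hg j d hd)⁻¹ = kk hg j d hd :=
  inv_eq_of_mul_eq_one_right (kk_sq hg j d hd)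

variable {hg : Dg g}

/-- an isometry fixing a slice pointwise commutes with its half turn -/
theorem comm_of_fix {x : GL (Fin (s + 1) → Ix 0) F} (hxu : x ∈ uT hg (s + 1)) {j : Fin (s + 1)} {d : Ix 0 → F}
    (hd : B3 d d ≠ 0) (hx : Maps x j d j d 1) : x * kk hg j d hd = kk hg j d hd * x := by
  set P := (slot j (vecMulVec d (dual g (s1 0) d)) : MV) with hP
  have h1 : ∀ y : GL (Fin (s + 1) → Ix 0) F, Maps y j d j d 1 → (y : MV) * P = P := fun y hy =>
    Matrix.ext_iff_mulVec.2 fun z => by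
      obtain ⟨w, hw⟩ := slot_vmv_range j d (dual g (s1 0) d) z
      rw [← mulVec_mulVec, hP, hw, hy, Units.val_one, one_mulVec]
  have hadjP : adj (gT g (s + 1)) (sT 0 (s + 1)) P = P := by rw [hP, adj_slot hg, adj_vecMulVec hg.wg]
  have h3 : P * (x : MV) = P := by
    have e := congrArg (adj (gT g (s + 1)) (sT 0 (s + 1))) (h1 x⁻¹ (by simpa using hx.inv))
    rwa [adj_mul hg.wgT, ← adj_of_mem hxu, adj_adj hg.wgT, hadjP] at e
  refine Units.ext ?_
  rw [Units.val_mul, Units.val_mul, kk_coe, mul_sub, sub_mul, Matrix.mul_smul, Matrix.smul_mul, ← hP, h1 x hx, h3,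
    mul_one, one_mul]

/-- an element commuting with a half turn preserves its slice -/
theorem maps_of_conj {x : GL (Fin (s + 1) → Ix 0) F} (h2 : (2 : F) ≠ 0) {j j' : Fin (s + 1)} {d d' : Ix 0 → F}
    (hd : B3 d d ≠ 0) (hd' : B3 d' d' ≠ 0) (h : x * kk hg j d hd * x⁻¹ = kk hg j' d' hd') :
    ∃ C, Maps x j d j' d' C := by
  have key : ∀ (y : GL (Fin (s + 1) → Ix 0) F) (i i' : Fin (s + 1)) (e e' : Ix 0 → F) (he : B3 e e ≠ 0)
      (he' : B3 e' e' ≠ 0), y * kk hg i e he * y⁻¹ = kk hg i' e' he' →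
      ∀ w, ∃ w', (y : MV) *ᵥ tv i e w = tv i' e' w' := by
    intro y i i' e e' he he' hy w
    have h1 : (y : MV) * ((2 / B3 e e) • slot i (vecMulVec e (dual g (s1 0) e))) =
        ((2 / B3 e' e') • slot i' (vecMulVec e' (dual g (s1 0) e'))) * (y : MV) := by
      have e1 := congrArg Units.val (show y * kk hg i e he = kk hg i' e' he' * y by rw [← hy, inv_mul_cancel_right])
      rw [Units.val_mul, Units.val_mul, kk_coe, kk_coe, mul_sub, sub_mul, mul_one, one_mul] at e1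
      exact sub_left_injective e1
    have h3 := congrArg (· *ᵥ tv i e w) h1
    simp only [← mulVec_mulVec, Matrix.smul_mulVec, mulVec_smul, slot_vmv_tv, smul_smul,
      div_mul_cancel₀ _ he] at h3
    obtain ⟨w', hw'⟩ := slot_vmv_range i' e' (dual g (s1 0) e') ((y : MV) *ᵥ tv i e w)
    rw [hw', ← tv_smul_right] at h3
    refine ⟨(2 : F)⁻¹ • (2 / B3 e' e') • w', ?_⟩
    have h5 := congrArg ((2 : F)⁻¹ • ·) h3
    simp only [smul_smul, inv_mul_cancel₀ h2, one_smul, ← tv_smul_right] at h5 ⊢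
    exact h5
  have hne : ∀ e : Ix 0 → F, B3 e e ≠ 0 → e ≠ 0 := fun e he e0 => he (by
    rw [e0]; exact Orth.sym_zero_left (bf_symmetric hg.wg) _)
  refine exists_maps (hne d hd) (hne d' hd') (key x j j' d d' hd hd' h) (key x⁻¹ j' j d' d hd' hd ?_)
  rw [← h]
  group

theorem root_two (h2 : (2 : F) ≠ 0) :
    ((eU g h2 (Mid.two (n := 0)) 1 : M3) - 1) * ((eU g h2 (Mid.two (n := 0)) 1 : M3) - 1) =
      vecMulVec (Pi.single 0 1) (Pi.single 1 (-(g 2))) ∧
    ((eU g h2 (Mid.two (n := 0)) 1 : M3) - 1) * vecMulVec (Pi.single 0 1) (Pi.single 1 (-(g 2))) = 0 := by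
  have e : vecMulVec (Pi.single (0 : Ix 0) (1 : F)) (Pi.single 1 (-(g 2))) = -(g 2) • (aa : M3) := by
    ext a b; fin_cases a <;> fin_cases b <;> simp [aa, vecMulVec_apply, Matrix.single_apply, Pi.single_apply]
  have hu : (eU g h2 (Mid.two (n := 0)) 1 : M3) - 1 = nm g 2 - (g 2 / 2) • aa := by
    rw [eU_coe, one_smul, one_mul, one_mul]
    abel
  rw [e, hu]
  constructor
  · simp only [sub_mul, mul_sub, Matrix.smul_mul, Matrix.mul_smul, nm_nm Mid.two Mid.two, if_true, nm_aa Mid.two,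
      aa_nm Mid.two, aa_aa, smul_zero, sub_zero]
  · simp only [sub_mul, Matrix.smul_mul, Matrix.mul_smul, nm_aa Mid.two, aa_aa, smul_zero, sub_zero]

variable {M : Subgroup (GL (Fin (s + 1) → Ix 0) F)} (hM : Ctx hg M)
include hM

/-- the root in a slot -/
def Ctx.root (hM : Ctx hg M) (l : Fin (s + 1)) : GL (Fin (s + 1) → Ix 0) F := sl l (eU g hM.two Mid.two 1)

theorem Ctx.root_mem' (l : Fin (s + 1)) : hM.root l ∈ M := hM.root_mem l Mid.two 1

theorem Ctx.eU_pow_char {p : ℕ} [CharP F p] {i : Ix 0} (hi : Mid i) (x : F) : eU g hM.two hi x ^ p = 1 := by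
  rw [eU_pow, CharP.cast_eq_zero, zero_mul]
  exact Units.ext (euM_zero i)

theorem Ctx.root_pow {p : ℕ} [CharP F p] (l : Fin (s + 1)) : hM.root l ^ p = 1 := by
  rw [Ctx.root, ← sl_pow, hM.eU_pow_char, sl_one]

variable (hN : NormTw hg s)
include hN

theorem Ctx.root_conj {x : GL (Fin (s + 1) → Ix 0) F} (hx : x ∈ M) {l l' : Fin (s + 1)} {v : GL (Ix 0) F}
    {a' : Ix 0 → F} (ha' : a' ≠ 0) (haa : B3 a' a' = 0) (hva : (v : M3) *ᵥ a' = a')
    (h : x * hM.root l * x⁻¹ = sl l' v) : x ∈ tensorWreathStandard (0 + 3) (s + 1) F := by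
  refine hM.root_fix hN hx (u := eU g hM.two Mid.two 1) (a := Pi.single 0 1) (ψ := Pi.single 1 (-(g 2)))
    (hM.root_mem' l) (by simp) (bf00 hg) (by simp [hg.nz 2]) (root_two hM.two).1 (root_two hM.two).2 ha' haa
    (l := l') fun w => ?_
  rw [show x * sl l (eU g hM.two Mid.two 1) * x⁻¹ = sl l' v from h, sl_tv, hva]

theorem Ctx.root_centraliser {x : GL (Fin (s + 1) → Ix 0) F} (hx : x ∈ M) {l : Fin (s + 1)}
    (h : x * hM.root l = hM.root l * x) : x ∈ tensorWreathStandard (0 + 3) (s + 1) F :=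
  hM.root_conj hN hx (l' := l) (v := eU g hM.two Mid.two 1) (by simp : (Pi.single 0 1 : Ix 0 → F) ≠ 0) (bf00 hg)
    (eU_mulVec_zero hM.two Mid.two 1) (by rw [h, mul_inv_cancel_right]; rfl)

/-- **Theorem.** The pointwise stabiliser of an anisotropic slice is a `p'`-group. -/
theorem Ctx.fix_pprime {p : ℕ} [Fact p.Prime] [CharP F p] (j : Fin (s + 1)) {d : Ix 0 → F} (hd : B3 d d ≠ 0) :
    ¬ p ∣ Nat.card (fixSlice M j d) := by
  intro hp
  obtain ⟨i⟩ : Nonempty (Fin s) := ⟨⟨0, hM.one⟩⟩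
  set r := hM.root (j.succAbove i) with hr
  obtain ⟨x, hx, hx1, hxp, hcomm⟩ := exists_fixed_pElement (A := Subgroup.zpowers r) (X := fixSlice M j d)
    (isPGroup_zpowers (k := 1) (by rw [pow_one]; exact hM.root_pow _)) (fun a ha y hy => by
      obtain ⟨k, rfl⟩ := Subgroup.mem_zpowers_iff.1 ha
      have hmem : sl i (eU g hM.two Mid.two 1) ^ k ∈ (⊤ : Subgroup (GL (Fin s → Ix 0) F)) := trivial
      refine fix_normalised (M.zpow_mem (hM.root_mem' _) k) (C := sl i (eU g hM.two Mid.two 1) ^ k) ?_ hy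
      have e : r = embGL j (sl i (eU g hM.two Mid.two 1)) := by rw [hr, embGL_sl]; rfl
      rw [e, ← map_zpow]
      exact maps_embGL j d _) hp
  have hxt := hM.root_centraliser hN hx.1 (hcomm r (Subgroup.mem_zpowers r)).symm
  obtain ⟨u, hu, hxu, hud⟩ := tw_fix_slice hxt (hM.le_uT hx.1)
    (show d ≠ 0 from fun e => hd (by rw [e]; exact Orth.sym_zero_left (bf_symmetric hg.wg) _))
    (maps_one_iff.1 hx.2)
  refine hx1 ?_
  rw [hxu, ← sl_pow] at hxp
  have hup : u ^ p = 1 := sl_inj (Nat.succ_pos _) (hxp.trans (sl_one _).symm)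
  rw [hxu, unip_fix_three (bf_symmetric hg.wg) hM.two rfl (fun y y' => bf_of_mem hu y y') hup hd hud, sl_one]

/-- two elements of order `p` acting equally on a slice -/
theorem Ctx.conj_of_maps {p : ℕ} [Fact p.Prime] [CharP F p] {j : Fin (s + 1)} {d : Ix 0 → F} (hd : B3 d d ≠ 0)
    {x x' : GL (Fin (s + 1) → Ix 0) F} (hx : x ∈ M) (hx' : x' ∈ M) (hxp : x ^ p = 1) (hx'p : x' ^ p = 1)
    {C : GL (Fin s → Ix 0) F} (hC : Maps x j d j d C) (hC' : Maps x' j d j d C) :
    ∃ y ∈ fixSlice M j d, x' = y * x * y⁻¹ :=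
  exists_conj_coset hxp hx'p (fun y hy => fix_normalised hx hC hy)
    ⟨M.mul_mem (M.inv_mem hx) hx', by simpa using hC.inv.mul hC'⟩ (hM.fix_pprime hN j hd)

/-- **Theorem.** An element of `Ω` induced on an anisotropic slice lies in the wreath subgroup. -/
theorem Ctx.induced (hs : 2 ≤ s) {j : Fin (s + 1)} {d : Ix 0 → F} (hd : B3 d d ≠ 0)
    {z : GL (Fin (s + 1) → Ix 0) F} (hz : z ∈ M) {b : GL (Fin s → Ix 0) F} (hb : b ∈ Om hg s)
    (hzb : Maps z j d j d b) : b ∈ tensorWreathStandard (0 + 3) s F := by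
  classical
  have h2 := hM.two
  obtain ⟨p, hp, hc, hodd, -⟩ := exists_char (F := F) h2
  haveI := hc
  haveI : Fact p.Prime := ⟨hp⟩
  have hd0 : d ≠ 0 := fun e => hd (by rw [e]; exact Orth.sym_zero_left (bf_symmetric hg.wg) _)
  let N : Subgroup (GL (Fin s → Ix 0) F) :=
    { carrier := {b | b ∈ Om hg s ∧ ∃ z ∈ M, Maps z j d j d b}
      one_mem' := ⟨one_mem _, 1, M.one_mem, Maps.one⟩
      mul_mem' := fun {a b} ⟨ha, z, hz, hza⟩ ⟨hb, y, hy, hyb⟩ => ⟨mul_mem ha hb, z * y, M.mul_mem hz hy, hza.mul hyb⟩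
      inv_mem' := fun {a} ⟨ha, z, hz, hza⟩ => ⟨inv_mem ha, z⁻¹, M.inv_mem hz, hza.inv⟩ }
  rcases hM.inner N (fun x hx => ⟨hx.2, embGL j x, hM.embGL_mem j hx.1 hx.2, maps_embGL j d x⟩) (fun x hx => hx.1)
    with hfull | hle
  swap
  · exact hle ⟨hb, z, hz, hzb⟩
  exfalso
  set l0 : Fin s := ⟨0, by omega⟩
  set l1 : Fin s := ⟨1, by omega⟩
  have h01 : l0 ≠ l1 := fun e => absurd (congrArg Fin.val e) (by simp [l0, l1])
  set X : MU := slot l0 (aa : M3) * slot l1 (nm g 2) with hX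
  have hc01 := slot_comm (F := F) (m := 0 + 3) h01
  have hXX : X * X = 0 := by
    rw [hX, mul_assoc, ← mul_assoc (slot l1 (nm g 2)), ← hc01 aa (nm g 2), mul_assoc (slot l0 (aa : M3)), ← mul_assoc,
      slot_mul, aa_aa, TensorPower.slot_zero, zero_mul]
  let v : GL (Fin s → Ix 0) F := ⟨1 + X, 1 - X,
    by rw [add_mul, one_mul, mul_sub, mul_one, hXX, sub_zero, sub_add_cancel],
    by rw [sub_mul, one_mul, mul_add, mul_one, hXX, add_zero, add_sub_cancel_right]⟩
  have hvu : v ∈ uT hg s := mem_of_one_add (X := X) rfl hXX (by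
    rw [hX, adj_mul hg.wgT, adj_slot hg, adj_slot hg, adj_nm Mid.two hg, adj_aa hg,
      show (slot l1 (-nm g 2) : MU) = -slot l1 (nm g 2) from map_neg (slotHom l1) _, neg_mul, hc01])
  have hv1 : (v : MU) - 1 = X := add_sub_cancel_left _ _
  have hv : v ∈ Om hg s := unip_mem h2 hs hvu (by rw [hv1, pow_succ, pow_two, hXX, zero_mul])
  have hvt : v ∉ tensorWreathStandard (0 + 3) s F := by
    intro hvt
    obtain ⟨l, a, hla⟩ := quad_wreath (le_refl 3) (by omega) h2 hvt (by rw [hv1, hXX])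
    have hXs : X = slot l ((a : M3) - 1) := by
      rw [TensorPower.slot_sub, TensorPower.slot_one, ← sl_coe, ← hla, hv1]
    have hne : ∀ k k' : Fin s, k ≠ k' → k ≠ l → ∀ A B : M3, (slot k A * slot k' B : MU) = slot l ((a : M3) - 1) →
        (A * cc ≠ cc * A) → B ≠ 0 → False := by
      intro k k' hkk hkl A B e hA hB
      have e1 : slot k (A * cc - cc * A) * slot k' B = (0 : MU) := by
        rw [TensorPower.slot_sub, sub_mul, ← slot_mul, ← slot_mul, mul_assoc (slot k A), slot_comm hkk cc B,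
          ← mul_assoc, e, mul_assoc, e, slot_comm hkl cc, sub_self]
      have h0 := slot_zero_prod (fun x y => slot_comm hkk (Matrix.single x y (1 : F)) B) e1 (sub_ne_zero.2 hA)
      haveI : Nonempty (Ix 0) := ⟨0⟩
      exact hB (slot_injective k' (h0.trans (TensorPower.slot_zero k').symm))
    have haacc : (aa : M3) * cc ≠ cc * aa := fun e => by
      have := congrFun (congrFun e 0) 0
      simp [aa_cc, cc_aa] at this
    have hnmcc : nm g 2 * cc ≠ cc * nm g 2 := fun e => by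
      have := congrFun (congrFun e 2) 0
      simp [nm, cc, sub_mul, mul_sub, Matrix.smul_mul, Matrix.mul_smul, single_mul_single', Matrix.single_apply,
        Mid.two.1, Mid.two.2, Mid.two.1.symm, Mid.two.2.symm, zero_ne_one'] at this
    have haa0 : (aa : M3) ≠ 0 := fun e => by simpa [aa] using congrFun (congrFun e 0) 1
    have hnm0 : nm g (2 : Ix 0) ≠ 0 := fun e => hnmcc (by rw [e, zero_mul, mul_zero])
    by_cases hl : l = l0
    · exact hne l1 l0 h01.symm (hl ▸ h01.symm) _ _ (by rw [← hc01, ← hX, hXs]) hnmcc haa0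
    · exact hne l0 l1 h01 (Ne.symm hl) _ _ (by rw [← hX, hXs]) haacc hnm0
  obtain ⟨-, z, hz, hzv⟩ := hfull hv
  set u := eU g h2 (Mid.two (n := 0)) 1 with hu
  have hvr : v * sl l0 u = sl l0 u * v := Units.ext (by
    rw [Units.val_mul, Units.val_mul, sl_coe]
    show (1 + X) * slot l0 (u : M3) = slot l0 (u : M3) * (1 + X)
    rw [add_mul, mul_add, one_mul, mul_one, hX, mul_assoc, ← hc01 (u : M3), ← mul_assoc, ← mul_assoc, slot_mul,
      slot_mul]
    congr 3
    rw [hu, eU_coe]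
    simp only [mul_sub, mul_add, sub_mul, add_mul, mul_one, one_mul, Matrix.mul_smul, Matrix.smul_mul, aa_nm Mid.two,
      nm_aa Mid.two, aa_aa, smul_zero])
  set r := hM.root (j.succAbove l0) with hr
  have hrm : Maps r j d j d (sl l0 u) := sl_maps j d l0 u
  have hrm' : Maps (z * r * z⁻¹) j d j d (sl l0 u) := by
    have := (hzv.mul hrm).mul hzv.inv
    rwa [hvr, mul_inv_cancel_right] at this
  obtain ⟨y, hy, hye⟩ := hM.conj_of_maps hN (p := p) hd (hM.root_mem' _)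
    (M.mul_mem (M.mul_mem hz (hM.root_mem' _)) (M.inv_mem hz)) (hM.root_pow _)
    (by rw [conj_pow, hM.root_pow, mul_one, mul_inv_cancel]) hrm hrm'
  have htw := hM.root_centraliser hN (M.mul_mem (M.inv_mem hy.1) hz) (l := j.succAbove l0) (by
    rw [← hr]
    have e : y⁻¹ * (z * r * z⁻¹) * y = r := by rw [hr, hye]; group
    calc y⁻¹ * z * r = y⁻¹ * (z * r * z⁻¹) * y * (y⁻¹ * z) := by group
      _ = _ := by rw [e])
  exact hvt (tw_restrict (by omega) htw hd0 hd0 (by simpa using hy.2.inv.mul hzv))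

/-- **Theorem.** An element between two anisotropic slices is in the wreath subgroup up to the pointwise
stabiliser of the image. -/
theorem Ctx.slice_split (hs : 2 ≤ s) {x : GL (Fin (s + 1) → Ix 0) F} (hx : x ∈ M) {j j' : Fin (s + 1)}
    {d d' : Ix 0 → F} (hd : B3 d d ≠ 0) (hd' : B3 d' d' ≠ 0) {C : GL (Fin s → Ix 0) F} (hC : Maps x j d j' d' C) :
    C ∈ tensorWreathStandard (0 + 3) s F ∧
      ∃ y ∈ fixSlice M j' d', y⁻¹ * x ∈ tensorWreathStandard (0 + 3) (s + 1) F := by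
  classical
  have h2 := hM.two
  obtain ⟨p, hp, hc, hodd, -⟩ := exists_char (F := F) h2
  haveI := hc
  haveI : Fact p.Prime := ⟨hp⟩
  have hμ : B3 d d / B3 d' d' ≠ 0 := div_ne_zero hd hd'
  have hsim := hC.sim (hM.le_uT hx) hd'
  have hCt : C ∈ tensorWreathStandard (0 + 3) s F := hN C _ hμ hsim fun b hb =>
    hM.induced hN hs hd' (M.mul_mem (M.mul_mem hx (hM.embGL_mem j hb.1 hb.2)) (M.inv_mem hx))
      (sim_conj_Om hμ hsim hb.2) ((hC.mul (maps_embGL j d b)).mul hC.inv)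
  refine ⟨hCt, ?_⟩
  set l0 : Fin s := ⟨0, by omega⟩
  obtain ⟨σ, A, hA⟩ := tw_shape hCt
  set u := eU g h2 (Mid.two (n := 0)) 1 with hu
  set u' := A l0 * u * (A l0)⁻¹ with hu'
  have hconj : C * sl l0 u * C⁻¹ = sl (σ l0) u' := Units.ext (by
    rw [← cj_coe, sl_coe, sl_coe, hA, cj_wreath_slot, hu', ← cj_coe])
  have hu'1 : u' ∈ u1 hg := (sl_mem_iff (hg := hg) (σ l0)).1
    (hconj ▸ sim_conj_uT hμ hsim (sl_mem_uT l0 (eU_mem hg h2 Mid.two 1)))
  have hu'p : u' ^ p = 1 := by rw [hu', conj_pow, hM.eU_pow_char, mul_one, mul_inv_cancel]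
  set r' := sl (j'.succAbove (σ l0)) u' with hr'
  have hr'M : r' ∈ M := hM.odd_sl _ hu'1 hodd hu'p
  have hr'p : r' ^ p = 1 := by rw [hr', ← sl_pow, hu'p, sl_one]
  set r := hM.root (j.succAbove l0) with hr
  have hm : Maps (x * r * x⁻¹) j' d' j' d' (sl (σ l0) u') := by
    rw [← hconj]
    exact (hC.mul (sl_maps j d l0 u)).mul hC.inv
  obtain ⟨y, hy, hye⟩ := hM.conj_of_maps hN (p := p) hd' hr'M
    (M.mul_mem (M.mul_mem hx (hM.root_mem' _)) (M.inv_mem hx)) hr'p
    (by rw [conj_pow, hM.root_pow, mul_one, mul_inv_cancel]) (sl_maps j' d' (σ l0) u') hm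
  refine ⟨y, hy, ?_⟩
  -- the fixed singular vector
  set a' := (A l0 : M3) *ᵥ Pi.single 0 1 with ha'
  have hBu : ∀ v : Fin s → Ix 0 → F, B3 d' d' * (∏ l, B3 ((A (σ.symm l) : M3) *ᵥ v (σ.symm l))
      ((A (σ.symm l) : M3) *ᵥ v (σ.symm l))) = B3 d d * ∏ l, B3 (v l) (v l) := fun v => by
    rw [← bf_pv hg, ← bf_pv hg, ← hC.bf_eq (hM.le_uT hx), hA, wreath_pv]
  obtain ⟨x0, hx0⟩ : ∃ x0 : Ix 0 → F, B3 x0 x0 ≠ 0 := ⟨Pi.single 2 1, by
    rw [bf_mid hg Mid.two, if_pos rfl]; exact hg.nz 2⟩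
  have hsing : B3 a' a' = 0 := by
    by_contra hne
    have h1 := hBu fun _ => x0
    have hprod : ∀ l, B3 ((A (σ.symm l) : M3) *ᵥ x0) ((A (σ.symm l) : M3) *ᵥ x0) ≠ 0 := fun l e =>
      mul_ne_zero hd (Finset.prod_ne_zero_iff.2 fun _ _ => hx0)
        (h1.symm.trans (by rw [Finset.prod_eq_zero (Finset.mem_univ l) e, mul_zero]))
    have h3 := hBu (Function.update (fun _ => x0) l0 (Pi.single 0 1))
    rw [Finset.prod_eq_zero (f := fun l => B3 (Function.update (fun _ => x0) l0 (Pi.single (0 : Ix 0) (1 : F)) l) _)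
      (Finset.mem_univ l0) (by rw [Function.update_self]; exact bf00 hg), mul_zero, mul_eq_zero,
      Finset.prod_eq_zero_iff] at h3
    obtain ⟨l, -, hl⟩ := h3.resolve_left hd'
    by_cases e : σ.symm l = l0
    · rw [e, Function.update_self] at hl; exact hne hl
    · rw [Function.update_of_ne e] at hl; exact hprod l hl
  refine hM.root_conj hN (M.mul_mem (M.inv_mem hy.1) hx) (l := j.succAbove l0) (l' := j'.succAbove (σ l0)) (v := u')
    (fun e => by simpa using gl_mulVec_eq_zero.1 e : a' ≠ 0) hsing ?_ ?_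
  · rw [hu', gl_mul_mulVec, gl_mul_mulVec, ha', gl_inv_mulVec, eU_mulVec_zero]
  · rw [← hr, ← hr']
    calc y⁻¹ * x * r * (y⁻¹ * x)⁻¹ = y⁻¹ * (x * r * x⁻¹) * y := by group
      _ = r' := by rw [hye]; group

end CfsgLib.Perm.Trans.TensorPowerO
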