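import Mathlib
import Cfsg.Agent.Lib.Perm.Trans.TensorPowerO.K3Slice
import Cfsg.Agent.Lib.Perm.Trans.TensorSquare.Trick
import Cfsg.Agent.Lib.Coprime.UniqueOrderP
import Cfsg.Agent.Lib.Invol.ThreePoint
import Cfsg.Agent.Lib.Invol.Basic

/-!
# Three-dimensional factors: centralisers of half turns
-/

set_option autoImplicit false
set_option linter.all false

namespace CfsgLib.Perm.Trans.TensorPowerO

open scoped Matrix
open Matrix Cfsg.Geo CfsgLib.Perm.Asch CfsgLib.Perm.Trans CfsgLib.Perm.Trans.TensorPower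
open CfsgLib.Perm.Trans.TensorSO CfsgLib.Perm.Trans.TensorOO

variable {F : Type*} [Field F] [Fintype F] {s : ℕ} {g : Ix 0 → F}

local notation "M3" => Matrix (Ix 0) (Ix 0) F
local notation "MU" => Matrix (Fin s → Ix 0) (Fin s → Ix 0) F
local notation "MV" => Matrix (Fin (s + 1) → Ix 0) (Fin (s + 1) → Ix 0) F
local notation "B3" => bf g (s1 0)

theorem ne_zero_of_value (hg : Dg g) {d : Ix 0 → F} (hd : B3 d d ≠ 0) : d ≠ 0 := fun e =>
  hd (by rw [e]; exact Orth.sym_zero_left (bf_symmetric hg.wg) _)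

/-- a vector with two anisotropic factors seen as a slice at either -/
theorem tv_swap {s : ℕ} (l : Fin (s + 2)) (j₂ : Fin (s + 1)) (x d : Ix 0 → F) {a : Ix 0} (ha : d a ≠ 0)
    (w : (Fin s → Ix 0) → F) : ∃ w₀, tv l x (tv j₂ d w) = tv (l.succAbove j₂) d w₀ := by
  classical
  set j := l.succAbove j₂ with hj
  refine ⟨fun p => tv l x (tv j₂ d w) (j.insertNth (α := fun _ => Ix 0) a p) / d a, funext fun k => ?_⟩
  have e : j.insertNth (α := fun _ => Ix 0) a (fun i => k (j.succAbove i)) = Function.update k j a := by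
    funext i
    rcases Fin.eq_self_or_eq_succAbove j i with rfl | ⟨i, rfl⟩
    · simp
    · simp [Fin.succAbove_ne]
  have hlj : l ≠ j := (Fin.succAbove_ne l j₂).symm
  have hrest : ∀ i : Fin s, l.succAbove (j₂.succAbove i) ≠ j := fun i e =>
    Fin.succAbove_ne j₂ i (Fin.succAbove_right_injective e)
  show _ = d (k j) * _
  dsimp only
  rw [e]
  simp only [tv, Function.update_of_ne hlj, Function.update_of_ne (hrest _), ← hj, Function.update_self]
  field_simp

/-- a three-dimensional rotation fixing a vector, in an orthogonal basis through it -/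
theorem rot_shape (hg : Dg g) (h2 : (2 : F) ≠ 0) {d b c : Ix 0 → F} (hd : B3 d d ≠ 0) (hb : B3 b b ≠ 0)
    (hc : B3 c c ≠ 0) (hdb : B3 d b = 0) (hdc : B3 d c = 0) (hbc : B3 b c = 0) :
    (∀ v, v = (B3 d v / B3 d d) • d + (B3 b v / B3 b b) • b + (B3 c v / B3 c c) • c) ∧
    ∀ A ∈ u1 hg, (A : M3) *ᵥ d = d → (A : M3).det = 1 → ∃ p q : F, (A : M3) *ᵥ b = p • b + q • c ∧
      (A : M3) *ᵥ c = (-(q * B3 c c / B3 b b)) • b + p • c := by
  classical
  have hs := bf_symmetric hg.wg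
  set w : Fin 3 → Ix 0 → F := ![d, b, c] with hw
  have hli : LinearIndependent F w := by
    rw [Fintype.linearIndependent_iff]
    intro r hr i
    have e : ∀ z, r 0 * B3 z d + r 1 * B3 z b + r 2 * B3 z c = 0 := fun z => by
      have e1 := congrArg (B3 z) hr
      rw [Fin.sum_univ_three, bf_add_right, bf_add_right, bf_smul_right, bf_smul_right, bf_smul_right,
        Orth.sym_zero_right hs] at e1
      simpa [hw] using e1
    fin_cases i
    · simpa [hdb, hdc, hd] using e d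
    · simpa [hbc, bf_comm hg.wg b d, hdb, hb] using e b
    · simpa [bf_comm hg.wg c d, hdc, bf_comm hg.wg c b, hbc, hc] using e c
  have htop : Submodule.span F (Set.range w) = ⊤ :=
    hli.span_eq_top_of_card_eq_finrank' (by rw [Module.finrank_fintype_fun_eq_card])
  have hexp : ∀ v, v = (B3 d v / B3 d d) • d + (B3 b v / B3 b b) • b + (B3 c v / B3 c c) • c := by
    intro v
    obtain ⟨r, hr⟩ := (Submodule.mem_span_range_iff_exists_fun F).1 (htop ▸ Submodule.mem_top (x := v))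
    rw [Fin.sum_univ_three] at hr
    simp only [hw, Matrix.cons_val_zero, Matrix.cons_val_one, Matrix.cons_val] at hr
    rw [← hr]
    simp only [bf_add_right, bf_smul_right, hdb, hdc, hbc, bf_comm hg.wg b d, bf_comm hg.wg c d, bf_comm hg.wg c b,
      mul_zero, add_zero, zero_add]
    rw [mul_div_cancel_right₀ _ hd, mul_div_cancel_right₀ _ hb, mul_div_cancel_right₀ _ hc]
  refine ⟨hexp, fun A hA hAd hdet => ?_⟩
  obtain ⟨p, hp⟩ : ∃ p, p = B3 b ((A : M3) *ᵥ b) / B3 b b := ⟨_, rfl⟩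
  obtain ⟨q, hq⟩ : ∃ q, q = B3 c ((A : M3) *ᵥ b) / B3 c c := ⟨_, rfl⟩
  obtain ⟨p', hp'⟩ : ∃ p', p' = B3 b ((A : M3) *ᵥ c) / B3 b b := ⟨_, rfl⟩
  obtain ⟨q', hq'⟩ : ∃ q', q' = B3 c ((A : M3) *ᵥ c) / B3 c c := ⟨_, rfl⟩
  have hd0 : ∀ v, B3 d ((A : M3) *ᵥ v) = B3 d v := fun v => by
    conv_lhs => rw [← hAd]
    exact bf_of_mem hA d v
  have eb : (A : M3) *ᵥ b = p • b + q • c := by
    conv_lhs => rw [hexp ((A : M3) *ᵥ b)]
    rw [hd0, hdb, zero_div, zero_smul, zero_add, ← hp, ← hq]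
  have ec : (A : M3) *ᵥ c = p' • b + q' • c := by
    conv_lhs => rw [hexp ((A : M3) *ᵥ c)]
    rw [hd0, hdc, zero_div, zero_smul, zero_add, ← hp', ← hq']
  have h1 : p * p * B3 b b + q * q * B3 c c = B3 b b := by
    have e := bf_of_mem hA b b
    simp only [eb, bf_add_left, bf_add_right, bf_smul_left, bf_smul_right, hbc, bf_comm hg.wg c b] at e
    linear_combination e
  have h3 : p * p' * B3 b b + q * q' * B3 c c = 0 := by
    have e := bf_of_mem hA b c
    simp only [eb, ec, bf_add_left, bf_add_right, bf_smul_left, bf_smul_right, hbc, bf_comm hg.wg c b] at e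
    linear_combination e
  have h4 : p * q' - p' * q = 1 := by
    let Q : M3 := Matrix.of fun a i => w i a
    have hQ : Q.det ≠ 0 := by
      have : IsUnit Q := Matrix.linearIndependent_cols_iff_isUnit.1 (by exact hli)
      exact ((Matrix.isUnit_iff_isUnit_det Q).1 this).ne_zero
    have hcol : ∀ i, Q *ᵥ Pi.single i 1 = w i := fun i => by rw [mulVec_single_one]; rfl
    have e : (A : M3) * Q = Q * !![1, 0, 0; 0, p, p'; 0, q, q'] := Matrix.ext_of_mulVec_single fun i => by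
      rw [← mulVec_mulVec, ← mulVec_mulVec, hcol]
      have hr : ∀ v : Ix 0 → F, Q *ᵥ v = v 0 • d + v 1 • b + v 2 • c := fun v => by
        funext a
        simp [Q, mulVec, dotProduct, show ∀ f : Ix 0 → F, ∑ x, f x = f 0 + f 1 + f 2 from fun f => Fin.sum_univ_three f, hw]
        ring
      fin_cases i <;> simp [hr, hw, hAd, eb, ec]
    have e1 := congrArg Matrix.det e
    rw [Matrix.det_mul, Matrix.det_mul, hdet, one_mul, Matrix.det_fin_three !![1, 0, 0; 0, p, p'; 0, q, q']] at e1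
    simp at e1
    exact mul_left_cancel₀ hQ (by linear_combination -e1)
  have hq'p : q' = p := by
    apply mul_left_cancel₀ hb
    linear_combination -q' * h1 + q * h3 + p * B3 b b * h4
  refine ⟨p, q, eb, ?_⟩
  rw [ec, hq'p]
  congr 2
  rw [← neg_div, eq_div_iff hb]
  linear_combination p * h3 + (-p') * h1 - q * B3 c c * h4

/-- rotations about one axis commute -/
theorem rot_comm (hg : Dg g) (h2 : (2 : F) ≠ 0) {d : Ix 0 → F} (hd : B3 d d ≠ 0) {A B : GL (Ix 0) F}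
    (hA : A ∈ u1 hg) (hB : B ∈ u1 hg) (hAd : (A : M3) *ᵥ d = d) (hBd : (B : M3) *ᵥ d = d)
    (hA1 : (A : M3).det = 1) (hB1 : (B : M3).det = 1) : A * B = B * A := by
  obtain ⟨b, c, hb, hc, hdb, hdc, hbc⟩ := exists_triple hg h2 hd
  obtain ⟨hexp, hsh⟩ := rot_shape hg h2 hd hb hc hdb hdc hbc
  obtain ⟨p, q, hAb, hAc⟩ := hsh A hA hAd hA1
  obtain ⟨p', q', hBb, hBc⟩ := hsh B hB hBd hB1
  refine Units.ext (Matrix.ext_iff_mulVec.2 fun v => ?_)
  rw [gl_mul_mulVec, gl_mul_mulVec, hexp v]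
  simp only [mulVec_add, mulVec_smul, hAd, hBd, hAb, hAc, hBb, hBc]
  module

/-- the half turn is the only involutive rotation about its axis -/
theorem rot_invol (hg : Dg g) (h2 : (2 : F) ≠ 0) {d : Ix 0 → F} (hd : B3 d d ≠ 0) {A : GL (Ix 0) F}
    (hA : A ∈ u1 hg) (hAd : (A : M3) *ᵥ d = d) (hA1 : (A : M3).det = 1) (hAA : A * A = 1) (hne : A ≠ 1) :
    A = htau hg d hd := by
  obtain ⟨x, hx, rfl⟩ := exists_htau hg h2 hA hAA hA1 hne
  have hcx := htau_fixed hg h2 hx hAd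
  have hc : B3 x d / B3 x x ≠ 0 := fun e => ne_zero_of_value hg hd (by rw [hcx, e, zero_smul])
  set c := B3 x d / B3 x x
  have hcd : B3 (c • x) (c • x) ≠ 0 := by rw [← hcx]; exact hd
  rw [← htau_smul hg hx hc hcd]
  congr 1
  exact hcx.symm

/-- a subgroup of the form `E K` -/
def prodSub {G : Type*} [Group G] (E K : Subgroup G) (h : ∀ e ∈ E, ∀ y ∈ K, e * y * e⁻¹ ∈ K) : Subgroup G where
  carrier := {x | ∃ e ∈ E, ∃ y ∈ K, x = e * y}
  one_mem' := ⟨1, one_mem _, 1, one_mem _, (one_mul 1).symm⟩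
  mul_mem' := by
    rintro _ _ ⟨e, he, y, hy, rfl⟩ ⟨e', he', y', hy', rfl⟩
    exact ⟨e * e', mul_mem he he', e'⁻¹ * y * e'⁻¹⁻¹ * y', mul_mem (h _ (inv_mem he') y hy) hy', by group⟩
  inv_mem' := by
    rintro _ ⟨e, he, y, hy, rfl⟩
    exact ⟨e⁻¹, inv_mem he, e * y⁻¹ * e⁻¹, h e he _ (inv_mem hy), by group⟩

/-- the four group of two commuting involutions -/
def fourSub {G : Type*} [Group G] (a b : G) (ha : a * a = 1) (hb : b * b = 1) (hab : a * b = b * a) : Subgroup G where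
  carrier := {x | x = 1 ∨ x = a ∨ x = b ∨ x = a * b}
  one_mem' := Or.inl rfl
  mul_mem' := by
    have e1 : a * (a * b) = b := by rw [← mul_assoc, ha, one_mul]
    have e2 : b * (a * b) = a := by rw [hab, ← mul_assoc, hb, one_mul]
    have e3 : a * b * a = b := by rw [hab, mul_assoc, ha, mul_one]
    have e4 : a * b * b = a := by rw [mul_assoc, hb, mul_one]
    have e5 : a * b * (a * b) = 1 := by rw [← mul_assoc, e3, hb]
    rintro x y (rfl | rfl | rfl | rfl) (rfl | rfl | rfl | rfl) <;>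
      simp only [Set.mem_setOf_eq, one_mul, mul_one, ha, hb, ← hab, e1, e2, e3, e4, e5, true_or, or_true]
  inv_mem' := by
    rintro x (rfl | rfl | rfl | rfl)
    · exact Or.inl inv_one
    · exact Or.inr (Or.inl (inv_eq_of_mul_eq_one_right ha))
    · exact Or.inr (Or.inr (Or.inl (inv_eq_of_mul_eq_one_right hb)))
    · refine Or.inr (Or.inr (Or.inr (inv_eq_of_mul_eq_one_right ?_)))
      rw [hab]
      conv_lhs => arg 2; rw [← hab]
      rw [mul_assoc b a, ← mul_assoc a a, ha, one_mul, hb]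

variable {hg : Dg g} {M : Subgroup (GL (Fin (s + 1) → Ix 0) F)} (hM : Ctx hg M)
include hM

/-- half turns of the value of a member are members -/
theorem Ctx.kk_move {j l : Fin (s + 1)} {d d' : Ix 0 → F} (hd : B3 d d ≠ 0) (hd' : B3 d' d' ≠ 0)
    (hv : B3 d' d' = B3 d d) (hk : kk hg j d hd ∈ M) : kk hg l d' hd' ∈ M := by
  obtain ⟨A, hA, hAd⟩ := exists_to_aniso hg hM.two hd hv
  set w := permGL (Equiv.swap j l) * sl j A with hw
  have hwu : w ∈ uT hg (s + 1) := mul_mem (permGL_mem_uT _) (sl_mem_uT j hA)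
  have e : w * kk hg j d hd * w⁻¹ = kk hg l d' hd' := by
    rw [hw, kk, kk, show permGL (Equiv.swap j l) * sl j A * sl j (htau hg d hd) * (permGL (Equiv.swap j l) * sl j A)⁻¹ =
      permGL (Equiv.swap j l) * (sl j A * sl j (htau hg d hd) * (sl j A)⁻¹) * (permGL (Equiv.swap j l))⁻¹ by group,
      ← sl_inv, sl_mul, sl_mul, htau_conj hg hA hd hd' hAd]
    exact Units.ext (by rw [← cj_coe, sl_coe, sl_coe, cj_permGL_slot, Equiv.swap_apply_left])
  rw [← e]
  refine hM.mem ⟨?_, Om_conj hwu (hM.le hk)⟩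
  rw [e]
  exact sl_mem_tw _ _

/-- **Theorem.** There are three orthogonal axes of equal value whose half turns lie in `M` in every slot. -/
theorem Ctx.exists_marks : ∃ (ν : F) (_ : ν ≠ 0) (d : Fin 3 → Ix 0 → F) (hd : ∀ i, B3 (d i) (d i) ≠ 0),
    (∀ i, B3 (d i) (d i) = ν) ∧ (∀ i i', i ≠ i' → B3 (d i) (d i') = 0) ∧
    ∀ l i, kk hg l (d i) (hd i) ∈ M := by
  classical
  have h2 := hM.two
  have hs := bf_symmetric hg.wg
  set μ := -(g 2) / 2 with hμ
  have hμ0 : μ ≠ 0 := div_ne_zero (neg_ne_zero.2 (hg.nz 2)) h2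
  have b01 : B3 (Pi.single 0 1) (Pi.single 1 1) = 1 := by rw [bf_single hg.wg, s1_zero, Pi.single_eq_same, hg.g0, mul_one]
  have b00 : B3 (Pi.single 0 1) (Pi.single 0 1) = 0 := bf00 hg
  have b11 : B3 (Pi.single 1 1) (Pi.single 1 1) = 0 := by
    rw [bf_single hg.wg, s1_one, Pi.single_eq_of_ne zero_ne_one', mul_zero]
  have b02 : B3 (Pi.single 0 1) (Pi.single 2 1) = 0 := by
    rw [bf_single hg.wg, s1_zero, Pi.single_eq_of_ne (Mid.two (n := 0)).2.symm, mul_zero]
  have b12 : B3 (Pi.single 1 1) (Pi.single 2 1) = 0 := by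
    rw [bf_single hg.wg, s1_one, Pi.single_eq_of_ne (Mid.two (n := 0)).1.symm, mul_zero]
  have b22 : B3 (Pi.single 2 1) (Pi.single 2 1) = g 2 := by rw [bf_mid hg Mid.two, if_pos rfl]
  set x : Ix 0 → F := Pi.single 0 1 + μ • Pi.single 1 1 with hx
  set x' : Ix 0 → F := Pi.single 0 1 - μ • Pi.single 1 1 with hx'
  obtain ⟨al, be, hab⟩ := CfsgLib.IsometryConj.field_quadratic (-1 : F) 0 1 (by
    rw [zero_mul, zero_sub, neg_ne_zero, mul_one, show (4 : F) = 2 * 2 by norm_num]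
    exact mul_ne_zero h2 h2)
  let d : Fin 3 → Ix 0 → F := ![x, al • x' + be • Pi.single 2 1, (-be) • x' + al • Pi.single 2 1]
  have vx : B3 x x = -(g 2) := by
    rw [hx]
    simp only [bf_add_left, bf_add_right, bf_smul_left, bf_smul_right, b00, b11, b01,
      bf_comm hg.wg (Pi.single 1 1) (Pi.single 0 1)]
    rw [hμ]; field_simp; ring
  have vx' : B3 x' x' = g 2 := by
    rw [hx']
    simp only [Orth.sym_sub_left hs, Orth.sym_sub_right hs, bf_smul_left, bf_smul_right, b00, b11, b01,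
      bf_comm hg.wg (Pi.single 1 1) (Pi.single 0 1)]
    rw [hμ]; field_simp; ring
  have vxx' : B3 x x' = 0 := by
    rw [hx, hx']
    simp only [bf_add_left, Orth.sym_sub_right hs, bf_smul_left, bf_smul_right, b00, b11, b01,
      bf_comm hg.wg (Pi.single 1 1) (Pi.single 0 1)]
    ring
  have vx2 : B3 x (Pi.single 2 1) = 0 := by
    rw [hx]; simp only [bf_add_left, bf_smul_left, b02, b12]; ring
  have vx'2 : B3 x' (Pi.single 2 1) = 0 := by
    rw [hx']; simp only [Orth.sym_sub_left hs, bf_smul_left, b02, b12]; ring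
  have hval : ∀ i, B3 (d i) (d i) = -(g 2) := by
    intro i
    fin_cases i
    · exact vx
    · simp only [d, bf_add_left, bf_add_right, bf_smul_left, bf_smul_right, vx', vx'2, b22,
        bf_comm hg.wg (Pi.single 2 1) x', Fin.mk_one, Matrix.cons_val_one, Matrix.cons_val_zero]
      linear_combination (g 2) * hab
    · simp only [d, bf_add_left, bf_add_right, bf_smul_left, bf_smul_right, vx', vx'2, b22,
        bf_comm hg.wg (Pi.single 2 1) x', Fin.reduceFinMk, Matrix.cons_val]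
      linear_combination (g 2) * hab
  have hd : ∀ i, B3 (d i) (d i) ≠ 0 := fun i => by rw [hval]; exact neg_ne_zero.2 (hg.nz 2)
  refine ⟨_, neg_ne_zero.2 (hg.nz 2), d, hd, hval, ?_, fun l i => ?_⟩
  · intro i i' hii
    have c01 : B3 (d 0) (d 1) = 0 := by
      simp only [d, Matrix.cons_val_zero, Matrix.cons_val_one, Matrix.cons_val, bf_add_right, bf_smul_right, vxx', vx2,
        mul_zero, add_zero]
    have c02 : B3 (d 0) (d 2) = 0 := by
      simp only [d, Matrix.cons_val_zero, Matrix.cons_val_one, Matrix.cons_val, bf_add_right, bf_smul_right, vxx', vx2,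
        mul_zero, add_zero]
    have c12 : B3 (d 1) (d 2) = 0 := by
      simp only [d, Matrix.cons_val_one, Matrix.cons_val_zero, Matrix.cons_val, bf_add_left, bf_add_right, bf_smul_left,
        bf_smul_right, vx', vx'2, b22, bf_comm hg.wg (Pi.single 2 1) x']
      ring
    fin_cases i <;> fin_cases i' <;> first
      | exact absurd rfl hii
      | exact c01
      | exact c02
      | exact c12
      | (rw [bf_comm hg.wg]; first | exact c01 | exact c02 | exact c12)
  · have hmem := hM.tau_sl l (Mid.two (n := 0))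
    have hu := tauA_mem hg h2 (Mid.two (n := 0))
    have hdet := det_of_slot (hg := hg) (by decide : Odd (0 + 3)) hu (hM.le hmem)
    have hax : (tauA hg h2 (2 : Ix 0) : M3) *ᵥ x = x := by
      rw [hx, mulVec_add, mulVec_smul, tauA, moG_mulVec, moG_mulVec, Equiv.swap_apply_left, Equiv.swap_apply_right,
        if_pos rfl, if_neg zero_ne_one'.symm, if_pos rfl, ← hμ, smul_smul, mul_inv_cancel₀ hμ0, one_smul, add_comm]
    have hsq : tauA hg h2 (2 : Ix 0) * tauA hg h2 2 = 1 := by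
      refine Units.ext (Matrix.ext_of_mulVec_single fun y => ?_)
      rw [gl_mul_mulVec, tauA, moG_mulVec, mulVec_smul, moG_mulVec, smul_smul, Equiv.swap_apply_self, Units.val_one,
        one_mulVec]
      fin_cases y <;> simp [← hμ, hμ0, Equiv.swap_apply_def]
    have hne : tauA hg h2 (2 : Ix 0) ≠ 1 := fun e => by
      have h0 : (tauA hg h2 (2 : Ix 0) : M3) *ᵥ Pi.single 2 1 = Pi.single 2 1 := by
        rw [e, Units.val_one, one_mulVec]
      rw [tauA, moG_mulVec] at h0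
      have h1 := congrFun h0 2
      simp [Equiv.swap_apply_def] at h1
      exact h2 (by linear_combination -h1)
    have e := rot_invol hg h2 (hd 0) hu hax hdet hsq hne
    exact hM.kk_move (hd 0) (hd i) (by rw [hval, hval]) (j := l) (by rw [kk, ← e]; exact hmem)

variable (hN : NormTw hg s)
include hN

theorem Ctx.root_param {x : GL (Fin (s + 1) → Ix 0) F} (hx : x ∈ M) {l : Fin (s + 1)} {c : F} (hc : c ≠ 0)
    (h : x * sl l (eU g hM.two Mid.two c) = sl l (eU g hM.two Mid.two c) * x) :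
    x ∈ tensorWreathStandard (0 + 3) (s + 1) F := by
  have e : (eU g hM.two (Mid.two (n := 0)) c : M3) - 1 = c • nm g 2 - (c * c * g 2 / 2) • aa := by
    rw [eU_coe]; abel
  have ev : vecMulVec (Pi.single (0 : Ix 0) (1 : F)) (Pi.single 1 (-(c * c * g 2))) = -(c * c * g 2) • (aa : M3) := by
    ext a b; fin_cases a <;> fin_cases b <;> simp [aa, vecMulVec_apply, Matrix.single_apply, Pi.single_apply]
  refine hM.root_fix hN hx (u := eU g hM.two Mid.two c) (a := Pi.single 0 1) (ψ := Pi.single 1 (-(c * c * g 2)))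
    (hM.root_mem l Mid.two c) (by simp) (bf00 hg) (by simp [hg.nz 2, hc]) ?_ ?_
    (a' := Pi.single 0 1) (by simp) (bf00 hg) (l := l) fun w => ?_
  · rw [e, ev]
    simp only [sub_mul, mul_sub, Matrix.smul_mul, Matrix.mul_smul, nm_nm Mid.two Mid.two, if_true, nm_aa Mid.two,
      aa_nm Mid.two, aa_aa, smul_zero, sub_zero, smul_smul]
    congr 1
    ring
  · rw [e, ev]
    simp only [sub_mul, Matrix.smul_mul, Matrix.mul_smul, nm_aa Mid.two, aa_aa, smul_zero, sub_zero]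
  · rw [h, mul_inv_cancel_right, sl_tv, eU_mulVec_zero]

/-- **Theorem.** Only the identity fixes two anisotropic slices of different slots. -/
theorem Ctx.dbl_trivial (hs : 2 ≤ s) {j l : Fin (s + 1)} (hlj : l ≠ j) {d x0 : Ix 0 → F} (hd : B3 d d ≠ 0)
    (hx0 : B3 x0 x0 ≠ 0) {x : GL (Fin (s + 1) → Ix 0) F} (hx : x ∈ fixSlice M j d) (hx' : x ∈ fixSlice M l x0) :
    x = 1 := by
  classical
  have h2 := hM.two
  obtain ⟨p, hp, hc, hodd, h3⟩ := exists_char (F := F) h2
  haveI := hc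
  haveI : Fact p.Prime := ⟨hp⟩
  set K := fixSlice M j d ⊓ fixSlice M l x0 with hK
  have hpK : ¬ p ∣ Nat.card K := fun h =>
    hM.fix_pprime hN j hd (h.trans (Subgroup.card_dvd_of_le inf_le_left))
  obtain ⟨m, hmj, hml⟩ : ∃ m : Fin (s + 1), m ≠ j ∧ m ≠ l := by
    by_contra hcon
    push Not at hcon
    have hsub : (Finset.univ : Finset (Fin (s + 1))) ⊆ {j, l} := fun m _ => by
      by_cases hm : m = j
      · simp [hm]
      · simp [hcon m hm]
    have := (Finset.card_le_card hsub).trans ((Finset.card_insert_le _ _).trans (by simp : _ ≤ 2))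
    rw [Finset.card_univ, Fintype.card_fin] at this
    omega
  have hnorm : ∀ c : F, ∀ y ∈ K, sl m (eU g h2 Mid.two c) * y * (sl m (eU g h2 Mid.two c))⁻¹ ∈ K := fun c y hy => by
    obtain ⟨i, hi⟩ := Fin.exists_succAbove_eq hmj
    obtain ⟨i', hi'⟩ := Fin.exists_succAbove_eq hml
    exact ⟨fix_normalised (hM.root_mem m Mid.two c) (by rw [← hi]; exact sl_maps j d i _) hy.1,
      fix_normalised (hM.root_mem m Mid.two c) (by rw [← hi']; exact sl_maps l x0 i' _) hy.2⟩
  have hfix : ∀ c : F, c ≠ 0 → ∀ y ∈ K, y * sl m (eU g h2 Mid.two c) = sl m (eU g h2 Mid.two c) * y → y = 1 := by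
    intro c hc0 y hy hcy
    have hyt := hM.root_param hN hy.1.1 hc0 hcy
    obtain ⟨A, hA, hyA, hAd⟩ := tw_fix_slice hyt (hM.le_uT hy.1.1) (ne_zero_of_value hg hd) (maps_one_iff.1 hy.1.2)
    obtain ⟨A', hA', hyA', -⟩ := tw_fix_slice hyt (hM.le_uT hy.1.1) (ne_zero_of_value hg hx0) (maps_one_iff.1 hy.2.2)
    obtain ⟨k, hk⟩ := scalar_of_slot_eq (Nat.succ_pos _) hlj.symm (show (slot j (A : M3) : MV) = slot l (A' : M3) by
      rw [← sl_coe, ← sl_coe, ← hyA, ← hyA'])
    have hk1 : k = 1 := by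
      rw [hk, Matrix.smul_mulVec, one_mulVec] at hAd
      exact smul_left_injective F (ne_zero_of_value hg hd) (hAd.trans (one_smul F d).symm)
    rw [hyA]
    exact Units.ext (by rw [sl_coe, hk, hk1, one_smul, TensorPower.slot_one, Units.val_one])
  suffices hK1 : K ≤ ⊥ from Subgroup.mem_bot.1 (hK1 ⟨hx, hx'⟩)
  by_cases hp3 : 3 < p
  · intro y hy
    refine Subgroup.mem_bot.2 (TensorSquare.eq_one_of_unip_fpf (sl m (eU g h2 Mid.two 1)) K (hnorm 1)
      (by rw [← sl_pow, hM.eU_pow_char, sl_one]) hpK (fun y hy e => hfix 1 one_ne_zero y hy e.symm) hp3 ?_ y hy)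
    rw [sl_coe, ← TensorPower.slot_one m, ← TensorPower.slot_sub, ← slotHom_apply, ← map_pow, pow_succ', pow_two,
      (root_two h2).1, (root_two h2).2, map_zero]
  have hp3' : p = 3 := by omega
  let φ : Multiplicative F →* GL (Fin (s + 1) → Ix 0) F :=
    { toFun := fun c => sl m (eU g h2 Mid.two c.toAdd)
      map_one' := by rw [toAdd_one, show eU g h2 (Mid.two (n := 0)) 0 = 1 from Units.ext (euM_zero _), sl_one]
      map_mul' := fun a b => by rw [toAdd_mul, ← eU_mul, ← sl_mul] }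
  have hφinj : Function.Injective φ := by
    intro a b e
    have e0 : sl m (eU g h2 (Mid.two (n := 0)) a.toAdd) = sl m (eU g h2 (Mid.two (n := 0)) b.toAdd) := e
    have e1 := congrFun (congrFun (congrArg (fun A : GL (Ix 0) F => (A : M3)) (sl_inj (Nat.succ_pos _) e0)) (2 : Ix 0)) 1
    refine Multiplicative.toAdd.injective ?_
    simpa [eU_coe, nm, aa, Matrix.single_apply, Mid.two.1, Mid.two.2, Mid.two.1.symm, Mid.two.2.symm,
      zero_ne_one'] using e1
  haveI : IsMulCommutative φ.range := ⟨⟨by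
    rintro ⟨_, a, rfl⟩ ⟨_, b, rfl⟩
    exact Subtype.ext (show φ a * φ b = φ b * φ a by rw [← map_mul, mul_comm, map_mul])⟩⟩
  have hcard : Nat.card φ.range = Nat.card F :=
    (Nat.card_congr (MonoidHom.ofInjective hφinj).toEquiv).symm.trans (Nat.card_congr Multiplicative.toAdd)
  obtain ⟨k, hk⟩ : ∃ k, Fintype.card F = p ^ k := by
    obtain ⟨k, -, hk⟩ := FiniteField.card F p
    exact ⟨k, hk⟩
  refine Coprime.le_of_centralizers_le (A := φ.range) (fun hcyc => ?_) (fun a ha => ?_) ?_ fun a ha ha1 y hy => ?_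
  · obtain ⟨⟨a, c, rfl⟩, hgen⟩ := hcyc.exists_generator
    have h3' : Nat.card φ.range ≤ p := by
      rw [← orderOf_eq_card_of_forall_mem_zpowers hgen]
      refine Nat.le_of_dvd hp.pos (orderOf_dvd_of_pow_eq_one (Subtype.ext ?_))
      show sl m (eU g h2 Mid.two c.toAdd) ^ p = 1
      rw [← sl_pow, hM.eU_pow_char, sl_one]
    rw [hcard, Nat.card_eq_fintype_card, hp3'] at h3'
    obtain ⟨y, hy0, hy1⟩ := hM.big.resolve_left (by omega)
    refine hy1 ?_
    have hq : Fintype.card F = 3 := by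
      rcases k with _ | k
      · rw [pow_zero] at hk; exact absurd hk (ne_of_gt Fintype.one_lt_card)
      · have : p ≤ p ^ (k + 1) := Nat.le_self_pow (Nat.succ_ne_zero _) p
        rw [← hk] at this; omega
    have := FiniteField.pow_card_sub_one_eq_one y hy0
    rwa [hq, pow_two] at this
  · obtain ⟨c, rfl⟩ := ha
    refine Subgroup.mem_normalizer_iff.2 fun y => ⟨fun hy => hnorm _ y hy, fun hy => ?_⟩
    have := hnorm (c⁻¹).toAdd _ hy
    change φ c⁻¹ * (φ c * y * (φ c)⁻¹) * (φ c⁻¹)⁻¹ ∈ K at this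
    rw [map_inv] at this
    group at this ⊢
    exact this
  · rw [hcard, Nat.card_eq_fintype_card, hk]
    exact Nat.Coprime.pow_left _ ((Nat.Prime.coprime_iff_not_dvd hp).2 hpK)
  · obtain ⟨c, rfl⟩ := ha
    refine Subgroup.mem_bot.2 (hfix c.toAdd (fun e => ha1 ?_) y hy.1 (Subgroup.mem_centralizer_singleton_iff.1 hy.2))
    rw [show c = 1 from Multiplicative.toAdd.injective e, map_one]

/-- **Theorem.** Fixing one slice and commuting with a half turn in another slot. -/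
theorem Ctx.fix_comm_tw (hs : 2 ≤ s) {j l : Fin (s + 1)} (hlj : l ≠ j) {d x : Ix 0 → F} (hd : B3 d d ≠ 0)
    (hx : B3 x x ≠ 0) {y : GL (Fin (s + 1) → Ix 0) F} (hy : y ∈ fixSlice M j d)
    (hc : y * kk hg l x hx = kk hg l x hx * y) : y ∈ tensorWreathStandard (0 + 3) (s + 1) F := by
  classical
  obtain ⟨s', rfl⟩ : ∃ s', s = s' + 1 := ⟨s - 1, by omega⟩
  obtain ⟨C, hC⟩ := maps_of_conj hM.two hx hx (j := l) (j' := l) (x := y) (by rw [hc, mul_inv_cancel_right])
  obtain ⟨hCt, -⟩ := hM.slice_split hN hs hy.1 hx hx hC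
  have hCu := hC.mem_uT (hM.le_uT hy.1) hx
  obtain ⟨j₂, hj₂⟩ := Fin.exists_succAbove_eq hlj.symm
  obtain ⟨a, ha⟩ := Function.ne_iff.1 (ne_zero_of_value hg hd)
  obtain ⟨A, hA, hCA, hAd⟩ := tw_fix_slice hCt hCu (ne_zero_of_value hg hd) (j := j₂) fun w => by
    obtain ⟨w0, hw0⟩ := tv_swap l j₂ x d ha w
    refine tv_inj_right l (ne_zero_of_value hg hx) ?_
    rw [← hC, hw0, hj₂, maps_one_iff.1 hy.2]
  obtain ⟨m₂, hm₂⟩ : ∃ m₂ : Fin (s' + 1), m₂ ≠ j₂ := by
    by_cases h : j₂ = ⟨0, by omega⟩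
    · exact ⟨⟨1, by omega⟩, fun e => absurd (congrArg Fin.val (e.trans h)) (by simp)⟩
    · exact ⟨⟨0, by omega⟩, fun e => h e.symm⟩
  set m := l.succAbove m₂ with hm
  have hmj : m ≠ j := fun e => hm₂ (Fin.succAbove_right_injective (e.trans hj₂.symm))
  obtain ⟨i, hi⟩ := Fin.exists_succAbove_eq hmj
  set r := hM.root m with hr
  have hrM := hM.root_mem' (g := g) (hg := hg) (M := M) m
  set z := r * y * r⁻¹ * y⁻¹ with hz
  have hzj : z ∈ fixSlice M j d := mul_mem (fix_normalised hrM (by rw [hr, Ctx.root, ← hi]; exact sl_maps j d i _) hy)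
    (inv_mem hy)
  have hzl : z ∈ fixSlice M l x := by
    refine ⟨hzj.1, ?_⟩
    have h1 : Maps r l x l x (sl m₂ (eU g hM.two Mid.two 1)) := sl_maps l x m₂ _
    have h3 := ((h1.mul hC).mul h1.inv).mul hC.inv
    rwa [hCA, sl_comm hm₂, mul_inv_cancel_right, mul_inv_cancel] at h3
  have hz1 := hM.dbl_trivial hN hs hlj hd hx hzj hzl
  refine hM.root_centraliser hN hy.1 (l := m) ?_
  calc y * r = (r * y * r⁻¹ * y⁻¹)⁻¹ * (r * y) := by group
    _ = r * y := by rw [← hz, hz1, inv_one, one_mul]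

/-- **Theorem.** The pointwise stabiliser of the slice of a half turn in `M` lies in the wreath subgroup. -/
theorem Ctx.fix_le_tw (hs : 2 ≤ s) {j : Fin (s + 1)} {d : Ix 0 → F} (hd : B3 d d ≠ 0) (hk : kk hg j d hd ∈ M) :
    fixSlice M j d ≤ tensorWreathStandard (0 + 3) (s + 1) F := by
  classical
  haveI : Fact (Nat.Prime 2) := ⟨Nat.prime_two⟩
  have h2 := hM.two
  set W := tensorWreathStandard (0 + 3) (s + 1) F with hW
  set K := fixSlice M j d with hKdef
  set k := kk hg j d hd with hkdef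
  have hD : ∀ y ∈ K, y ∈ W → ∃ A ∈ u1 hg, y = sl j A ∧ (A : M3) *ᵥ d = d ∧ (A : M3).det = 1 := fun y hy hyW => by
    obtain ⟨A, hA, hyA, hAd⟩ := tw_fix_slice hyW (hM.le_uT hy.1) (ne_zero_of_value hg hd) (maps_one_iff.1 hy.2)
    exact ⟨A, hA, hyA, hAd, det_of_slot (by decide) hA (hyA ▸ hM.le hy.1)⟩
  have hDinv : ∀ y ∈ K, y ∈ W → y * y = 1 → y ≠ 1 → y = k := fun y hy hyW h1 hne => by
    obtain ⟨A, hA, rfl, hAd, hdet⟩ := hD y hy hyW
    rw [hkdef, kk, rot_invol hg h2 hd hA hAd hdet (sl_inj (Nat.succ_pos _) (k := j) (by rw [← sl_mul, h1, sl_one]))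
      fun e => hne (by rw [e, sl_one])]
  -- the four group in another slot
  obtain ⟨l, hlj⟩ : ∃ l : Fin (s + 1), l ≠ j := by
    by_cases h : j = ⟨0, by omega⟩
    · exact ⟨⟨1, by omega⟩, fun e => absurd (congrArg Fin.val (e.trans h)) (by simp)⟩
    · exact ⟨⟨0, by omega⟩, fun e => h e.symm⟩
  obtain ⟨ν, hν, dd, hdd, hval, horth, hmarks⟩ := hM.exists_marks
  set a := kk hg l (dd 0) (hdd 0) with hadef
  set b := kk hg l (dd 1) (hdd 1) with hbdef
  have h01 : (0 : Fin 3) ≠ 1 := by decide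
  have htc := htau_comm hg h2 (hdd 0) (hdd 1) (horth 0 1 h01)
  have htne : htau hg (dd 0) (hdd 0) ≠ htau hg (dd 1) (hdd 1) := fun e => by
    obtain ⟨c, hc⟩ := htau_inj hg h2 (hdd 0) (hdd 1) e
    have := horth 0 1 h01
    rw [hc, bf_smul_right, mul_eq_zero] at this
    exact this.elim (fun h => hdd 1 (by rw [hc, h, zero_smul]; exact Orth.sym_zero_left (bf_symmetric hg.wg) _)) (hdd 0)
  obtain ⟨x2, hx2, hprod⟩ := htau_pair hg h2 (hdd 0) (hdd 1) htc htne
  have habc : a * b = kk hg l x2 hx2 := by rw [hadef, hbdef, kk, kk, kk, sl_mul, hprod]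
  have hab : a * b = b * a := by rw [hadef, hbdef, kk, kk, sl_mul, sl_mul, htc]
  set E := fourSub a b (kk_sq _ _ _ _) (kk_sq _ _ _ _) hab with hE
  have hEmem : ∀ e ∈ E, e = 1 ∨ ∃ (x : Ix 0 → F) (hx : B3 x x ≠ 0), e = kk hg l x hx := by
    rintro e (rfl | rfl | rfl | rfl)
    · exact Or.inl rfl
    · exact Or.inr ⟨_, _, rfl⟩
    · exact Or.inr ⟨_, _, rfl⟩
    · exact Or.inr ⟨_, _, habc⟩
  have haE : a ∈ E := Or.inr (Or.inl rfl)
  have hbE : b ∈ E := Or.inr (Or.inr (Or.inl rfl))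
  have hEM : ∀ e ∈ E, e ∈ M := by
    rintro e (rfl | rfl | rfl | rfl)
    exacts [M.one_mem, hmarks l 0, hmarks l 1, M.mul_mem (hmarks l 0) (hmarks l 1)]
  have hEW : ∀ e ∈ E, e ∈ W := fun e he => by
    rcases hEmem e he with rfl | ⟨x, hx, rfl⟩
    exacts [one_mem _, sl_mem_tw _ _]
  obtain ⟨i, hi⟩ := Fin.exists_succAbove_eq hlj
  have hEK : ∀ e ∈ E, ∀ y ∈ K, e * y * e⁻¹ ∈ K := by
    intro e he y hy
    rcases hEmem e he with rfl | ⟨x, hx, rfl⟩
    · simpa using hy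
    · exact fix_normalised (hEM _ he) (by rw [kk, ← hi]; exact sl_maps j d i _) hy
  have hEsq : ∀ e ∈ E, e * e = 1 := fun e he => by
    rcases hEmem e he with rfl | ⟨x, hx, rfl⟩
    exacts [one_mul 1, kk_sq _ _ _ _]
  have hEcent : ∀ e ∈ E, e ≠ 1 → ∀ y ∈ K, y * e = e * y → y ∈ W := fun e he he1 y hy hc => by
    obtain ⟨x, hx, rfl⟩ := (hEmem e he).resolve_left he1
    exact hM.fix_comm_tw hN hs hlj hd hx hy hc
  have hkl : ∀ (x : Ix 0 → F) (hx : B3 x x ≠ 0), kk hg l x hx ≠ 1 := fun x hx e => by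
    have := sl_inj (Nat.succ_pos _) (e.trans (sl_one l).symm)
    exact htau_ne_scalar hg h2 hx 1 (by rw [this, Units.val_one, one_smul])
  have ha1 : a ≠ 1 := hkl _ _
  have hb1 : b ≠ 1 := hkl _ _
  have hab1 : a * b ≠ 1 := by rw [habc]; exact hkl _ _
  -- a Sylow subgroup containing the four group
  set G' := prodSub E K hEK with hG'
  have hEG : E ≤ G' := fun e he => ⟨e, he, 1, one_mem _, (mul_one e).symm⟩
  have hKG : K ≤ G' := fun y hy => ⟨1, one_mem _, y, hy, (one_mul y).symm⟩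
  obtain ⟨T, hT⟩ := IsPGroup.exists_le_sylow (p := 2) (G := G') (P := E.subgroupOf G') fun ⟨⟨e, _⟩, he⟩ =>
    ⟨1, Subtype.ext (Subtype.ext (by rw [pow_one, pow_two]; exact hEsq e he))⟩
  set T' := (T : Subgroup G').map G'.subtype with hT'
  have hET : E ≤ T' := fun e he => ⟨⟨e, hEG he⟩, hT he, rfl⟩
  have hTG : T' ≤ G' := Subgroup.map_subtype_le _
  have hT2 : IsPGroup 2 T' := T.2.map _
  have hTW : T' ≤ W := by
    haveI := hT2.isNilpotent
    set H : Subgroup T' := W.subgroupOf T' with hH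
    by_cases htop : H = ⊤
    · exact Subgroup.subgroupOf_eq_top.1 htop
    exfalso
    obtain ⟨⟨z, hzT⟩, hzN, hzH⟩ :=
      SetLike.exists_of_lt (Group.normalizerCondition_of_isNilpotent H (lt_top_iff_ne_top.2 htop))
    obtain ⟨e, he, y, hy, rfl⟩ := hTG hzT
    have hyW : y ∉ W := fun h => hzH (show e * y ∈ W from mul_mem (hEW e he) h)
    have hconj : ∀ f ∈ E, y * f * y⁻¹ ∈ W := fun f hf => by
      have h1 : e * y * f * (e * y)⁻¹ ∈ W :=
        (Subgroup.mem_normalizer_iff.1 hzN ⟨f, hET hf⟩).1 (show f ∈ W from hEW f hf)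
      have := mul_mem (mul_mem (inv_mem (hEW e he)) h1) (hEW e he)
      rwa [show e⁻¹ * (e * y * f * (e * y)⁻¹) * e = y * f * y⁻¹ by group] at this
    have hdelta : ∀ f ∈ E, f ≠ 1 → y * f * y⁻¹ * f⁻¹ = k := fun f hf hf1 => by
      have hδK : y * f * y⁻¹ * f⁻¹ ∈ K := by
        rw [show y * f * y⁻¹ * f⁻¹ = y * (f * y⁻¹ * f⁻¹) by group]
        exact mul_mem hy (hEK f hf _ (inv_mem hy))
      have hδW : y * f * y⁻¹ * f⁻¹ ∈ W := mul_mem (hconj f hf) (inv_mem (hEW f hf))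
      refine hDinv _ hδK hδW ?_ fun e1 => hyW (hEcent f hf hf1 y hy ?_)
      · obtain ⟨A, hA, hδ, -, -⟩ := hD _ hδK hδW
        have hcom : f * (y * f * y⁻¹ * f⁻¹) = y * f * y⁻¹ * f⁻¹ * f := by
          obtain ⟨x, hx, hfx⟩ := (hEmem f hf).resolve_left hf1
          rw [hδ, hfx, kk, sl_comm hlj]
        have hff := hEsq f hf
        have hfi : f⁻¹ = f := inv_eq_of_mul_eq_one_right hff
        calc y * f * y⁻¹ * f⁻¹ * (y * f * y⁻¹ * f⁻¹)
            = y * f * y⁻¹ * (f⁻¹ * (y * f * y⁻¹ * f⁻¹)) := by group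
          _ = y * f * y⁻¹ * (y * f * y⁻¹ * f⁻¹ * f) := by rw [hfi] at hcom ⊢; rw [hcom]
          _ = y * (f * f) * y⁻¹ := by group
          _ = 1 := by rw [hff]; group
      · calc y * f = y * f * y⁻¹ * f⁻¹ * (f * y) := by group
          _ = f * y := by rw [e1, one_mul]
    have hk0 : k ≠ 1 := by
      have := hdelta a haE ha1
      intro e1
      refine hyW (hEcent a haE ha1 y hy ?_)
      calc y * a = y * a * y⁻¹ * a⁻¹ * (a * y) := by group
        _ = a * y := by rw [this, e1, one_mul]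
    refine hk0 ?_
    rw [← hdelta (a * b) (mul_mem haE hbE) hab1,
      show y * (a * b) * y⁻¹ * (a * b)⁻¹ = y * a * y⁻¹ * a⁻¹ * (a * (y * b * y⁻¹ * b⁻¹) * a⁻¹) by group,
      hdelta a haE ha1, hdelta b hbE hb1, show a * k = k * a by rw [hkdef, hadef, kk, kk, sl_comm hlj],
      mul_inv_cancel_right, hkdef, kk_sq]
  -- Sylow subgroups of the stabiliser move into the wreath subgroup
  have hmove : ∀ (P : Subgroup K), IsPGroup 2 P → ∃ y : K, ∀ q ∈ P, ((y * q * y⁻¹ : K) : GL (Fin (s + 1) → Ix 0) F) ∈ W := by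
    intro P hP
    obtain ⟨⟨z, e, he, y, hy, rfl⟩, hz⟩ :=
      Invol.exists_conj_le_sylow (hP.map (Subgroup.inclusion hKG)) T
    refine ⟨⟨y, hy⟩, fun q hq => ?_⟩
    have h1 : e * y * (q : GL (Fin (s + 1) → Ix 0) F) * (e * y)⁻¹ ∈ W :=
      hTW ⟨_, hz _ (Subgroup.mem_map_of_mem _ hq), rfl⟩
    have := mul_mem (mul_mem (inv_mem (hEW e he)) h1) (hEW e he)
    show y * (q : GL (Fin (s + 1) → Ix 0) F) * y⁻¹ ∈ W
    rwa [show e⁻¹ * (e * y * (q : GL (Fin (s + 1) → Ix 0) F) * (e * y)⁻¹) * e =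
      y * (q : GL (Fin (s + 1) → Ix 0) F) * y⁻¹ by group] at this
  obtain ⟨P0⟩ : Nonempty (Sylow 2 K) := inferInstance
  obtain ⟨y0, hy0⟩ := hmove P0 P0.2
  haveI : IsMulCommutative (P0 : Subgroup K) := ⟨⟨by
    rintro ⟨p, hp⟩ ⟨q, hq⟩
    refine Subtype.ext (Subtype.ext ?_)
    obtain ⟨A, hA, eA, hAd, hA1⟩ := hD _ (y0 * p * y0⁻¹).2 (hy0 p hp)
    obtain ⟨B, hB, eB, hBd, hB1⟩ := hD _ (y0 * q * y0⁻¹).2 (hy0 q hq)
    have e : (y0 * p * y0⁻¹) * (y0 * q * y0⁻¹) = (y0 * q * y0⁻¹) * (y0 * p * y0⁻¹) := Subtype.ext (by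
      show ((y0 * p * y0⁻¹ : K) : GL (Fin (s + 1) → Ix 0) F) * ((y0 * q * y0⁻¹ : K) : GL (Fin (s + 1) → Ix 0) F) = _ * _
      rw [eA, eB, sl_mul, sl_mul, rot_comm hg h2 hd hA hB hAd hBd hA1 hB1])
    have e' : y0 * (p * q) * y0⁻¹ = y0 * (q * p) * y0⁻¹ := by
      calc y0 * (p * q) * y0⁻¹ = (y0 * p * y0⁻¹) * (y0 * q * y0⁻¹) := by group
        _ = _ := by rw [e]; group
    show ((p * q : K) : GL (Fin (s + 1) → Ix 0) F) = ((q * p : K) : GL (Fin (s + 1) → Ix 0) F)
    rw [mul_left_cancel (mul_right_cancel e')]⟩⟩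
  have hcyc : IsCyclic (P0 : Subgroup K) := by
    refine Coprime.isCyclic_of_comm_of_unique P0.2 fun p q hp hq hp1 => ?_
    by_cases hq1 : q = 1
    · rw [hq1]; exact one_mem _
    have key : ∀ r : (P0 : Subgroup K), r ^ 2 = 1 → r ≠ 1 → ((r : K) : GL (Fin (s + 1) → Ix 0) F) = k := by
      intro r hr hr1
      have hr2 : (r : K) * (r : K) = 1 := by rw [← pow_two]; exact congrArg Subtype.val hr
      have e := hDinv _ (y0 * (r : K) * y0⁻¹).2 (hy0 _ r.2) (congrArg Subtype.val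
        (show y0 * (r : K) * y0⁻¹ * (y0 * (r : K) * y0⁻¹) = 1 by
          calc _ = y0 * ((r : K) * (r : K)) * y0⁻¹ := by group
            _ = 1 := by rw [hr2]; group))
        fun e => hr1 (Subtype.ext (conj_eq_one_iff.1 (Subtype.ext e)))
      have hyk : (y0 : GL (Fin (s + 1) → Ix 0) F) * k = k * y0 := comm_of_fix (hM.le_uT y0.2.1) hd y0.2.2
      calc ((r : K) : GL (Fin (s + 1) → Ix 0) F) = (y0 : GL (Fin (s + 1) → Ix 0) F)⁻¹ *
            ((y0 * (r : K) * y0⁻¹ : K) : GL (Fin (s + 1) → Ix 0) F) * y0 := by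
              simp only [Subgroup.coe_mul, Subgroup.coe_inv]; group
        _ = k := by rw [e, mul_assoc, ← hyk, inv_mul_cancel_left]
    rw [show q = p from Subtype.ext (Subtype.ext ((key q hq hq1).trans (key p hp hp1).symm))]
    exact Subgroup.mem_zpowers p
  obtain ⟨P, N, hN', hcompl⟩ := Invol.hasNormalPComplement_two_of_isCyclic P0 hcyc
  haveI := hN'
  set N' := N.map K.subtype with hN'def
  have hNodd : ¬ 2 ∣ Nat.card N := by
    rw [← hcompl.index_eq_card]
    exact P.not_dvd_index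
  have hNidx : ∃ e, N.index = 2 ^ e := by
    rw [hcompl.symm.index_eq_card]
    exact P.2.exists_card_eq
  have hodd_mem : ∀ y : K, ¬ 2 ∣ orderOf y → y ∈ N := fun y hy => by
    obtain ⟨e, he⟩ := hNidx
    obtain ⟨r, hr⟩ := exists_pow_eq_self_of_coprime (n := 2 ^ e) (x := y)
      (Nat.Coprime.pow_left _ ((Nat.Prime.coprime_iff_not_dvd Nat.prime_two).2 hy))
    rw [← hr]
    exact pow_mem (he ▸ Subgroup.pow_index_mem N y) r
  have hNnorm : ∀ e ∈ E, ∀ v ∈ N', e * v * e⁻¹ ∈ N' := by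
    rintro e he _ ⟨v, hv, rfl⟩
    refine ⟨⟨e * v * e⁻¹, hEK e he v v.2⟩, hodd_mem _ ?_, rfl⟩
    rw [← Subgroup.orderOf_coe]
    show ¬ 2 ∣ orderOf (e * (v : GL (Fin (s + 1) → Ix 0) F) * e⁻¹)
    rw [show orderOf (e * (v : GL (Fin (s + 1) → Ix 0) F) * e⁻¹) = orderOf (v : GL (Fin (s + 1) → Ix 0) F) from
      orderOf_injective (MulAut.conj e).toMonoidHom (MulAut.conj e).injective _]
    intro h
    rw [Subgroup.orderOf_coe, ← Subgroup.orderOf_mk v hv] at h
    exact hNodd (h.trans (orderOf_dvd_natCard _))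
  haveI : IsMulCommutative E := ⟨⟨by
    rintro ⟨p, hp⟩ ⟨q, hq⟩
    refine Subtype.ext (show p * q = q * p from ?_)
    have := hEsq _ (mul_mem hp hq)
    calc p * q = (p * q)⁻¹ := (inv_eq_of_mul_eq_one_right this).symm
      _ = q * p := by rw [_root_.mul_inv_rev, inv_eq_of_mul_eq_one_right (hEsq _ hp),
        inv_eq_of_mul_eq_one_right (hEsq _ hq)]⟩⟩
  have hNW : N' ≤ W := by
    refine Coprime.le_of_centralizers_le (A := E) (fun hc => ?_) (fun e he => ?_) ?_ fun e he he1 v hv => ?_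
    · obtain ⟨⟨u, hu⟩, hgen⟩ := hc.exists_generator
      have hpow : ∀ v ∈ E, v = 1 ∨ v = u := fun v hv => by
        obtain ⟨r, hr⟩ := Subgroup.mem_zpowers_iff.1 (hgen ⟨v, hv⟩)
        have hr' : u ^ r = v := congrArg Subtype.val hr
        rcases Int.even_or_odd r with ⟨q, rfl⟩ | ⟨q, rfl⟩
        · left
          rw [← hr', ← two_mul, _root_.zpow_mul, zpow_two, hEsq u hu, _root_.one_zpow]
        · right
          rw [← hr', _root_.zpow_add, _root_.zpow_mul, zpow_two, hEsq u hu, _root_.one_zpow, one_mul, zpow_one]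
      exact hab1 (by rw [(hpow a haE).resolve_left ha1, (hpow b hbE).resolve_left hb1, hEsq u hu])
    · refine Subgroup.mem_normalizer_iff.2 fun v => ⟨hNnorm e he v, fun hv => ?_⟩
      have := hNnorm e⁻¹ (inv_mem he) _ hv
      rwa [show e⁻¹ * (e * v * e⁻¹) * e⁻¹⁻¹ = v by group] at this
    · rw [show Nat.card N' = Nat.card N from Nat.card_congr (N.equivMapOfInjective _ K.subtype_injective).toEquiv.symm]
      have hE2 : IsPGroup 2 E := fun e => ⟨1, Subtype.ext (by rw [pow_one, pow_two]; exact hEsq e e.2)⟩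
      obtain ⟨r, hr⟩ := hE2.exists_card_eq
      rw [hr]
      exact Nat.Coprime.pow_left _ ((Nat.Prime.coprime_iff_not_dvd Nat.prime_two).2 hNodd)
    · obtain ⟨v', -, rfl⟩ := hv.1
      exact hEcent e he he1 _ v'.2 (Subgroup.mem_centralizer_singleton_iff.1 hv.2)
  obtain ⟨y1, hy1⟩ := hmove P P.2
  -- the conjugating element may be taken in the odd part
  obtain ⟨⟨⟨n1, hn1⟩, ⟨p1, hp1⟩⟩, hnp⟩ := hcompl.2 y1
  have hPW : ∀ q ∈ (P : Subgroup K), ((q : K) : GL (Fin (s + 1) → Ix 0) F) ∈ W := fun q hq => by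
    have h1 := hy1 (p1⁻¹ * q * p1) (mul_mem (mul_mem (inv_mem hp1) hq) hp1)
    have hn : ((n1 : K) : GL (Fin (s + 1) → Ix 0) F) ∈ W := hNW ⟨n1, hn1, rfl⟩
    have := mul_mem (mul_mem (inv_mem hn) h1) hn
    have e : n1⁻¹ * (y1 * (p1⁻¹ * q * p1) * y1⁻¹) * n1 = q := by
      rw [← show n1 * p1 = y1 from hnp]
      group
    rwa [← Subgroup.coe_inv, ← Subgroup.coe_mul, ← Subgroup.coe_mul, e] at this
  intro y hy
  obtain ⟨⟨⟨n', hn'⟩, ⟨p', hp'⟩⟩, hy'⟩ := hcompl.2 ⟨y, hy⟩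
  rw [show y = ((n' * p' : K) : GL (Fin (s + 1) → Ix 0) F) from congrArg Subtype.val hy'.symm]
  exact mul_mem (hNW ⟨n', hn', rfl⟩) (hPW p' hp')

/-- **Theorem.** An element carrying a half turn of `M` to a half turn is in the wreath subgroup. -/
theorem Ctx.half_turn_fusion (hs : 2 ≤ s) {x : GL (Fin (s + 1) → Ix 0) F} (hx : x ∈ M) {j j' : Fin (s + 1)}
    {d d' : Ix 0 → F} (hd : B3 d d ≠ 0) (hd' : B3 d' d' ≠ 0) (hk : kk hg j d hd ∈ M)
    (h : x * kk hg j d hd * x⁻¹ = kk hg j' d' hd') : x ∈ tensorWreathStandard (0 + 3) (s + 1) F := by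
  obtain ⟨C, hC⟩ := maps_of_conj hM.two hd hd' h
  obtain ⟨-, y, hy, hyx⟩ := hM.slice_split hN hs hx hd hd' hC
  have hk' : kk hg j' d' hd' ∈ M := h ▸ M.mul_mem (M.mul_mem hx hk) (M.inv_mem hx)
  rw [show x = y * (y⁻¹ * x) by group]
  exact mul_mem (hM.fix_le_tw hN hs hd' hk' hy) hyx

/-- **Theorem.** The centraliser of a half turn of `M` lies in the wreath subgroup. -/
theorem Ctx.half_turn_centraliser (hs : 2 ≤ s) {x : GL (Fin (s + 1) → Ix 0) F} (hx : x ∈ M) {j : Fin (s + 1)}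
    {d : Ix 0 → F} (hd : B3 d d ≠ 0) (hk : kk hg j d hd ∈ M) (h : x * kk hg j d hd = kk hg j d hd * x) :
    x ∈ tensorWreathStandard (0 + 3) (s + 1) F :=
  hM.half_turn_fusion hN hs hx hd hd hk (j := j) (j' := j) (by rw [h, mul_inv_cancel_right])

end CfsgLib.Perm.Trans.TensorPowerO
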