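import Mathlib
import Cfsg.Agent.Lib.Perm.Trans.TensorPowerO.Htau
import Cfsg.Agent.Lib.Perm.Trans.TensorPower.Rigid
import Cfsg.Agent.Lib.Perm.Trans.TensorPower.TwoClass

/-!
# Involutions of the wreath group of three-dimensional factors with small fixed space
-/

set_option autoImplicit false
set_option linter.all false

namespace CfsgLib.Perm.Trans.TensorPowerO

open scoped Matrix
open Matrix Cfsg.Geo CfsgLib.Perm.Asch CfsgLib.Perm.Trans CfsgLib.Perm.Trans.TensorPower
open CfsgLib.Perm.Trans.TensorOO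

/-- the fixed space of a monomial involution -/
theorem monomial_count {κ : Type} [Fintype κ] [DecidableEq κ] {F : Type*} [Field F] [DecidableEq F]
    (h2 : (2 : F) ≠ 0) {c : GL κ F} (hc : c * c = 1) (π : κ → κ) (hπ : ∀ x, π (π x) = x) (ε : κ → F)
    (hε : ∀ x, ε x * ε (π x) = 1)
    (h : ∀ x, (c : Matrix κ κ F) *ᵥ Pi.single x 1 = ε x • (Pi.single (π x) 1 : κ → F)) :
    ∃ pairs : ℕ, 2 * pairs + (Finset.univ.filter fun x => π x = x).card = Fintype.card κ ∧
      Module.finrank F (fixSp c) = pairs + (Finset.univ.filter fun x => π x = x ∧ ε x = 1).card ∧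
      Module.finrank F (negSp c) = pairs + (Finset.univ.filter fun x => π x = x ∧ ε x ≠ 1).card := by
  classical
  set e := Fintype.equivFin κ
  set P := Finset.univ.filter fun x => e x < e (π x) with hP
  set P' := Finset.univ.filter fun x => e (π x) < e x with hP'
  set Fx := Finset.univ.filter fun x => π x = x with hFx
  set Pl := Finset.univ.filter fun x => π x = x ∧ ε x = 1 with hPl
  set Mi := Finset.univ.filter fun x => π x = x ∧ ε x ≠ 1 with hMi
  have hsym : P'.card = P.card := by
    refine Finset.card_nbij' π π (fun x hx => ?_) (fun x hx => ?_) (fun x _ => hπ x) (fun x _ => hπ x) <;>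
      simpa [hP, hP', hπ] using hx
  have htot : 2 * P.card + Fx.card = Fintype.card κ := by
    have hd1 : Disjoint P P' := by
      rw [Finset.disjoint_left]
      intro x hx hx'
      simp only [hP, hP', Finset.mem_filter] at hx hx'
      exact lt_asymm hx.2 hx'.2
    have hd2 : Disjoint (P ∪ P') Fx := by
      rw [Finset.disjoint_left]
      intro x hx hx'
      simp only [hP, hP', hFx, Finset.mem_union, Finset.mem_filter] at hx hx'
      rw [hx'.2] at hx
      exact hx.elim (fun h => lt_irrefl _ h.2) fun h => lt_irrefl _ h.2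
    have hu : P ∪ P' ∪ Fx = Finset.univ := by
      refine Finset.eq_univ_of_forall fun x => ?_
      simp only [hP, hP', hFx, Finset.mem_union, Finset.mem_filter, Finset.mem_univ, true_and]
      rcases lt_trichotomy (e x) (e (π x)) with h | h | h
      exacts [Or.inl (Or.inl h), Or.inr (e.injective h).symm, Or.inl (Or.inr h)]
    rw [← Finset.card_univ, ← hu, Finset.card_union_of_disjoint hd2, Finset.card_union_of_disjoint hd1, hsym]
    omega
  have hsplit : Pl.card + Mi.card = Fx.card := by
    rw [← Finset.card_filter_add_card_filter_not (s := Fx) (fun x => ε x = 1)]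
    simp only [hFx, hPl, hMi, Finset.filter_filter]
  have hval : ∀ (v : κ → F) x, ((c : Matrix κ κ F) *ᵥ v) (π x) = ε x * v x := by
    intro v x
    rw [pi_eq_sum_univ' v, mulVec_sum, Finset.sum_apply]
    simp only [mulVec_smul, h, Pi.smul_apply, smul_eq_mul, Pi.single_apply, mul_ite, mul_one, mul_zero,
      Finset.sum_apply]
    rw [Finset.sum_eq_single x]
    · simp [mul_comm]
    · intro y _ hy
      rw [if_neg fun e => hy (by rw [← hπ y, ← e, hπ])]
    · simp
  have hone : (1 : F) ≠ -1 := fun e => h2 (by linear_combination e)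
  have bound : ∀ (S : Finset κ) (W : Submodule F (κ → F)),
      (∀ v ∈ W, (∀ x ∈ S, v x = 0) → v = 0) → Module.finrank F W ≤ S.card := by
    intro S W hW
    let L : W →ₗ[F] (S → F) :=
      { toFun := fun v x => (v : κ → F) x
        map_add' := fun a b => rfl
        map_smul' := fun a b => rfl }
    have hL : Function.Injective L := by
      rw [← LinearMap.ker_eq_bot, Submodule.eq_bot_iff]
      intro v hv
      exact Subtype.ext (hW v v.2 fun x hx => congrFun (LinearMap.mem_ker.1 hv) ⟨x, hx⟩)
    refine (LinearMap.finrank_le_finrank_of_injective hL).trans ?_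
    rw [Module.finrank_fintype_fun_eq_card, Fintype.card_coe]
  have hPd : ∀ S : Finset κ, (∀ x ∈ S, π x = x) → Disjoint P S := fun S hS => by
    rw [Finset.disjoint_left]
    intro x hx hx'
    simp only [hP, Finset.mem_filter] at hx
    rw [hS x hx'] at hx
    exact lt_irrefl _ hx.2
  have hfix : Module.finrank F (fixSp c) ≤ P.card + Pl.card := by
    rw [← Finset.card_union_of_disjoint (hPd Pl fun x hx => (Finset.mem_filter.1 hx).2.1)]
    refine bound _ _ fun v hv h0 => funext fun x => ?_
    have e1 := fun y => hval v y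
    rw [mem_fixSp.1 hv] at e1
    rcases lt_trichotomy (e x) (e (π x)) with hx | hx | hx
    · exact h0 x (Finset.mem_union_left _ (by simp [hP, hx]))
    · have hx' : π x = x := (e.injective hx).symm
      by_cases he : ε x = 1
      · exact h0 x (Finset.mem_union_right _ (by simp [hPl, hx', he]))
      · have := e1 x
        rw [hx'] at this
        exact ((mul_eq_zero.1 (show (1 - ε x) * v x = 0 by linear_combination this)).resolve_left
          (sub_ne_zero.2 (Ne.symm he)))
    · have h1 := h0 (π x) (Finset.mem_union_left _ (by simp [hP, hπ, hx]))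
      have := e1 (π x)
      rw [hπ, h1, mul_zero] at this
      exact this
  have hneg : Module.finrank F (negSp c) ≤ P.card + Mi.card := by
    rw [← Finset.card_union_of_disjoint (hPd Mi fun x hx => (Finset.mem_filter.1 hx).2.1)]
    refine bound _ _ fun v hv h0 => funext fun x => ?_
    have e1 := fun y => hval v y
    rw [mem_negSp.1 hv] at e1
    simp only [Pi.neg_apply] at e1
    rcases lt_trichotomy (e x) (e (π x)) with hx | hx | hx
    · exact h0 x (Finset.mem_union_left _ (by simp [hP, hx]))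
    · have hx' : π x = x := (e.injective hx).symm
      by_cases he : ε x = 1
      · have := e1 x
        rw [hx', he, one_mul] at this
        exact (mul_eq_zero.1 (show (2 : F) * v x = 0 by linear_combination -this)).resolve_left h2
      · exact h0 x (Finset.mem_union_right _ (by simp [hMi, hx', he]))
    · have h1 := h0 (π x) (Finset.mem_union_left _ (by simp [hP, hπ, hx]))
      have := e1 (π x)
      rw [hπ, h1, mul_zero, neg_eq_zero] at this
      exact this
  have := invol_finrank h2 hc
  exact ⟨P.card, htot, by omega, by omega⟩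

variable {F : Type*} [Field F] {t : ℕ}

local notation "M3" => Matrix (Ix 0) (Ix 0) F
local notation "MT" => Matrix (Fin t → Ix 0) (Fin t → Ix 0) F

theorem pv_smul (a : Fin t → F) (v : Fin t → Ix 0 → F) :
    TensorPower.pv (fun l => a l • v l) = (∏ l, a l) • TensorPower.pv v := by
  funext x
  simp only [TensorPower.pv, Pi.smul_apply, smul_eq_mul, Finset.prod_mul_distrib]

/-- eigenbases matched along an involutive permutation of the factors -/
theorem exists_bases (h2 : (2 : F) ≠ 0) {σ : Equiv.Perm (Fin t)} (hσ : ∀ l, σ (σ l) = l) {A : Fin t → GL (Ix 0) F}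
    (hA : ∀ l, ∃ κ : F, κ ≠ 0 ∧ (A (σ l) : M3) * (A l : M3) = κ • 1) :
    ∃ (V : Fin t → GL (Ix 0) F) (η : Fin t → Ix 0 → F) (r : Fin t → F),
      (∀ l, r l ≠ 0) ∧ (∀ l i, η l i = 1 ∨ η l i = -1) ∧ (∀ l, σ l = l → ∀ i, (A l : M3) *ᵥ ((V l : M3) *ᵥ Pi.single i 1) =
        (r l * η l i) • ((V l : M3) *ᵥ Pi.single i 1)) ∧
      ∀ l i, (A l : M3) *ᵥ ((V l : M3) *ᵥ Pi.single i 1) = (r l * η l i) • ((V (σ l) : M3) *ᵥ Pi.single i 1) := by
  classical
  choose κ hκ0 hκ using hA
  have key : ∀ l, ∃ (Q : GL (Ix 0) F) (η : Ix 0 → F) (r : F), r ≠ 0 ∧ (∀ i, η i = 1 ∨ η i = -1) ∧ (σ l = l →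
      ∀ i, (A l : M3) *ᵥ ((Q : M3) *ᵥ Pi.single i 1) = (r * η i) • ((Q : M3) *ᵥ Pi.single i 1)) := by
    intro l
    by_cases hl : σ l = l
    swap
    · exact ⟨1, fun _ => 1, 1, one_ne_zero, fun _ => Or.inl rfl, fun e => absurd e hl⟩
    have e := hκ l
    rw [hl] at e
    have hd := congrArg Matrix.det e
    rw [Matrix.det_mul, Matrix.det_smul, Matrix.det_one, Fintype.card_fin, mul_one] at hd
    set r := (A l : M3).det / κ l with hr
    have hrr : r * r = κ l := by
      rw [hr, div_mul_div_comm, hd, div_eq_iff (mul_ne_zero (hκ0 l) (hκ0 l))]; ring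
    have hr0 : r ≠ 0 := fun e => hκ0 l (by rw [← hrr, e, zero_mul])
    let B : GL (Ix 0) F := ⟨r⁻¹ • (A l : M3), r⁻¹ • (A l : M3),
      by rw [Matrix.smul_mul, Matrix.mul_smul, e, smul_smul, smul_smul, ← hrr, ← mul_inv, inv_mul_cancel₀ (mul_ne_zero hr0 hr0),
        one_smul],
      by rw [Matrix.smul_mul, Matrix.mul_smul, e, smul_smul, smul_smul, ← hrr, ← mul_inv, inv_mul_cancel₀ (mul_ne_zero hr0 hr0),
        one_smul]⟩
    obtain ⟨Q, η, hη, hQ⟩ := invol_basis h2 (show B * B = 1 from Units.ext B.val_inv)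
    refine ⟨Q, η, r, hr0, hη, fun _ i => ?_⟩
    have h1 := congrArg (r • ·) (hQ i)
    simp only [B, Matrix.smul_mulVec, smul_smul, mul_inv_cancel₀ hr0, one_smul] at h1
    exact h1
  choose Q η r hr hη hQ using key
  refine ⟨fun l => if σ l = l then Q l else if l < σ l then 1 else A (σ l),
    fun l i => if σ l = l then η l i else 1,
    fun l => if σ l = l then r l else if l < σ l then 1 else κ (σ l), fun l => ?_, fun l i => ?_, fun l hl i => ?_,
    fun l i => ?_⟩
  · simp only []; split_ifs
    exacts [hr l, one_ne_zero, hκ0 _]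
  · simp only []; split_ifs
    exacts [hη l i, Or.inl rfl]
  · simp only [if_pos hl]
    exact hQ l hl i
  · by_cases hl : σ l = l
    · simp only [if_pos hl, hl]
      exact hQ l hl i
    · have hl' : ¬ σ (σ l) = σ l := fun e => hl (σ.injective e)
      rcases lt_or_gt_of_ne (Ne.symm hl) with hlt | hgt
      · simp only [if_neg hl, if_pos hlt, if_neg hl', hσ, Ne.symm hl, if_false, if_neg (lt_asymm hlt), mul_one, one_smul,
          Units.val_one, one_mulVec]
      · have hk := hκ (σ l)
        rw [hσ] at hk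
        simp only [if_neg hl, if_neg (lt_asymm hgt), if_neg hl', hσ, Ne.symm hl, if_false, if_pos hgt, mul_one, Units.val_one, one_mulVec]
        rw [mulVec_mulVec, hk, Matrix.smul_mulVec, one_mulVec]

/-- a scalar on a basis is a scalar -/
theorem scalar_of_basis {A : M3} {V : GL (Ix 0) F} {c : F}
    (h : ∀ i, A *ᵥ ((V : M3) *ᵥ Pi.single i 1) = c • ((V : M3) *ᵥ Pi.single i 1)) : A = c • (1 : M3) := by
  have e : A * (V : M3) = c • (1 : M3) * (V : M3) := Matrix.ext_of_mulVec_single fun i => by
    rw [← mulVec_mulVec, ← mulVec_mulVec, h, Matrix.smul_mulVec, one_mulVec]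
  calc A = A * (V : M3) * ((V⁻¹ : GL (Ix 0) F) : M3) := by rw [mul_assoc, gl_mul_inv, mul_one]
    _ = _ := by rw [e, mul_assoc, gl_mul_inv, mul_one]

/-- **Theorem.** An involution of the wreath group whose fixed space has the dimension of a slice lies in one
factor or exchanges two factors and is scalar on the others. -/
theorem wreath_invol_cases (h2 : (2 : F) ≠ 0) {s : ℕ} {c : GL (Fin (s + 1) → Ix 0) F}
    (hc : c ∈ tensorWreathStandard (0 + 3) (s + 1) F) (hcc : c * c = 1)
    (hdim : Module.finrank F (fixSp c) = 3 ^ s) :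
    (∃ (l : Fin (s + 1)) (A : GL (Ix 0) F), c = sl l A) ∨ ∃ a b : Fin (s + 1), a ≠ b ∧
      HasPerm c (Equiv.swap a b) ∧ ∀ l, l ≠ a → l ≠ b → ∀ X : GL (Ix 0) F, c * sl l X = sl l X * c := by
  classical
  haveI : NeZero (0 + 3) := ⟨by omega⟩
  obtain ⟨σ, A, hA⟩ := tw_shape hc
  have hperm : HasPerm c σ := ⟨A, hA⟩
  have hσσ : σ * σ = 1 := (hperm.mul hperm).unique (by omega) ⟨1, by rw [hcc, permGL_one, pureGL_one, one_mul]⟩
  have hσ : ∀ l, σ (σ l) = l := fun l => Equiv.Perm.ext_iff.1 hσσ l
  have hsymm : ∀ l, σ.symm l = σ l := fun l => (Equiv.symm_apply_eq σ).2 (hσ l).symm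
  have hpair : ∀ l, ∃ κ : F, κ ≠ 0 ∧ (A (σ l) : M3) * (A l : M3) = κ • 1 := by
    intro l
    have e : pureGL ((A ∘ σ) * A) = 1 := by
      have h' := hcc
      rw [hA, mul_assoc, ← mul_assoc (pureGL A), pureGL_perm, mul_assoc, pureGL_mul, ← mul_assoc, permGL_mul, hσσ,
        permGL_one, one_mul] at h'
      exact h'
    have h1 : CfsgLib.Perm.Asch.pure (fun k => (((A ∘ σ) * A) k : M3)) =
        CfsgLib.Perm.Asch.pure (1 : Fin (s + 1) → M3) := by rw [← pureGL_coe, e, pure_one, Units.val_one]
    obtain ⟨κ, hκ0, hκ⟩ := pure_prop h1 (fun k => gl_ne_zero _) (fun k => one_ne_zero_mat) l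
    exact ⟨κ, hκ0, hκ⟩
  obtain ⟨V, η, r, hr, hη, hfixl, hV⟩ := exists_bases h2 hσ hpair
  set Q := pureGL V with hQ
  set ε : (Fin (s + 1) → Ix 0) → F := fun μ => ∏ l, r l * η l (μ l) with hεdef
  have hcQ : ∀ μ, ((Q⁻¹ * c * Q : GL (Fin (s + 1) → Ix 0) F) : Matrix (Fin (s + 1) → Ix 0) (Fin (s + 1) → Ix 0) F) *ᵥ
      Pi.single μ 1 = ε μ • (Pi.single (μ ∘ σ) 1 : (Fin (s + 1) → Ix 0) → F) := by
    intro μ
    have hsingle : ∀ p : Fin (s + 1) → Ix 0, (Pi.single p 1 : (Fin (s + 1) → Ix 0) → F) =
        TensorPower.pv fun i => Pi.single (p i) (1 : F) := fun p => by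
      funext z
      simp only [TensorPower.pv, Pi.single_apply]
      by_cases e : z = p
      · subst e; simp
      · obtain ⟨i, hi⟩ := Function.ne_iff.1 e
        rw [if_neg e, Finset.prod_eq_zero (Finset.mem_univ i) (if_neg hi)]
    have h1 : (c : Matrix (Fin (s + 1) → Ix 0) (Fin (s + 1) → Ix 0) F) *ᵥ
        ((Q : Matrix (Fin (s + 1) → Ix 0) (Fin (s + 1) → Ix 0) F) *ᵥ Pi.single μ 1) =
        ε μ • ((Q : Matrix (Fin (s + 1) → Ix 0) (Fin (s + 1) → Ix 0) F) *ᵥ Pi.single (μ ∘ σ) 1) := by
      rw [hsingle, hsingle, hQ, pureGL_coe, pure_pv, pure_pv, hA, wreath_pv, hεdef]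
      simp only [hsymm, hV, hσ, pv_smul]
      congr 1
      exact Equiv.prod_comp σ (fun l => r l * η l (μ l))
    rw [gl_mul_mulVec, gl_mul_mulVec, h1, mulVec_smul, gl_inv_mulVec]
  set c' := Q⁻¹ * c * Q with hc'
  have hc'2 : c' * c' = 1 := by
    rw [hc', show Q⁻¹ * c * Q * (Q⁻¹ * c * Q) = Q⁻¹ * (c * c) * Q by group, hcc]; group
  have hπ : ∀ μ : Fin (s + 1) → Ix 0, (μ ∘ σ) ∘ σ = μ := fun μ => funext fun l => by simp [hσ]
  have hεε : ∀ μ, ε μ * ε (μ ∘ σ) = 1 := by
    intro μ
    have e := congrArg (fun X : GL (Fin (s + 1) → Ix 0) F =>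
      (X : Matrix (Fin (s + 1) → Ix 0) (Fin (s + 1) → Ix 0) F) *ᵥ Pi.single μ 1) hc'2
    simp only [gl_mul_mulVec, hcQ, mulVec_smul, hπ, smul_smul, Units.val_one, one_mulVec] at e
    simpa using congrFun e μ
  haveI : DecidableEq F := Classical.decEq F
  obtain ⟨pairs, htot, hfx, -⟩ := monomial_count h2 hc'2 (fun μ => μ ∘ σ) hπ ε hεε hcQ
  have hfix' : Module.finrank F (fixSp c') = 3 ^ s := by
    have h1 := invol_finrank h2 hc'2
    have h3 := invol_finrank h2 hcc
    have h4 : Module.finrank F (negSp c') = Module.finrank F (negSp c) := by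
      have := negSp_conj Q⁻¹ c
      rwa [inv_inv] at this
    omega
  rw [hfix'] at hfx
  set Fx := Finset.univ.filter fun μ : Fin (s + 1) → Ix 0 => μ ∘ σ = μ with hFx
  set Pl := Finset.univ.filter fun μ : Fin (s + 1) → Ix 0 => μ ∘ σ = μ ∧ ε μ = 1 with hPl
  set Mi := Finset.univ.filter fun μ : Fin (s + 1) → Ix 0 => μ ∘ σ = μ ∧ ε μ ≠ 1 with hMi
  have hsplit : Pl.card + Mi.card = Fx.card := by
    rw [← Finset.card_filter_add_card_filter_not (s := Fx) (fun x => ε x = 1)]
    simp only [hFx, hPl, hMi, Finset.filter_filter]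
  have hcard : Fintype.card (Fin (s + 1) → Ix 0) = 3 * 3 ^ s := by
    rw [Fintype.card_fun, Fintype.card_fin, Fintype.card_fin, pow_succ]; ring
  rw [hcard] at htot
  have hscal : ∀ l, σ l = l → (∀ i i', η l i = η l i') → (A l : M3) = (r l * η l 0) • 1 := fun l hl he =>
    scalar_of_basis (V := V l) fun i => by rw [hfixl l hl i, he i 0]
  by_cases hσ1 : σ = 1
  · left
    subst hσ1
    let sg : F → ℤ := fun v => if v = 1 then 1 else -1
    have hone : (-1 : F) ≠ 1 := fun e => h2 (by linear_combination -e)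
    have hsg : ∀ u v : F, (u = 1 ∨ u = -1) → (v = 1 ∨ v = -1) → sg (u * v) = sg u * sg v := by
      rintro u v (rfl | rfl) (rfl | rfl) <;> simp [sg, hone]
    have hpm : ∀ (S : Finset (Fin (s + 1))) (f : Fin (s + 1) → F), (∀ l, f l = 1 ∨ f l = -1) →
        (∏ l ∈ S, f l = 1 ∨ ∏ l ∈ S, f l = -1) ∧ sg (∏ l ∈ S, f l) = ∏ l ∈ S, sg (f l) := by
      intro S f hf
      induction S using Finset.induction_on with
      | empty => simp [sg]
      | insert k S hk ih =>
        rw [Finset.prod_insert hk, Finset.prod_insert hk]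
        refine ⟨?_, by rw [hsg _ _ (hf k) ih.1, ih.2]⟩
        rcases hf k with h | h <;> rcases ih.1 with h' | h' <;> simp [h, h']
    set β := ∏ l, r l
    have hεβ : ∀ μ, ε μ = β * ∏ l, η l (μ l) := fun μ => Finset.prod_mul_distrib
    have hβ : β = 1 ∨ β = -1 := by
      refine mul_self_eq_one_iff.1 ?_
      have e := hεε fun _ => 0
      simp only [Equiv.Perm.coe_one, Function.comp_id, hεβ] at e
      have h3 := (hpm Finset.univ (fun l => η l 0) (fun l => hη l 0)).1
      rcases h3 with h3 | h3 <;> rw [h3] at e <;> simpa using e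
    have hsum : ∑ μ, sg (ε μ) = -((3 : ℤ) ^ s) := by
      have h1 : ∑ μ, sg (ε μ) = (Pl.card : ℤ) - Mi.card := by
        rw [← Finset.sum_filter_add_sum_filter_not Finset.univ (fun μ => ε μ = 1)]
        simp only [sg]
        rw [Finset.sum_congr rfl (g := fun _ => (1 : ℤ)) (fun μ hμ => if_pos (Finset.mem_filter.1 hμ).2),
          Finset.sum_congr (s₁ := Finset.univ.filter fun μ => ¬ ε μ = 1) rfl (g := fun _ => (-1 : ℤ))
            (fun μ hμ => if_neg (Finset.mem_filter.1 hμ).2)]
        simp [hPl, hMi]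
        ring
      have hz : pairs = 0 := by
        have : Fx.card = 3 * 3 ^ s := by
          rw [hFx, Finset.filter_true_of_mem (fun μ _ => by simp), Finset.card_univ, hcard]
        omega
      have hp : Pl.card = 3 ^ s := by omega
      have hm : Mi.card = 2 * 3 ^ s := by omega
      rw [h1, hp, hm]; push_cast; ring
    have hprod : ∑ μ, sg (ε μ) = sg β * ∏ l, ∑ i, sg (η l i) := by
      rw [Fintype.prod_sum, Finset.mul_sum]
      refine Finset.sum_congr rfl fun μ _ => ?_
      have h3 := hpm Finset.univ (fun l => η l (μ l)) (fun l => hη l _)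
      rw [hεβ, hsg _ _ hβ h3.1, h3.2]
    let C := Finset.univ.filter fun l : Fin (s + 1) => ∀ i i', η l i = η l i'
    have habs : ∀ l, (∑ i, sg (η l i)).natAbs = if l ∈ C then 3 else 1 := by
      intro l
      simp only [C, Finset.mem_filter, Finset.mem_univ, true_and]
      rw [show ∑ i, sg (η l i) = sg (η l 0) + sg (η l 1) + sg (η l 2) from Fin.sum_univ_three _]
      rcases hη l 0 with h0 | h0 <;> rcases hη l 1 with h1 | h1 <;> rcases hη l 2 with h3 | h3
      all_goals by_cases hcst : (∀ i i', η l i = η l i')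
      all_goals first
        | (rw [if_pos hcst]; simp [sg, h0, h1, h3, hone]; done)
        | (rw [if_neg hcst]; simp [sg, h0, h1, h3, hone]; done)
        | (exfalso; have e1 := hcst 0 1; have e2 := hcst 0 2; rw [h0, h1] at e1; rw [h0, h3] at e2
           first | exact hone e1 | exact hone e1.symm | exact hone e2 | exact hone e2.symm)
        | (exfalso; refine hcst fun i i' => ?_; fin_cases i <;> fin_cases i' <;> simp [h0, h1, h3]; done)
    have hC : C.card = s := by
      have e := congrArg Int.natAbs (hsum.symm.trans hprod)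
      rw [Int.natAbs_neg, Int.natAbs_pow, Int.natAbs_mul, show (∏ l, ∑ i, sg (η l i)).natAbs = ∏ l, (∑ i, sg (η l i)).natAbs from
        map_prod Int.natAbsHom _ _,
        show (sg β).natAbs = 1 by simp only [sg]; split_ifs <;> simp, one_mul,
        Finset.prod_congr rfl (fun l _ => habs l), Finset.prod_ite_mem, Finset.univ_inter, Finset.prod_const] at e
      exact (Nat.pow_right_injective (le_refl 2 |>.trans (by omega) : 2 ≤ 3) e).symm
    obtain ⟨n0, hn0⟩ : ∃ n0, Cᶜ = {n0} := Finset.card_eq_one.1 (by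
      rw [Finset.card_compl, Fintype.card_fin, hC]; omega)
    have hsc : ∀ l, l ≠ n0 → (A l : M3) = (r l * η l 0) • 1 := fun l hl => hscal l rfl (by
      have : l ∈ C := by
        by_contra h
        exact hl (Finset.mem_singleton.1 (hn0 ▸ Finset.mem_compl.2 h))
      exact (Finset.mem_filter.1 this).2)
    let cc : Fin (s + 1) → F := fun l => if l = n0 then 1 else r l * η l 0
    have hP : ∏ l, cc l ≠ 0 := Finset.prod_ne_zero_iff.2 fun l _ => by
      simp only [cc]; split_ifs
      · exact one_ne_zero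
      · exact mul_ne_zero (hr l) (by rcases hη l 0 with h | h <;> simp [h])
    let B : GL (Ix 0) F := ⟨(∏ l, cc l) • (A n0 : M3), (∏ l, cc l)⁻¹ • ((A n0)⁻¹ : GL (Ix 0) F).val,
      by rw [Matrix.smul_mul, Matrix.mul_smul, gl_mul_inv, smul_smul, mul_inv_cancel₀ hP, one_smul],
      by rw [Matrix.smul_mul, Matrix.mul_smul, gl_inv_mul, smul_smul, inv_mul_cancel₀ hP, one_smul]⟩
    refine ⟨n0, B, Units.ext ?_⟩
    rw [sl_coe, hA, permGL_one, one_mul, pureGL_coe]
    show _ = slot n0 ((∏ l, cc l) • (A n0 : M3))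
    rw [TensorPower.slot_smul, slot, ← pure_smul]
    congr 1
    funext l
    rcases eq_or_ne l n0 with rfl | hl
    · simp [cc]
    · simp [cc, hl, hsc l hl, Pi.mulSingle_eq_of_ne hl]
  · right
    obtain ⟨a, ha⟩ : ∃ a, σ a ≠ a := by
      by_contra hcon
      push Not at hcon
      exact hσ1 (Equiv.ext hcon)
    have hinj : Set.InjOn (fun μ : Fin (s + 1) → Ix 0 => μ ∘ a.succAbove) (Fx : Set (Fin (s + 1) → Ix 0)) := by
      intro μ hμ ν hν e
      have hμ' : μ ∘ σ = μ := (Finset.mem_filter.1 hμ).2
      have hν' : ν ∘ σ = ν := (Finset.mem_filter.1 hν).2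
      funext l
      rcases Fin.eq_self_or_eq_succAbove a l with rfl | ⟨i, rfl⟩
      · obtain ⟨i, hi⟩ := Fin.exists_succAbove_eq ha
        rw [← congrFun hμ' l, ← congrFun hν' l, Function.comp_apply, Function.comp_apply, ← hi]
        exact congrFun e i
      · exact congrFun e i
    have himg := Finset.card_image_of_injOn hinj
    have hle := Finset.card_le_univ (Fx.image fun μ : Fin (s + 1) → Ix 0 => μ ∘ a.succAbove)
    rw [himg, Fintype.card_fun, Fintype.card_fin, Fintype.card_fin] at hle
    simp only [Nat.zero_add] at hle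
    have hpl : Pl.card = 0 := by omega
    have hfull : Fx.card = 3 ^ s := by omega
    have hsur : ∀ f : Fin s → Ix 0, ∃ μ ∈ Fx, μ ∘ a.succAbove = f := fun f => by
      have : (Fx.image fun μ : Fin (s + 1) → Ix 0 => μ ∘ a.succAbove) = Finset.univ := Finset.eq_univ_of_card _ (by
        rw [himg, Fintype.card_fun, Fintype.card_fin, Fintype.card_fin, hfull])
      exact Finset.mem_image.1 (this ▸ Finset.mem_univ f)
    have hothers : ∀ l, l ≠ a → l ≠ σ a → σ l = l := by
      intro l hl hl'
      by_contra hm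
      obtain ⟨i, hi⟩ := Fin.exists_succAbove_eq hl
      have hm' : σ l ≠ a := fun e => hl' (by rw [← e, hσ])
      obtain ⟨i', hi'⟩ := Fin.exists_succAbove_eq hm'
      have hii : i' ≠ i := fun e => hm (by rw [← hi', e, hi])
      obtain ⟨μ, hμ, e⟩ := hsur (Function.update (fun _ => 0) i 1)
      have h1 := congrFun (Finset.mem_filter.1 hμ).2 l
      rw [Function.comp_apply, ← hi', ← hi] at h1
      rw [show μ (a.succAbove i') = _ from congrFun e i', show μ (a.succAbove i) = _ from congrFun e i] at h1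
      simp [hii, zero_ne_one'] at h1
    have hswap : σ = Equiv.swap a (σ a) := Equiv.ext fun l => by
      by_cases hl : l = a
      · rw [hl, Equiv.swap_apply_left]
      by_cases hl' : l = σ a
      · rw [hl', hσ, Equiv.swap_apply_right]
      rw [Equiv.swap_apply_of_ne_of_ne hl hl', hothers l hl hl']
    refine ⟨a, σ a, Ne.symm ha, hswap ▸ hperm, fun l hl hl' X => ?_⟩
    have hσl := hothers l hl hl'
    obtain ⟨i, hi⟩ := Fin.exists_succAbove_eq hl
    have hneg : ∀ μ ∈ Fx, ε μ = -1 := fun μ hμ => by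
      have hμ' := (Finset.mem_filter.1 hμ).2
      have e := hεε μ
      rw [hμ', mul_self_eq_one_iff] at e
      refine e.resolve_left fun e1 => ?_
      have : μ ∈ Pl := Finset.mem_filter.2 ⟨Finset.mem_univ _, hμ', e1⟩
      rw [Finset.card_eq_zero.1 hpl] at this
      simp at this
    have hsc : ∀ x y : Ix 0, η l x = η l y := by
      intro x y
      obtain ⟨μ, hμ, e⟩ := hsur (Function.update (fun _ => 0) i x)
      have hμl : μ l = x := by
        have := congrFun e i
        rwa [Function.comp_apply, hi, Function.update_self] at this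
      set ν := Function.update μ l y with hν
      have hνF : ν ∈ Fx := Finset.mem_filter.2 ⟨Finset.mem_univ _, funext fun k => by
        have hk := congrFun (Finset.mem_filter.1 hμ).2 k
        by_cases hkl : k = l
        · rw [hkl, Function.comp_apply, hσl]
        · have hkl' : σ k ≠ l := fun e => hkl (by rw [← hσ k, e, hσl])
          rw [Function.comp_apply, hν, Function.update_of_ne hkl, Function.update_of_ne hkl']
          exact hk⟩
      have e1 := (hneg μ hμ).trans (hneg ν hνF).symm
      simp only [hεdef] at e1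
      have hrest : ∏ k ∈ Finset.univ.erase l, r k * η k (ν k) = ∏ k ∈ Finset.univ.erase l, r k * η k (μ k) :=
        Finset.prod_congr rfl fun k hk => by rw [hν, Function.update_of_ne (Finset.ne_of_mem_erase hk)]
      rw [← Finset.mul_prod_erase Finset.univ (fun k => r k * η k (μ k)) (Finset.mem_univ l),
        ← Finset.mul_prod_erase Finset.univ (fun k => r k * η k (ν k)) (Finset.mem_univ l),
        hrest, hμl, show ν l = y from Function.update_self _ _ _] at e1
      refine mul_left_cancel₀ (hr l) (mul_right_cancel₀ (Finset.prod_ne_zero_iff.2 fun k _ => ?_) e1)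
      exact mul_ne_zero (hr k) (by rcases hη k (μ k) with h | h <;> simp [h])
    have hAl := hscal l hσl hsc
    refine Units.ext ?_
    rw [Units.val_mul, Units.val_mul, sl_coe]
    have e : cj c (slot l (X : M3)) = slot l (X : M3) := by
      rw [hA, cj_wreath_slot, hσl]
      congr 1
      refine cj_eq_self ?_
      rw [hAl, Matrix.smul_mul, Matrix.mul_smul, one_mul, mul_one]
    conv_rhs => rw [← e]
    rw [cj, mul_assoc _ _ (c : Matrix (Fin (s + 1) → Ix 0) (Fin (s + 1) → Ix 0) F), gl_inv_mul, mul_one]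

end CfsgLib.Perm.Trans.TensorPowerO
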