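import Mathlib
import Cfsg.Agent.Lib.Perm.Trans.TensorPowerO.K3Cent
import Cfsg.Agent.Lib.Perm.Trans.TensorPowerO.K3Monomial
import Cfsg.Agent.Lib.Perm.Trans.TensorOO.Invol
import Cfsg.Agent.Lib.Invol.ZStar
import Cfsg.Agent.Lib.Coprime.Core

/-!
# Three-dimensional factors: maximality
-/

set_option autoImplicit false
set_option linter.all false

namespace CfsgLib.Perm.Trans.TensorPowerO

open scoped Matrix
open Matrix Cfsg.Geo CfsgLib.Perm.Asch CfsgLib.Perm.Trans CfsgLib.Perm.Trans.TensorPower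
open CfsgLib.Perm.Trans.TensorSO CfsgLib.Perm.Trans.TensorOO

variable {F : Type*} [Field F] [Fintype F] {s : ℕ} {g : Ix 0 → F}

local notation "M3" => Matrix (Ix 0) (Ix 0) F
local notation "MV" => Matrix (Fin (s + 1) → Ix 0) (Fin (s + 1) → Ix 0) F
local notation "B3" => bf g (s1 0)

theorem third_slot (hs : 2 ≤ s) (a b : Fin (s + 1)) : ∃ l, l ≠ a ∧ l ≠ b := by
  by_contra hcon
  push Not at hcon
  have hsub : (Finset.univ : Finset (Fin (s + 1))) ⊆ {a, b} := fun m _ => by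
    by_cases hm : m = a
    · simp [hm]
    · simp [hcon m hm]
  have := (Finset.card_le_card hsub).trans ((Finset.card_insert_le _ _).trans (by simp : _ ≤ 2))
  rw [Finset.card_univ, Fintype.card_fin] at this
  omega

theorem kk_ne_one (hg : Dg g) (h2 : (2 : F) ≠ 0) (j : Fin (s + 1)) (d : Ix 0 → F) (hd : B3 d d ≠ 0) :
    kk hg j d hd ≠ 1 := fun e => htau_ne_scalar hg h2 hd 1 (by
  rw [sl_inj (Nat.succ_pos _) (e.trans (sl_one j).symm), Units.val_one, one_smul])

theorem kk_finrank (hg : Dg g) (h2 : (2 : F) ≠ 0) (j : Fin (s + 1)) (d : Ix 0 → F) (hd : B3 d d ≠ 0) :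
    Module.finrank F (fixSp (kk hg j d hd)) = 3 ^ s := by
  have hd0 := ne_zero_of_value hg hd
  have e : fixSp (kk hg j d hd) = LinearMap.range (tvR j d) := by
    refine le_antisymm (fun v hv => ?_) ?_
    · have h := mem_fixSp.1 hv
      rw [kk_coe, sub_mulVec, one_mulVec, Matrix.smul_mulVec, sub_eq_iff_eq_add, ← two_smul F v] at h
      obtain ⟨w, hw⟩ := slot_vmv_range j d (dual g (s1 0) d) v
      rw [hw, ← tv_smul_right] at h
      refine LinearMap.mem_range.2 ⟨(2 : F)⁻¹ • (2 / B3 d d) • w, ?_⟩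
      rw [tvR_apply, tv_smul_right, h, smul_smul, inv_mul_cancel₀ h2, one_smul]
    · rintro _ ⟨w, rfl⟩
      rw [mem_fixSp, tvR_apply, kk_maps hg j d hd w, Units.val_one, one_mulVec]
  rw [e, LinearMap.finrank_range_of_inj (fun a b h => tv_inj_right j hd0 h), Module.finrank_fintype_fun_eq_card,
    Fintype.card_fun, Fintype.card_fin, Fintype.card_fin]

theorem fixSp_conj (h2 : (2 : F) ≠ 0) {x k : GL (Fin (s + 1) → Ix 0) F} (hk : k * k = 1) :
    Module.finrank F (fixSp (x * k * x⁻¹)) = Module.finrank F (fixSp k) := by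
  have h1 := invol_finrank h2 hk
  have h3 := invol_finrank h2 (show x * k * x⁻¹ * (x * k * x⁻¹) = 1 by
    rw [show x * k * x⁻¹ * (x * k * x⁻¹) = x * (k * k) * x⁻¹ by group, hk]; group)
  have h4 := negSp_conj x k
  omega

/-- a pure tensor in one slot has scalars elsewhere -/
theorem pure_single {t : ℕ} {f : Fin t → GL (Ix 0) F} {l : Fin t} {A : GL (Ix 0) F} (h : pureGL f = sl l A) {b : Fin t}
    (hb : b ≠ l) : ∃ c : F, (f b : M3) = c • 1 := by
  haveI : NeZero (0 + 3) := ⟨by omega⟩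
  have h1 : CfsgLib.Perm.Asch.pure (fun k => (f k : M3)) =
      CfsgLib.Perm.Asch.pure (fun k => ((Pi.mulSingle l A : Fin t → GL (Ix 0) F) k : M3)) := by
    rw [← pureGL_coe, h, sl_eq_pureGL, pureGL_coe]
  obtain ⟨c, -, hc⟩ := pure_prop h1 (fun k => gl_ne_zero _) (fun k => gl_ne_zero _) b
  exact ⟨c, by rw [hc, Pi.mulSingle_eq_of_ne hb, Units.val_one]⟩

/-- elements of the wreath group commuting with a product of rotations permute its factors -/
theorem pure_centraliser (h2 : (2 : F) ≠ 0) {t : ℕ} {f : Fin t → GL (Ix 0) F} (hsq : ∀ l, f l * f l = 1)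
    (hdet : ∀ l, (f l : M3).det = 1) {h : GL (Fin t → Ix 0) F} (hh : h ∈ tensorWreathStandard (0 + 3) t F)
    (hc : h * pureGL f = pureGL f * h) :
    ∃ σ : Equiv.Perm (Fin t), HasPerm h σ ∧ ∀ l, h * sl l (f l) * h⁻¹ = sl (σ l) (f (σ l)) := by
  haveI : NeZero (0 + 3) := ⟨by omega⟩
  obtain ⟨σ, A, rfl⟩ := tw_shape hh
  refine ⟨σ, ⟨A, rfl⟩, fun l => ?_⟩
  set B : Fin t → GL (Ix 0) F := fun k => A k * f k * (A k)⁻¹ with hB
  have e1 : permGL σ * pureGL A * pureGL f * (permGL σ * pureGL A)⁻¹ = pureGL (B ∘ σ.symm) := by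
    have hAi : (pureGL A)⁻¹ = pureGL (fun k => (A k)⁻¹) := inv_eq_of_mul_eq_one_right (by
      rw [pureGL_mul, show A * (fun k => (A k)⁻¹) = 1 from funext fun k => mul_inv_cancel (A k), pureGL_one])
    have hB' : pureGL A * pureGL f * (pureGL A)⁻¹ = pureGL B := by rw [hAi, pureGL_mul, pureGL_mul]; rfl
    rw [show permGL σ * pureGL A * pureGL f * (permGL σ * pureGL A)⁻¹ =
      permGL σ * (pureGL A * pureGL f * (pureGL A)⁻¹) * (permGL σ)⁻¹ by group, hB']
    have e2 : permGL σ * pureGL B = pureGL (B ∘ σ.symm) * permGL σ := by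
      rw [pureGL_perm]
      congr 2
      funext k
      simp
    rw [e2, mul_inv_cancel_right]
  have e3 : pureGL (B ∘ σ.symm) = pureGL f := by rw [← e1, hc, mul_inv_cancel_right]
  have h1 : CfsgLib.Perm.Asch.pure (fun k => ((B ∘ σ.symm) k : M3)) =
      CfsgLib.Perm.Asch.pure (fun k => (f k : M3)) := by rw [← pureGL_coe, e3, pureGL_coe]
  obtain ⟨c, hc0, hcB⟩ := pure_prop h1 (fun k => gl_ne_zero _) (fun k => gl_ne_zero _) (σ l)
  simp only [Function.comp_apply, Equiv.symm_apply_apply] at hcB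
  have hc1 : c = 1 := by
    have h3 := congrArg (fun X : M3 => X * X) hcB
    simp only [Matrix.smul_mul, Matrix.mul_smul, smul_smul, ← Units.val_mul, hsq] at h3
    rw [show B l * B l = 1 by
      rw [hB]; show A l * f l * (A l)⁻¹ * (A l * f l * (A l)⁻¹) = 1
      rw [show A l * f l * (A l)⁻¹ * (A l * f l * (A l)⁻¹) = A l * (f l * f l) * (A l)⁻¹ by group, hsq]; group] at h3
    have h4 := congrFun (congrFun h3 0) 0
    rw [Units.val_one, Matrix.smul_apply, Matrix.one_apply_eq, smul_eq_mul, mul_one] at h4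
    have h5 := congrArg Matrix.det hcB
    rw [Matrix.det_smul, hdet, Fintype.card_fin, mul_one, hB] at h5
    simp only [Units.val_mul, Matrix.det_mul, hdet, mul_one] at h5
    rw [← Matrix.det_mul, gl_mul_inv, Matrix.det_one, pow_succ, pow_two, ← h4, one_mul] at h5
    exact h5.symm
  refine Units.ext ?_
  rw [← cj_coe, sl_coe, sl_coe, cj_wreath_slot]
  congr 1
  rw [cj_coe]
  show (B l : M3) = _
  rw [hcB, hc1, one_smul]

variable {hg : Dg g} {M : Subgroup (GL (Fin (s + 1) → Ix 0) F)} (hM : Ctx hg M)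
include hM

/-- an involution of `M` in one slot is a half turn -/
theorem Ctx.kk_of_slot {y : GL (Fin (s + 1) → Ix 0) F} (hy : y ∈ M) {l : Fin (s + 1)} {A : GL (Ix 0) F}
    (e : y = sl l A) (hyy : y * y = 1) (hy1 : y ≠ 1) :
    ∃ (l : Fin (s + 1)) (x : Ix 0 → F) (hx : B3 x x ≠ 0), y = kk hg l x hx := by
  subst e
  have hA := (sl_mem_iff (hg := hg) l).1 (hM.le_uT hy)
  obtain ⟨x, hx, rfl⟩ := exists_htau hg hM.two hA (sl_inj (Nat.succ_pos _) (k := l) (by rw [← sl_mul, hyy, sl_one]))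
    (det_of_slot (by decide) hA (hM.le hy)) fun e => hy1 (by rw [e, sl_one])
  exact ⟨l, x, hx, rfl⟩

theorem Ctx.kk_conj_tw {x : GL (Fin (s + 1) → Ix 0) F} (hx : x ∈ M)
    (hxt : x ∈ tensorWreathStandard (0 + 3) (s + 1) F) {j : Fin (s + 1)} {d : Ix 0 → F} (hd : B3 d d ≠ 0)
    (hk : kk hg j d hd ∈ M) : ∃ (l : Fin (s + 1)) (y : Ix 0 → F) (hy : B3 y y ≠ 0),
      x * kk hg j d hd * x⁻¹ = kk hg l y hy := by
  obtain ⟨σ, A, hA⟩ := tw_shape hxt
  refine hM.kk_of_slot (M.mul_mem (M.mul_mem hx hk) (M.inv_mem hx)) (l := σ j)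
    (A := A j * htau hg d hd * (A j)⁻¹) (Units.ext ?_) ?_ fun e => kk_ne_one hg hM.two j d hd (conj_eq_one_iff.1 e)
  · rw [← cj_coe, kk, sl_coe, sl_coe, hA, cj_wreath_slot, cj_coe]
  · rw [show x * kk hg j d hd * x⁻¹ * (x * kk hg j d hd * x⁻¹) = x * (kk hg j d hd * kk hg j d hd) * x⁻¹ by group,
      kk_sq]; group

theorem Ctx.conj_cases {x : GL (Fin (s + 1) → Ix 0) F} (hx : x ∈ M) {j : Fin (s + 1)} {d : Ix 0 → F}
    (hd : B3 d d ≠ 0) (hk : kk hg j d hd ∈ M)
    (h : x * kk hg j d hd * x⁻¹ ∈ tensorWreathStandard (0 + 3) (s + 1) F) :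
    (∃ (l : Fin (s + 1)) (y : Ix 0 → F) (hy : B3 y y ≠ 0), x * kk hg j d hd * x⁻¹ = kk hg l y hy) ∨
      ∃ a b : Fin (s + 1), a ≠ b ∧ HasPerm (x * kk hg j d hd * x⁻¹) (Equiv.swap a b) ∧
        ∀ l, l ≠ a → l ≠ b → ∀ X : GL (Ix 0) F, x * kk hg j d hd * x⁻¹ * sl l X = sl l X * (x * kk hg j d hd * x⁻¹) := by
  set k := kk hg j d hd with hkdef
  have hsq : x * k * x⁻¹ * (x * k * x⁻¹) = 1 := by
    rw [show x * k * x⁻¹ * (x * k * x⁻¹) = x * (k * k) * x⁻¹ by group, hkdef, kk_sq]; group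
  rcases wreath_invol_cases hM.two h hsq (by rw [fixSp_conj hM.two (kk_sq hg j d hd), kk_finrank hg hM.two]) with
    ⟨l, A, e⟩ | h'
  · exact Or.inl (hM.kk_of_slot (M.mul_mem (M.mul_mem hx hk) (M.inv_mem hx)) e hsq
      fun e => kk_ne_one hg hM.two j d hd (conj_eq_one_iff.1 e))
  · exact Or.inr h'

variable (hN : NormTw hg s) (hs : 2 ≤ s)
include hN hs

/-- **Theorem.** An element conjugating a half turn into the wreath subgroup lies in it. -/
theorem Ctx.invol_fusion {x : GL (Fin (s + 1) → Ix 0) F} (hx : x ∈ M) {j : Fin (s + 1)} {d : Ix 0 → F}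
    (hd : B3 d d ≠ 0) (hk : kk hg j d hd ∈ M)
    (h : x * kk hg j d hd * x⁻¹ ∈ tensorWreathStandard (0 + 3) (s + 1) F) :
    x ∈ tensorWreathStandard (0 + 3) (s + 1) F := by
  classical
  rcases hM.conj_cases hx hd hk h with ⟨l, y, hy, e⟩ | ⟨a, b, hab, -, hcomm⟩
  · exact hM.half_turn_fusion hN hs hx hd hy hk e
  obtain ⟨l, hla, hlb⟩ := third_slot hs a b
  obtain ⟨ν, hν, dd, hdd, hval, horth, hmarks⟩ := hM.exists_marks
  have h01 : (0 : Fin 3) ≠ 1 := by decide
  obtain ⟨x2, hx2, hprod⟩ := htau_pair hg hM.two (hdd 0) (hdd 1) (htau_comm hg hM.two (hdd 0) (hdd 1) (horth 0 1 h01))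
    (fun e => by
      obtain ⟨c, hc⟩ := htau_inj hg hM.two (hdd 0) (hdd 1) e
      have := horth 0 1 h01
      rw [hc, bf_smul_right, mul_eq_zero] at this
      exact this.elim (fun h => hdd 1 (by rw [hc, h, zero_smul]; exact Orth.sym_zero_left (bf_symmetric hg.wg) _)) (hdd 0))
  have h2m : kk hg l (dd 0) (hdd 0) * kk hg l (dd 1) (hdd 1) = kk hg l x2 hx2 := by rw [kk, kk, kk, sl_mul, hprod]
  have hxi := M.inv_mem hx
  have main : ∀ (e : Ix 0 → F) (he : B3 e e ≠ 0), kk hg l e he ∈ M →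
      x⁻¹ ∈ tensorWreathStandard (0 + 3) (s + 1) F ∨
        ∃ p q : Fin (s + 1), p ≠ q ∧ HasPerm (x⁻¹ * kk hg l e he * x) (Equiv.swap p q) := by
    intro e he hm
    have hq : x⁻¹ * kk hg l e he * x⁻¹⁻¹ ∈ tensorWreathStandard (0 + 3) (s + 1) F := by
      rw [inv_inv]
      refine hM.half_turn_centraliser hN hs (M.mul_mem (M.mul_mem hxi hm) hx) hd hk ?_
      have hc := hcomm l hla hlb (htau hg e he)
      calc x⁻¹ * kk hg l e he * x * kk hg j d hd = x⁻¹ * (kk hg l e he * (x * kk hg j d hd * x⁻¹)) * x := by group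
        _ = x⁻¹ * (x * kk hg j d hd * x⁻¹ * kk hg l e he) * x := by rw [kk, hc]
        _ = _ := by group
    rcases hM.conj_cases hxi he hm hq with ⟨l', y, hy, e'⟩ | ⟨p, q, hpq, hp, -⟩
    · exact Or.inl (hM.half_turn_fusion hN hs hxi he hy hm e')
    · rw [inv_inv] at hp
      exact Or.inr ⟨p, q, hpq, hp⟩
  rw [← inv_inv x]
  refine inv_mem ?_
  rcases main _ _ (hmarks l 0) with h0 | ⟨p0, q0, hpq0, hp0⟩
  · exact h0
  rcases main _ _ (hmarks l 1) with h1 | ⟨p1, q1, hpq1, hp1⟩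
  · exact h1
  rcases main _ _ (h2m ▸ M.mul_mem (hmarks l 0) (hmarks l 1) : kk hg l x2 hx2 ∈ M) with h2' | ⟨p2, q2, hpq2, hp2⟩
  · exact h2'
  exfalso
  have hmul := hp0.mul hp1
  rw [show x⁻¹ * kk hg l (dd 0) (hdd 0) * x * (x⁻¹ * kk hg l (dd 1) (hdd 1) * x) =
    x⁻¹ * (kk hg l (dd 0) (hdd 0) * kk hg l (dd 1) (hdd 1)) * x by group, h2m] at hmul
  have hsign := congrArg Equiv.Perm.sign (hp2.unique (by omega) hmul)
  rw [map_mul, Equiv.Perm.sign_swap hpq0, Equiv.Perm.sign_swap hpq1, Equiv.Perm.sign_swap hpq2] at hsign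
  exact absurd hsign (by decide)

/-- **Theorem.** The centraliser of the product of two half turns in different slots. -/
theorem Ctx.pair_centraliser {j m : Fin (s + 1)} (hjm : j ≠ m) {d e : Ix 0 → F} (hd : B3 d d ≠ 0) (he : B3 e e ≠ 0)
    (hk : kk hg j d hd ∈ M) (hk' : kk hg m e he ∈ M) {x : GL (Fin (s + 1) → Ix 0) F} (hx : x ∈ M)
    (hxc : x * (kk hg j d hd * kk hg m e he) = kk hg j d hd * kk hg m e he * x) :
    x ∈ tensorWreathStandard (0 + 3) (s + 1) F := by
  classical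
  haveI : Fact (Nat.Prime 2) := ⟨Nat.prime_two⟩
  set W := tensorWreathStandard (0 + 3) (s + 1) F with hW
  set k := kk hg j d hd with hkdef
  set k' := kk hg m e he with hk'def
  set c := k * k' with hc
  have hkk : k * k' = k' * k := by rw [hkdef, hk'def, kk, kk, sl_comm hjm]
  have hcW : c ∈ W := mul_mem (sl_mem_tw _ _) (sl_mem_tw _ _)
  have hk2 : k * k = 1 := kk_sq _ _ _ _
  have hk'2 : k' * k' = 1 := kk_sq _ _ _ _
  have hcc : c * c = 1 := by
    calc c * c = k * (k' * k) * k' := by rw [hc]; group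
      _ = (k * k) * (k' * k') := by rw [← hkk]; group
      _ = 1 := by rw [hk2, hk'2, one_mul]
  let C : Subgroup (GL (Fin (s + 1) → Ix 0) F) := M ⊓ Subgroup.centralizer {c}
  have hCc : ∀ y : GL (Fin (s + 1) → Ix 0) F, y ∈ C → y * c = c * y := fun y hy =>
    Subgroup.mem_centralizer_singleton_iff.1 hy.2
  have hcC : c ∈ C := ⟨M.mul_mem hk hk', Subgroup.mem_centralizer_singleton_iff.2 rfl⟩
  have hkc : k * c = c * k := by rw [hc, mul_assoc, hkk]
  have hkC : k ∈ C := ⟨hk, Subgroup.mem_centralizer_singleton_iff.2 hkc⟩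
  set Z : Subgroup C := Subgroup.zpowers ⟨c, hcC⟩ with hZ
  haveI hZn : Z.Normal := ⟨fun z hz y => by
    obtain ⟨r, rfl⟩ := Subgroup.mem_zpowers_iff.1 hz
    refine Subgroup.mem_zpowers_iff.2 ⟨r, ?_⟩
    have hy : Commute y (⟨c, hcC⟩ : C) := Subtype.ext (hCc y y.2)
    rw [(hy.zpow_right r).eq, mul_inv_cancel_right]⟩
  have hZmem : ∀ z : C, z ∈ Z → (z : GL (Fin (s + 1) → Ix 0) F) = 1 ∨ (z : GL (Fin (s + 1) → Ix 0) F) = c := by
    intro z hz
    obtain ⟨r, rfl⟩ := Subgroup.mem_zpowers_iff.1 hz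
    rw [SubgroupClass.coe_zpow]
    have h2 : c ^ (2 : ℤ) = 1 := by rw [zpow_two, hcc]
    rcases Int.even_or_odd r with ⟨q, rfl⟩ | ⟨q, rfl⟩
    · left; rw [← two_mul, _root_.zpow_mul, h2, _root_.one_zpow]
    · right; rw [_root_.zpow_add, _root_.zpow_mul, h2, _root_.one_zpow, one_mul, zpow_one]
  have hZW : ∀ z : C, z ∈ Z → (z : GL (Fin (s + 1) → Ix 0) F) ∈ W := fun z hz => by
    rcases hZmem z hz with h | h <;> rw [h]
    exacts [one_mem _, hcW]
  have hdiff : ∀ (l : Fin (s + 1)) (y : Ix 0 → F) (hy : B3 y y ≠ 0), kk hg l y hy ≠ c := by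
    intro l y hy h
    rw [hc, hkdef, hk'def, kk, kk, kk, sl_eq_pureGL j, sl_eq_pureGL m, pureGL_mul] at h
    by_cases hl : l = j
    · obtain ⟨a, ha⟩ := pure_single h.symm (b := m) (by rw [hl]; exact hjm.symm)
      rw [Pi.mul_apply, Pi.mulSingle_eq_of_ne hjm.symm, Pi.mulSingle_eq_same, one_mul] at ha
      exact htau_ne_scalar hg hM.two he a ha
    · obtain ⟨a, ha⟩ := pure_single h.symm (b := j) (Ne.symm hl)
      rw [Pi.mul_apply, Pi.mulSingle_eq_of_ne hjm, Pi.mulSingle_eq_same, mul_one] at ha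
      exact htau_ne_scalar hg hM.two hd a ha
  -- the half turn is isolated modulo the product
  set kb : C ⧸ Z := QuotientGroup.mk ⟨k, hkC⟩ with hkb
  have hkZ : (⟨k, hkC⟩ : C) ∉ Z := fun h => by
    rcases hZmem _ h with h | h
    exacts [kk_ne_one hg hM.two j d hd h, hdiff j d hd h]
  have hswap : ∀ y ∈ M, y ∈ W → y * c = c * y → y * k * y⁻¹ = k ∨ y * k * y⁻¹ = k' := by
    intro y hy hyW hyc
    set f : Fin (s + 1) → GL (Ix 0) F := Pi.mulSingle j (htau hg d hd) * Pi.mulSingle m (htau hg e he) with hf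
    have hfj : f j = htau hg d hd := by simp [hf, Pi.mulSingle_eq_of_ne hjm]
    have hfm : f m = htau hg e he := by simp [hf, Pi.mulSingle_eq_of_ne hjm.symm]
    have hfo : ∀ l, l ≠ j → l ≠ m → f l = 1 := fun l h1 h3 => by simp [hf, Pi.mulSingle_eq_of_ne h1, Pi.mulSingle_eq_of_ne h3]
    have hcf : c = pureGL f := by rw [hf, ← pureGL_mul]; rfl
    obtain ⟨σ, -, hσ⟩ := pure_centraliser hM.two (f := f) (fun l => by
        rcases eq_or_ne l j with rfl | h1
        · rw [hfj, htau_sq]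
        rcases eq_or_ne l m with rfl | h3
        · rw [hfm, htau_sq]
        rw [hfo l h1 h3, mul_one]) (fun l => by
        rcases eq_or_ne l j with rfl | h1
        · rw [hfj, htau_det hg hM.two]
        rcases eq_or_ne l m with rfl | h3
        · rw [hfm, htau_det hg hM.two]
        rw [hfo l h1 h3, Units.val_one, Matrix.det_one]) hyW (by rw [← hcf]; exact hyc)
    have e1 := hσ j
    rw [hfj] at e1
    rw [hkdef, kk, e1]
    rcases eq_or_ne (σ j) j with h1 | h1
    · left; rw [h1, hfj]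
    rcases eq_or_ne (σ j) m with h3 | h3
    · right; rw [h3, hfm, hk'def, kk]
    · exfalso
      rw [hfo _ h1 h3, sl_one] at e1
      exact kk_ne_one hg hM.two j d hd (conj_eq_one_iff.1 e1)
  have hiso : Cfsg.IsIsolatedInvolution kb := by
    refine ⟨orderOf_eq_prime ?_ ?_, ?_⟩
    · rw [hkb, pow_two, ← QuotientGroup.mk_mul, show (⟨k, hkC⟩ : C) * ⟨k, hkC⟩ = 1 from Subtype.ext hk2]
      rfl
    · exact fun h => hkZ ((QuotientGroup.eq_one_iff _).1 h)
    intro gb
    induction gb using QuotientGroup.induction_on with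
    | H y =>
      intro hcm
      set z := (y : GL (Fin (s + 1) → Ix 0) F) * k * (y : GL (Fin (s + 1) → Ix 0) F)⁻¹ with hz
      have hzM : z ∈ M := M.mul_mem (M.mul_mem y.2.1 hk) (M.inv_mem y.2.1)
      rw [hkb, ← QuotientGroup.mk_inv, ← QuotientGroup.mk_mul, ← QuotientGroup.mk_mul] at hcm
      have h1 : ((⟨k, hkC⟩ : C) * (y * ⟨k, hkC⟩ * y⁻¹))⁻¹ * (y * ⟨k, hkC⟩ * y⁻¹ * ⟨k, hkC⟩) ∈ Z :=
        QuotientGroup.eq.1 (by simpa only [QuotientGroup.mk_mul] using hcm.eq)
      have hzz : z * z = 1 := by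
        rw [hz, show (y : GL (Fin (s + 1) → Ix 0) F) * k * (y : GL (Fin (s + 1) → Ix 0) F)⁻¹ *
          ((y : GL (Fin (s + 1) → Ix 0) F) * k * (y : GL (Fin (s + 1) → Ix 0) F)⁻¹) =
          (y : GL (Fin (s + 1) → Ix 0) F) * (k * k) * (y : GL (Fin (s + 1) → Ix 0) F)⁻¹ by group, hk2]
        group
      have h3 : (k * z)⁻¹ * (z * k) = 1 ∨ (k * z)⁻¹ * (z * k) = c := by
        have := hZmem _ h1
        simpa only [Subgroup.coe_mul, Subgroup.coe_inv, ← hz] using this
      have hzW : z ∈ W := by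
        rcases h3 with h3 | h3
        · exact hM.half_turn_centraliser hN hs hzM hd hk (inv_mul_eq_one.1 h3).symm
        · refine hM.half_turn_fusion hN hs hzM hd he hk (j' := m) ?_
          rw [_root_.mul_inv_rev, inv_eq_of_mul_eq_one_right hzz, inv_eq_of_mul_eq_one_right hk2] at h3
          rw [inv_eq_of_mul_eq_one_right hzz, ← hkdef, ← hk'def]
          calc z * k * z = (z * k * (z * k)) * k := by
                rw [show z * k * (z * k) * k = z * k * z * (k * k) by group, hk2, mul_one]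
            _ = k' := by rw [h3, hc, hkk, mul_assoc, hk2, mul_one]
      have hyW := hM.invol_fusion hN hs y.2.1 hd hk (by rw [← hkdef, ← hz]; exact hzW)
      rw [hkb, ← QuotientGroup.mk_inv, ← QuotientGroup.mk_mul, ← QuotientGroup.mk_mul]
      rcases hswap _ y.2.1 hyW (hCc y y.2) with h | h
      · congr 1
        exact Subtype.ext h
      · refine QuotientGroup.eq.2 ?_
        refine Subgroup.mem_zpowers_iff.2 ⟨1, Subtype.ext ?_⟩
        simp only [zpow_one, Subgroup.coe_mul, Subgroup.coe_inv]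
        rw [show (y : GL (Fin (s + 1) → Ix 0) F) * k * (y : GL (Fin (s + 1) → Ix 0) F)⁻¹ = k' from h,
          inv_eq_of_mul_eq_one_right hk'2, ← hkk]
  set O := Cfsg.pPrimeCore 2 (C ⧸ Z) with hO
  haveI hOn : O.Normal := Subgroup.sSup_normal _ (fun _ h => h.1)
  set Wq : Subgroup (C ⧸ Z) := (W.subgroupOf C).map (QuotientGroup.mk' Z) with hWq
  have hback : ∀ y : C, (QuotientGroup.mk y : C ⧸ Z) ∈ Wq → (y : GL (Fin (s + 1) → Ix 0) F) ∈ W := by
    intro y hy
    obtain ⟨w, hw, hwy⟩ := hy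
    have h1 := hZW _ (QuotientGroup.eq.1 hwy)
    rw [Subgroup.coe_mul, Subgroup.coe_inv] at h1
    have := mul_mem (show (w : GL (Fin (s + 1) → Ix 0) F) ∈ W from hw) h1
    rwa [mul_inv_cancel_left] at this
  -- the odd core
  obtain ⟨l, hlj, hlm⟩ := third_slot hs j m
  obtain ⟨ν, hν, dd, hdd, hval, horth, hmarks⟩ := hM.exists_marks
  set a := kk hg l (dd 0) (hdd 0) with hadef
  set b := kk hg l (dd 1) (hdd 1) with hbdef
  have h01 : (0 : Fin 3) ≠ 1 := by decide
  have htc := htau_comm hg hM.two (hdd 0) (hdd 1) (horth 0 1 h01)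
  obtain ⟨x2, hx2, hprod⟩ := htau_pair hg hM.two (hdd 0) (hdd 1) htc (fun e => by
    obtain ⟨c, hc⟩ := htau_inj hg hM.two (hdd 0) (hdd 1) e
    have := horth 0 1 h01
    rw [hc, bf_smul_right, mul_eq_zero] at this
    exact this.elim (fun h => hdd 1 (by rw [hc, h, zero_smul]; exact Orth.sym_zero_left (bf_symmetric hg.wg) _)) (hdd 0))
  have habc : a * b = kk hg l x2 hx2 := by rw [hadef, hbdef, kk, kk, kk, sl_mul, hprod]
  have hmarkC : ∀ (y : Ix 0 → F) (hy : B3 y y ≠ 0), kk hg l y hy ∈ M → kk hg l y hy ∈ C := fun y hy h =>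
    ⟨h, Subgroup.mem_centralizer_singleton_iff.2 (by
      rw [hc, hkdef, hk'def, kk, kk, kk, ← mul_assoc, sl_comm hlj, mul_assoc, sl_comm hlm, mul_assoc])⟩
  have haC := hmarkC _ _ (hmarks l 0)
  have hbC := hmarkC _ _ (hmarks l 1)
  set ab : C ⧸ Z := QuotientGroup.mk ⟨a, haC⟩ with habar
  set bb : C ⧸ Z := QuotientGroup.mk ⟨b, hbC⟩ with hbbar
  have hsq : ∀ (y : C), (y : GL (Fin (s + 1) → Ix 0) F) * y = 1 → (QuotientGroup.mk y : C ⧸ Z) * QuotientGroup.mk y = 1 := by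
    intro y hy
    rw [← QuotientGroup.mk_mul, show y * y = 1 from Subtype.ext hy]
    rfl
  have hcommab : ab * bb = bb * ab := by
    rw [habar, hbbar, ← QuotientGroup.mk_mul, ← QuotientGroup.mk_mul]
    congr 1
    exact Subtype.ext (show a * b = b * a by rw [hadef, hbdef, kk, kk, sl_mul, sl_mul, htc])
  set E := fourSub ab bb (hsq _ (kk_sq _ _ _ _)) (hsq _ (kk_sq _ _ _ _)) hcommab with hE
  have hne1 : ∀ (y : Ix 0 → F) (hy : B3 y y ≠ 0) (hyC : kk hg l y hy ∈ C),
      (QuotientGroup.mk ⟨kk hg l y hy, hyC⟩ : C ⧸ Z) ≠ 1 := fun y hy hyC h => by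
    rcases hZmem _ ((QuotientGroup.eq_one_iff _).1 h) with h | h
    exacts [kk_ne_one hg hM.two l y hy h, hdiff l y hy h]
  have habq : ab * bb = QuotientGroup.mk ⟨kk hg l x2 hx2, habc ▸ mul_mem haC hbC⟩ := by
    rw [habar, hbbar, ← QuotientGroup.mk_mul]
    congr 1
    exact Subtype.ext habc
  have hab1 : ab * bb ≠ 1 := by rw [habq]; exact hne1 _ _ _
  have ha1 : ab ≠ 1 := hne1 _ _ _
  have hb1 : bb ≠ 1 := hne1 _ _ _
  have haE : ab ∈ E := Or.inr (Or.inl rfl)
  have hbE : bb ∈ E := Or.inr (Or.inr (Or.inl rfl))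
  have hEsq : ∀ u ∈ E, u * u = 1 := by
    rintro u (rfl | rfl | rfl | rfl)
    · exact one_mul 1
    · exact hsq _ (kk_sq _ _ _ _)
    · exact hsq _ (kk_sq _ _ _ _)
    · rw [habq]; exact hsq _ (kk_sq _ _ _ _)
  haveI : IsMulCommutative E := ⟨⟨by
    rintro ⟨p, hp⟩ ⟨q, hq⟩
    refine Subtype.ext (show p * q = q * p from ?_)
    calc p * q = (p * q)⁻¹ := (inv_eq_of_mul_eq_one_right (hEsq _ (mul_mem hp hq))).symm
      _ = q * p := by rw [_root_.mul_inv_rev, inv_eq_of_mul_eq_one_right (hEsq _ hp),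
        inv_eq_of_mul_eq_one_right (hEsq _ hq)]⟩⟩
  have hOW : O ≤ Wq := by
    refine Coprime.le_of_centralizers_le (A := E) (fun hcy => ?_) ?_ ?_ fun u hu hu1 v hv => ?_
    · obtain ⟨⟨u, hu⟩, hgen⟩ := hcy.exists_generator
      have hpow : ∀ v ∈ E, v = 1 ∨ v = u := fun v hv => by
        obtain ⟨r, hr⟩ := Subgroup.mem_zpowers_iff.1 (hgen ⟨v, hv⟩)
        have hr' : u ^ r = v := congrArg Subtype.val hr
        rcases Int.even_or_odd r with ⟨q, rfl⟩ | ⟨q, rfl⟩
        · left; rw [← hr', ← two_mul, _root_.zpow_mul, zpow_two, hEsq u hu, _root_.one_zpow]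
        · right
          rw [← hr', _root_.zpow_add, _root_.zpow_mul, zpow_two, hEsq u hu, _root_.one_zpow, one_mul, zpow_one]
      exact hab1 (by rw [(hpow _ haE).resolve_left ha1, (hpow _ hbE).resolve_left hb1, hEsq u hu])
    · rw [Subgroup.normalizer_eq_top (H := O)]; exact le_top
    · have hE2 : IsPGroup 2 E := fun u => ⟨1, Subtype.ext (by rw [pow_one, pow_two]; exact hEsq u u.2)⟩
      obtain ⟨r, hr⟩ := hE2.exists_card_eq
      rw [hr]
      exact Nat.Coprime.pow_left _ (Coprime.pPrimeCore_coprime Nat.prime_two).symm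
    · obtain ⟨y, hyC, hyM', rfl⟩ : ∃ (y : Ix 0 → F) (hy : B3 y y ≠ 0) (hyM : kk hg l y hy ∈ M),
          u = QuotientGroup.mk ⟨kk hg l y hy, hmarkC y hy hyM⟩ := by
        rcases hu with rfl | rfl | rfl | rfl
        · exact absurd rfl hu1
        · exact ⟨_, _, hmarks l 0, rfl⟩
        · exact ⟨_, _, hmarks l 1, rfl⟩
        · exact ⟨_, _, habc ▸ M.mul_mem (hmarks l 0) (hmarks l 1), habq⟩
      induction v using QuotientGroup.induction_on with
      | H v =>
        have hcm := Subgroup.mem_centralizer_singleton_iff.1 hv.2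
        rw [← QuotientGroup.mk_mul, ← QuotientGroup.mk_mul] at hcm
        have h1 := hZW _ (QuotientGroup.eq.1 hcm.symm)
        simp only [Subgroup.coe_inv, Subgroup.coe_mul] at h1
        refine ⟨v, hM.invol_fusion hN hs v.2.1 hyC hyM' ?_, rfl⟩
        have h3 := mul_mem (sl_mem_tw l (htau hg y hyC)) h1
        show (v : GL (Fin (s + 1) → Ix 0) F) * kk hg l y hyC * (v : GL (Fin (s + 1) → Ix 0) F)⁻¹ ∈ W
        have e : kk hg l y hyC * ((kk hg l y hyC * (v : GL (Fin (s + 1) → Ix 0) F))⁻¹ *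
            ((v : GL (Fin (s + 1) → Ix 0) F) * kk hg l y hyC)) = kk hg l y hyC * (v : GL (Fin (s + 1) → Ix 0) F)⁻¹ *
              kk hg l y hyC * ((v : GL (Fin (s + 1) → Ix 0) F) * kk hg l y hyC) := by
          rw [_root_.mul_inv_rev, kk_inv]
          group
        have hvW : (v : GL (Fin (s + 1) → Ix 0) F)⁻¹ ∈ W := hM.invol_fusion hN hs (M.inv_mem v.2.1) hyC hyM' (by
          rw [inv_inv]
          have h5 : kk hg l y hyC * (kk hg l y hyC * (v : GL (Fin (s + 1) → Ix 0) F)⁻¹ * kk hg l y hyC *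
              ((v : GL (Fin (s + 1) → Ix 0) F) * kk hg l y hyC)) * kk hg l y hyC ∈ W :=
            mul_mem (mul_mem (sl_mem_tw _ _) (e ▸ h3)) (sl_mem_tw _ _)
          rwa [show kk hg l y hyC * (kk hg l y hyC * (v : GL (Fin (s + 1) → Ix 0) F)⁻¹ * kk hg l y hyC *
              ((v : GL (Fin (s + 1) → Ix 0) F) * kk hg l y hyC)) * kk hg l y hyC =
              (kk hg l y hyC * kk hg l y hyC) * ((v : GL (Fin (s + 1) → Ix 0) F)⁻¹ * kk hg l y hyC *
                (v : GL (Fin (s + 1) → Ix 0) F)) * (kk hg l y hyC * kk hg l y hyC) by group,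
            kk_sq, one_mul, mul_one] at h5)
        have hvW' : (v : GL (Fin (s + 1) → Ix 0) F) ∈ W := inv_inv (v : GL (Fin (s + 1) → Ix 0) F) ▸ inv_mem hvW
        exact mul_mem (mul_mem hvW' (sl_mem_tw _ _)) hvW
  have hxC : x ∈ C := ⟨hx, Subgroup.mem_centralizer_singleton_iff.2 hxc⟩
  have hcore := hback (⟨k, hkC⟩ * ⟨x, hxC⟩ * ⟨k, hkC⟩⁻¹ * ⟨x, hxC⟩⁻¹) (hOW (by
    simpa only [QuotientGroup.mk_mul, QuotientGroup.mk_inv] using (Invol.zstar hiso) (QuotientGroup.mk ⟨x, hxC⟩)))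
  refine hM.invol_fusion hN hs hx hd hk ?_
  simp only [Subgroup.coe_mul, Subgroup.coe_inv] at hcore
  have := mul_mem (show k ∈ W from sl_mem_tw _ _) hcore
  have hki : k⁻¹ = k := inv_eq_of_mul_eq_one_right hk2
  rwa [show k * (k * x * k⁻¹ * x⁻¹) = k * k * (x * k⁻¹ * x⁻¹) by group, hk2, one_mul, hki] at this

/-- **Theorem.** A product of half turns with a marked factor has its centraliser in the wreath subgroup. -/
theorem Ctx.marks_centraliser {f : Fin (s + 1) → GL (Ix 0) F} (hsq : ∀ l, f l * f l = 1)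
    (hdet : ∀ l, (f l : M3).det = 1) {b : Fin (s + 1)} {d0 d1 : Ix 0 → F} (hd0 : B3 d0 d0 ≠ 0) (hd1 : B3 d1 d1 ≠ 0)
    (h01 : B3 d0 d1 = 0) (hk0 : kk hg b d0 hd0 ∈ M) (hk1 : kk hg b d1 hd1 ∈ M) (hb : f b = htau hg d0 hd0)
    {x : GL (Fin (s + 1) → Ix 0) F} (hx : x ∈ M) (hxc : x * pureGL f = pureGL f * x) :
    x ∈ tensorWreathStandard (0 + 3) (s + 1) F := by
  classical
  set W := tensorWreathStandard (0 + 3) (s + 1) F with hW
  set k := kk hg b d0 hd0 with hkdef
  set k1 := kk hg b d1 hd1 with hk1def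
  have hfc : ∀ (d : Ix 0 → F) (hd : B3 d d ≠ 0), htau hg d hd * f b = f b * htau hg d hd →
      kk hg b d hd * pureGL f = pureGL f * kk hg b d hd := fun d hd h => by
    rw [kk, sl_eq_pureGL, pureGL_mul, pureGL_mul]
    congr 1
    funext l
    rcases eq_or_ne l b with rfl | hl
    · simp only [Pi.mul_apply, Pi.mulSingle_eq_same, h]
    · simp [Pi.mulSingle_eq_of_ne hl]
  have hk0c : k * pureGL f = pureGL f * k := hfc _ _ (by rw [hb])
  have hk1c : k1 * pureGL f = pureGL f * k1 := hfc _ _ (by rw [hb, ← htau_comm hg hM.two hd0 hd1 h01])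
  have hne : htau hg d0 hd0 ≠ htau hg d1 hd1 := fun e => by
    obtain ⟨c, hc⟩ := htau_inj hg hM.two hd0 hd1 e
    rw [hc, bf_smul_right, mul_eq_zero] at h01
    exact h01.elim (fun h => hd1 (by rw [hc, h, zero_smul]; exact Orth.sym_zero_left (bf_symmetric hg.wg) _)) hd0
  have hno : ∀ h ∈ M, h ∈ W → h * pureGL f = pureGL f * h → h * k * h⁻¹ ≠ k1 := by
    intro h hh hhW hhc e
    obtain ⟨σ, -, hσ⟩ := pure_centraliser hM.two hsq hdet hhW hhc
    have e1 := hσ b
    rw [hb, show sl b (htau hg d0 hd0) = k from rfl, e, hk1def, kk] at e1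
    rcases eq_or_ne (σ b) b with h1 | h1
    · rw [h1, hb] at e1
      exact hne (sl_inj (Nat.succ_pos _) e1).symm
    · obtain ⟨c, hc⟩ := scalar_of_slot_eq (Nat.succ_pos _) h1.symm
        (show (slot b (htau hg d1 hd1 : M3) : MV) = slot (σ b) (f (σ b) : M3) by rw [← sl_coe, ← sl_coe, e1])
      exact htau_ne_scalar hg hM.two hd1 c hc
  have hxi := M.inv_mem hx
  set y := x * k1 * x⁻¹ with hy
  have hyM : y ∈ M := M.mul_mem (M.mul_mem hx hk1) hxi
  have hyy : y * y = 1 := by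
    rw [hy, show x * k1 * x⁻¹ * (x * k1 * x⁻¹) = x * (k1 * k1) * x⁻¹ by group, hk1def, kk_sq]; group
  have hxc' : x⁻¹ * pureGL f = pureGL f * x⁻¹ := by
    rw [inv_mul_eq_iff_eq_mul, ← mul_assoc, hxc, mul_inv_cancel_right]
  have hyc : y * pureGL f = pureGL f * y := by
    rw [hy, mul_assoc (x * k1), hxc', ← mul_assoc, mul_assoc x k1, hk1c, ← mul_assoc, hxc, mul_assoc (pureGL f),
      mul_assoc (pureGL f)]
  have hclM : Subgroup.closure ({y, k} : Set _) ≤ M := (Subgroup.closure_le _).2 (by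
    rintro z (rfl | rfl)
    exacts [hyM, hk0])
  have hclc : Subgroup.closure ({y, k} : Set _) ≤ Subgroup.centralizer {pureGL f} := (Subgroup.closure_le _).2 (by
    rintro z (rfl | rfl) <;> rw [SetLike.mem_coe, Subgroup.mem_centralizer_singleton_iff]
    exacts [hyc, hk0c])
  have hyW : y ∈ W := by
    rcases invol_pair_parity hyy (kk_sq hg b d0 hd0) with ⟨-, h, hh, e⟩ | ⟨i, hi1, hisq, hiy, hik, hcases⟩
    · exfalso
      have hxh : x⁻¹ * h * kk hg b d0 hd0 * (x⁻¹ * h)⁻¹ = kk hg b d1 hd1 := by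
        rw [show x⁻¹ * h * kk hg b d0 hd0 * (x⁻¹ * h)⁻¹ = x⁻¹ * (h * kk hg b d0 hd0 * h⁻¹) * x by group, ← e, hy,
          ← hk1def]
        group
      have hm := M.mul_mem hxi (hclM hh)
      refine hno _ hm (hM.half_turn_fusion hN hs hm hd0 hd1 hk0 hxh) ?_ hxh
      rw [mul_assoc, Subgroup.mem_centralizer_singleton_iff.1 (hclc hh), ← mul_assoc, hxc', mul_assoc]
    set z := (y * kk hg b d0 hd0) ^ i with hz
    have hzM : z ∈ M := M.pow_mem (M.mul_mem hyM hk0) i
    have hzW : z ∈ W := hM.half_turn_centraliser hN hs hzM hd0 hk0 hik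
    obtain ⟨l, d, hd, hlk⟩ : ∃ (l : Fin (s + 1)) (d : Ix 0 → F) (hd : B3 d d ≠ 0),
        z * kk hg b d0 hd0 = kk hg l d hd := by
      have hzk : z * kk hg b d0 hd0 ∈ W := mul_mem hzW (sl_mem_tw _ _)
      rcases hcases with ⟨-, h, hh, e⟩ | ⟨-, h, hh, e⟩
      · rw [e] at hzk ⊢
        exact hM.kk_conj_tw (hclM hh) (hM.invol_fusion hN hs (hclM hh) hd0 hk0 hzk) hd0 hk0
      · have e' : h * y * h⁻¹ = h * x * kk hg b d1 hd1 * (h * x)⁻¹ := by rw [hy, hk1def]; group
        rw [e, e'] at hzk ⊢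
        have hm := M.mul_mem (hclM hh) hx
        exact hM.kk_conj_tw hm (hM.invol_fusion hN hs hm hd1 hk1 hzk) hd1 hk1
    have hze : z = kk hg l d hd * kk hg b d0 hd0 := by rw [← hlk, mul_assoc, kk_sq, mul_one]
    have hyz : y * z = z * y := hiy.symm
    have hlM : kk hg l d hd ∈ M := hlk ▸ M.mul_mem hzM hk0
    by_cases hl : l = b
    · subst hl
      have hcm : htau hg d hd * htau hg d0 hd0 = htau hg d0 hd0 * htau hg d hd := by
        refine sl_inj (Nat.succ_pos _) (k := l) ?_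
        rw [← sl_mul, ← sl_mul, show sl l (htau hg d hd) = kk hg l d hd from rfl,
          show sl l (htau hg d0 hd0) = kk hg l d0 hd0 from rfl, ← hze, ← hlk]
        rw [← mul_assoc, ← hik, mul_assoc, kk_sq, mul_one]
      have hne' : htau hg d hd ≠ htau hg d0 hd0 := fun e => hi1 (by
        rw [hze, kk, kk, e, sl_mul, htau_sq, sl_one])
      obtain ⟨w, hw, hwe⟩ := htau_pair hg hM.two hd hd0 hcm hne'
      have hzw : z = kk hg l w hw := by rw [hze, kk, kk, kk, sl_mul, hwe]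
      exact hM.half_turn_centraliser hN hs hyM hw (hzw ▸ hzM) (by rw [← hzw]; exact hyz)
    · exact hM.pair_centraliser hN hs hl hd hd0 hlM hk0 hyM (by rw [← hze]; exact hyz)
  exact hM.invol_fusion hN hs hx hd1 hk1 hyW

/-- **Theorem.** Three-dimensional factors. -/
theorem Ctx.main_three : M ≤ tensorWreathStandard (0 + 3) (s + 1) F := by
  classical
  intro x hx
  by_contra hxW
  set W := tensorWreathStandard (0 + 3) (s + 1) F with hW
  obtain ⟨ν, hν, dd, hdd, hval, horth, hmarks⟩ := hM.exists_marks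
  have h01 : (0 : Fin 3) ≠ 1 := by decide
  set d0 := dd 0 with hd0def
  have hd0 : B3 d0 d0 ≠ 0 := hdd 0
  set τ := htau hg d0 hd0 with hτ
  let S : Finset (Fin (s + 1)) := {⟨0, by omega⟩, ⟨1, by omega⟩, ⟨2, by omega⟩}
  have hS : S.card = 3 := by
    rw [Finset.card_eq_three]
    exact ⟨_, _, _, by simp [Fin.ext_iff], by simp [Fin.ext_iff], by simp [Fin.ext_iff], rfl⟩
  let f : Fin (s + 1) → GL (Ix 0) F := fun l => if l ∈ S then τ else 1
  have hfsq : ∀ l, f l * f l = 1 := fun l => by simp only [f]; split_ifs <;> simp [hτ, htau_sq]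
  have hfdet : ∀ l, (f l : M3).det = 1 := fun l => by
    simp only [f]; split_ifs
    · exact htau_det hg hM.two hd0
    · simp
  set v := pureGL f with hv
  have hvM : v ∈ M := pureGL_mem_of M f fun l => by
    simp only [f]; split_ifs
    · exact hmarks l 0
    · rw [sl_one]; exact M.one_mem
  have hvW : v ∈ W := pure_mem_tw _
  have hvv : v * v = 1 := by
    rw [hv, pureGL_mul, show f * f = 1 from funext hfsq, pureGL_one]
  have hvne : ∀ (l : Fin (s + 1)) (y : Ix 0 → F) (hy : B3 y y ≠ 0), v ≠ kk hg l y hy := fun l y hy e => by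
    obtain ⟨b, hb, hbl⟩ := Finset.exists_mem_ne (show 1 < S.card by omega) l
    obtain ⟨c, hc⟩ := pure_single e hbl
    simp only [f, if_pos hb] at hc
    exact htau_ne_scalar hg hM.two hd0 c hc
  set k := kk hg ⟨0, by omega⟩ d0 hd0 with hkdef
  have hk : k ∈ M := hmarks _ 0
  set y := x * k * x⁻¹ with hy
  have hyM : y ∈ M := M.mul_mem (M.mul_mem hx hk) (M.inv_mem hx)
  have hyW : y ∉ W := fun h => hxW (hM.invol_fusion hN hs hx hd0 hk h)
  have hyy : y * y = 1 := by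
    rw [hy, show x * k * x⁻¹ * (x * k * x⁻¹) = x * (k * k) * x⁻¹ by group, hkdef, kk_sq]; group
  have hclM : Subgroup.closure ({v, y} : Set _) ≤ M := (Subgroup.closure_le _).2 (by
    rintro z (rfl | rfl)
    exacts [hvM, hyM])
  rcases invol_pair_parity hvv hyy with ⟨-, h, hh, e⟩ | ⟨i, hi1, hisq, hiv, hiy, hcases⟩
  · have e' : v = h * x * k * (h * x)⁻¹ := by rw [e, hy]; group
    have hm := M.mul_mem (hclM hh) hx
    have hmW := hM.invol_fusion hN hs hm hd0 hk (by rw [← hkdef, ← e']; exact hvW)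
    obtain ⟨l, w, hw, hlw⟩ := hM.kk_conj_tw hm hmW hd0 hk
    exact hvne l w hw (e'.trans hlw)
  set c := (v * y) ^ i with hc
  have hcM : c ∈ M := M.pow_mem (M.mul_mem hvM hyM) i
  have hcW : c ∈ W := hM.marks_centraliser hN hs (f := f) hfsq hfdet (b := ⟨0, by omega⟩) hd0 (hdd 1)
    (horth 0 1 h01) (hmarks _ 0) (hmarks _ 1) (if_pos (by simp [S])) hcM hiv
  rcases hcases with ⟨-, h, hh, e⟩ | ⟨-, h, hh, e⟩
  · -- the product with the central involution is conjugate to the half turn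
    set z := x⁻¹ * h * x with hz
    have hzM : z ∈ M := M.mul_mem (M.mul_mem (M.inv_mem hx) (hclM hh)) hx
    have e1 : z * k * z⁻¹ = x⁻¹ * c * x * k := by
      calc z * k * z⁻¹ = x⁻¹ * (h * y * h⁻¹) * x := by rw [hz, hy]; group
        _ = x⁻¹ * (c * y) * x := by rw [← e]
        _ = _ := by rw [hy]; group
    set c' := x⁻¹ * c * x with hc'
    have hc'k : c' * k = k * c' := by
      calc c' * k = x⁻¹ * (c * y) * x := by rw [hc', hy]; group
        _ = x⁻¹ * (y * c) * x := by rw [hiy]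
        _ = _ := by rw [hc', hy]; group
    have hzk : z * k * z⁻¹ * k = k * (z * k * z⁻¹) := by rw [e1, ← mul_assoc k, ← hc'k]
    have hzW : z * k * z⁻¹ ∈ W :=
      hM.half_turn_centraliser hN hs (M.mul_mem (M.mul_mem hzM hk) (M.inv_mem hzM)) hd0 hk hzk
    obtain ⟨l, w, hw, hlw⟩ := hM.kk_conj_tw hzM (hM.invol_fusion hN hs hzM hd0 hk hzW) hd0 hk
    have hlM : kk hg l w hw ∈ M := hlw ▸ M.mul_mem (M.mul_mem hzM hk) (M.inv_mem hzM)
    have hce : c' = kk hg l w hw * k := by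
      rw [← hlw, ← hkdef, e1, mul_assoc, hkdef, kk_sq, mul_one]
    by_cases hl : l = ⟨0, by omega⟩
    · subst hl
      have hcm : htau hg w hw * htau hg d0 hd0 = htau hg d0 hd0 * htau hg w hw := by
        refine sl_inj (Nat.succ_pos _) (k := (⟨0, by omega⟩ : Fin (s + 1))) ?_
        rw [← sl_mul, ← sl_mul]
        show kk hg _ w hw * k = k * kk hg _ w hw
        rw [← hlw]
        exact hzk
      have hne' : htau hg w hw ≠ htau hg d0 hd0 := fun e => hi1 (by
        have h1 : c' = 1 := by rw [hce, hkdef, kk, kk, e, sl_mul, htau_sq, sl_one]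
        calc c = x * c' * x⁻¹ := by rw [hc']; group
          _ = 1 := by rw [h1]; group)
      obtain ⟨u, hu, hue⟩ := htau_pair hg hM.two hw hd0 hcm hne'
      have hc'u : c' = kk hg ⟨0, by omega⟩ u hu := by rw [hce, hkdef, kk, kk, kk, sl_mul, hue]
      exact hxW (hM.invol_fusion hN hs hx hu (hc'u ▸ (show c' ∈ M from M.mul_mem (M.mul_mem (M.inv_mem hx) hcM) hx)) (by
        rw [← hc'u, hc', show x * (x⁻¹ * c * x) * x⁻¹ = c by group]; exact hcW))
    obtain ⟨σ, hσp, hσ⟩ := pure_centraliser hM.two hfsq hfdet hcW hiv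
    have hσσ : σ * σ = 1 := (hσp.mul hσp).unique (by omega) ⟨1, by rw [hisq, permGL_one, pureGL_one, one_mul]⟩
    have hσS : ∀ b ∈ S, σ b ∈ S := fun b hb => by
      by_contra hn
      have e1 := hσ b
      simp only [f, if_pos hb, if_neg hn, sl_one] at e1
      exact kk_ne_one hg hM.two b d0 hd0 (conj_eq_one_iff.1 e1)
    obtain ⟨⟨b, hb⟩, hfix⟩ : ∃ b : S, σ b = b := by
      let π : Equiv.Perm S := ⟨fun b => ⟨σ b, hσS b b.2⟩, fun b => ⟨σ b, hσS b b.2⟩,
        fun b => Subtype.ext (Equiv.Perm.ext_iff.1 hσσ b), fun b => Subtype.ext (Equiv.Perm.ext_iff.1 hσσ b)⟩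
      haveI : Fact (Nat.Prime 2) := ⟨Nat.prime_two⟩
      obtain ⟨b, hb⟩ := Equiv.Perm.exists_fixed_point_of_prime (p := 2) (n := 1) (σ := π)
        (by rw [Fintype.card_coe, hS]; decide)
        (Equiv.ext fun b => by rw [pow_one, pow_two]; exact Subtype.ext (Equiv.Perm.ext_iff.1 hσσ b))
      exact ⟨b, congrArg Subtype.val hb⟩
    have e1 := hσ b
    simp only [] at hfix
    rw [hfix] at e1
    simp only [f, if_pos hb] at e1
    have hmb : c * kk hg b d0 hd0 = kk hg b d0 hd0 * c := mul_inv_eq_iff_eq_mul.1 e1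
    set q := x⁻¹ * kk hg b d0 hd0 * x with hq
    have hqM : q ∈ M := M.mul_mem (M.mul_mem (M.inv_mem hx) (hmarks b 0)) hx
    have hqc : q * c' = c' * q := by
      calc q * c' = x⁻¹ * (kk hg b d0 hd0 * c) * x := by rw [hq, hc']; group
        _ = x⁻¹ * (c * kk hg b d0 hd0) * x := by rw [hmb]
        _ = _ := by rw [hq, hc']; group
    have hqW : q ∈ W := hM.pair_centraliser hN hs hl hw hd0 hlM hk hqM (by rw [← hkdef, ← hce]; exact hqc)
    exact hxW (inv_inv x ▸ inv_mem (hM.invol_fusion hN hs (M.inv_mem hx) hd0 (hmarks b 0) (by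
      rw [inv_inv]; exact hqW)))
  · -- the product with the central involution is conjugate to the marks
    have hclc : h ∈ Subgroup.centralizer ({c} : Set (GL (Fin (s + 1) → Ix 0) F)) := by
      refine (Subgroup.closure_le _).2 ?_ hh
      rintro z (rfl | rfl) <;> rw [SetLike.mem_coe, Subgroup.mem_centralizer_singleton_iff]
      exacts [hiv.symm, hiy.symm]
    have hhc := Subgroup.mem_centralizer_singleton_iff.1 hclc
    have hcv : c * v = h⁻¹ * x * k * (h⁻¹ * x)⁻¹ := by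
      calc c * v = c * (h⁻¹ * (h * v * h⁻¹) * h) := by group
        _ = c * (h⁻¹ * c) * (y * h) := by rw [← e]; group
        _ = c * (h⁻¹ * (c * h)) * (h⁻¹ * y * h) := by group
        _ = c * (h⁻¹ * (h * c)) * (h⁻¹ * y * h) := by rw [hhc]
        _ = c * c * (h⁻¹ * y * h) := by group
        _ = h⁻¹ * x * k * (h⁻¹ * x)⁻¹ := by rw [hisq, one_mul, hy]; group
    have hm := M.mul_mem (M.inv_mem (hclM hh)) hx
    have hmW := hM.invol_fusion hN hs hm hd0 hk (by rw [← hkdef, ← hcv]; exact mul_mem hcW hvW)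
    obtain ⟨l, w, hw, hlw⟩ := hM.kk_conj_tw hm hmW hd0 hk
    rw [← hkdef, ← hcv] at hlw
    have hl4 : kk hg l w hw * v = v * kk hg l w hw := by
      rw [← hlw, ← mul_assoc v, ← hiv]
    obtain ⟨σ, hσp, hσ⟩ := pure_centraliser hM.two hfsq hfdet (show kk hg l w hw ∈ W from sl_mem_tw _ _) hl4
    have hσ1 : σ = 1 := hσp.unique (by omega) ⟨Pi.mulSingle l (htau hg w hw), by rw [permGL_one, one_mul]; rfl⟩
    subst hσ1
    have hcomm : htau hg w hw * f l = f l * htau hg w hw := by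
      refine sl_inj (Nat.succ_pos _) (k := l) ?_
      rw [← sl_mul, ← sl_mul]
      exact mul_inv_eq_iff_eq_mul.1 (hσ l)
    set f' := Pi.mulSingle l (htau hg w hw) * f with hf'
    have hf'c : pureGL f' = c := by
      rw [hf', ← pureGL_mul]
      show kk hg l w hw * v = c
      rw [← hlw, mul_assoc, hvv, mul_one]
    have hf'o : ∀ b, b ≠ l → f' b = f b := fun b hb => by simp [hf', Pi.mulSingle_eq_of_ne hb]
    have hf'l : f' l = htau hg w hw * f l := by simp [hf']
    obtain ⟨b, hb, hbl⟩ := Finset.exists_mem_ne (show 1 < S.card by omega) l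
    refine hyW (hM.marks_centraliser hN hs (f := f') (fun j => ?_) (fun j => ?_) (b := b) hd0 (hdd 1)
      (horth 0 1 h01) (hmarks b 0) (hmarks b 1) ?_ hyM (by rw [hf'c]; exact hiy.symm))
    · rcases eq_or_ne j l with rfl | hj
      · rw [hf'l, mul_assoc, ← mul_assoc (f j), ← hcomm, mul_assoc, hfsq, mul_one, htau_sq]
      · rw [hf'o j hj, hfsq]
    · rcases eq_or_ne j l with rfl | hj
      · rw [hf'l, Units.val_mul, Matrix.det_mul, htau_det hg hM.two, hfdet, one_mul]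
      · rw [hf'o j hj, hfdet]
    · rw [hf'o b hbl]; exact if_pos hb

end CfsgLib.Perm.Trans.TensorPowerO
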