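import Mathlib
import Cfsg.Agent.Lib.Perm.Trans.TensorPowerO.Rigid

/-!
# Reflections of one factor of even dimension and the commutator subgroup
-/

set_option autoImplicit false
set_option linter.all false

namespace CfsgLib.Perm.Trans.TensorPowerO

open scoped Matrix
open Matrix Cfsg.Geo CfsgLib.Perm.Asch CfsgLib.Perm.Trans CfsgLib.Perm.Trans.TensorPower
open CfsgLib.Perm.Trans.TensorSO CfsgLib.Perm.Trans.TensorOO

variable {F : Type*} [Field F] {n s t : ℕ} {g : Ix n → F} {hg : Dg g}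

local notation "V1" => Ix n → F
local notation "B1" => bf g (s1 n)

/-- moving an element of one factor to another -/
theorem sl_move (i j : Fin t) (a : GL (Ix n) F) :
    permGL (Equiv.swap j i) * sl j a * (permGL (Equiv.swap j i))⁻¹ = (sl i a : GL (Fin t → Ix n) F) :=
  Units.ext (by rw [← cj_coe, sl_coe, sl_coe, cj_permGL_slot, Equiv.swap_apply_left])

variable [Fintype F]

theorem Om_move {i j : Fin t} {a : GL (Ix n) F} (h : sl j a ∈ Om hg t) : sl i a ∈ Om hg t := by
  rw [← sl_move i j a]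
  exact Om_conj (permGL_mem_uT _) h

/-- embedding the isometries of fewer factors, on abelianisations -/
theorem of_emb_eq {A B : uT hg s} (h : Abelianization.of A = Abelianization.of B) :
    Abelianization.of (⟨embGL 0 (A : GL (Fin s → Ix n) F), embGL_mem_uT 0 A.2⟩ : uT hg (s + 1)) =
      Abelianization.of (⟨embGL 0 (B : GL (Fin s → Ix n) F), embGL_mem_uT 0 B.2⟩ : uT hg (s + 1)) := by
  let φ : uT hg s →* uT hg (s + 1) :=
    ((embGL 0).comp (uT hg s).subtype).codRestrict _ fun A => embGL_mem_uT 0 A.2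
  have e := congrArg (Abelianization.map φ) h
  rw [Abelianization.map_of, Abelianization.map_of] at e
  exact e

/-- the reflection of a single factor as a reflection of a one-factor space -/
theorem sl_refl_one (a : V1) (ha : B1 a a ≠ 0) :
    ∃ (v : (Fin 1 → Ix n) → F) (hv : bf (gT g 1) (sT n 1) v v ≠ 0), bf (gT g 1) (sT n 1) v v = B1 a a ∧
      (rU hg v hv : GL (Fin 1 → Ix n) F) = sl 0 (refl (bf_symmetric hg.wg) a ha) := by
  have hd : dual (gT g 1) (sT n 1) (fun p => a (p 0)) = fun p => dual g (s1 n) a (p 0) := funext fun p => by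
    rw [dual, dual, gT, Fin.prod_univ_one]
    rfl
  have hval : bf (gT g 1) (sT n 1) (fun p => a (p 0)) (fun p => a (p 0)) = B1 a a := by
    rw [bf, bf, hd, dotProduct, dotProduct]
    exact Fintype.sum_equiv (Equiv.funUnique (Fin 1) (Ix n)) _ _ fun p => rfl
  refine ⟨fun p => a (p 0), hval ▸ ha, hval, Units.ext ?_⟩
  rw [rU, rfl_coe hg.wgT, sl_coe, rfl_coe hg.wg, hd, hval]
  ext x y
  rw [slot_apply, if_pos (fun k hk => absurd (Subsingleton.elim k _) hk), Matrix.sub_apply, Matrix.sub_apply,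
    Matrix.smul_apply, Matrix.smul_apply, vecMulVec_apply, vecMulVec_apply, Matrix.one_apply, Matrix.one_apply]
  congr 1
  exact if_congr ⟨fun e => by rw [e], fun e => funext fun k => by rw [Subsingleton.elim k 0]; exact e⟩ rfl rfl

/-- the class of a reflection depends on the value modulo squares -/
theorem exists_cls (h2 : (2 : F) ≠ 0) (ht : 2 ≤ t) : ∃ C : F → Abelianization (uT hg t),
    (∀ c, c ≠ 0 → C c * C c = 1) ∧
    (∀ c c', c ≠ 0 → c' ≠ 0 → IsSquare (c' / c) → C c = C c') ∧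
    ∀ v (hv : bf (gT g t) (sT n t) v v ≠ 0), Abelianization.of (rU hg v hv) = C (bf (gT g t) (sT n t) v v) := by
  classical
  choose v hv using fun c : F => exists_vec hg h2 (show 0 < t by omega) c
  let C : F → Abelianization (uT hg t) := fun c =>
    if h : bf (gT g t) (sT n t) (v c) (v c) ≠ 0 then Abelianization.of (rU hg (v c) h) else 1
  have hC : ∀ c (hc : c ≠ 0), C c = Abelianization.of (rU hg (v c) (by rw [hv]; exact hc)) := fun c hc =>
    dif_pos (by rw [hv]; exact hc)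
  refine ⟨C, fun c hc => by rw [hC c hc, ← map_mul, rU_sq, map_one], fun c c' hc hc' hsq => ?_, fun w hw => ?_⟩
  · rw [hC c hc, hC c' hc']
    refine of_rU_eq h2 ht _ _ ?_
    rwa [hv, hv]
  · rw [hC _ hw]
    refine of_rU_eq h2 ht _ _ ?_
    rw [hv, div_self hw]
    exact IsSquare.one

/-- the product of the classes over the frame does not depend on the scale -/
theorem exists_cls_frame (h2 : (2 : F) ≠ 0) (hn : Even (n + 3)) (ht : 2 ≤ t) {C : F → Abelianization (uT hg t)}
    (hC1 : ∀ c, c ≠ 0 → C c * C c = 1) (hC2 : ∀ c c', c ≠ 0 → c' ≠ 0 → IsSquare (c' / c) → C c = C c') :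
    ∃ P : Abelianization (uT hg t), P * P = 1 ∧ ∀ c, c ≠ 0 → (∏ x : Ix n, C (fg g x * c)) = P := by
  classical
  have hchar : ringChar F ≠ 2 := fun h => h2 (by haveI := ringChar.of_eq h; exact CharTwo.two_eq_zero)
  obtain ⟨ν, hν⟩ := FiniteField.exists_nonsquare (F := F) hchar
  have hν0 : ν ≠ 0 := fun h => hν (h ▸ IsSquare.zero)
  set K := C 1 * C ν with hK
  have hflip : ∀ c, c ≠ 0 → C c * C (c * ν) = K := by
    intro c hc
    by_cases h : IsSquare c
    · rw [← hC2 1 c one_ne_zero hc (by rwa [div_one]),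
        ← hC2 ν (c * ν) hν0 (mul_ne_zero hc hν0) (by rwa [mul_div_assoc, div_self hν0, mul_one])]
    · rw [hC2 c ν hc hν0 (by rw [div_eq_mul_inv]; exact nonsquare_mul h2 hν fun h' => h (isSquare_inv.1 h')),
        ← hC2 1 (c * ν) one_ne_zero (mul_ne_zero hc hν0) (by rw [div_one]; exact nonsquare_mul h2 h hν), mul_comm]
  have hK2 : K * K = 1 := by rw [hK, mul_mul_mul_comm, hC1 1 one_ne_zero, hC1 ν hν0, one_mul]
  have hsq : ∀ c, c ≠ 0 → (∏ x : Ix n, C (fg g x * c)) * ∏ x : Ix n, C (fg g x * c) = 1 := fun c hc => by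
    rw [← Finset.prod_mul_distrib]
    exact Finset.prod_eq_one fun x _ => hC1 _ (mul_ne_zero (fg_ne hg h2 x) hc)
  refine ⟨_, hsq 1 one_ne_zero, fun c hc => ?_⟩
  by_cases h : IsSquare c
  · refine Finset.prod_congr rfl fun x _ => (hC2 _ _ (mul_ne_zero (fg_ne hg h2 x) one_ne_zero)
      (mul_ne_zero (fg_ne hg h2 x) hc) ?_).symm
    rwa [mul_div_mul_left _ _ (fg_ne hg h2 x), div_one]
  · have e : ∏ x : Ix n, C (fg g x * c) = ∏ x : Ix n, C (fg g x * ν) := by
      refine Finset.prod_congr rfl fun x _ => (hC2 _ _ (mul_ne_zero (fg_ne hg h2 x) hν0)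
        (mul_ne_zero (fg_ne hg h2 x) hc) ?_).symm
      rw [mul_div_mul_left _ _ (fg_ne hg h2 x), div_eq_mul_inv]
      exact nonsquare_mul h2 h fun h' => hν (isSquare_inv.1 h')
    have e2 : (∏ x : Ix n, C (fg g x * 1)) * ∏ x : Ix n, C (fg g x * ν) = 1 := by
      rw [← Finset.prod_mul_distrib, Finset.prod_congr rfl (g := fun _ => K) (fun x _ => by
        rw [mul_one]; exact hflip _ (fg_ne hg h2 x)), Finset.prod_const, Finset.card_univ, Fintype.card_fin]
      have : ∀ m, Even m → K ^ m = 1 := by rintro _ ⟨j, rfl⟩; rw [pow_add, ← mul_pow, hK2, one_pow]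
      exact this _ hn
    rw [e, eq_inv_of_mul_eq_one_right e2, inv_eq_of_mul_eq_one_right (hsq 1 one_ne_zero)]

/-- the class of a reflection in the second of two factors -/
theorem of_sl_two (h2 : (2 : F) ≠ 0) (a : V1) (ha : B1 a a ≠ 0) {C : F → Abelianization (uT hg 2)}
    (hC : ∀ v (hv : bf (gT g 2) (sT n 2) v v ≠ 0), Abelianization.of (rU hg v hv) = C (bf (gT g 2) (sT n 2) v v)) :
    Abelianization.of (⟨sl 1 (refl (bf_symmetric hg.wg) a ha), sl_mem_uT 1 (rfl_mem hg.wg a ha)⟩ : uT hg 2) =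
      ∏ x : Ix n, C (fg g x * B1 a a) := by
  obtain ⟨v, hv, hval, he⟩ := sl_refl_one (hg := hg) a ha
  have e1 := of_emb_refl (hg := hg) h2 v hv
  rw [show (⟨sl 1 (refl (bf_symmetric hg.wg) a ha), sl_mem_uT 1 (rfl_mem hg.wg a ha)⟩ : uT hg 2) =
    ⟨embGL 0 (rU hg v hv : GL (Fin 1 → Ix n) F), embGL_mem_uT 0 (rU hg v hv).2⟩ from Subtype.ext (by
      show sl 1 _ = embGL 0 _
      rw [he, embGL_sl]; rfl), e1]
  refine Finset.prod_congr rfl fun x _ => ?_
  rw [hC, fg_tv hg, hval]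

/-- **Theorem.** A product of two reflections in one of two or more factors lies in `Ω`. -/
theorem sl_refl_pair_Om (h2 : (2 : F) ≠ 0) (hn : Even (n + 3)) (ht : 2 ≤ t) (i : Fin t) {a b : V1}
    (ha : B1 a a ≠ 0) (hb : B1 b b ≠ 0) :
    sl i (refl (bf_symmetric hg.wg) a ha * refl (bf_symmetric hg.wg) b hb) ∈ Om hg t := by
  obtain ⟨s, rfl⟩ : ∃ s, t = s + 2 := ⟨t - 2, by omega⟩
  induction s with
  | zero =>
    refine Om_move (j := 1) ?_
    obtain ⟨C, hC1, hC2, hC⟩ := exists_cls (hg := hg) (t := 2) h2 le_rfl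
    obtain ⟨P, hP, hP'⟩ := exists_cls_frame (hg := hg) h2 hn le_rfl hC1 hC2
    have e : Abelianization.of ((⟨sl 1 (refl (bf_symmetric hg.wg) a ha), sl_mem_uT 1 (rfl_mem hg.wg a ha)⟩ : uT hg 2) *
        ⟨sl 1 (refl (bf_symmetric hg.wg) b hb), sl_mem_uT 1 (rfl_mem hg.wg b hb)⟩) = 1 := by
      rw [map_mul, of_sl_two h2 a ha hC, of_sl_two h2 b hb hC, hP' _ ha, hP' _ hb, hP]
    rw [← sl_mul]
    exact of_eq_one e
  | succ s ih =>
    refine Om_move (j := (0 : Fin (s + 1 + 2)).succAbove 0) ?_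
    rw [← embGL_sl]
    exact embGL_mem_Om 0 (ih (by omega) 0)

/-- **Theorem.** A reflection in one of three or more factors lies in `Ω`. -/
theorem sl_refl_Om (h2 : (2 : F) ≠ 0) (hn : Even (n + 3)) (ht : 3 ≤ t) (i : Fin t) {a : V1}
    (ha : B1 a a ≠ 0) : sl i (refl (bf_symmetric hg.wg) a ha) ∈ Om hg t := by
  obtain ⟨s, rfl⟩ : ∃ s, t = s + 3 := ⟨t - 3, by omega⟩
  induction s with
  | zero =>
    refine Om_move (j := (0 : Fin 3).succAbove 1) ?_
    rw [← embGL_sl]
    obtain ⟨C, hC1, hC2, hC⟩ := exists_cls (hg := hg) (t := 3) h2 (by omega)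
    obtain ⟨P, hP, hP'⟩ := exists_cls_frame (hg := hg) h2 hn (by omega) hC1 hC2
    obtain ⟨v, hv, hval, he⟩ := sl_refl_one (hg := hg) a ha
    have hne : ∀ x : Ix n, bf (gT g 2) (sT n 2) (tv 0 (fu n F x) v) (tv 0 (fu n F x) v) ≠ 0 := fun x => by
      rw [fg_tv hg]; exact mul_ne_zero (fg_ne hg h2 x) hv
    let φ : uT hg 2 →* uT hg 3 :=
      ((embGL 0).comp (uT hg 2).subtype).codRestrict _ fun A => embGL_mem_uT 0 A.2
    have e1 := congrArg (Abelianization.map φ) (of_emb_refl (hg := hg) h2 v hv)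
    rw [Abelianization.map_of, map_prod] at e1
    have e3 : Abelianization.of
        (φ ⟨embGL 0 (rU hg v hv : GL (Fin 1 → Ix n) F), embGL_mem_uT 0 (rU hg v hv).2⟩) = 1 := by
      rw [e1, Finset.prod_congr rfl (g := fun _ => P) (fun x _ => ?_), Finset.prod_const, Finset.card_univ,
        Fintype.card_fin]
      · have : ∀ m, Even m → P ^ m = 1 := by rintro _ ⟨j, rfl⟩; rw [pow_add, ← mul_pow, hP, one_pow]
        exact this _ hn
      · rw [Abelianization.map_of]
        refine (of_emb_refl (hg := hg) h2 _ (hne x)).trans ?_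
        rw [Finset.prod_congr rfl (fun y _ => (hC _ _).trans (congrArg C (fg_tv hg _ y)))]
        exact hP' _ (hne x)
    have e4 := of_eq_one e3
    change embGL 0 (embGL 0 (rU hg v hv : GL (Fin 1 → Ix n) F)) ∈ Om hg 3 at e4
    rw [he, embGL_sl] at e4
    exact e4
  | succ s ih =>
    refine Om_move (j := (0 : Fin (s + 1 + 3)).succAbove 0) ?_
    rw [← embGL_sl]
    exact embGL_mem_Om 0 (ih (by omega) 0)

variable {M : Subgroup (GL (Fin (s + 1) → Ix n) F)} (hM : Ctx hg M) (hn : Even (n + 3))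
include hM hn

/-- products of two reflections in one factor are members -/
theorem Ctx.rr_mem (i : Fin (s + 1)) {a b : V1} (ha : B1 a a ≠ 0) (hb : B1 b b ≠ 0) :
    sl i (refl (bf_symmetric hg.wg) a ha * refl (bf_symmetric hg.wg) b hb) ∈ M :=
  hM.mem ⟨sl_mem_tw _ _, sl_refl_pair_Om hM.two hn hM.ht i ha hb⟩

/-- reflections in two factors are members -/
theorem Ctx.pp_mem {i j : Fin (s + 1)} (hij : i ≠ j) {a b : V1} (ha : B1 a a ≠ 0) (hb : B1 b b ≠ 0) :
    sl i (refl (bf_symmetric hg.wg) a ha) * sl j (refl (bf_symmetric hg.wg) b hb) ∈ M := by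
  have e : sl i (refl (bf_symmetric hg.wg) a ha) * sl j (refl (bf_symmetric hg.wg) b hb) =
      sl i (refl (bf_symmetric hg.wg) a ha) * sl j (refl (bf_symmetric hg.wg) a ha)⁻¹ *
        sl j (refl (bf_symmetric hg.wg) a ha * refl (bf_symmetric hg.wg) b hb) := by
    rw [mul_assoc, sl_mul, inv_mul_cancel_left]
  rw [e]
  exact M.mul_mem (hM.pair_mem hij (rfl_mem hg.wg a ha)) (hM.rr_mem hn j ha hb)

end CfsgLib.Perm.Trans.TensorPowerO
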