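import Mathlib
import Cfsg.Agent.Lib.Perm.Trans.TensorPowerO.BigRoot

/-!
# Normalisers of the base group for factors of dimension at least five
-/

set_option autoImplicit false
set_option linter.all false

namespace CfsgLib.Perm.Trans.TensorPowerO

open scoped Matrix
open Matrix Cfsg.Geo CfsgLib.Perm.Asch CfsgLib.Perm.Trans CfsgLib.Perm.Trans.TensorPower
open CfsgLib.Perm.Trans.TensorSO CfsgLib.Perm.Trans.TensorOO

variable {F : Type*} [Field F] {n : ℕ} {g : Ix n → F}

local notation "M1" => Matrix (Ix n) (Ix n) F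
local notation "V1" => Ix n → F
local notation "B1" => bf g (s1 n)

theorem Sing2.span_orth (hg : Dg g) {a b v w : V1} (h : Sing2 g a b)
    (hv : v ∈ Submodule.span F ({a, b} : Set V1)) (hw : w ∈ Submodule.span F ({a, b} : Set V1)) : B1 v w = 0 := by
  obtain ⟨p, q, rfl⟩ := Submodule.mem_span_pair.1 hv
  obtain ⟨p', q', rfl⟩ := Submodule.mem_span_pair.1 hw
  simp only [bf_add_left, bf_add_right, bf_smul_left, bf_smul_right, h.left, h.right, h.orth, bf_comm hg.wg b a,
    mul_zero, add_zero]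

/-- with a singular vector, its non-orthogonal singular vectors span everything -/
theorem singular_span (hg : Dg g) (h2 : (2 : F) ≠ 0) {a : V1} (ha : a ≠ 0) (haa : B1 a a = 0) (W : Submodule F V1)
    (haW : a ∈ W) (hW : ∀ v, B1 v v = 0 → B1 v a ≠ 0 → v ∈ W) : W = ⊤ := by
  have hs := bf_symmetric hg.wg
  obtain ⟨c, -, hcc, hca⟩ := nd_partner hs h2 (nd_top hs) (Submodule.mem_top (x := a)) ha haa
  have hcW : c ∈ W := hW c hcc (by rw [hca]; exact one_ne_zero)
  refine Submodule.eq_top_iff'.2 fun u => ?_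
  set w := u - B1 u c • a - B1 u a • c with hw
  have hwa : B1 w a = 0 := by
    simp only [hw, Orth.sym_sub_left hs, bf_smul_left, haa, hca]; ring
  have hwc : B1 w c = 0 := by
    simp only [hw, Orth.sym_sub_left hs, bf_smul_left, hcc, bf_comm hg.wg a c, hca]; ring
  have h1 : c + w - (B1 w w / 2) • a ∈ W := by
    refine hW _ ?_ ?_
    · simp only [bf_add_left, bf_add_right, Orth.sym_sub_left hs, Orth.sym_sub_right hs, bf_smul_left, bf_smul_right,
        hcc, hca, haa, hwa, hwc, bf_comm hg.wg a c, bf_comm hg.wg c w, bf_comm hg.wg a w]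
      field_simp
      ring
    · simp only [bf_add_left, Orth.sym_sub_left hs, bf_smul_left, hca, hwa, haa]
      norm_num
  rw [show u = (c + w - (B1 w w / 2) • a) + (B1 u a - 1) • c + (B1 u c + B1 w w / 2) • a by rw [hw]; module]
  exact W.add_mem (W.add_mem h1 (W.smul_mem _ hcW)) (W.smul_mem _ haW)

/-- singular vectors orthogonal to a singular vector and to a partner of it -/
theorem exists_tail [Finite F] (hg : Dg g) (h2 : (2 : F) ≠ 0) (hn : 2 ≤ n) {a c : V1} (haa : B1 a a = 0)
    (hcc : B1 c c = 0) (hca : B1 c a = 1) :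
    ∃ p r e : V1, (B1 p p = 0 ∧ B1 p a = 0 ∧ B1 p c = 0) ∧ (B1 r r = 0 ∧ B1 r a = 0 ∧ B1 r c = 0) ∧
      (B1 e e = 0 ∧ B1 e a = 0 ∧ B1 e c = 0) ∧ B1 r p = 1 ∧ B1 e p ≠ 0 ∧ B1 e r ≠ 0 := by
  have hs := bf_symmetric hg.wg
  set P2 := perp hs (perp hs ⊤ a) c with hP2
  have hnd : Nd B1 P2 := nd_perp_pair hs (nd_top hs) trivial trivial haa hcc hca
  have hfr := pair_finrank hs (⊤ : Submodule F V1) a c
  rw [top_finrank hs, Fintype.card_fin, ← hP2] at hfr
  obtain ⟨p, hp, hp0, hpp⟩ := nd_singular hs h2 hnd (by omega)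
  obtain ⟨r, hr, hrr, hrp⟩ := nd_partner hs h2 hnd hp hp0 hpp
  have hnd' := nd_perp_pair hs hnd hp hr hpp hrr hrp
  have hfr' := pair_finrank hs P2 p r
  obtain ⟨w, hw, hww⟩ := nd_aniso hs h2 hnd' (by omega)
  have hwr : B1 w r = 0 := hw.2
  have hwp : B1 w p = 0 := hw.1.2
  have mem : ∀ v ∈ P2, B1 v a = 0 ∧ B1 v c = 0 := fun v hv => ⟨hv.1.2, hv.2⟩
  refine ⟨p, r, r + w - (B1 w w / 2) • p, ⟨hpp, mem p hp⟩, ⟨hrr, mem r hr⟩,
    ⟨?_, mem _ (P2.sub_mem (P2.add_mem hr hw.1.1) (P2.smul_mem _ hp))⟩, hrp, ?_, ?_⟩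
  · simp only [bf_add_left, bf_add_right, Orth.sym_sub_left hs, Orth.sym_sub_right hs, bf_smul_left, bf_smul_right,
      hrr, hrp, hpp, hwr, hwp, bf_comm hg.wg p r, bf_comm hg.wg r w, bf_comm hg.wg p w]
    field_simp
    ring
  · simp only [bf_add_left, Orth.sym_sub_left hs, bf_smul_left, hrp, hwp, hpp]
    norm_num
  · simp only [bf_add_left, Orth.sym_sub_left hs, bf_smul_left, hrr, hwr, bf_comm hg.wg p r, hrp]
    rw [mul_one, add_zero, zero_sub, neg_ne_zero]
    exact div_ne_zero hww h2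

/-- two singular vectors from a hyperbolic pair and its orthogonal form a plane -/
theorem sing2_pair (hg : Dg g) {a c d : V1} (hca : B1 c a = 1) (hcc : B1 c c = 0) (hdd : B1 d d = 0)
    (hda : B1 d a = 0) (hdc : B1 d c = 0) (hd : d ≠ 0) : Sing2 g c d :=
  ⟨hcc, hdd, by rw [bf_comm hg.wg]; exact hdc, LinearIndependent.pair_iff.2 fun α β e => by
    have hα : α = 0 := by
      have := congrArg (fun v => B1 v a) e
      simpa [bf_add_left, bf_smul_left, hca, hda, Orth.sym_zero_left (bf_symmetric hg.wg)] using this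
    rw [hα, zero_smul, zero_add] at e
    exact ⟨hα, (smul_eq_zero.1 e).resolve_right hd⟩⟩

/-- a totally singular plane disjoint from two planes meeting in a point -/
theorem exists_third [Finite F] (hg : Dg g) (h2 : (2 : F) ≠ 0) (hn : 2 ≤ n) {a b a' b' u : V1} (h : Sing2 g a b)
    (h' : Sing2 g a' b') (hu : u ∈ Submodule.span F ({a, b} : Set V1))
    (hu' : u ∈ Submodule.span F ({a', b'} : Set V1)) (hu0 : u ≠ 0) :
    ∃ c d : V1, Sing2 g c d ∧
      (∀ v ∈ Submodule.span F ({a, b} : Set V1), v ∈ Submodule.span F ({c, d} : Set V1) → v = 0) ∧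
      ∀ v ∈ Submodule.span F ({c, d} : Set V1), v ∈ Submodule.span F ({a', b'} : Set V1) → v = 0 := by
  classical
  have hs := bf_symmetric hg.wg
  have huu := h.span_sing hg hu
  obtain ⟨c, -, hcc, hcu⟩ := nd_partner hs h2 (nd_top hs) (Submodule.mem_top (x := u)) hu0 huu
  obtain ⟨p, r, e, hp, hr, he, hrp, hep, her⟩ := exists_tail hg h2 hn huu hcc hcu
  set P := Submodule.span F ({a, b} : Set V1)
  set Q := Submodule.span F ({a', b'} : Set V1)
  have hP : ∀ x ∈ P, ∀ y ∈ P, B1 x y = 0 := fun x hx y hy => h.span_orth hg hx hy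
  have hQ : ∀ x ∈ Q, ∀ y ∈ Q, B1 x y = 0 := fun x hx y hy => h'.span_orth hg hx hy
  obtain ⟨d, ⟨hdd, hdu, hdc⟩, hdP, hdQ⟩ :
      ∃ d, (B1 d d = 0 ∧ B1 d u = 0 ∧ B1 d c = 0) ∧ d ∉ P ∧ d ∉ Q := by
    by_contra hcon
    push Not at hcon
    have h1 := hcon p hp
    have h3 := hcon r hr
    have h4 := hcon e he
    have one : (1 : F) ≠ 0 := one_ne_zero
    by_cases hpP : p ∈ P
    · by_cases hrP : r ∈ P
      · exact one (hrp ▸ hP r hrP p hpP)
      by_cases heP : e ∈ P
      · exact hep (hP e heP p hpP)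
      exact her (hQ e (h4 heP) r (h3 hrP))
    · by_cases hrP : r ∈ P
      · by_cases heP : e ∈ P
        · exact her (hP e heP r hrP)
        exact hep (hQ e (h4 heP) p (h1 hpP))
      exact one (hrp ▸ hQ r (h3 hrP) p (h1 hpP))
  have hd0 : d ≠ 0 := fun e' => hdP (e' ▸ P.zero_mem)
  have key : ∀ {R : Submodule F V1}, (∀ x ∈ R, ∀ y ∈ R, B1 x y = 0) → u ∈ R → d ∉ R →
      ∀ v ∈ R, v ∈ Submodule.span F ({c, d} : Set V1) → v = 0 := by
    intro R hR huR hdR v hv hv'
    obtain ⟨α, β, rfl⟩ := Submodule.mem_span_pair.1 hv'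
    have hα : α = 0 := by
      have := hR _ hv u huR
      rwa [bf_add_left, bf_smul_left, bf_smul_left, hcu, hdu, mul_one, mul_zero, add_zero] at this
    rw [hα, zero_smul, zero_add] at hv ⊢
    by_cases hβ : β = 0
    · rw [hβ, zero_smul]
    · exact absurd ((R.smul_mem_iff hβ).1 hv) hdR
  exact ⟨c, d, sing2_pair hg hcu hcc hdd hdu hdc hd0, key hP hu hdP, fun v hv hv' => key hQ hu' hdQ v hv' hv⟩

section Norm

variable [Fintype F] {s : ℕ}

local notation "MT" => Matrix (Fin s → Ix n) (Fin s → Ix n) F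

/-- a normalising element sends the element of a plane into one factor -/
theorem big_image (hg : Dg g) (h2 : (2 : F) ≠ 0) (ht : 2 ≤ s) {C : GL (Fin s → Ix n) F}
    (hC : ∀ x ∈ tensorWreathStandard (n + 3) s F ⊓ Om hg s, C * x * C⁻¹ ∈ tensorWreathStandard (n + 3) s F)
    (i : Fin s) {a b : V1} (h : Sing2 g a b) :
    ∃ (l : Fin s) (D' : M1), D' ≠ 0 ∧ cj C (slot i (bigD g a b) : MT) = slot l D' := by
  haveI : Nonempty (Ix n) := ⟨0⟩
  have hr : (sl i (bigU hg h) : MT) - 1 = slot i (bigD g a b) := by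
    rw [sl_coe, bigU_coe, TensorPower.slot_add, TensorPower.slot_one, add_sub_cancel_left]
  have hsq : (slot i (bigD g a b) : MT) * slot i (bigD g a b) = 0 := by
    rw [slot_mul, h.sq hg, TensorPower.slot_zero]
  have hm := hC (sl i (bigU hg h)) ⟨sl_mem_tw _ _, unip_mem h2 ht (sl_mem_uT i (bigU_mem hg h))
    (by rw [hr, pow_succ, pow_two, hsq, zero_mul])⟩
  have he : ((C * sl i (bigU hg h) * C⁻¹ : GL (Fin s → Ix n) F) : MT) - 1 = cj C (slot i (bigD g a b)) := by
    rw [← cj_coe, ← hr, cj_sub, cj_one]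
  obtain ⟨l, v, hv⟩ := quad_wreath (m := n + 3) (by omega) (by omega) h2 hm (by
    rw [he, ← cj_mul, hsq, TensorPower.cj_zero])
  have e : cj C (slot i (bigD g a b) : MT) = slot l ((v : M1) - 1) := by
    rw [← he, hv, sl_coe, TensorPower.slot_sub, TensorPower.slot_one]
  refine ⟨l, _, fun e0 => ?_, e⟩
  rw [e0, TensorPower.slot_zero, ← TensorPower.cj_zero C] at e
  exact h.ne_zero hg (slot_injective i ((cj_injective C e).trans (TensorPower.slot_zero i).symm))

/-- **Theorem.** A normalising element of the isometries of the base group lies in the wreath subgroup. -/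
theorem normTw_big (hg : Dg g) (h2 : (2 : F) ≠ 0) (hn : 2 ≤ n) (hs : 1 ≤ s) : NormTw hg s := by
  classical
  intro C μ _ _ hC
  by_cases h1 : s = 1
  · subst h1; exact mem_tw_one C
  have ht : 2 ≤ s := by omega
  haveI : Nonempty (Ix n) := ⟨0⟩
  choose L f hf0 hf using fun i a b h => big_image hg h2 ht hC i (a := a) (b := b) h
  have disj : ∀ i {a b a' b' : V1} (h : Sing2 g a b) (h' : Sing2 g a' b'),
      (∀ v ∈ Submodule.span F ({a, b} : Set V1), v ∈ Submodule.span F ({a', b'} : Set V1) → v = 0) →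
      L i a b h = L i a' b' h' := by
    intro i a b a' b' h h' hd
    by_contra hne
    have hc : bigD g a b * bigD g a' b' = bigD g a' b' * bigD g a b := slot_injective i (cj_injective C (by
      rw [← slot_mul, ← slot_mul, cj_mul, cj_mul, hf _ _ _ h, hf _ _ _ h', slot_comm hne]))
    refine hf0 i a' b' h' (slot_injective (L i a' b' h') ?_)
    rw [TensorPower.slot_zero]
    refine slot_zero_prod (i := L i a b h) (X := f i a b h) (fun x y => slot_comm hne _ _) ?_ (hf0 i a b h)
    rw [← hf, ← hf, ← cj_mul, slot_mul, show bigD g a b * bigD g a' b' = 0 from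
      Matrix.ext_iff_mulVec.2 fun x => ?_, TensorPower.slot_zero, TensorPower.cj_zero]
    rw [zero_mulVec]
    refine hd _ ?_ ?_
    · rw [← mulVec_mulVec]; exact Sing2.range a b _
    · rw [hc, ← mulVec_mulVec]; exact Sing2.range a' b' _
  have same : ∀ i {a b a' b' : V1} (h : Sing2 g a b) (h' : Sing2 g a' b'), L i a b h = L i a' b' h' := by
    intro i a b a' b' h h'
    by_cases hd : ∀ v ∈ Submodule.span F ({a, b} : Set V1), v ∈ Submodule.span F ({a', b'} : Set V1) → v = 0
    · exact disj i h h' hd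
    push Not at hd
    obtain ⟨u, hu, hu', hu0⟩ := hd
    obtain ⟨c, d, hcd, hd1, hd2⟩ := exists_third hg h2 hn h h' hu hu' hu0
    exact (disj i h hcd hd1).trans (disj i hcd h' hd2)
  obtain ⟨b0, -, hb0, -⟩ := exists_std hg h2 hn
  set π : Fin s → Fin s := fun i => L i _ _ hb0 with hπ
  let 𝔄 : Fin s → Submodule F M1 := fun i =>
    { carrier := {X | ∃ X', cj C (slot i X : MT) = slot (π i) X'}
      zero_mem' := ⟨0, by rw [TensorPower.slot_zero, TensorPower.cj_zero, TensorPower.slot_zero]⟩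
      add_mem' := by
        rintro X Y ⟨X', hX⟩ ⟨Y', hY⟩
        exact ⟨X' + Y', by rw [TensorPower.slot_add, cj_add, hX, hY, TensorPower.slot_add]⟩
      smul_mem' := by
        rintro c X ⟨X', hX⟩
        exact ⟨c • X', by rw [TensorPower.slot_smul, cj_smul, hX, TensorPower.slot_smul]⟩ }
  have hmul : ∀ i {X Y}, X ∈ 𝔄 i → Y ∈ 𝔄 i → X * Y ∈ 𝔄 i := by
    rintro i X Y ⟨X', hX⟩ ⟨Y', hY⟩
    exact ⟨X' * Y', by rw [← slot_mul, cj_mul, hX, hY, slot_mul]⟩
  have hD : ∀ i {a b} (h : Sing2 g a b), bigD g a b ∈ 𝔄 i := fun i a b h =>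
    ⟨f i a b h, by rw [hf i a b h, same i h hb0]⟩
  have hs := bf_symmetric hg.wg
  have h11 : ∀ i (a : V1), B1 a a = 0 → vecMulVec a (dual g (s1 n) a) ∈ 𝔄 i := by
    intro i a haa
    by_cases ha : a = 0
    · rw [ha, show vecMulVec (0 : V1) (dual g (s1 n) 0) = 0 by ext; simp [vecMulVec_apply]]
      exact (𝔄 i).zero_mem
    obtain ⟨c, -, hcc, hca⟩ := nd_partner hs h2 (nd_top hs) (Submodule.mem_top (x := a)) ha haa
    obtain ⟨p, r, e, ⟨hpp, hpa, hpc⟩, ⟨hrr, hra, hrc⟩, -, hrp, -⟩ := exists_tail hg h2 hn haa hcc hca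
    have hp0 : p ≠ 0 := fun e' => by rw [e', Orth.sym_zero_right hs] at hrp; exact zero_ne_one hrp
    have hr0 : r ≠ 0 := fun e' => by rw [e', Orth.sym_zero_left hs] at hrp; exact zero_ne_one hrp
    have hA : Sing2 g a p := sing2_pair hg (a := c) (by rw [bf_comm hg.wg]; exact hca) haa hpp hpc hpa hp0
    have hB : Sing2 g r a := (sing2_pair hg (a := c) (by rw [bf_comm hg.wg]; exact hca) haa hrr hrc hra hr0).swap hg
    have e' : bigD g a p * bigD g r a = vecMulVec a (dual g (s1 n) a) :=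
      Matrix.ext_iff_mulVec.2 fun x => by
        rw [← mulVec_mulVec, bigD_mulVec, bigD_mulVec, vecMulVec_mulVec, op_smul_eq_smul,
          Orth.sym_sub_right hs, Orth.sym_sub_right hs, bf_smul_right, bf_smul_right, bf_smul_right, bf_smul_right,
          bf_comm hg.wg p r, hrp, bf_comm hg.wg a r, hra, hpa, haa]
        show _ = B1 a x • a
        module
    exact e' ▸ hmul i (hD i hA) (hD i hB)
  have h12 : ∀ i (a v : V1), B1 a a = 0 → vecMulVec a (dual g (s1 n) v) ∈ 𝔄 i := by
    intro i a v haa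
    by_cases ha : a = 0
    · rw [ha, show vecMulVec (0 : V1) (dual g (s1 n) v) = 0 by ext; simp [vecMulVec_apply]]
      exact (𝔄 i).zero_mem
    let W : Submodule F V1 :=
      { carrier := {v | vecMulVec a (dual g (s1 n) v) ∈ 𝔄 i}
        zero_mem' := by
          show _ ∈ 𝔄 i
          rw [dual_zero, show vecMulVec a (0 : V1) = 0 by ext; simp [vecMulVec_apply]]
          exact (𝔄 i).zero_mem
        add_mem' := by
          intro v w hv hw
          show _ ∈ 𝔄 i
          rw [dual_add, vecMulVec_add]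
          exact (𝔄 i).add_mem hv hw
        smul_mem' := by
          intro c v hv
          show _ ∈ 𝔄 i
          rw [dual_smul, vecMulVec_smul]
          exact (𝔄 i).smul_mem c hv }
    have hWt : W = ⊤ := singular_span hg h2 ha haa W (h11 i a haa) fun v hvv hva => by
      show _ ∈ 𝔄 i
      have := hmul i (h11 i a haa) (h11 i v hvv)
      rw [vecMulVec_mul_vecMulVec, vecMulVec_smul] at this
      have e' := (𝔄 i).smul_mem (B1 v a)⁻¹ this
      rwa [smul_smul, show dual g (s1 n) a ⬝ᵥ v = B1 v a from bf_comm hg.wg a v,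
        inv_mul_cancel₀ hva, one_smul] at e'
    exact (hWt ▸ Submodule.mem_top : v ∈ W)
  have htop : ∀ i (u v : V1), vecMulVec u (dual g (s1 n) v) ∈ 𝔄 i := by
    intro i u v
    let W : Submodule F V1 :=
      { carrier := {u | vecMulVec u (dual g (s1 n) v) ∈ 𝔄 i}
        zero_mem' := by
          show _ ∈ 𝔄 i
          rw [zero_vecMulVec]
          exact (𝔄 i).zero_mem
        add_mem' := by
          intro u w hu hw
          show _ ∈ 𝔄 i
          rw [add_vecMulVec]
          exact (𝔄 i).add_mem hu hw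
        smul_mem' := by
          intro c u hu
          show _ ∈ 𝔄 i
          rw [smul_vecMulVec]
          exact (𝔄 i).smul_mem c hu }
    have he : B1 (Pi.single 0 1) (Pi.single 0 1) = 0 := hb0.left
    have hWt : W = ⊤ := singular_span hg h2 (LinearIndependent.ne_zero 0 hb0.li) he W (h12 i _ v he)
      fun w hw _ => h12 i w v hw
    exact (hWt ▸ Submodule.mem_top : u ∈ W)
  have hall : ∀ i (X : M1), X ∈ 𝔄 i := by
    intro i X
    rw [Matrix.matrix_eq_sum_single X]
    refine Submodule.sum_mem _ fun x _ => Submodule.sum_mem _ fun y _ => ?_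
    rw [show Matrix.single x y (X x y) = X x y • vecMulVec (Pi.single x (1 : F))
        (dual g (s1 n) (Pi.single (s1 n y) (g (s1 n y))⁻¹)) by
      rw [dual_single hg.wg, s1_inv, mul_inv_cancel₀ (hg.nz _), ← Matrix.single_eq_single_vecMulVec_single]
      simp]
    exact (𝔄 i).smul_mem _ (htop i _ _)
  choose φ hφ using hall
  have hinj : Function.Injective π := by
    intro i j hij
    by_contra hne
    have hlin : Function.Injective (φ i) := fun X Y e => slot_injective i (cj_injective C (by rw [hφ, hφ, e]))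
    let l : M1 →ₗ[F] M1 :=
      { toFun := φ i
        map_add' := fun X Y => slot_injective (π i) (by
          rw [← hφ, TensorPower.slot_add, cj_add, hφ, hφ, TensorPower.slot_add])
        map_smul' := fun c X => slot_injective (π i) (by
          rw [RingHom.id_apply, ← hφ, TensorPower.slot_smul, cj_smul, hφ, TensorPower.slot_smul]) }
    obtain ⟨X, hX⟩ := LinearMap.surjective_of_injective (f := l) hlin (φ j (bigD g (Pi.single 0 1) b0))
    have e : (slot i X : MT) = slot j (bigD g (Pi.single 0 1) b0) := cj_injective C (by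
      rw [hφ, hφ, hij]; exact congrArg _ hX)
    obtain ⟨c, hc⟩ := scalar_of_slot_eq (by omega) (Ne.symm hne) e.symm
    have h0 : c = 0 := by
      have := hb0.sq hg
      rw [hc, Matrix.smul_mul, one_mul, smul_smul] at this
      simpa using congrFun (congrFun this 0) 0
    exact hb0.ne_zero hg (by rw [hc, h0, zero_smul])
  exact tw_of_slots (by omega) (by omega) (Equiv.ofBijective π (Finite.injective_iff_bijective.1 hinj))
    fun i a b => ⟨φ i (Matrix.single a b 1), hφ i _⟩

end Norm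

end CfsgLib.Perm.Trans.TensorPowerO
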