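import Mathlib
import Cfsg.Agent.Lib.Perm.Trans.TensorPowerO.K4Omega
import Cfsg.Agent.Lib.Perm.Trans.TensorPowerO.NormBig
import Cfsg.Agent.Lib.Perm.Trans.TensorPowerO.K3Slice
import Cfsg.Agent.Lib.Perm.Trans.TensorPowerO.Slices
import Cfsg.Agent.Lib.Perm.Trans.TensorOO.Coprime
import Cfsg.Agent.Lib.Perm.Trans.TensorOO.EvenTools

/-!
# Four-dimensional factors of minus type: unipotent elements
-/

set_option autoImplicit false
set_option linter.all false

namespace CfsgLib.Perm.Trans.TensorPowerO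

open scoped Matrix
open Matrix Cfsg.Geo CfsgLib.Perm.Asch CfsgLib.Perm.Trans CfsgLib.Perm.Trans.TensorPower
open CfsgLib.Perm.Trans.TensorSO CfsgLib.Perm.Trans.TensorOO

section Dihedral

variable {G : Type*} [Group G] [Finite G]

/-- **Lemma.** Two involutions are conjugate in the group they generate or centralise an involution of it. -/
theorem dihedral_cases {a y : G} (ha : a * a = 1) (hy : y * y = 1) :
    (∃ h ∈ Subgroup.closure ({a, y} : Set G), y = h * a * h⁻¹) ∨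
      ∃ (c : G) (i : ℕ), c = (a * y) ^ i ∧ c ∈ Subgroup.closure ({a, y} : Set G) ∧ c ≠ 1 ∧ c * c = 1 ∧
        c * a = a * c ∧ c * y = y * c ∧
        ((Even i ∧ ∃ h ∈ Subgroup.closure ({a, y} : Set G), h * a * h⁻¹ = c * a ∧ h * y * h⁻¹ = c * y ∧ h * h = c ∧
            ∃ k ∈ Subgroup.closure ({a, y} : Set G), h * a = k * a * k⁻¹ ∨ h * a = k * y * k⁻¹) ∨
          (Odd i ∧ (∃ h ∈ Subgroup.closure ({a, y} : Set G), h * y * h⁻¹ = c * a) ∧
            ∃ h ∈ Subgroup.closure ({a, y} : Set G), h * a * h⁻¹ = c * y)) := by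
  obtain ⟨u, hu⟩ : ∃ u, u = a * y := ⟨_, rfl⟩
  have humem : u ∈ Subgroup.closure ({a, y} : Set G) :=
    hu ▸ mul_mem (Subgroup.subset_closure (Set.mem_insert _ _))
      (Subgroup.subset_closure (Set.mem_insert_of_mem _ rfl))
  have hai : a⁻¹ = a := inv_eq_of_mul_eq_one_right ha
  have hyi : y⁻¹ = y := inv_eq_of_mul_eq_one_right hy
  have hua : a * u * a = u⁻¹ := by
    rw [hu, _root_.mul_inv_rev, hai, hyi, ← mul_assoc, ha, one_mul]
  have hpow : ∀ k : ℕ, a * (u ^ k)⁻¹ = u ^ k * a := fun k => by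
    induction k with
    | zero => simp
    | succ k ih =>
      calc a * (u ^ (k + 1))⁻¹ = a * (u ^ k)⁻¹ * u⁻¹ := by rw [pow_succ', _root_.mul_inv_rev, mul_assoc]
        _ = u ^ k * (a * (a * u * a)) := by rw [ih, hua, mul_assoc]
        _ = u ^ k * (a * a) * (u * a) := by group
        _ = _ := by rw [ha, mul_one, pow_succ, mul_assoc]
  have hconj : ∀ k : ℕ, u ^ k * a * (u ^ k)⁻¹ = u ^ (k + k) * a := fun k => by
    rw [mul_assoc, hpow, ← mul_assoc, ← pow_add]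
  have hy' : y = a * u := by rw [hu, ← mul_assoc, ha, one_mul]
  have hconjy : ∀ k : ℕ, u ^ k * y * (u ^ k)⁻¹ = u ^ (k + k) * y := fun k => by
    calc u ^ k * y * (u ^ k)⁻¹ = u ^ k * a * (u * (u ^ k)⁻¹) := by rw [hy']; group
      _ = u ^ k * a * ((u ^ k)⁻¹ * u) := by rw [(Commute.refl u).pow_right k |>.inv_right.eq]
      _ = u ^ k * a * (u ^ k)⁻¹ * u := by group
      _ = _ := by rw [hconj, hy', mul_assoc]
  have hpos := orderOf_pos u
  rcases Nat.even_or_odd' (orderOf u) with ⟨i, hi | hi⟩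
  · right
    have hsq : u ^ i * u ^ i = 1 := by rw [← pow_add, ← two_mul, ← hi, pow_orderOf_eq_one]
    have hni : (u ^ i)⁻¹ = u ^ i := inv_eq_of_mul_eq_one_right hsq
    have hca : u ^ i * a = a * u ^ i := by rw [← hpow, hni]
    refine ⟨u ^ i, i, by rw [hu], pow_mem humem i, fun h => ?_, hsq, hca, ?_, ?_⟩
    · have := Nat.le_of_dvd (by omega) (orderOf_dvd_of_pow_eq_one h)
      omega
    · rw [hy', ← mul_assoc, hca, mul_assoc, ← pow_succ, pow_succ', ← mul_assoc]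
    rcases Nat.even_or_odd' i with ⟨k, hk | hk⟩
    · refine Or.inl ⟨⟨k, by omega⟩, u ^ k, pow_mem humem k, ?_, ?_, ?_, ?_⟩
      · rw [hconj, hk, two_mul]
      · rw [hconjy, hk, two_mul]
      · rw [← pow_add, hk, two_mul]
      · rcases Nat.even_or_odd' k with ⟨r, hr | hr⟩
        · exact ⟨u ^ r, pow_mem humem r, Or.inl (by rw [hconj, hr, two_mul])⟩
        · refine ⟨u ^ (r + 1), pow_mem humem _, Or.inr ?_⟩
          rw [hconjy, show r + 1 + (r + 1) = k + 1 by omega, pow_succ, mul_assoc _ u y, hu, mul_assoc a y y, hy,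
            mul_one]
    · refine Or.inr ⟨⟨k, hk⟩, ⟨u ^ (k + 1), pow_mem humem _, ?_⟩, u ^ k, pow_mem humem k, ?_⟩
      · rw [hconjy, show k + 1 + (k + 1) = i + 1 by omega, pow_succ, mul_assoc, hu, mul_assoc, hy, mul_one]
      · rw [hconj, show i = k + k + 1 by omega, pow_succ _ (k + k), mul_assoc, hu, mul_assoc, hy, mul_one]
  · left
    refine ⟨u ^ i, pow_mem humem i, ?_⟩
    have h1 : u ^ (i + i) = u⁻¹ := eq_inv_of_mul_eq_one_left (by
      rw [← pow_succ, show i + i + 1 = orderOf u by omega, pow_orderOf_eq_one])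
    rw [hconj, h1, hu, _root_.mul_inv_rev, hyi, hai, mul_assoc, ha, mul_one]

end Dihedral

/-- no totally singular plane -/
def Minus {F : Type*} [Field F] (g : Ix 1 → F) : Prop :=
  ∀ a b : Ix 1 → F, a ≠ 0 → bf g (s1 1) a a = 0 → bf g (s1 1) b b = 0 → bf g (s1 1) a b = 0 → ∃ c : F, b = c • a

variable {F : Type*} [Field F] {g : Ix 1 → F} {hg : Dg g}

local notation "M1" => Matrix (Ix 1) (Ix 1) F
local notation "V1" => Ix 1 → F
local notation "B1" => bf g (s1 1)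

/-- the unipotent element of a singular vector and a vector orthogonal to it -/
noncomputable def ei (hg : Dg g) (a m : Ix 1 → F) : GL (Ix 1) F := eic (bf_symmetric hg.wg) a m

section Unipotent

variable (h2 : (2 : F) ≠ 0)
include h2

theorem ei_mulVec {a m : V1} (haa : B1 a a = 0) (ham : B1 a m = 0) (x : V1) :
    (ei hg a m : M1) *ᵥ x = x + B1 x a • m - B1 x m • a - (B1 m m / 2 * B1 x a) • a :=
  eic_mulVec (bf_symmetric hg.wg) h2 haa ham x

theorem ei_mem {a m : V1} (haa : B1 a a = 0) (ham : B1 a m = 0) : ei hg a m ∈ u1 hg :=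
  mem_of_bf fun x y => eic_iso (bf_symmetric hg.wg) h2 haa ham x y

theorem ei_mul {a m m' : V1} (haa : B1 a a = 0) (ham : B1 a m = 0) (ham' : B1 a m' = 0) :
    ei hg a m * ei hg a m' = ei hg a (m + m') :=
  eic_mul (bf_symmetric hg.wg) h2 haa ham ham'

theorem ei_comm {a m m' : V1} (haa : B1 a a = 0) (ham : B1 a m = 0) (ham' : B1 a m' = 0) :
    ei hg a m * ei hg a m' = ei hg a m' * ei hg a m := by
  rw [ei_mul h2 haa ham ham', ei_mul h2 haa ham' ham, add_comm m m']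

theorem ei_zero {a : V1} (haa : B1 a a = 0) : ei hg a 0 = 1 := eic_zero (bf_symmetric hg.wg) h2 haa

theorem ei_pow_char {p : ℕ} [CharP F p] {a m : V1} (haa : B1 a a = 0) (ham : B1 a m = 0) : ei hg a m ^ p = 1 :=
  eic_pow_char (bf_symmetric hg.wg) h2 haa ham

theorem ei_self {a m : V1} (haa : B1 a a = 0) (ham : B1 a m = 0) : (ei hg a m : M1) *ᵥ a = a := by
  rw [ei_mulVec h2 haa ham, haa, ham]; simp

theorem ei_fix {a m x : V1} (haa : B1 a a = 0) (ham : B1 a m = 0) (hxa : B1 x a = 0) (hxm : B1 x m = 0) :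
    (ei hg a m : M1) *ᵥ x = x :=
  eic_fix (bf_symmetric hg.wg) h2 haa ham hxa hxm

theorem ei_ne_one {a m : V1} (ha : a ≠ 0) (haa : B1 a a = 0) (ham : B1 a m = 0) (hmm : B1 m m ≠ 0) :
    ei hg a m ≠ 1 :=
  eic_moves (bf_symmetric hg.wg) h2 haa ham ha hmm

theorem ei_conj {a m : V1} (haa : B1 a a = 0) (ham : B1 a m = 0) {A : GL (Ix 1) F} (hA : A ∈ u1 hg) :
    A * ei hg a m * A⁻¹ = ei hg ((A : M1) *ᵥ a) ((A : M1) *ᵥ m) :=
  eic_conj (bf_symmetric hg.wg) h2 haa ham (bf_of_mem hA)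

/-- the fixed vectors of a root -/
theorem ei_fixed {a m x : V1} (ha : a ≠ 0) (haa : B1 a a = 0) (ham : B1 a m = 0) (hmm : B1 m m ≠ 0)
    (hx : (ei hg a m : M1) *ᵥ x = x) : B1 x a = 0 ∧ B1 x m = 0 := by
  have hs := bf_symmetric hg.wg
  rw [ei_mulVec h2 haa ham] at hx
  have h1 := congrArg (fun z => B1 z m) hx
  simp only [Orth.sym_sub_left hs, bf_add_left, bf_smul_left, ham, mul_zero, sub_zero] at h1
  have hxa : B1 x a = 0 := (mul_eq_zero.1 (add_eq_left.1 h1)).resolve_right hmm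
  refine ⟨hxa, ?_⟩
  rw [hxa] at hx
  simp only [zero_smul, add_zero, mul_zero, sub_zero] at hx
  exact (smul_eq_zero.1 (sub_eq_self.1 hx)).resolve_right ha

theorem ei_eq_one {a w : V1} (ha : a ≠ 0) (haa : B1 a a = 0) (haw : B1 a w = 0) (h : ei hg a w = 1) :
    ∃ c : F, w = c • a := by
  obtain ⟨c, -, -, hca⟩ := nd_partner (bf_symmetric hg.wg) h2 (nd_top (bf_symmetric hg.wg)) trivial ha haa
  have e := ei_mulVec (hg := hg) h2 haa haw c
  rw [h, Units.val_one, one_mulVec, hca, one_smul, mul_one] at e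
  refine ⟨B1 c w + B1 w w / 2, ?_⟩
  rw [add_smul]
  linear_combination (norm := module) -e

/-- the square of the nilpotent part of a root -/
theorem ei_sq {a m : V1} (haa : B1 a a = 0) (ham : B1 a m = 0) :
    ((ei hg a m : M1) - 1) * ((ei hg a m : M1) - 1) = (-B1 m m) • vecMulVec a (dual g (s1 1) a) := by
  refine Matrix.ext_iff_mulVec.2 fun x => ?_
  have e := eic_cube (bf_symmetric hg.wg) h2 haa ham x
  rw [two_nsmul, bf_comm hg.wg x a] at e
  simp only [ei]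
  rw [Matrix.smul_mulVec, vecMulVec_mulVec, op_smul_eq_smul, smul_smul,
    show dual g (s1 1) a ⬝ᵥ x = B1 a x from rfl, ← e, ← mulVec_mulVec, sub_mulVec, sub_mulVec, one_mulVec,
    one_mulVec, mulVec_sub]
  abel

variable (hmin : Minus g)
include hmin

/-- a singular vector orthogonal to a non-zero one -/
theorem ei_fixed_line {a m x : V1} (ha : a ≠ 0) (haa : B1 a a = 0) (ham : B1 a m = 0) (hmm : B1 m m ≠ 0)
    (hx : (ei hg a m : M1) *ᵥ x = x) (hxx : B1 x x = 0) : ∃ c : F, x = c • a :=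
  hmin a x ha haa hxx (by rw [bf_comm hg.wg]; exact (ei_fixed h2 ha haa ham hmm hx).1)

variable {p : ℕ} [Fact p.Prime] [CharP F p]

/-- a unipotent element fixing a singular vector is a root element of it -/
theorem unip_eq_ei {v : GL (Ix 1) F} (hv : v ∈ u1 hg) (hvp : v ^ p = 1) {a : V1} (ha : a ≠ 0) (haa : B1 a a = 0)
    (hva : (v : M1) *ᵥ a = a) : ∃ m, B1 a m = 0 ∧ v = ei hg a m := by
  classical
  have hs := bf_symmetric hg.wg
  set N := (v : M1) - 1 with hNdef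
  have hN : ∀ x, (v : M1) *ᵥ x = x + N *ᵥ x := fun x => by rw [hNdef, sub_mulVec, one_mulVec]; abel
  have hNp : N ^ p = 0 := by
    haveI : Nonempty (Ix 1) := ⟨0⟩
    rw [hNdef, sub_pow_char_of_commute p (Commute.one_right _), one_pow, ← Units.val_pow_eq_pow_val, hvp,
      Units.val_one, sub_self]
  have hperp : ∀ x, B1 (N *ᵥ x) a = 0 := fun x => by
    have h1 := bf_of_mem hv x a
    rw [hva, hN, bf_add_left] at h1
    exact add_eq_left.1 h1
  have hbase : ∀ z, B1 z a = 0 → (∃ c : F, N *ᵥ (N *ᵥ z) = c • a) → ∃ c : F, N *ᵥ z = c • a := by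
    rintro z hz ⟨c, hc⟩
    refine hmin a _ ha haa ?_ (by rw [bf_comm hg.wg]; exact hperp z)
    have h1 := bf_of_mem hv z (N *ᵥ z)
    rw [hN z, hN (N *ᵥ z), hc] at h1
    simp only [bf_add_left, bf_add_right, bf_smul_right, hz, hperp z, mul_zero, add_zero] at h1
    exact add_eq_left.1 h1
  have hall : ∀ (k : ℕ) (z : V1), B1 z a = 0 → (∃ c : F, (N ^ (k + 1)) *ᵥ z = c • a) → ∃ c : F, N *ᵥ z = c • a := by
    intro k
    induction k with
    | zero => intro z _ h; simpa using h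
    | succ k ih =>
      intro z hz h
      refine hbase z hz (ih (N *ᵥ z) (hperp z) ?_)
      obtain ⟨c, hc⟩ := h
      exact ⟨c, by rw [mulVec_mulVec, ← pow_succ, hc]⟩
  have hline : ∀ z, B1 z a = 0 → ∃ c : F, N *ᵥ z = c • a := fun z hz =>
    hall (p - 1) z hz ⟨0, by rw [Nat.sub_add_cancel (Fact.out : p.Prime).one_lt.le, hNp, zero_mulVec, zero_smul]⟩
  obtain ⟨c, -, hcc, hca⟩ := nd_partner hs h2 (nd_top hs) trivial ha haa
  have hac : B1 a c = 1 := by rw [bf_comm hg.wg]; exact hca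
  set m := N *ᵥ c - B1 (N *ᵥ c) c • a with hm
  have hma : B1 m a = 0 := by rw [hm, Orth.sym_sub_left hs, bf_smul_left, hperp, haa, mul_zero, sub_zero]
  have hmc : B1 m c = 0 := by rw [hm, Orth.sym_sub_left hs, bf_smul_left, hac, mul_one, sub_self]
  have ham : B1 a m = 0 := by rw [bf_comm hg.wg]; exact hma
  have hNc : N *ᵥ c = m + B1 (N *ᵥ c) c • a := by rw [hm, sub_add_cancel]
  obtain ⟨γ, hγ⟩ : ∃ γ, γ = B1 (N *ᵥ c) c := ⟨_, rfl⟩
  rw [← hγ] at hNc
  have hvc : (v : M1) *ᵥ c = c + m + γ • a := by rw [hN, hNc, add_assoc]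
  have hγm : γ + γ = -B1 m m := by
    have h1 := bf_of_mem hv c c
    rw [hvc] at h1
    simp only [bf_add_left, bf_add_right, bf_smul_left, bf_smul_right, hcc, hca, hac, haa, hma, hmc, ham,
      bf_comm hg.wg c m] at h1
    linear_combination h1
  refine ⟨m, ham, Units.ext (Matrix.ext_iff_mulVec.2 fun x => ?_)⟩
  obtain ⟨φ, hφ⟩ := hline (x - B1 x a • c) (by rw [Orth.sym_sub_left hs, bf_smul_left, hca, mul_one, sub_self])
  have hvx : (v : M1) *ᵥ (x - B1 x a • c) = (x - B1 x a • c) + φ • a := by rw [hN, hφ]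
  have h1 := bf_of_mem hv (x - B1 x a • c) c
  rw [hvx, hvc] at h1
  simp only [Orth.sym_sub_left hs, bf_add_left, bf_add_right, bf_smul_left, bf_smul_right, hcc, hca, hac, haa,
    ham, bf_comm hg.wg c m, hmc] at h1
  rw [ei_mulVec h2 haa ham, show (v : M1) *ᵥ x = (v : M1) *ᵥ (x - B1 x a • c) + B1 x a • ((v : M1) *ᵥ c) by
    rw [← mulVec_smul, ← mulVec_add, sub_add_cancel], hvx, hvc]
  have h3 : φ = -B1 x m := by linear_combination h1
  rw [h3]
  match_scalars <;> field_simp <;>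
    first
    | linear_combination (B1 x a) * hγm
    | linear_combination (-(B1 x a)) * hγm
    | linear_combination 2 * (B1 x a) * hγm
    | ring1
    | linear_combination (-2 * (B1 x a)) * hγm

/-- a unipotent element is a root element -/
theorem exists_ei {v : GL (Ix 1) F} (hv : v ∈ u1 hg) (hvp : v ^ p = 1) (hv1 : v ≠ 1) :
    ∃ a m, a ≠ 0 ∧ B1 a a = 0 ∧ B1 a m = 0 ∧ B1 m m ≠ 0 ∧ v = ei hg a m := by
  classical
  have hs := bf_symmetric hg.wg
  set N := (v : M1) - 1 with hNdef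
  have hN : ∀ x, (v : M1) *ᵥ x = x + N *ᵥ x := fun x => by rw [hNdef, sub_mulVec, one_mulVec]; abel
  have hNp : N ^ p = 0 := by
    haveI : Nonempty (Ix 1) := ⟨0⟩
    rw [hNdef, sub_pow_char_of_commute p (Commute.one_right _), one_pow, ← Units.val_pow_eq_pow_val, hvp,
      Units.val_one, sub_self]
  obtain ⟨y, hy⟩ : ∃ y, N *ᵥ y ≠ 0 := by
    by_contra hcon
    push Not at hcon
    exact hv1 (Units.ext (Matrix.ext_iff_mulVec.2 fun x => by
      rw [hN, hcon, add_zero, Units.val_one, one_mulVec]))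
  have hex : ∃ k, (N ^ k) *ᵥ (N *ᵥ y) = 0 := ⟨p, by rw [hNp, zero_mulVec]⟩
  obtain ⟨k, hk⟩ : ∃ k, Nat.find hex = k + 1 := Nat.exists_eq_succ_of_ne_zero fun h => hy (by
    have h1 := Nat.find_spec hex
    rwa [h, pow_zero, one_mulVec] at h1)
  obtain ⟨z, hz⟩ : ∃ z, z = (N ^ k) *ᵥ y := ⟨_, rfl⟩
  have hkey : (N ^ k) *ᵥ (N *ᵥ y) = N *ᵥ z := by rw [hz, mulVec_mulVec, mulVec_mulVec, ← pow_succ, pow_succ']
  have ha : N *ᵥ z ≠ 0 := hkey ▸ Nat.find_min hex (by omega)
  have hva : (v : M1) *ᵥ (N *ᵥ z) = N *ᵥ z := by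
    have h1 := Nat.find_spec hex
    rw [hk, pow_succ', ← mulVec_mulVec, hkey] at h1
    rw [hN, h1, add_zero]
  have haa : B1 (N *ᵥ z) (N *ᵥ z) = 0 := by
    have h1 := bf_of_mem hv z (N *ᵥ z)
    rw [hva, hN z, bf_add_left] at h1
    exact add_eq_left.1 h1
  obtain ⟨m, ham, hvm⟩ := unip_eq_ei h2 hmin hv hvp ha haa hva
  refine ⟨_, m, ha, haa, ham, fun hmm => hv1 ?_, hvm⟩
  obtain ⟨c, hc⟩ := hmin _ m ha haa hmm ham
  refine hvm.trans (Units.ext (Matrix.ext_iff_mulVec.2 fun x => ?_))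
  rw [ei_mulVec h2 haa ham, hmm, hc, bf_smul_right, Units.val_one, one_mulVec]
  module

/-- commuting with a root fixes its singular vector -/
theorem unip_comm_fix {v : GL (Ix 1) F} (hv : v ∈ u1 hg) (hvp : v ^ p = 1) {a m : V1} (ha : a ≠ 0)
    (haa : B1 a a = 0) (ham : B1 a m = 0) (hmm : B1 m m ≠ 0) (hc : v * ei hg a m = ei hg a m * v) :
    (v : M1) *ᵥ a = a := by
  obtain ⟨c, hca⟩ := ei_fixed_line (hg := hg) h2 hmin ha haa ham hmm (x := (v : M1) *ᵥ a)
    (by rw [← gl_mul_mulVec, ← hc, gl_mul_mulVec, ei_self h2 haa ham]) (by rw [bf_of_mem hv, haa])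
  have hpw : ∀ j : ℕ, ((v ^ j : GL (Ix 1) F) : M1) *ᵥ a = c ^ j • a := fun j => by
    induction j with
    | zero => rw [pow_zero, pow_zero, Units.val_one, one_mulVec, one_smul]
    | succ j ih => rw [pow_succ', gl_mul_mulVec, ih, mulVec_smul, hca, smul_smul, pow_succ]
  have h := hpw p
  rw [hvp, Units.val_one, one_mulVec] at h
  have h1 : c ^ p = 1 := by
    by_contra hne
    exact ha ((smul_eq_zero.1 (show (c ^ p - 1) • a = 0 by rw [sub_smul, ← h, one_smul, sub_self])).resolve_left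
      (sub_ne_zero.2 hne))
  have h3 : (c - 1) ^ p = 0 := by rw [sub_pow_char, h1, one_pow, sub_self]
  rw [hca, sub_eq_zero.1 (eq_zero_of_pow_eq_zero h3), one_smul]

/-- commuting is transitive on non-trivial unipotent elements -/
theorem unip_comm_trans {u v w : GL (Ix 1) F} (hu : u ∈ u1 hg) (hv : v ∈ u1 hg) (hw : w ∈ u1 hg) (hup : u ^ p = 1)
    (hvp : v ^ p = 1) (hwp : w ^ p = 1) (hv1 : v ≠ 1) (h1 : u * v = v * u) (h3 : w * v = v * w) :
    u * w = w * u := by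
  obtain ⟨a, m, ha, haa, ham, hmm, rfl⟩ := exists_ei h2 hmin hv hvp hv1
  obtain ⟨m1, h4, rfl⟩ := unip_eq_ei h2 hmin hu hup ha haa (unip_comm_fix h2 hmin hu hup ha haa ham hmm h1)
  obtain ⟨m3, h5, rfl⟩ := unip_eq_ei h2 hmin hw hwp ha haa (unip_comm_fix h2 hmin hw hwp ha haa ham hmm h3)
  exact ei_comm h2 haa h4 h5

/-- a unipotent element fixing a non-degenerate plane pointwise is trivial -/
theorem unip_fix_plane {v : GL (Ix 1) F} (hv : v ∈ u1 hg) (hvp : v ^ p = 1) {d f : V1} (hd : B1 d d ≠ 0)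
    (hf : B1 f f ≠ 0) (hdf : B1 d f = 0) (hvd : (v : M1) *ᵥ d = d) (hvf : (v : M1) *ᵥ f = f) : v = 1 := by
  classical
  by_contra hne
  have hs := bf_symmetric hg.wg
  obtain ⟨a, m, ha, haa, ham, hmm, rfl⟩ := exists_ei h2 hmin hv hvp hne
  obtain ⟨hda, hdm⟩ := ei_fixed h2 ha haa ham hmm hvd
  obtain ⟨hfa, hfm⟩ := ei_fixed h2 ha haa ham hmm hvf
  set P := perp hs (perp hs ⊤ d) f with hP
  have hmem : ∀ {x}, B1 d x = 0 → B1 f x = 0 → x ∈ P := fun h1 h3 =>
    ⟨⟨trivial, by show B1 _ d = 0; rw [bf_comm hg.wg]; exact h1⟩, by show B1 _ f = 0; rw [bf_comm hg.wg]; exact h3⟩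
  have hfd : B1 f d = 0 := by rw [bf_comm hg.wg]; exact hdf
  have hf' : f ∈ perp hs ⊤ d := ⟨trivial, hfd⟩
  have hnd : Nd B1 P := nd_perp hs (nd_perp hs (nd_top hs) Submodule.mem_top hd) hf' hf
  have h1 := perp_dim hs h2 (Submodule.mem_top (x := d)) hd
  have h3 := perp_dim hs h2 hf' hf
  rw [top_finrank hs, Fintype.card_fin] at h1
  rw [← hP] at h3
  have hli : LinearIndependent F ![a, m] := LinearIndependent.pair_iff.2 fun x y e => by
    have hy : y = 0 := by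
      have := congrArg (fun z => B1 z m) e
      simp only [bf_add_left, bf_smul_left, ham, Orth.sym_zero_left hs, mul_zero, zero_add] at this
      exact (mul_eq_zero.1 this).resolve_right hmm
    rw [hy, zero_smul, add_zero] at e
    exact ⟨(smul_eq_zero.1 e).resolve_right ha, hy⟩
  have hspan : Submodule.span F (Set.range ![a, m]) = P := Submodule.eq_of_le_of_finrank_le
    (Submodule.span_le.2 (by rintro _ ⟨i, rfl⟩; fin_cases i; exacts [hmem hda hfa, hmem hdm hfm]))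
    (by rw [finrank_span_eq_card hli, Fintype.card_fin]; omega)
  obtain ⟨w, hw, haw⟩ := hnd a (hmem hda hfa) ha
  rw [← hspan, Matrix.range_cons, Matrix.range_cons, Matrix.range_empty, Set.union_empty, Set.union_singleton,
    Set.pair_comm] at hw
  obtain ⟨x, y, rfl⟩ := Submodule.mem_span_pair.1 hw
  exact haw (by rw [bf_add_right, bf_smul_right, bf_smul_right, haa, ham, mul_zero, mul_zero, add_zero])

end Unipotent

section Exists

variable [Finite F] (h2 : (2 : F) ≠ 0)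
include h2

/-- a root fixing an anisotropic vector -/
theorem exists_root_perp {d : V1} (hd : B1 d d ≠ 0) (hg : Dg g) :
    ∃ a m : V1, a ≠ 0 ∧ B1 a a = 0 ∧ B1 a m = 0 ∧ B1 m m ≠ 0 ∧ B1 d a = 0 ∧ B1 d m = 0 := by
  have hs := bf_symmetric hg.wg
  have h1 := perp_dim hs h2 (Submodule.mem_top (x := d)) hd
  rw [top_finrank hs, Fintype.card_fin] at h1
  have hnd := nd_perp hs (nd_top hs) (Submodule.mem_top (x := d)) hd
  obtain ⟨a, ha, ha0, haa⟩ := nd_singular hs h2 hnd (by omega)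
  obtain ⟨c, hc, hcc, hca⟩ := nd_partner hs h2 hnd ha ha0 haa
  have h3 := pair_finrank hs (perp hs (⊤ : Submodule F V1) d) a c
  obtain ⟨m, hm, hmm⟩ := nd_aniso hs h2 (nd_perp_pair hs hnd ha hc haa hcc hca) (by omega)
  refine ⟨a, m, ha0, haa, ?_, hmm, ?_, ?_⟩ <;> rw [bf_comm hg.wg]
  exacts [hm.1.2, ha.2, hm.1.1.2]

/-- two independent roots of a singular vector -/
theorem exists_two_roots (hg : Dg g) {a : V1} (ha : a ≠ 0) (haa : B1 a a = 0) :
    ∃ m m' : V1, B1 a m = 0 ∧ B1 a m' = 0 ∧ B1 m m ≠ 0 ∧ B1 m' m' ≠ 0 ∧ B1 m m' = 0 := by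
  have hs := bf_symmetric hg.wg
  obtain ⟨c, hc, hcc, hca⟩ := nd_partner hs h2 (nd_top hs) trivial ha haa
  have hnd := nd_perp_pair hs (nd_top hs) trivial hc haa hcc hca
  have h1 := pair_finrank hs (⊤ : Submodule F V1) a c
  rw [top_finrank hs, Fintype.card_fin] at h1
  obtain ⟨m, hm, hmm⟩ := nd_aniso hs h2 hnd (by omega)
  have h3 := perp_dim hs h2 hm hmm
  obtain ⟨m', hm', hm'm'⟩ := nd_aniso hs h2 (nd_perp hs hnd hm hmm) (by omega)
  refine ⟨m, m', ?_, ?_, hmm, hm'm', ?_⟩ <;> rw [bf_comm hg.wg]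
  exacts [hm.1.2, hm'.1.1.2, hm'.2]

/-- an orthogonal basis through a vector -/
theorem exists_basis4 (hg : Dg g) {d : V1} (hd : B1 d d ≠ 0) :
    ∃ a b c : V1, B1 a a ≠ 0 ∧ B1 b b ≠ 0 ∧ B1 c c ≠ 0 ∧
      B1 d a = 0 ∧ B1 d b = 0 ∧ B1 d c = 0 ∧ B1 a b = 0 ∧ B1 a c = 0 ∧ B1 b c = 0 ∧
      ∀ v : V1, v = (B1 d v / B1 d d) • d + (B1 a v / B1 a a) • a + (B1 b v / B1 b b) • b + (B1 c v / B1 c c) • c := by
  have hs := bf_symmetric hg.wg
  have h0 := perp_dim hs h2 (Submodule.mem_top (x := d)) hd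
  rw [top_finrank hs, Fintype.card_fin] at h0
  have hn0 := nd_perp hs (nd_top hs) (Submodule.mem_top (x := d)) hd
  obtain ⟨a, ha, haa⟩ := nd_aniso hs h2 hn0 (by omega)
  have h1 := perp_dim hs h2 ha haa
  have hn1 := nd_perp hs hn0 ha haa
  obtain ⟨b, hb, hbb⟩ := nd_aniso hs h2 hn1 (by omega)
  have h3 := perp_dim hs h2 hb hbb
  obtain ⟨c, hc, hcc⟩ := nd_aniso hs h2 (nd_perp hs hn1 hb hbb) (by omega)
  have h4 := perp_dim hs h2 hc hcc
  have had : B1 a d = 0 := ha.2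
  have hbd : B1 b d = 0 := hb.1.2
  have hba : B1 b a = 0 := hb.2
  have hcd : B1 c d = 0 := hc.1.1.2
  have hca : B1 c a = 0 := hc.1.2
  have hcb : B1 c b = 0 := hc.2
  refine ⟨a, b, c, haa, hbb, hcc, by rw [bf_comm hg.wg, had], by rw [bf_comm hg.wg, hbd],
    by rw [bf_comm hg.wg, hcd], by rw [bf_comm hg.wg, hba], by rw [bf_comm hg.wg, hca],
    by rw [bf_comm hg.wg, hcb], fun v => ?_⟩
  have hbot : perp hs (perp hs (perp hs (perp hs ⊤ d) a) b) c = ⊥ := Submodule.finrank_eq_zero.1 (by omega)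
  set z := v - ((B1 d v / B1 d d) • d + (B1 a v / B1 a a) • a + (B1 b v / B1 b b) • b + (B1 c v / B1 c c) • c) with hz
  have hzm : z ∈ perp hs (perp hs (perp hs (perp hs ⊤ d) a) b) c := by
    refine mem_perp.2 ⟨mem_perp.2 ⟨mem_perp.2 ⟨mem_perp.2 ⟨trivial, ?_⟩, ?_⟩, ?_⟩, ?_⟩ <;>
    · simp only [hz, Orth.sym_sub_left hs, bf_add_left, bf_smul_left, had, hbd, hba, hcd, hca, hcb,
        bf_comm hg.wg d a, bf_comm hg.wg d b, bf_comm hg.wg d c, bf_comm hg.wg a b, bf_comm hg.wg a c,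
        bf_comm hg.wg b c, mul_zero, add_zero, zero_add]
      rw [div_mul_cancel₀ _ (by assumption), bf_comm hg.wg, sub_self]
  rw [hbot, Submodule.mem_bot] at hzm
  exact sub_eq_zero.1 hzm

end Exists

variable [Fintype F] {s : ℕ} {M : Subgroup (GL (Fin (s + 1) → Ix 1) F)} (hM : Ctx hg M)
include hM

theorem Ctx.ei_sl (l : Fin (s + 1)) {a m : V1} (haa : B1 a a = 0) (ham : B1 a m = 0) : sl l (ei hg a m) ∈ M := by
  obtain ⟨p, -, hc, hodd, -⟩ := exists_char (F := F) hM.two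
  haveI := hc
  exact hM.odd_sl l (ei_mem hM.two haa ham) hodd (ei_pow_char hM.two haa ham)

/-- **Theorem.** A conjugate of a root fixing a singular slice pointwise comes from the wreath subgroup. -/
theorem Ctx.sie_fix (hN : NormTw hg s) {x : GL (Fin (s + 1) → Ix 1) F} (hx : x ∈ M) {j l : Fin (s + 1)}
    {a m a' : V1} (ha : a ≠ 0) (haa : B1 a a = 0) (ham : B1 a m = 0) (hmm : B1 m m ≠ 0) (ha' : a' ≠ 0)
    (haa' : B1 a' a' = 0)
    (h : ∀ w, ((x * sl j (ei hg a m) * x⁻¹ : GL (Fin (s + 1) → Ix 1) F) :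
      Matrix (Fin (s + 1) → Ix 1) (Fin (s + 1) → Ix 1) F) *ᵥ tv l a' w = tv l a' w) :
    x ∈ tensorWreathStandard (1 + 3) (s + 1) F := by
  have h2 := hM.two
  have hN1 : ((ei hg a m : M1) - 1) *ᵥ a = 0 := by rw [sub_mulVec, one_mulVec, ei_self h2 haa ham, sub_self]
  refine hM.root_fix hN hx (ψ := (-B1 m m) • dual g (s1 1) a) (hM.ei_sl j haa ham) ha haa (fun e => ?_) ?_ ?_ ha'
    haa' h
  · exact ha (dual_eq_zero hg.wg ((smul_eq_zero.1 e).resolve_left (neg_ne_zero.2 hmm)))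
  · refine Matrix.ext_iff_mulVec.2 fun x => ?_
    have e := eic_cube (bf_symmetric hg.wg) h2 haa ham x
    rw [two_nsmul, bf_comm hg.wg x a] at e
    simp only [ei]
    rw [vecMulVec_mulVec, op_smul_eq_smul, smul_dotProduct, smul_eq_mul, show dual g (s1 1) a ⬝ᵥ x = B1 a x from rfl,
      ← e, ← mulVec_mulVec, sub_mulVec, sub_mulVec, one_mulVec, one_mulVec, mulVec_sub]
    abel
  · rw [mul_vecMulVec, hN1, zero_vecMulVec]

/-- an element conjugating a root to an element of one factor lies in the wreath subgroup -/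
theorem Ctx.root_to_slot (hN : NormTw hg s) (hmin : Minus g) {x : GL (Fin (s + 1) → Ix 1) F} (hx : x ∈ M)
    {j l : Fin (s + 1)} {a m : V1} (ha : a ≠ 0) (haa : B1 a a = 0) (ham : B1 a m = 0) (hmm : B1 m m ≠ 0)
    {v : GL (Ix 1) F} (h : x * sl j (ei hg a m) * x⁻¹ = sl l v) : x ∈ tensorWreathStandard (1 + 3) (s + 1) F := by
  have h2 := hM.two
  obtain ⟨p, hp, hc, -, -⟩ := exists_char (F := F) h2
  haveI := hc
  haveI : Fact p.Prime := ⟨hp⟩
  have hy := M.mul_mem (M.mul_mem hx (hM.ei_sl j haa ham)) (M.inv_mem hx)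
  have hv : v ∈ u1 hg := (sl_mem_iff (hg := hg) l).1 (h ▸ hM.le_uT hy)
  have hvp : v ^ p = 1 := sl_inj (k := l) (by omega) (by
    rw [sl_pow, ← h, conj_pow, ← sl_pow, ei_pow_char h2 haa ham, sl_one, mul_one, mul_inv_cancel, sl_one])
  have hv1 : v ≠ 1 := fun e => ei_ne_one h2 ha haa ham hmm (sl_inj (k := j) (by omega) (by
    rw [sl_one]; exact conj_eq_one_iff.1 (h.trans (by rw [e, sl_one]))))
  obtain ⟨a', m', ha', haa', ham', -, rfl⟩ := exists_ei h2 hmin hv hvp hv1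
  exact hM.sie_fix hN hx ha haa ham hmm ha' haa' fun w => by rw [h, sl_tv, ei_self h2 haa' ham']

/-- the centraliser of a root -/
theorem Ctx.root_comm (hN : NormTw hg s) {x : GL (Fin (s + 1) → Ix 1) F} (hx : x ∈ M) {j : Fin (s + 1)}
    {a m : V1} (ha : a ≠ 0) (haa : B1 a a = 0) (ham : B1 a m = 0) (hmm : B1 m m ≠ 0)
    (h : x * sl j (ei hg a m) = sl j (ei hg a m) * x) : x ∈ tensorWreathStandard (1 + 3) (s + 1) F :=
  hM.sie_fix hN hx (j := j) (l := j) ha haa ham hmm ha haa fun w => by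
    rw [h, mul_inv_cancel_right, sl_tv, ei_self hM.two haa ham]

/-- **Theorem.** A group normalised by the roots of a singular vector, without elements of order `p` of the
wreath subgroup commuting with them, lies in the wreath subgroup. -/
theorem Ctx.root_principle (hN : NormTw hg s) (hmin : Minus g) {p : ℕ} [Fact p.Prime] [CharP F p]
    {X : Subgroup (GL (Fin (s + 1) → Ix 1) F)} (hX : X ≤ M) {l : Fin (s + 1)} {a : V1} (ha : a ≠ 0)
    (haa : B1 a a = 0)
    (hnorm : ∀ m, B1 a m = 0 → ∀ x ∈ X, sl l (ei hg a m) * x * (sl l (ei hg a m))⁻¹ ∈ X)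
    (hp : ∀ x ∈ X, x ∈ tensorWreathStandard (1 + 3) (s + 1) F → x ^ p = 1 →
      (∀ m, B1 a m = 0 → sl l (ei hg a m) * x = x * sl l (ei hg a m)) → x = 1) :
    X ≤ tensorWreathStandard (1 + 3) (s + 1) F := by
  classical
  have h2 := hM.two
  have hs := bf_symmetric hg.wg
  let A : Subgroup (GL (Fin (s + 1) → Ix 1) F) :=
    { carrier := {x | ∃ m, B1 a m = 0 ∧ x = sl l (ei hg a m)}
      one_mem' := ⟨0, Orth.sym_zero_right hs a, by rw [ei_zero h2 haa, sl_one]⟩
      mul_mem' := by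
        rintro _ _ ⟨m, hm, rfl⟩ ⟨m', hm', rfl⟩
        exact ⟨m + m', by rw [bf_add_right, hm, hm', add_zero], by rw [sl_mul, ei_mul h2 haa hm hm']⟩
      inv_mem' := by
        rintro _ ⟨m, hm, rfl⟩
        have hm' : B1 a (-m) = 0 := by rw [Orth.sym_neg_right hs, hm, neg_zero]
        exact ⟨-m, hm', inv_eq_of_mul_eq_one_right (by
          rw [sl_mul, ei_mul h2 haa hm hm', add_neg_cancel, ei_zero h2 haa, sl_one])⟩ }
  obtain ⟨m1, m3, hm1, hm3, hmm1, hmm3, h13⟩ := exists_two_roots h2 hg ha haa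
  have hAp : IsPGroup p A := by
    rintro ⟨_, m, hm, rfl⟩
    exact ⟨1, Subtype.ext (by
      show sl l (ei hg a m) ^ p ^ 1 = 1
      rw [pow_one, ← sl_pow, ei_pow_char h2 haa hm, sl_one])⟩
  haveI : IsMulCommutative A := ⟨⟨by
    rintro ⟨_, m, hm, rfl⟩ ⟨_, m', hm', rfl⟩
    exact Subtype.ext (by
      show sl l (ei hg a m) * sl l (ei hg a m') = sl l (ei hg a m') * sl l (ei hg a m)
      rw [sl_mul, sl_mul, ei_comm h2 haa hm hm'])⟩⟩
  have hpX : ¬ p ∣ Nat.card X := fun h => by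
    obtain ⟨x, hx, hx1, hxp, hxc⟩ := exists_fixed_pElement hAp (fun r hr y hy => by
      obtain ⟨m, hm, rfl⟩ := hr
      exact hnorm m hm y hy) h
    exact hx1 (hp x hx (hM.root_comm hN (hX hx) ha haa hm1 hmm1 (hxc _ ⟨m1, hm1, rfl⟩).symm) hxp
      fun m hm => hxc _ ⟨m, hm, rfl⟩)
  refine Coprime.le_of_centralizers_le (A := A) (fun hc => ?_) (fun r hr => ?_) ?_ fun r hr hr1 x hx => ?_
  · obtain ⟨⟨u, m0, hm0, rfl⟩, hgen⟩ := hc.exists_generator
    have hmul : ∀ m, B1 a m = 0 → ∃ (k : F) (c : F), m = k • m0 + c • a := fun m hm => by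
      obtain ⟨k, hk⟩ := mem_powers_iff_mem_zpowers.2 (hgen ⟨_, m, hm, rfl⟩)
      have hk' : sl l (ei hg a m0) ^ k = sl l (ei hg a m) := congrArg Subtype.val hk
      rw [← sl_pow, ei, eic_pow hs h2 haa hm0] at hk'
      have hk'' : ei hg a ((k : F) • m0) = ei hg a m := sl_inj (by omega) hk'
      have hkm : B1 a (-((k : F) • m0)) = 0 := by
        rw [Orth.sym_neg_right hs, bf_smul_right, hm0, mul_zero, neg_zero]
      obtain ⟨c, hc⟩ := ei_eq_one (hg := hg) h2 ha haa (w := m + -((k : F) • m0))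
        (by rw [bf_add_right, hm, hkm, add_zero]) (by
          rw [← ei_mul h2 haa hm hkm, ← hk'', ei_mul h2 haa (by rw [bf_smul_right, hm0, mul_zero]) hkm,
            add_neg_cancel, ei_zero h2 haa])
      exact ⟨k, c, by rw [← hc]; abel⟩
    obtain ⟨k, c, e1⟩ := hmul m1 hm1
    obtain ⟨k', c', e3⟩ := hmul m3 hm3
    have h00 : B1 m0 m0 ≠ 0 := fun e => hmm1 (by
      rw [e1]
      simp only [bf_add_left, bf_add_right, bf_smul_left, bf_smul_right, e, haa, hm0, bf_comm hg.wg m0 a]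
      ring)
    have hk : k ≠ 0 := fun e => hmm1 (by
      rw [e1, e, zero_smul, zero_add, bf_smul_left, bf_smul_right, haa, mul_zero, mul_zero])
    have hk' : k' ≠ 0 := fun e => hmm3 (by
      rw [e3, e, zero_smul, zero_add, bf_smul_left, bf_smul_right, haa, mul_zero, mul_zero])
    refine mul_ne_zero (mul_ne_zero hk hk') h00 ?_
    rw [e1, e3] at h13
    simp only [bf_add_left, bf_add_right, bf_smul_left, bf_smul_right, haa, hm0, bf_comm hg.wg m0 a] at h13
    linear_combination h13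
  · refine Subgroup.mem_normalizer_iff.2 fun y => ⟨fun hy => ?_, fun hy => ?_⟩
    · obtain ⟨m, hm, rfl⟩ := hr
      exact hnorm m hm y hy
    · obtain ⟨m, hm, e⟩ := inv_mem (show r ∈ A from hr)
      have := hnorm m hm _ hy
      rwa [← e, show r⁻¹ * (r * y * r⁻¹) * r⁻¹⁻¹ = y by group] at this
  · obtain ⟨k, hk⟩ := hAp.exists_card_eq
    rw [hk]
    exact Nat.Coprime.pow_left _ ((Nat.Prime.coprime_iff_not_dvd Fact.out).2 hpX)
  · obtain ⟨m, hm, rfl⟩ := hr
    refine hM.root_comm hN (hX hx.1) ha haa hm (fun e => hr1 ?_) (Subgroup.mem_centralizer_singleton_iff.1 hx.2)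
    obtain ⟨c, hc⟩ := hmin a m ha haa e hm
    rw [← sl_one l]
    congr 1
    refine Units.ext (Matrix.ext_iff_mulVec.2 fun y => ?_)
    rw [ei_mulVec h2 haa hm, e, hc, bf_smul_right, Units.val_one, one_mulVec]
    module

end CfsgLib.Perm.Trans.TensorPowerO
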