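import Mathlib
import Cfsg.Agent.Lib.Perm.Trans.TensorPowerO.K4Basic
import Cfsg.Agent.Lib.Perm.Trans.TensorPowerO.K3Monomial

/-!
# Involutions of the wreath group of four-dimensional factors
-/

set_option autoImplicit false
set_option linter.all false

namespace CfsgLib.Perm.Trans.TensorPowerO

open scoped Matrix
open Matrix Cfsg.Geo CfsgLib.Perm.Asch CfsgLib.Perm.Trans CfsgLib.Perm.Trans.TensorPower
open CfsgLib.Perm.Trans.TensorSO CfsgLib.Perm.Trans.TensorOO

section General

variable {F : Type*} [Field F] {n t : ℕ}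

local notation "M1" => Matrix (Ix n) (Ix n) F
local notation "MT" => Matrix (Fin t → Ix n) (Fin t → Ix n) F

/-- an involution moving a set of coordinates off itself negates a space at least as large -/
theorem negSp_ge {κ : Type} [Fintype κ] [DecidableEq κ] {c : GL κ F} (hc : c * c = 1) (S : Finset κ)
    (h : ∀ x ∈ S, ∀ y ∈ S, (c : Matrix κ κ F) x y = 0) : S.card ≤ Module.finrank F (negSp c) := by
  classical
  let L : ({x // x ∈ S} → F) →ₗ[F] (κ → F) :=
    { toFun := fun f x => if hx : x ∈ S then f ⟨x, hx⟩ else 0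
      map_add' := fun f f' => funext fun x => by by_cases hx : x ∈ S <;> simp [hx]
      map_smul' := fun r f => funext fun x => by by_cases hx : x ∈ S <;> simp [hx] }
  let D := (LinearMap.id - Matrix.mulVecLin (c : Matrix κ κ F)).comp L
  have hD : ∀ f, D f ∈ negSp c := fun f => by
    rw [mem_negSp]
    show (c : Matrix κ κ F) *ᵥ (L f - (c : Matrix κ κ F) *ᵥ L f) = -(L f - (c : Matrix κ κ F) *ᵥ L f)
    rw [mulVec_sub, mulVec_mulVec, ← Units.val_mul, hc, Units.val_one, one_mulVec, neg_sub]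
  have hinj : Function.Injective D := by
    rw [← LinearMap.ker_eq_bot, Submodule.eq_bot_iff]
    intro f hf
    funext ⟨x, hx⟩
    have e := congrFun (LinearMap.mem_ker.1 hf) x
    have h0 : ((c : Matrix κ κ F) *ᵥ L f) x = 0 := Finset.sum_eq_zero fun y _ => by
      show (c : Matrix κ κ F) x y * L f y = 0
      by_cases hy : y ∈ S
      · rw [h x hx y hy, zero_mul]
      · simp [L, hy]
    simp only [D, LinearMap.comp_apply, LinearMap.sub_apply, LinearMap.id_apply, Matrix.mulVecLin_apply,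
      Pi.sub_apply, h0, sub_zero, Pi.zero_apply] at e
    simpa [L, hx] using e
  have hle := LinearMap.finrank_le_finrank_of_injective (f := D.codRestrict (negSp c) hD)
    fun a b e => hinj (congrArg Subtype.val e)
  rwa [Module.finrank_fintype_fun_eq_card, Fintype.card_coe] at hle

theorem single_pv (p : Fin t → Ix n) :
    (Pi.single p 1 : (Fin t → Ix n) → F) = TensorPower.pv fun i => Pi.single (p i) (1 : F) := by
  classical
  funext z
  simp only [TensorPower.pv, Pi.single_apply]
  by_cases e : z = p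
  · subst e; simp
  · obtain ⟨i, hi⟩ := Function.ne_iff.1 e
    rw [if_neg e, Finset.prod_eq_zero (Finset.mem_univ i) (if_neg hi)]

theorem pv_smul' (a : Fin t → F) (v : Fin t → Ix n → F) :
    TensorPower.pv (fun l => a l • v l) = (∏ l, a l) • TensorPower.pv v := by
  funext x
  simp only [TensorPower.pv, Pi.smul_apply, smul_eq_mul, Finset.prod_mul_distrib]

/-- **Theorem.** The negated space of a pure tensor of involutions. -/
theorem pure_neg_dim (h2 : (2 : F) ≠ 0) {A : Fin t → GL (Ix n) F} (hA : ∀ l, A l * A l = 1) :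
    2 * (Module.finrank F (negSp (pureGL A)) : ℤ) +
      ∏ l, (((n + 3 : ℕ) : ℤ) - 2 * (Module.finrank F (negSp (A l)) : ℤ)) = ((n + 3 : ℕ) : ℤ) ^ t := by
  classical
  have hone : (-1 : F) ≠ 1 := fun e => h2 (by linear_combination -e)
  choose Q η hη hQ using fun l => invol_basis h2 (hA l)
  let sg : F → ℤ := fun v => if v = 1 then 1 else -1
  have hsg : ∀ (S : Finset (Fin t)) (f : Fin t → F), (∀ l, f l = 1 ∨ f l = -1) →
      (∏ l ∈ S, f l = 1 ∨ ∏ l ∈ S, f l = -1) ∧ sg (∏ l ∈ S, f l) = ∏ l ∈ S, sg (f l) := by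
    intro S f hf
    induction S using Finset.induction_on with
    | empty => simp [sg]
    | insert k S hk ih =>
      rw [Finset.prod_insert hk, Finset.prod_insert hk, ← ih.2]
      rcases hf k with h | h <;> rcases ih.1 with h' | h' <;> simp [sg, h, h', hone]
  -- the number of negated vectors of a diagonal involution
  have hcount : ∀ {κ : Type} [Fintype κ] [DecidableEq κ] (c Q : GL κ F) (ε : κ → F), c * c = 1 →
      (∀ x, ε x = 1 ∨ ε x = -1) →
      (∀ x, (c : Matrix κ κ F) *ᵥ ((Q : Matrix κ κ F) *ᵥ Pi.single x 1) = ε x • ((Q : Matrix κ κ F) *ᵥ Pi.single x 1)) →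
      ∑ x, sg (ε x) = (Fintype.card κ : ℤ) - 2 * (Module.finrank F (negSp c) : ℤ) := by
    intro κ _ _ c Q ε hc hε h
    set c' := Q⁻¹ * c * Q with hc'
    have hc'2 : c' * c' = 1 := by
      rw [hc', show Q⁻¹ * c * Q * (Q⁻¹ * c * Q) = Q⁻¹ * (c * c) * Q by group, hc]; group
    have h' : ∀ x, (c' : Matrix κ κ F) *ᵥ Pi.single x 1 = ε x • (Pi.single x 1 : κ → F) := fun x => by
      rw [hc', gl_mul_mulVec, gl_mul_mulVec, h, mulVec_smul, gl_inv_mulVec]
    obtain ⟨pairs, htot, -, hneg⟩ := monomial_count h2 hc'2 id (fun _ => rfl) ε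
      (fun x => by rcases hε x with e | e <;> simp [e]) h'
    simp only [id_eq, true_and, Finset.filter_true, Finset.card_univ] at htot hneg
    have hn : Module.finrank F (negSp c') = Module.finrank F (negSp c) := by
      have := negSp_conj Q⁻¹ c
      rwa [inv_inv] at this
    rw [hn] at hneg
    rw [← Finset.sum_filter_add_sum_filter_not Finset.univ (fun x => ε x = 1),
      Finset.sum_congr rfl (g := fun _ => (1 : ℤ)) (fun x hx => if_pos (Finset.mem_filter.1 hx).2),
      Finset.sum_congr (s₁ := Finset.univ.filter fun x => ¬ ε x = 1) rfl (g := fun _ => (-1 : ℤ))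
        (fun x hx => if_neg (Finset.mem_filter.1 hx).2)]
    have hsplit := Finset.card_filter_add_card_filter_not (s := (Finset.univ : Finset κ)) (fun x => ε x = 1)
    rw [Finset.card_univ] at hsplit
    simp only [Finset.sum_const, nsmul_eq_mul, mul_one, mul_neg]
    simp only [ne_eq] at hneg
    omega
  have hpQ : ∀ μ : Fin t → Ix n, (pureGL A : MT) *ᵥ ((pureGL Q : MT) *ᵥ Pi.single μ 1) =
      (∏ l, η l (μ l)) • ((pureGL Q : MT) *ᵥ Pi.single μ 1) := fun μ => by
    rw [single_pv, pureGL_coe, pureGL_coe, pure_pv, pure_pv, ← pv_smul']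
    exact congrArg _ (funext fun l => hQ l (μ l))
  have e1 := hcount (pureGL A) (pureGL Q) (fun μ => ∏ l, η l (μ l))
    (by rw [pureGL_mul, show A * A = 1 from funext hA, pureGL_one])
    (fun μ => (hsg Finset.univ _ fun l => hη l _).1) hpQ
  have e3 : ∀ l, ∑ i, sg (η l i) = ((n + 3 : ℕ) : ℤ) - 2 * (Module.finrank F (negSp (A l)) : ℤ) := fun l => by
    rw [hcount (A l) (Q l) (η l) (hA l) (hη l) (hQ l), Fintype.card_fin]
  rw [Finset.sum_congr rfl (fun μ _ => (hsg Finset.univ (fun l => η l (μ l)) fun l => hη l _).2),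
    ← Fintype.prod_sum (fun l i => sg (η l i)), Finset.prod_congr rfl (fun l _ => e3 l), Fintype.card_fun,
    Fintype.card_fin, Fintype.card_fin] at e1
  rw [e1]
  push_cast
  ring

/-- an involution without negated vectors is trivial -/
theorem invol_neg_zero {κ : Type} [Fintype κ] [DecidableEq κ] (h2 : (2 : F) ≠ 0) {A : GL κ F} (hA : A * A = 1)
    (h : Module.finrank F (negSp A) = 0) : A = 1 := by
  refine Units.ext (Matrix.ext_iff_mulVec.2 fun x => ?_)
  obtain ⟨h1, h3, h4⟩ := invol_decomp h2 hA x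
  rw [Submodule.finrank_eq_zero.1 h, Submodule.mem_bot] at h3
  rw [h3, add_zero] at h4
  rw [Units.val_one, one_mulVec]
  conv_lhs => rw [h4]
  rw [mem_fixSp.1 h1, ← h4]

/-- an involution negating everything -/
theorem invol_neg_top {κ : Type} [Fintype κ] [DecidableEq κ] (h2 : (2 : F) ≠ 0) {A : GL κ F} (hA : A * A = 1)
    (h : Module.finrank F (negSp A) = Fintype.card κ) : (A : Matrix κ κ F) = -1 := by
  have h0 := invol_finrank h2 hA
  refine Matrix.ext_iff_mulVec.2 fun x => ?_
  obtain ⟨h1, h3, h4⟩ := invol_decomp h2 hA x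
  rw [Submodule.finrank_eq_zero.1 (show Module.finrank F (fixSp A) = 0 by omega), Submodule.mem_bot] at h1
  rw [h1, zero_add] at h4
  rw [neg_mulVec, one_mulVec]
  conv_lhs => rw [h4]
  rw [mem_negSp.1 h3, ← h4]

end General

section Four

variable {F : Type*} [Field F] {g : Ix 1 → F} {hg : Dg g}

local notation "M1" => Matrix (Ix 1) (Ix 1) F
local notation "V1" => Ix 1 → F
local notation "B1" => bf g (s1 1)

/-- an involutive isometry negating a line is a reflection -/
theorem invol_eq_refl (h2 : (2 : F) ≠ 0) {A : GL (Ix 1) F} (hA : A ∈ u1 hg) (hAA : A * A = 1)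
    (h : Module.finrank F (negSp A) = 1) : ∃ (d : V1) (hd : B1 d d ≠ 0), A = refl (bf_symmetric hg.wg) d hd := by
  have hs := bf_symmetric hg.wg
  obtain ⟨d, hd, hdd⟩ := nd_aniso hs h2 (nd_eigen hs h2 hAA (bf_of_mem hA)).2 (by omega)
  have hd0 : d ≠ 0 := fun e => hdd (by rw [e]; exact Orth.sym_zero_left hs _)
  have hspan : Submodule.span F ({d} : Set V1) = negSp A := Submodule.eq_of_le_of_finrank_le
    ((Submodule.span_singleton_le_iff_mem _ _).2 hd) (by rw [finrank_span_singleton hd0, h])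
  refine ⟨d, hdd, Units.ext (Matrix.ext_iff_mulVec.2 fun x => ?_)⟩
  obtain ⟨h1, h3, h4⟩ := invol_decomp h2 hAA x
  obtain ⟨r, hr⟩ := Submodule.mem_span_singleton.1 (hspan.symm ▸ h3 : _ ∈ Submodule.span F ({d} : Set V1))
  obtain ⟨u, hu⟩ : ∃ u, u = (2 : F)⁻¹ • (x + (A : M1) *ᵥ x) := ⟨_, rfl⟩
  rw [← hu] at h1
  rw [← hu, ← hr] at h4
  rw [refl_mulVec, h4, mulVec_add, mem_fixSp.1 h1, mulVec_smul, mem_negSp.1 hd, bf_add_left, bf_smul_left,
    eigen_perp hs h2 (bf_of_mem hA) h1 hd]
  match_scalars <;> field_simp <;> ring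

theorem refl_neg_finrank (h2 : (2 : F) ≠ 0) {d : V1} (hd : B1 d d ≠ 0) :
    Module.finrank F (negSp (refl (bf_symmetric hg.wg) d hd)) = 1 := by
  have hs := bf_symmetric hg.wg
  have hd0 : d ≠ 0 := fun e => hd (by rw [e]; exact Orth.sym_zero_left hs _)
  suffices h : negSp (refl hs d hd) = Submodule.span F ({d} : Set V1) by rw [h, finrank_span_singleton hd0]
  refine le_antisymm (fun x hx => ?_) ?_
  · have e := mem_negSp.1 hx
    rw [refl_mulVec] at e
    refine Submodule.mem_span_singleton.2 ⟨B1 x d / B1 d d, ?_⟩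
    have h3 : (2 : F) • ((B1 x d / B1 d d) • d) = (2 : F) • x := by
      linear_combination (norm := skip) -e
      match_scalars <;> field_simp <;> ring
    exact smul_right_injective _ h2 h3
  · rw [Submodule.span_singleton_le_iff_mem, mem_negSp, refl_mulVec]
    match_scalars <;> field_simp <;> ring

variable {t : ℕ}

local notation "MT" => Matrix (Fin t → Ix 1) (Fin t → Ix 1) F

/-- a vector outside the span of a vector and its image gives a basis with their images -/
theorem exists_free_pair {A : M1} {κ : F} (hA : A * A = κ • 1) (hκ : ¬ IsSquare κ) :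
    ∃ e e' : V1, ∀ p q r r' : F, p • e + q • e' + r • (A *ᵥ e) + r' • (A *ᵥ e') = 0 →
      p = 0 ∧ q = 0 ∧ r = 0 ∧ r' = 0 := by
  classical
  have hAA : ∀ x, A *ᵥ (A *ᵥ x) = κ • x := fun x => by rw [mulVec_mulVec, hA, Matrix.smul_mulVec, one_mulVec]
  set e : V1 := Pi.single 0 1 with he
  obtain ⟨e', he'⟩ := exists_not_mem_pair (m := 1 + 3) (by omega) e (A *ᵥ e)
  set W := Submodule.span F ({e, A *ᵥ e} : Set V1) with hW
  have hWA : ∀ x ∈ W, A *ᵥ x ∈ W := fun x hx => by
    obtain ⟨a, b, rfl⟩ := Submodule.mem_span_pair.1 hx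
    rw [mulVec_add, mulVec_smul, mulVec_smul, hAA, smul_smul]
    exact Submodule.mem_span_pair.2 ⟨b * κ, a, add_comm _ _⟩
  have hdet : ∀ p q : F, p * p = κ * (q * q) → p = 0 ∧ q = 0 := fun p q h => by
    by_cases hq : q = 0
    · subst hq
      exact ⟨by simpa using h, rfl⟩
    · exact absurd ⟨p / q, by field_simp; linear_combination -h⟩ hκ
  refine ⟨e, e', fun p q r r' h => ?_⟩
  have hm : q • e' + r' • (A *ᵥ e') ∈ W := Submodule.mem_span_pair.2 ⟨-p, -r, by
    linear_combination (norm := module) -h⟩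
  have hm' : (q * q - κ * (r' * r')) • e' ∈ W := by
    have := W.sub_mem (W.smul_mem q hm) (W.smul_mem r' (hWA _ hm))
    convert this using 1
    rw [mulVec_add, mulVec_smul, mulVec_smul, hAA]
    module
  obtain ⟨hq, hr'⟩ : q = 0 ∧ r' = 0 := hdet q r' (by
    by_contra hne
    exact he' ((W.smul_mem_iff (sub_ne_zero.2 hne)).1 hm'))
  subst hq; subst hr'
  simp only [zero_smul, add_zero] at h
  obtain ⟨hp, hr⟩ : p = 0 ∧ r = 0 := hdet p r (by
    have h1 := congrArg (A *ᵥ ·) h
    simp only [mulVec_add, mulVec_smul, hAA, mulVec_zero] at h1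
    have h3 : (p * p - κ * (r * r)) • e = 0 := by
      linear_combination (norm := module) p • h - r • h1
    exact sub_eq_zero.1 ((smul_eq_zero.1 h3).resolve_right (by simp [he])))
  exact ⟨hp, rfl, hr, rfl⟩

/-- a factor squaring to a non-square negates at least half -/
theorem nonsq_half {s : ℕ} {A : Fin (s + 1) → GL (Ix 1) F} (hc : pureGL A * pureGL A = 1) (l : Fin (s + 1))
    {κ : F} (hκ : ¬ IsSquare κ) (hA : (A l : M1) * (A l : M1) = κ • 1) :
    2 * 4 ^ s ≤ Module.finrank F (negSp (pureGL A)) := by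
  classical
  obtain ⟨e, e', hfree⟩ := exists_free_pair hA hκ
  set c := pureGL A with hcdef
  let R : GL (Fin s → Ix 1) F := pureGL fun i => A (l.succAbove i)
  have hcv : ∀ x w, (c : Matrix (Fin (s + 1) → Ix 1) (Fin (s + 1) → Ix 1) F) *ᵥ tv l x w =
      tv l ((A l : M1) *ᵥ x) ((R : Matrix (Fin s → Ix 1) (Fin s → Ix 1) F) *ᵥ w) := fun x w => by
    rw [← ten_tv, ten, ← sl_coe]
    congr 1
    rw [← embGL_coe, ← Units.val_mul]
    congr 1
    rw [hcdef, sl_eq_pureGL, embGL_pure, pureGL_mul]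
    congr 1
    funext m
    rcases Fin.eq_self_or_eq_succAbove l m with rfl | ⟨i, rfl⟩
    · simp
    · simp [Pi.mulSingle_eq_of_ne (Fin.succAbove_ne l i)]
  let D : ((Fin s → Ix 1) → F) × ((Fin s → Ix 1) → F) →ₗ[F] ((Fin (s + 1) → Ix 1) → F) :=
    (LinearMap.id - Matrix.mulVecLin (c : Matrix (Fin (s + 1) → Ix 1) (Fin (s + 1) → Ix 1) F)).comp
      ((tvR l e).coprod (tvR l e'))
  have hD : ∀ w, D w ∈ negSp c := fun w => by
    rw [mem_negSp]
    simp only [D, LinearMap.comp_apply, LinearMap.sub_apply, LinearMap.id_apply, Matrix.mulVecLin_apply]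
    rw [mulVec_sub, mulVec_mulVec, ← Units.val_mul, hc, Units.val_one, one_mulVec, neg_sub]
  have hinj : Function.Injective D := by
    rw [← LinearMap.ker_eq_bot, Submodule.eq_bot_iff]
    rintro ⟨w, w'⟩ hw
    have h0 := LinearMap.mem_ker.1 hw
    simp only [D, LinearMap.comp_apply, LinearMap.sub_apply, LinearMap.id_apply, Matrix.mulVecLin_apply,
      LinearMap.coprod_apply, tvR_apply, mulVec_add, hcv] at h0
    suffices h : ∀ p, w p = 0 ∧ w' p = 0 from
      Prod.ext (funext fun p => (h p).1) (funext fun p => (h p).2)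
    intro p
    have h3 : w p • e + w' p • e' + (-((R : Matrix (Fin s → Ix 1) (Fin s → Ix 1) F) *ᵥ w) p) • ((A l : M1) *ᵥ e) +
        (-((R : Matrix (Fin s → Ix 1) (Fin s → Ix 1) F) *ᵥ w') p) • ((A l : M1) *ᵥ e') = 0 := funext fun a => by
      have h5 := congrFun h0 (l.insertNth (α := fun _ => Ix 1) a p)
      simp only [Pi.sub_apply, Pi.add_apply, Pi.zero_apply, tv_apply_insertNth] at h5
      simp only [Pi.add_apply, Pi.smul_apply, Pi.neg_apply, Pi.zero_apply, smul_eq_mul, neg_mul]
      linear_combination h5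
    exact ⟨(hfree _ _ _ _ h3).1, (hfree _ _ _ _ h3).2.1⟩
  have hle := LinearMap.finrank_le_finrank_of_injective (f := D.codRestrict (negSp c) hD)
    fun a b e => hinj (congrArg Subtype.val e)
  rw [Module.finrank_prod, Module.finrank_fintype_fun_eq_card, Fintype.card_fun, Fintype.card_fin,
    Fintype.card_fin] at hle
  norm_num at hle
  omega

/-- a factor squaring to a non-square negates and fixes exactly half -/
theorem nonsq_exact (h2 : (2 : F) ≠ 0) {s : ℕ} {A : Fin (s + 1) → GL (Ix 1) F} (hc : pureGL A * pureGL A = 1)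
    (l : Fin (s + 1)) {κ : F} (hκ : ¬ IsSquare κ) (hA : (A l : M1) * (A l : M1) = κ • 1) :
    Module.finrank F (negSp (pureGL A)) = 2 * 4 ^ s := by
  classical
  have h1 := nonsq_half hc l hκ hA
  let A' : Fin (s + 1) → GL (Ix 1) F := fun k => if k = l then -A k else A k
  have hA' : ((pureGL A' : GL (Fin (s + 1) → Ix 1) F) :
      Matrix (Fin (s + 1) → Ix 1) (Fin (s + 1) → Ix 1) F) = -(pureGL A : GL (Fin (s + 1) → Ix 1) F).val := by
    rw [pureGL_coe, pureGL_coe, show (fun k => (A' k : M1)) = fun k => (if k = l then (-1 : F) else 1) • (A k : M1) from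
      funext fun k => by simp only [A']; split_ifs <;> simp, pure_smul, Finset.prod_ite_eq']
    simp
  have hneg : pureGL A' * pureGL A' = 1 := Units.ext (by
    rw [Units.val_mul, hA', neg_mul_neg, ← Units.val_mul, hc])
  have h3 := nonsq_half hneg l hκ (by simp [A', hA])
  have hfix : negSp (pureGL A') = fixSp (pureGL A) := by
    ext x
    rw [mem_negSp, mem_fixSp, hA', neg_mulVec, neg_inj]
  rw [hfix] at h3
  have h4 := invol_finrank h2 hc
  rw [Fintype.card_fun, Fintype.card_fin, Fintype.card_fin, pow_succ] at h4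
  norm_num at h4
  omega

/-- **Theorem.** A pure involution not negating half is a pure tensor of involutions. -/
theorem pure_invol_normal (h2 : (2 : F) ≠ 0) {s : ℕ} {A : Fin (s + 1) → GL (Ix 1) F}
    (hc : pureGL A * pureGL A = 1) (hdim : Module.finrank F (negSp (pureGL A)) ≠ 2 * 4 ^ s) :
    ∃ B : Fin (s + 1) → GL (Ix 1) F, (∀ l, B l * B l = 1) ∧ pureGL A = pureGL B := by
  classical
  have hκ : ∀ l, ∃ κ : F, κ ≠ 0 ∧ (A l : M1) * (A l : M1) = κ • 1 := by
    intro l
    have h1 : CfsgLib.Perm.Asch.pure (fun k => ((A * A) k : M1)) =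
        CfsgLib.Perm.Asch.pure (1 : Fin (s + 1) → M1) := by
      rw [← pureGL_coe, ← pureGL_mul, hc, pure_one, Units.val_one]
    obtain ⟨κ, hκ0, hκ⟩ := pure_prop h1 (fun k => gl_ne_zero _) (fun k => one_ne_zero_mat) l
    exact ⟨κ, hκ0, hκ⟩
  choose κ hκ0 hκ using hκ
  have hsq : ∀ l, ∃ r : F, r ≠ 0 ∧ κ l = r * r := fun l => by
    by_cases h : IsSquare (κ l)
    · obtain ⟨r, hr⟩ := h
      exact ⟨r, fun e => hκ0 l (by rw [hr, e, zero_mul]), hr⟩
    · exact absurd (nonsq_exact h2 hc l h (hκ l)) hdim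
  choose r hr0 hr using hsq
  have hprod : ∏ l, κ l = 1 := by
    have h1 : ((pureGL A * pureGL A : GL (Fin (s + 1) → Ix 1) F) :
        Matrix (Fin (s + 1) → Ix 1) (Fin (s + 1) → Ix 1) F) = (∏ l, κ l) • 1 := by
      rw [pureGL_mul, pureGL_coe, show (fun l => ((A * A) l : M1)) = fun l => κ l • (1 : Fin (s + 1) → M1) l from
        funext hκ, pure_smul, pure_one]
    rw [hc] at h1
    have h3 := congrFun (congrFun h1 (fun _ => 0)) (fun _ => 0)
    simpa using h3.symm
  let e : Fin (s + 1) → F := fun l => if l = 0 then (∏ k, r k) / r 0 else (r l)⁻¹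
  have he0 : ∀ l, e l ≠ 0 := fun l => by
    simp only [e]; split_ifs
    · exact div_ne_zero (Finset.prod_ne_zero_iff.2 fun k _ => hr0 k) (hr0 0)
    · exact inv_ne_zero (hr0 l)
  have hek : ∀ l, e l * e l * κ l = 1 := fun l => by
    simp only [e, hr]; split_ifs with h
    · subst h
      have hP : (∏ k, r k) * ∏ k, r k = 1 := by
        rw [← Finset.prod_mul_distrib, ← hprod]
        exact Finset.prod_congr rfl fun k _ => (hr k).symm
      have := hr0 0
      field_simp
      linear_combination hP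
    · have := hr0 l
      field_simp
  have he : ∏ l, e l = 1 := by
    rw [← Finset.mul_prod_erase Finset.univ e (Finset.mem_univ 0)]
    have h1 : ∏ l ∈ Finset.univ.erase (0 : Fin (s + 1)), e l = (∏ l ∈ Finset.univ.erase (0 : Fin (s + 1)), r l)⁻¹ := by
      rw [← Finset.prod_inv_distrib]
      exact Finset.prod_congr rfl fun l hl => if_neg (Finset.ne_of_mem_erase hl)
    rw [h1, show e 0 = (∏ k, r k) / r 0 from if_pos rfl, ← Finset.mul_prod_erase Finset.univ r (Finset.mem_univ 0),
      mul_div_cancel_left₀ _ (hr0 0), mul_inv_cancel₀ (Finset.prod_ne_zero_iff.2 fun k _ => hr0 k)]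
  refine ⟨fun l => ⟨e l • (A l : M1), e l • (A l : M1), ?_, ?_⟩, fun l => Units.ext ?_, Units.ext ?_⟩
  · rw [Matrix.smul_mul, Matrix.mul_smul, hκ, smul_smul, smul_smul, hek, one_smul]
  · rw [Matrix.smul_mul, Matrix.mul_smul, hκ, smul_smul, smul_smul, hek, one_smul]
  · show (e l • (A l : M1)) * (e l • (A l : M1)) = 1
    rw [Matrix.smul_mul, Matrix.mul_smul, hκ, smul_smul, smul_smul, hek, one_smul]
  · rw [pureGL_coe, pureGL_coe]
    show _ = CfsgLib.Perm.Asch.pure fun l => e l • (A l : M1)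
    rw [pure_smul, he, one_smul]

/-- **Theorem.** An involution moving factors negates at least three eighths. -/
theorem perm_neg_ge {s : ℕ} {c : GL (Fin (s + 1) → Ix 1) F} (hc : c * c = 1) {σ : Equiv.Perm (Fin (s + 1))}
    (hσ : HasPerm c σ) (hσ1 : σ ≠ 1) : 3 * 4 ^ s ≤ 2 * Module.finrank F (negSp c) := by
  classical
  obtain ⟨A, hA⟩ := hσ
  obtain ⟨a, ha⟩ : ∃ a, σ a ≠ a := by
    by_contra hcon; push Not at hcon; exact hσ1 (Equiv.ext hcon)
  have hσσ : σ * σ = 1 := ((show HasPerm c σ from ⟨A, hA⟩).mul ⟨A, hA⟩).unique (by omega)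
    ⟨1, by rw [hc, permGL_one, pureGL_one, one_mul]⟩
  have hσi : ∀ l, σ (σ l) = l := fun l => Equiv.Perm.ext_iff.1 hσσ l
  set b := σ a with hb
  set V := sl b (A a)⁻¹ with hV
  let A' : Fin (s + 1) → GL (Ix 1) F :=
    (Pi.mulSingle b (A a)⁻¹ ∘ σ) * A * Pi.mulSingle b (A a)
  have hA' : V * c * V⁻¹ = permGL σ * pureGL A' := by
    rw [hV, hA, ← sl_inv, inv_inv, sl_eq_pureGL, sl_eq_pureGL, ← mul_assoc, pureGL_perm, mul_assoc (permGL σ),
      pureGL_mul, mul_assoc, pureGL_mul]
  set c' := V * c * V⁻¹ with hc'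
  have hc'c : c' * c' = 1 := by
    rw [hc', show V * c * V⁻¹ * (V * c * V⁻¹) = V * (c * c) * V⁻¹ by group, hc]; group
  have hAa : A' a = 1 := by
    show (Pi.mulSingle b (A a)⁻¹ : Fin (s + 1) → GL (Ix 1) F) (σ a) * A a *
      (Pi.mulSingle b (A a) : Fin (s + 1) → GL (Ix 1) F) a = 1
    rw [← hb, Pi.mulSingle_eq_same, Pi.mulSingle_eq_of_ne (Ne.symm ha), mul_one, inv_mul_cancel]
  have hAb : ∃ κ : F, (A' b : M1) = κ • 1 := by
    have e : pureGL ((A' ∘ σ) * A') = 1 := by
      have h' := hc'c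
      rw [hA', mul_assoc, ← mul_assoc (pureGL A'), pureGL_perm, mul_assoc, pureGL_mul, ← mul_assoc, permGL_mul, hσσ,
        permGL_one, one_mul] at h'
      exact h'
    have h1 : CfsgLib.Perm.Asch.pure (fun k => (((A' ∘ σ) * A') k : M1)) =
        CfsgLib.Perm.Asch.pure (1 : Fin (s + 1) → M1) := by rw [← pureGL_coe, e, pure_one, Units.val_one]
    obtain ⟨κ, -, hκ⟩ := pure_prop h1 (fun k => gl_ne_zero _) (fun k => one_ne_zero_mat) b
    exact ⟨κ, by simpa [show σ b = a from hσi a, hAa] using hκ⟩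
  obtain ⟨κ, hκ⟩ := hAb
  let S := Finset.univ.filter fun z : Fin (s + 1) → Ix 1 => z a < z b
  have hS : ∀ x ∈ S, ∀ y ∈ S, (c' : Matrix (Fin (s + 1) → Ix 1) (Fin (s + 1) → Ix 1) F) x y = 0 := by
    intro x hx y hy
    rw [hA', Units.val_mul, permGL_coe, permMat_mul, Matrix.of_apply, pureGL_coe, pure_apply]
    by_contra hne
    have e1 := Finset.prod_ne_zero_iff.1 hne a (Finset.mem_univ _)
    have e2 := Finset.prod_ne_zero_iff.1 hne b (Finset.mem_univ _)
    rw [hAa, Units.val_one, Matrix.one_apply, Function.comp_apply, ← hb, ne_eq, ite_eq_right_iff,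
      Classical.not_imp] at e1
    rw [hκ, Matrix.smul_apply, Matrix.one_apply, Function.comp_apply, show σ b = a from hσi a, smul_ne_zero_iff,
      ne_eq, ne_eq, ite_eq_right_iff, Classical.not_imp] at e2
    have h1 := (Finset.mem_filter.1 hx).2
    have h3 := (Finset.mem_filter.1 hy).2
    rw [e2.2.1, e1.1] at h1
    exact lt_asymm h1 h3
  have hle := negSp_ge hc'c S hS
  rw [hc', negSp_conj] at hle
  -- counting
  let S' := Finset.univ.filter fun z : Fin (s + 1) → Ix 1 => z b < z a
  let D := Finset.univ.filter fun z : Fin (s + 1) → Ix 1 => z a = z b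
  have hS' : S'.card = S.card := by
    refine Finset.card_nbij' (· ∘ Equiv.swap a b) (· ∘ Equiv.swap a b) (fun z hz => ?_) (fun z hz => ?_)
      (fun z _ => funext fun i => by simp) (fun z _ => funext fun i => by simp) <;>
      simpa [S, S'] using hz
  obtain ⟨a₀, ha₀⟩ := Fin.exists_succAbove_eq ha
  have hD : D.card ≤ 4 ^ s := by
    have h := Finset.card_le_card_of_injOn (s := D) (t := (Finset.univ : Finset (Fin s → Ix 1)))
      (fun z i => z (a.succAbove i)) (fun z _ => Finset.mem_univ _) (fun z hz z' hz' e => funext fun i => by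
        simp only [Finset.coe_filter, Finset.mem_univ, true_and, Set.mem_setOf_eq, D] at hz hz'
        rcases Fin.eq_self_or_eq_succAbove a i with hi | ⟨i, rfl⟩
        · rw [hi, hz, hz', show b = a.succAbove a₀ from ha₀.symm]; exact congrFun e a₀
        · exact congrFun e i)
    rwa [Finset.card_univ, Fintype.card_fun, Fintype.card_fin, Fintype.card_fin] at h
  have htot : 4 ^ (s + 1) ≤ S.card + S'.card + D.card := by
    have hsub : (Finset.univ : Finset (Fin (s + 1) → Ix 1)) ⊆ S ∪ S' ∪ D := fun z _ => by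
      rcases lt_trichotomy (z a) (z b) with h | h | h
      · simp [S, h]
      · simp [D, h]
      · simp [S', h]
    have h := (Finset.card_le_card hsub).trans
      ((Finset.card_union_le _ _).trans (Nat.add_le_add_right (Finset.card_union_le _ _) _))
    rwa [Finset.card_univ, Fintype.card_fun, Fintype.card_fin, Fintype.card_fin] at h
  have hle' : S.card ≤ Module.finrank F (negSp c) := hle
  rw [pow_succ] at htot
  norm_num at htot hD
  omega

/-- **Theorem.** An involution of the wreath subgroup negating a quarter is a reflection of one factor. -/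
theorem refl_of_invol (h2 : (2 : F) ≠ 0) {s : ℕ} {c : GL (Fin (s + 1) → Ix 1) F}
    (hc : c ∈ tensorWreathStandard (1 + 3) (s + 1) F) (hu : c ∈ uT hg (s + 1)) (hcc : c * c = 1)
    (hdim : Module.finrank F (negSp c) = 4 ^ s) :
    ∃ (l : Fin (s + 1)) (d : V1) (hd : B1 d d ≠ 0), c = sl l (refl (bf_symmetric hg.wg) d hd) := by
  classical
  obtain ⟨σ, A, hA⟩ := tw_shape hc
  have hpos : 0 < 4 ^ s := pow_pos (by omega) s
  by_cases hσ : σ = 1
  swap
  · have := perm_neg_ge hcc ⟨A, hA⟩ hσ
    omega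
  rw [hσ, permGL_one, one_mul] at hA
  subst hA
  obtain ⟨B, hB, e⟩ := pure_invol_normal h2 hcc (by omega)
  rw [e] at hu hdim ⊢
  have h1 := pure_neg_dim h2 hB
  rw [hdim] at h1
  obtain ⟨q, hq⟩ : ∃ q : Fin (s + 1) → ℕ, q = fun l => Module.finrank F (negSp (B l)) := ⟨_, rfl⟩
  have hq4 : ∀ l, q l ≤ 4 := fun l => by
    have := invol_finrank h2 (hB l)
    rw [Fintype.card_fin] at this
    rw [hq]
    show Module.finrank F (negSp (B l)) ≤ 4
    omega
  have hprod : ∏ l, ((4 : ℤ) - 2 * q l) = 2 * 4 ^ s := by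
    have e0 : ∀ l, ((1 + 3 : ℕ) : ℤ) - 2 * (Module.finrank F (negSp (B l)) : ℤ) = (4 : ℤ) - 2 * q l := fun l => by
      rw [hq]; norm_num
    simp only [e0] at h1
    push_cast at h1
    rw [pow_succ] at h1
    linear_combination h1
  have hnat : ∏ l, ((4 : ℤ) - 2 * q l).natAbs = 2 * 4 ^ s := by
    have h3 := congrArg Int.natAbs hprod
    rw [← Int.natAbsHom_apply, map_prod, Int.natAbs_mul, Int.natAbs_pow] at h3
    exact h3
  let S := Finset.univ.filter fun l : Fin (s + 1) => q l = 1 ∨ q l = 3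
  have hval : ∀ l, ((4 : ℤ) - 2 * q l).natAbs = if l ∈ S then 2 else 4 := by
    intro l
    have hne : ((4 : ℤ) - 2 * q l).natAbs ≠ 0 := fun e0 => by
      rw [Finset.prod_eq_zero (Finset.mem_univ l) e0] at hnat
      omega
    have := hq4 l
    simp only [S, Finset.mem_filter, Finset.mem_univ, true_and]
    split_ifs with h <;> omega
  have hS : S.card = 1 := by
    rw [Finset.prod_congr rfl (fun l _ => hval l), Finset.prod_ite, Finset.prod_const, Finset.prod_const] at hnat
    have h3 := Finset.card_filter_add_card_filter_not (s := (Finset.univ : Finset (Fin (s + 1)))) (· ∈ S)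
    rw [Finset.card_univ, Fintype.card_fin] at h3
    rw [Finset.filter_mem_eq_inter, Finset.univ_inter] at hnat h3
    rw [show (4 : ℕ) = 2 ^ 2 from rfl, ← pow_mul, ← pow_mul, ← pow_add, ← pow_succ'] at hnat
    have := Nat.pow_right_injective (le_refl 2) hnat
    omega
  obtain ⟨l, hl⟩ := Finset.card_eq_one.1 hS
  -- the other factors are scalars
  have hsc : ∀ k, k ≠ l → ∃ ε : F, (ε = 1 ∨ ε = -1) ∧ (B k : M1) = ε • 1 := by
    intro k hk
    have h3 : k ∉ S := by rw [hl, Finset.mem_singleton]; exact hk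
    have h4 := hval k
    rw [if_neg h3] at h4
    have := hq4 k
    rcases (show q k = 0 ∨ q k = 4 by omega) with h0 | h0 <;> rw [hq] at h0
    · exact ⟨1, Or.inl rfl, by rw [invol_neg_zero h2 (hB k) h0, Units.val_one, one_smul]⟩
    · exact ⟨-1, Or.inr rfl, by rw [invol_neg_top h2 (hB k) (by rw [Fintype.card_fin]; exact h0), neg_one_smul]⟩
  choose ε hε hεB using hsc
  let e' : Fin (s + 1) → F := fun k => if h : k = l then 1 else ε k h
  have he' : ∀ k, e' k * e' k = 1 := fun k => by
    simp only [e']; split_ifs with h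
    · exact one_mul 1
    · rcases hε k h with h' | h' <;> simp [h']
  have hP : (∏ k, e' k) * (∏ k, e' k) = 1 := by
    rw [← Finset.prod_mul_distrib]; exact Finset.prod_eq_one fun k _ => he' k
  have hBB : (B l : M1) * (B l : M1) = 1 := by rw [← Units.val_mul, hB, Units.val_one]
  let T : GL (Ix 1) F := ⟨(∏ k, e' k) • (B l : M1), (∏ k, e' k) • (B l : M1),
    by rw [Matrix.smul_mul, Matrix.mul_smul, hBB, smul_smul, hP, one_smul],
    by rw [Matrix.smul_mul, Matrix.mul_smul, hBB, smul_smul, hP, one_smul]⟩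
  have hTT : T * T = 1 := Units.ext T.val_inv
  have hBT : pureGL B = sl l T := by
    refine Units.ext ?_
    rw [sl_coe, pureGL_coe]
    show _ = slot l ((∏ k, e' k) • (B l : M1))
    rw [TensorPower.slot_smul, slot, ← pure_smul]
    congr 1
    funext k
    rcases eq_or_ne k l with rfl | hk
    · simp [e']
    · simp [e', hk, hεB k hk, Pi.mulSingle_eq_of_ne hk]
  rw [hBT] at hu hdim ⊢
  have hTn : Module.finrank F (negSp T) = 1 := by
    have h3 := pure_neg_dim h2 (A := Pi.mulSingle l T) (fun k => by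
      rcases eq_or_ne k l with rfl | hk
      · rw [Pi.mulSingle_eq_same, hTT]
      · rw [Pi.mulSingle_eq_of_ne hk, one_mul])
    rw [← sl_eq_pureGL, hdim, ← Finset.mul_prod_erase Finset.univ _ (Finset.mem_univ l), Pi.mulSingle_eq_same,
      Finset.prod_congr rfl (g := fun _ => (4 : ℤ)) (fun k hk => by
        rw [Pi.mulSingle_eq_of_ne (Finset.ne_of_mem_erase hk),
          show Module.finrank F (negSp (1 : GL (Ix 1) F)) = 0 by
            rw [Submodule.finrank_eq_zero, Submodule.eq_bot_iff]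
            intro x hx
            have h4 := mem_negSp.1 hx
            rw [Units.val_one, one_mulVec] at h4
            exact (smul_eq_zero.1 (show (2 : F) • x = 0 by linear_combination (norm := module) h4)).resolve_left h2]
        norm_num), Finset.prod_const, Finset.card_erase_of_mem (Finset.mem_univ l), Finset.card_univ,
      Fintype.card_fin, Nat.add_sub_cancel] at h3
    push_cast at h3
    rw [pow_succ] at h3
    have h5 : ((1 : ℤ) - (Module.finrank F (negSp T) : ℤ)) * 4 ^ s = 0 := by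
      refine (mul_eq_zero.1 (show (2 : ℤ) * (((1 : ℤ) - (Module.finrank F (negSp T) : ℤ)) * 4 ^ s) = 0 by
        linear_combination h3)).resolve_left (by norm_num)
    have h7 : (4 : ℤ) ^ s ≠ 0 := pow_ne_zero _ (by norm_num)
    have h8 := (mul_eq_zero.1 h5).resolve_right h7
    omega
  obtain ⟨d, hd, hTd⟩ := invol_eq_refl h2 ((sl_mem_iff (hg := hg) l).1 hu) hTT hTn
  exact ⟨l, d, hd, by rw [hTd]⟩

end Four

end CfsgLib.Perm.Trans.TensorPowerO
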