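import Mathlib
import Cfsg.Agent.Lib.Perm.Trans.TensorPowerO.K4Invol

/-!
# Normalisers of the base group for four-dimensional factors of minus type
-/

set_option autoImplicit false
set_option linter.all false

namespace CfsgLib.Perm.Trans.TensorPowerO

open scoped Matrix
open Matrix Cfsg.Geo CfsgLib.Perm.Asch CfsgLib.Perm.Trans CfsgLib.Perm.Trans.TensorPower
open CfsgLib.Perm.Trans.TensorSO CfsgLib.Perm.Trans.TensorOO

section General

variable {F : Type*} [Field F] {n s : ℕ}

local notation "M1" => Matrix (Ix n) (Ix n) F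
local notation "MT" => Matrix (Fin s → Ix n) (Fin s → Ix n) F

/-- the matrices of one factor carried into another -/
def carried (C : GL (Fin s → Ix n) F) (i l : Fin s) : Submodule F (Matrix (Ix n) (Ix n) F) where
  carrier := {X | ∃ X', cj C (slot i X : Matrix (Fin s → Ix n) (Fin s → Ix n) F) = slot l X'}
  zero_mem' := ⟨0, by rw [TensorPower.slot_zero, TensorPower.cj_zero, TensorPower.slot_zero]⟩
  add_mem' := by
    rintro X Y ⟨X', hX⟩ ⟨Y', hY⟩
    exact ⟨X' + Y', by rw [TensorPower.slot_add, cj_add, hX, hY, TensorPower.slot_add]⟩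
  smul_mem' := by
    rintro c X ⟨X', hX⟩
    exact ⟨c • X', by rw [TensorPower.slot_smul, cj_smul, hX, TensorPower.slot_smul]⟩

theorem carried_mul {C : GL (Fin s → Ix n) F} {i l : Fin s} {X Y : M1} (hX : X ∈ carried C i l)
    (hY : Y ∈ carried C i l) : X * Y ∈ carried C i l := by
  obtain ⟨X', hX⟩ := hX
  obtain ⟨Y', hY⟩ := hY
  exact ⟨X' * Y', by rw [← slot_mul, cj_mul, hX, hY, slot_mul]⟩

theorem carried_one (C : GL (Fin s → Ix n) F) (i l : Fin s) : (1 : M1) ∈ carried C i l :=
  ⟨1, by rw [TensorPower.slot_one, cj_one, TensorPower.slot_one]⟩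

theorem carried_of_sl {C : GL (Fin s → Ix n) F} {i l : Fin s} {u v : GL (Ix n) F}
    (h : C * sl i u * C⁻¹ = sl l v) : (u : M1) ∈ carried C i l :=
  ⟨v, by rw [← sl_coe, ← sl_coe, cj_coe, h]⟩

variable {g : Ix n → F}

/-- **Theorem.** Carrying each factor into a factor puts an element in the wreath subgroup. -/
theorem tw_of_rank_one (hg : Dg g) (hs : 0 < s) {C : GL (Fin s → Ix n) F} (π : Fin s → Fin s)
    (h : ∀ i (u v : Ix n → F), vecMulVec u (dual g (s1 n) v) ∈ carried C i (π i)) :
    C ∈ tensorWreathStandard (n + 3) s F := by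
  haveI : Nonempty (Ix n) := ⟨0⟩
  have hall : ∀ i (X : M1), X ∈ carried C i (π i) := by
    intro i X
    rw [Matrix.matrix_eq_sum_single X]
    refine Submodule.sum_mem _ fun x _ => Submodule.sum_mem _ fun y _ => ?_
    rw [show Matrix.single x y (X x y) = X x y • vecMulVec (Pi.single x (1 : F))
        (dual g (s1 n) (Pi.single (s1 n y) (g (s1 n y))⁻¹)) by
      rw [dual_single hg.wg, s1_inv, mul_inv_cancel₀ (hg.nz _), ← Matrix.single_eq_single_vecMulVec_single]
      simp]
    exact (carried C i (π i)).smul_mem _ (h i _ _)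
  choose φ hφ using hall
  have hinj : Function.Injective π := by
    intro i j hij
    by_contra hne
    have hlin : Function.Injective (φ i) := fun X Y e => slot_injective i (cj_injective C (by rw [hφ, hφ, e]))
    let l : M1 →ₗ[F] M1 :=
      { toFun := φ i
        map_add' := fun X Y => slot_injective (π i) (by
          rw [← hφ, TensorPower.slot_add, cj_add, hφ, hφ, TensorPower.slot_add])
        map_smul' := fun c X => slot_injective (π i) (by
          rw [RingHom.id_apply, ← hφ, TensorPower.slot_smul, cj_smul, hφ, TensorPower.slot_smul]) }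
    obtain ⟨X, hX⟩ := LinearMap.surjective_of_injective (f := l) hlin (φ j (Matrix.single 0 1 1))
    have e : (slot i X : MT) = slot j (Matrix.single 0 1 1) := cj_injective C (by
      rw [hφ, hφ, hij]; exact congrArg _ hX)
    obtain ⟨c, hc⟩ := scalar_of_slot_eq (by omega) (Ne.symm hne) e.symm
    have h1 := congrFun (congrFun hc 0) 1
    rw [Matrix.single_apply_same, Matrix.smul_apply, Matrix.one_apply_ne zero_ne_one', smul_zero] at h1
    exact one_ne_zero h1
  exact tw_of_slots (by omega) hs (Equiv.ofBijective π (Finite.injective_iff_bijective.1 hinj))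
    fun i a b => ⟨φ i (Matrix.single a b 1), hφ i _⟩

end General

variable {F : Type*} [Field F] {g : Ix 1 → F} {hg : Dg g}

local notation "M1" => Matrix (Ix 1) (Ix 1) F
local notation "V1" => Ix 1 → F
local notation "B1" => bf g (s1 1)

/-- reflections of non-orthogonal independent vectors do not commute -/
theorem refl_ne_comm (h2 : (2 : F) ≠ 0) {d e : V1} (hd : B1 d d ≠ 0) (he : B1 e e ≠ 0) (hde : B1 d e ≠ 0)
    (hne : ∀ c : F, e ≠ c • d) :
    refl (bf_symmetric hg.wg) d hd * refl (bf_symmetric hg.wg) e he ≠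
      refl (bf_symmetric hg.wg) e he * refl (bf_symmetric hg.wg) d hd := fun h => by
  have hs := bf_symmetric hg.wg
  have h1 := congrArg (fun A : GL (Ix 1) F => (A : M1) *ᵥ d) h
  simp only [gl_mul_mulVec, refl_mulVec, Orth.sym_sub_left hs, bf_smul_left, bf_comm hg.wg e d] at h1
  have h3 : (2 * (2 / B1 e e * B1 d e)) • e = (2 / B1 d d * (2 / B1 e e * B1 d e * B1 d e)) • d := by
    linear_combination (norm := skip) -h1
    match_scalars <;> field_simp <;> ring
  have hk : 2 * (2 / B1 e e * B1 d e) ≠ 0 := mul_ne_zero h2 (mul_ne_zero (div_ne_zero h2 he) hde)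
  refine hne ((2 * (2 / B1 e e * B1 d e))⁻¹ * (2 / B1 d d * (2 / B1 e e * B1 d e * B1 d e))) ?_
  rw [mul_smul, ← h3, smul_smul, inv_mul_cancel₀ hk, one_smul]

/-- the negated space of a reflection in one factor -/
theorem sl_refl_neg (h2 : (2 : F) ≠ 0) {r : ℕ} (l : Fin (r + 1)) {d : V1} (hd : B1 d d ≠ 0) :
    Module.finrank F (negSp (sl l (refl (bf_symmetric hg.wg) d hd) : GL (Fin (r + 1) → Ix 1) F)) = 4 ^ r := by
  classical
  have hs := bf_symmetric hg.wg
  set T := refl hs d hd with hT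
  have h3 := pure_neg_dim h2 (A := Pi.mulSingle l T) (fun k => by
    rcases eq_or_ne k l with rfl | hk
    · rw [Pi.mulSingle_eq_same, hT, TensorOO.refl_sq]
    · rw [Pi.mulSingle_eq_of_ne hk, one_mul])
  rw [← sl_eq_pureGL, ← Finset.mul_prod_erase Finset.univ _ (Finset.mem_univ l), Pi.mulSingle_eq_same,
    hT, refl_neg_finrank (hg := hg) h2 hd, Finset.prod_congr rfl (g := fun _ => (4 : ℤ)) (fun k hk => by
      rw [Pi.mulSingle_eq_of_ne (Finset.ne_of_mem_erase hk),
        show Module.finrank F (negSp (1 : GL (Ix 1) F)) = 0 by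
          rw [Submodule.finrank_eq_zero, Submodule.eq_bot_iff]
          intro x hx
          have h4 := mem_negSp.1 hx
          rw [Units.val_one, one_mulVec] at h4
          exact (smul_eq_zero.1 (show (2 : F) • x = 0 by linear_combination (norm := module) h4)).resolve_left h2]
      norm_num), Finset.prod_const, Finset.card_erase_of_mem (Finset.mem_univ l), Finset.card_univ,
    Fintype.card_fin, Nat.add_sub_cancel] at h3
  push_cast at h3
  rw [pow_succ] at h3
  have h5 : (Module.finrank F (negSp (sl l T : GL (Fin (r + 1) → Ix 1) F)) : ℤ) = ((4 ^ r : ℕ) : ℤ) := by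
    push_cast
    linarith
  exact_mod_cast h5

variable [Fintype F]

/-- normalisers for three or more factors -/
theorem normTw_four_big (h2 : (2 : F) ≠ 0) (hn : Even (1 + 3)) {r : ℕ} (hr : 2 ≤ r) : NormTw hg (r + 1) := by
  classical
  intro C μ hμ hadj hC
  have hs := bf_symmetric hg.wg
  have himg : ∀ (i : Fin (r + 1)) (d : V1) (hd : B1 d d ≠ 0), ∃ (l : Fin (r + 1)) (d' : V1) (hd' : B1 d' d' ≠ 0),
      C * sl i (refl hs d hd) * C⁻¹ = sl l (refl hs d' hd') := fun i d hd => by
    refine refl_of_invol (hg := hg) h2 (hC _ ⟨sl_mem_tw _ _, sl_refl_Om h2 hn (by omega) i hd⟩)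
      (sim_conj_uT hμ hadj (sl_mem_uT _ (rfl_mem hg.wg d hd))) ?_ ?_
    · rw [show C * sl i (refl hs d hd) * C⁻¹ * (C * sl i (refl hs d hd) * C⁻¹) =
        C * (sl i (refl hs d hd) * sl i (refl hs d hd)) * C⁻¹ by group, sl_mul, TensorOO.refl_sq, sl_one]
      group
    · rw [negSp_conj, sl_refl_neg (hg := hg) h2]
  choose L f hf hLf using himg
  have hclose : ∀ i {d e : V1} (hd : B1 d d ≠ 0) (he : B1 e e ≠ 0), B1 d e ≠ 0 → L i d hd = L i e he := by
    intro i d e hd he hde
    by_cases hpar : ∃ c : F, e = c • d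
    · obtain ⟨c, rfl⟩ := hpar
      have hc : c ≠ 0 := fun h => hde (by rw [h, zero_smul]; exact Orth.sym_zero_right hs _)
      have e1 : refl hs (c • d) he = refl hs d hd := Units.ext (Matrix.ext_iff_mulVec.2 fun x => by
        rw [refl_mulVec, refl_mulVec, bf_smul_left, bf_smul_right, bf_smul_right, smul_smul]
        congr 2
        field_simp)
      by_contra hne
      have h1 := hLf i d hd
      rw [← e1, hLf i _ he] at h1
      obtain ⟨k, hk⟩ := scalar_of_slot_eq (by omega) hne (show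
        (slot (L i d hd) (refl hs (f i d hd) (hf i d hd) : M1) :
          Matrix (Fin (r + 1) → Ix 1) (Fin (r + 1) → Ix 1) F) =
        slot (L i (c • d) he) (refl hs (f i (c • d) he) (hf i (c • d) he) : M1) by
          rw [← sl_coe, ← sl_coe, h1])
      obtain ⟨b, _, _, hbb, -, -, hdb, -⟩ := exists_basis4 h2 hg (hf i d hd)
      have k1 := congrArg (fun X : M1 => B1 (X *ᵥ b) b) hk
      have k3 := congrArg (fun X : M1 => B1 (X *ᵥ f i d hd) (f i d hd)) hk
      simp only [refl_mulVec, bf_comm hg.wg b (f i d hd), hdb, mul_zero, zero_smul, sub_zero, Matrix.smul_mulVec,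
        one_mulVec, bf_smul_left, Orth.sym_sub_left hs] at k1 k3
      have hk1 : k = 1 := mul_right_cancel₀ hbb (k1.symm.trans (one_mul _).symm)
      rw [hk1] at k3
      field_simp at k3
      exact hf i d hd ((mul_eq_zero.1 (show (2 : F) * B1 (f i d hd) (f i d hd) = 0 by
        linear_combination -k3)).resolve_left h2)
    · push Not at hpar
      by_contra hne
      refine refl_ne_comm (hg := hg) h2 hd he hde hpar (sl_inj (k := i) (by omega) ?_)
      rw [← sl_mul, ← sl_mul]
      have h1 : C * (sl i (refl hs d hd) * sl i (refl hs e he)) * C⁻¹ =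
          C * (sl i (refl hs e he) * sl i (refl hs d hd)) * C⁻¹ := by
        calc C * (sl i (refl hs d hd) * sl i (refl hs e he)) * C⁻¹
            = C * sl i (refl hs d hd) * C⁻¹ * (C * sl i (refl hs e he) * C⁻¹) := by group
          _ = C * sl i (refl hs e he) * C⁻¹ * (C * sl i (refl hs d hd) * C⁻¹) := by
            rw [hLf, hLf, sl_comm hne]
          _ = _ := by group
      exact mul_left_cancel (mul_right_cancel h1)
  have hconst : ∀ i {d e : V1} (hd : B1 d d ≠ 0) (he : B1 e e ≠ 0), L i d hd = L i e he := by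
    intro i d e hd he
    by_cases hde : B1 d e ≠ 0
    · exact hclose i hd he hde
    push Not at hde
    have hed : B1 e d = 0 := by rw [bf_comm hg.wg]; exact hde
    obtain ⟨u, hu, h1, h3⟩ : ∃ u, B1 u u ≠ 0 ∧ B1 d u ≠ 0 ∧ B1 u e ≠ 0 := by
      by_cases h : B1 d d + B1 e e ≠ 0
      · refine ⟨d + e, ?_, ?_, ?_⟩
        · simpa only [bf_add_left, bf_add_right, hde, hed, add_zero, zero_add] using h
        · rwa [bf_add_right, hde, add_zero]
        · rwa [bf_add_left, hde, zero_add]
      push Not at h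
      have hh1 := perp_dim hs h2 (Submodule.mem_top (x := d)) hd
      rw [top_finrank hs, Fintype.card_fin] at hh1
      have he' : e ∈ perp hs (⊤ : Submodule F V1) d := ⟨trivial, hed⟩
      have hh3 := perp_dim hs h2 he' he
      obtain ⟨w, hw, hww⟩ := nd_aniso hs h2
        (nd_perp hs (nd_perp hs (nd_top hs) (Submodule.mem_top (x := d)) hd) he' he) (by omega)
      have hwd : B1 w d = 0 := hw.1.2
      have hwe : B1 w e = 0 := hw.2
      refine ⟨d + e + w, ?_, ?_, ?_⟩
      · intro h0
        simp only [bf_add_left, bf_add_right, hde, hed, hwd, hwe, bf_comm hg.wg d w, bf_comm hg.wg e w] at h0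
        exact hww (by linear_combination h0 - h)
      · rwa [bf_add_right, bf_add_right, hde, bf_comm hg.wg d w, hwd, add_zero, add_zero]
      · rwa [bf_add_left, bf_add_left, hde, hwe, zero_add, add_zero]
    exact (hclose i hd hu h1).trans (hclose i hu he h3)
  obtain ⟨d0, -, hd0⟩ := nd_value hs h2 (nd_top hs) (by rw [top_finrank hs, Fintype.card_fin]; omega)
    (one_ne_zero (α := F))
  have hd0' : B1 d0 d0 ≠ 0 := by rw [hd0]; exact one_ne_zero
  let π : Fin (r + 1) → Fin (r + 1) := fun i => L i d0 hd0'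
  have h11 : ∀ i (d : V1), B1 d d ≠ 0 → vecMulVec d (dual g (s1 1) d) ∈ carried C i (π i) := by
    intro i d hd
    have h1 : (refl hs d hd : M1) ∈ carried C i (π i) :=
      carried_of_sl (v := refl hs (f i d hd) (hf i d hd)) (by
        rw [hLf, show π i = L i d hd from hconst i hd0' hd])
    rw [show vecMulVec d (dual g (s1 1) d) = (B1 d d / 2) • ((1 : M1) - (refl hs d hd : M1)) by
      rw [rfl_coe hg.wg, sub_sub_cancel, smul_smul, div_mul_div_comm, mul_comm, div_self (mul_ne_zero h2 hd),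
        one_smul]]
    exact Submodule.smul_mem _ _ (Submodule.sub_mem _ (carried_one C _ _) h1)
  have h12 : ∀ i (d v : V1), B1 d d ≠ 0 → vecMulVec d (dual g (s1 1) v) ∈ carried C i (π i) := by
    intro i d v hd
    let W : Submodule F V1 :=
      { carrier := {v | vecMulVec d (dual g (s1 1) v) ∈ carried C i (π i)}
        zero_mem' := by
          show _ ∈ carried C i (π i)
          rw [dual_zero, show vecMulVec d (0 : V1) = 0 by ext; simp [vecMulVec_apply]]
          exact (carried C i (π i)).zero_mem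
        add_mem' := by
          intro v w hv hw
          show _ ∈ carried C i (π i)
          rw [dual_add, vecMulVec_add]
          exact (carried C i (π i)).add_mem hv hw
        smul_mem' := by
          intro c v hv
          show _ ∈ carried C i (π i)
          rw [dual_smul, vecMulVec_smul]
          exact (carried C i (π i)).smul_mem c hv }
    have hW : ∀ e, B1 e e ≠ 0 → B1 d e ≠ 0 → e ∈ W := fun e he hde => by
      show _ ∈ carried C i (π i)
      have h1 := carried_mul (h11 i d hd) (h11 i e he)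
      rw [vecMulVec_mul_vecMulVec, vecMulVec_smul] at h1
      have e' := (carried C i (π i)).smul_mem (B1 d e)⁻¹ h1
      rwa [smul_smul, show dual g (s1 1) d ⬝ᵥ e = B1 d e from rfl, inv_mul_cancel₀ hde, one_smul] at e'
    have hdW : d ∈ W := h11 i d hd
    obtain ⟨a, b, c, ha, hb, hc, hda, hdb, hdc, hab, hac, hbc, hexp⟩ := exists_basis4 h2 hg hd
    have key : ∀ f e : V1, B1 f f ≠ 0 → B1 e e ≠ 0 → B1 d f = 0 → B1 d e = 0 → B1 f e = 0 → f ∈ W := by
      intro f e hf he hdf hde hfe
      have hfd : B1 f d = 0 := by rw [bf_comm hg.wg]; exact hdf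
      have hed : B1 e d = 0 := by rw [bf_comm hg.wg]; exact hde
      have hef : B1 e f = 0 := by rw [bf_comm hg.wg]; exact hfe
      by_cases h : B1 d d + B1 f f ≠ 0
      · have h1 : d + f ∈ W := hW _ (by simpa only [bf_add_left, bf_add_right, hdf, hfd, add_zero, zero_add] using h)
          (by rwa [bf_add_right, hdf, add_zero])
        simpa using W.sub_mem h1 hdW
      push Not at h
      have h1 : ∀ k : F, k * k = 1 → d + f + k • e ∈ W := fun k hk => hW _ (fun h0 => he (by
        simp only [bf_add_left, bf_add_right, bf_smul_left, bf_smul_right, hdf, hfd, hde, hed, hfe, hef] at h0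
        linear_combination h0 - h - B1 e e * hk)) (by
        rwa [bf_add_right, bf_add_right, bf_smul_right, hdf, hde, mul_zero, add_zero, add_zero])
      have h3 := W.sub_mem (W.smul_mem (2 : F)⁻¹ (W.add_mem (h1 1 (one_mul 1)) (h1 (-1) (by ring)))) hdW
      convert h3 using 1
      match_scalars <;> field_simp <;> ring
    have hca : B1 c a = 0 := by rw [bf_comm hg.wg]; exact hac
    rw [show vecMulVec d (dual g (s1 1) v) = vecMulVec d (dual g (s1 1) v) from rfl]
    show v ∈ W
    rw [hexp v]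
    exact W.add_mem (W.add_mem (W.add_mem (W.smul_mem _ hdW) (W.smul_mem _ (key a b ha hb hda hdb hab)))
      (W.smul_mem _ (key b c hb hc hdb hdc hbc))) (W.smul_mem _ (key c a hc ha hdc hda hca))
  refine tw_of_rank_one hg (by omega) π fun i u v => ?_
  obtain ⟨a, b, c, ha, hb, hc, -, -, -, -, -, -, hexp⟩ := exists_basis4 h2 hg hd0'
  rw [hexp u]
  simp only [add_vecMulVec, smul_vecMulVec]
  exact Submodule.add_mem _ (Submodule.add_mem _ (Submodule.add_mem _
    (Submodule.smul_mem _ _ (h12 i _ v hd0')) (Submodule.smul_mem _ _ (h12 i _ v ha)))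
    (Submodule.smul_mem _ _ (h12 i _ v hb))) (Submodule.smul_mem _ _ (h12 i _ v hc))

/-- the elements of order `p` of the wreath subgroup of two factors are pure tensors of such -/
theorem tw_two_unipotent (h2 : (2 : F) ≠ 0) {p : ℕ} [Fact p.Prime] [CharP F p] (hp : Odd p)
    {y : GL (Fin 2 → Ix 1) F} (hy : y ∈ tensorWreathStandard (1 + 3) 2 F) (hu : y ∈ uT hg 2) (hyp : y ^ p = 1) :
    ∃ B : Fin 2 → GL (Ix 1) F, (∀ l, B l ∈ u1 hg) ∧ (∀ l, B l ^ p = 1) ∧ y = pureGL B := by
  classical
  have hs := bf_symmetric hg.wg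
  obtain ⟨σ, A, hA⟩ := tw_shape hy
  have hσp : σ ^ p = 1 := by
    have h : ∀ k : ℕ, HasPerm (y ^ k) (σ ^ k) := fun k => by
      induction k with
      | zero => exact ⟨1, by rw [pow_zero, pow_zero, permGL_one, pureGL_one, one_mul]⟩
      | succ k ih => rw [pow_succ, pow_succ]; exact ih.mul ⟨A, hA⟩
    have h1 := h p
    rw [hyp] at h1
    exact h1.unique (by omega) ⟨1, by rw [permGL_one, pureGL_one, one_mul]⟩
  have hσ : σ = 1 := by
    have h1 : σ ^ 2 = 1 := by
      have h : ∀ τ : Equiv.Perm (Fin 2), τ ^ 2 = 1 := by decide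
      exact h σ
    obtain ⟨k, hk⟩ := hp
    rw [hk, pow_add, pow_mul, h1, one_pow, one_mul, pow_one] at hσp
    exact hσp
  rw [hσ, permGL_one, one_mul] at hA
  subst hA
  have hpw : ∀ k : ℕ, pureGL A ^ k = pureGL (A ^ k) := fun k => by
    induction k with
    | zero => rw [pow_zero, pow_zero, pureGL_one]
    | succ k ih => rw [pow_succ, pow_succ, ih, pureGL_mul]
  rw [hpw] at hyp
  have hκ : ∀ l, ∃ κ : F, κ ≠ 0 ∧ ((A l ^ p : GL (Ix 1) F) : M1) = κ • 1 := by
    intro l
    have h1 : CfsgLib.Perm.Asch.pure (fun k => ((A ^ p) k : M1)) =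
        CfsgLib.Perm.Asch.pure (1 : Fin 2 → M1) := by rw [← pureGL_coe, hyp, pure_one, Units.val_one]
    obtain ⟨κ, hκ0, hκ⟩ := pure_prop h1 (fun k => gl_ne_zero _) (fun k => one_ne_zero_mat) l
    exact ⟨κ, hκ0, hκ⟩
  choose κ hκ0 hκ using hκ
  have hκ01 : κ 0 * κ 1 = 1 := by
    have h1 : ((pureGL (A ^ p) : GL (Fin 2 → Ix 1) F) : Matrix (Fin 2 → Ix 1) (Fin 2 → Ix 1) F) =
        (∏ l, κ l) • 1 := by
      rw [pureGL_coe, show (fun l => ((A ^ p) l : M1)) = fun l => κ l • (1 : Fin 2 → M1) l from funext hκ, pure_smul,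
        pure_one]
    rw [hyp, Fin.prod_univ_two] at h1
    simpa using (congrFun (congrFun h1 (fun _ => 0)) (fun _ => 0)).symm
  obtain ⟨r, hr⟩ : ∃ r : F, r ^ p = κ 0 :=
    (Finite.injective_iff_surjective.1 (frobenius_inj F p)) (κ 0)
  have hr0 : r ≠ 0 := fun e => hκ0 0 (by rw [← hr, e, zero_pow (Fact.out : p.Prime).ne_zero])
  let e : Fin 2 → F := ![r⁻¹, r]
  have he0 : ∀ l, e l ≠ 0 := Fin.forall_fin_two.2 ⟨inv_ne_zero hr0, hr0⟩
  have hek : ∀ l, e l ^ p * κ l = 1 := Fin.forall_fin_two.2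
    ⟨by show r⁻¹ ^ p * κ 0 = 1; rw [inv_pow, hr, inv_mul_cancel₀ (hκ0 0)],
      by show r ^ p * κ 1 = 1; rw [hr, hκ01]⟩
  let B : Fin 2 → GL (Ix 1) F := fun l => ⟨e l • (A l : M1), (e l)⁻¹ • ((A l)⁻¹ : GL (Ix 1) F).val,
    by rw [Matrix.smul_mul, Matrix.mul_smul, smul_smul, gl_mul_inv, mul_inv_cancel₀ (he0 l), one_smul],
    by rw [Matrix.smul_mul, Matrix.mul_smul, smul_smul, gl_inv_mul, inv_mul_cancel₀ (he0 l), one_smul]⟩
  have hBe : ∀ l, (B l : M1) = e l • (A l : M1) := fun l => rfl
  have hBp : ∀ l, B l ^ p = 1 := fun l => Units.ext (by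
    rw [Units.val_pow_eq_pow_val, hBe, smul_pow, ← Units.val_pow_eq_pow_val, hκ, smul_smul, hek, one_smul,
      Units.val_one])
  have hyB : pureGL A = pureGL B := Units.ext (by
    rw [pureGL_coe, pureGL_coe]
    show _ = CfsgLib.Perm.Asch.pure fun l => e l • (A l : M1)
    rw [pure_smul, Fin.prod_univ_two, show e 0 * e 1 = 1 from inv_mul_cancel₀ hr0, one_smul])
  refine ⟨B, ?_, hBp, hyB⟩
  rw [hyB] at hu
  -- each factor is a similitude, unipotent, hence an isometry
  have hpair : ∀ x x' y y', B1 ((B 0 : M1) *ᵥ x) ((B 0 : M1) *ᵥ x') * B1 ((B 1 : M1) *ᵥ y) ((B 1 : M1) *ᵥ y') =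
      B1 x x' * B1 y y' := fun x x' y y' => by
    have h1 := bf_of_mem hu (TensorPower.pv ![x, y]) (TensorPower.pv ![x', y'])
    rw [pureGL_coe, pure_pv, pure_pv, bf_pv hg, bf_pv hg, Fin.prod_univ_two, Fin.prod_univ_two] at h1
    simpa using h1
  obtain ⟨w, -, hw⟩ := nd_value hs h2 (nd_top hs) (by rw [top_finrank hs, Fintype.card_fin]; omega)
    (one_ne_zero (α := F))
  have hww := hpair w w w w
  rw [hw, one_mul] at hww
  have iso_of : ∀ (X : GL (Ix 1) F) (m : F), X ^ p = 1 → (∀ x x', B1 ((X : M1) *ᵥ x) ((X : M1) *ᵥ x') = m * B1 x x') →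
      X ∈ u1 hg := by
    intro X m hXp hX
    have hk : ∀ k : ℕ, B1 (((X ^ k : GL (Ix 1) F) : M1) *ᵥ w) (((X ^ k : GL (Ix 1) F) : M1) *ᵥ w) = m ^ k := by
      intro k
      induction k with
      | zero => rw [pow_zero, pow_zero, Units.val_one, one_mulVec, hw]
      | succ k ih => rw [pow_succ', gl_mul_mulVec, hX, ih, pow_succ']
    have h1 := hk p
    rw [hXp, Units.val_one, one_mulVec, hw] at h1
    have h3 : (m - 1) ^ p = 0 := by rw [sub_pow_char, ← h1, one_pow, sub_self]
    refine mem_of_bf fun x x' => ?_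
    rw [hX, sub_eq_zero.1 (eq_zero_of_pow_eq_zero h3), one_mul]
  refine Fin.forall_fin_two.2 ⟨iso_of _ (B1 ((B 1 : M1) *ᵥ w) ((B 1 : M1) *ᵥ w))⁻¹ (hBp 0) fun x x' => ?_,
    iso_of _ (B1 ((B 0 : M1) *ᵥ w) ((B 0 : M1) *ᵥ w))⁻¹ (hBp 1) fun x x' => ?_⟩
  · have h1 := hpair x x' w w
    rw [hw, mul_one] at h1
    rw [← h1, mul_comm (B1 _ _) (B1 ((B 1 : M1) *ᵥ w) _), inv_mul_cancel_left₀]
    exact right_ne_zero_of_mul_eq_one hww
  · have h1 := hpair w w x x'
    rw [hw, one_mul] at h1
    rw [← h1, inv_mul_cancel_left₀]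
    exact left_ne_zero_of_mul_eq_one hww

/-- unipotent pure tensors commute only factor by factor -/
theorem pure_two_comm {p : ℕ} [Fact p.Prime] [CharP F p] {A B : Fin 2 → GL (Ix 1) F} (hB : ∀ l, B l ^ p = 1)
    (h : pureGL A * pureGL B = pureGL B * pureGL A) (l : Fin 2) : A l * B l = B l * A l := by
  rw [pureGL_mul, pureGL_mul] at h
  have h1 : CfsgLib.Perm.Asch.pure (fun k => ((A * B) k : M1)) =
      CfsgLib.Perm.Asch.pure (fun k => ((B * A) k : M1)) := by rw [← pureGL_coe, h, pureGL_coe]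
  obtain ⟨c, -, hc⟩ := pure_prop h1 (fun k => gl_ne_zero _) (fun k => gl_ne_zero _) l
  have hconj : ((A l * B l * (A l)⁻¹ : GL (Ix 1) F) : M1) = c • (B l : M1) := by
    rw [Units.val_mul, show ((A l * B l : GL (Ix 1) F) : M1) = c • ((B l * A l : GL (Ix 1) F) : M1) from hc,
      Units.val_mul, Matrix.smul_mul, mul_assoc, gl_mul_inv, mul_one]
  have h3 := congrArg (fun X : M1 => X ^ p) hconj
  simp only [← Units.val_pow_eq_pow_val, conj_pow, hB, mul_one, mul_inv_cancel, smul_pow, Units.val_one] at h3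
  have h5 : c ^ p = 1 := by
    have := congrFun (congrFun h3 0) 0
    simpa using this.symm
  have h7 : (c - 1) ^ p = 0 := by rw [sub_pow_char, h5, one_pow, sub_self]
  refine Units.ext ?_
  show ((A * B) l : M1) = ((B * A) l : M1)
  rw [hc, sub_eq_zero.1 (eq_zero_of_pow_eq_zero h7), one_smul]

/-- normalisers for two factors -/
theorem normTw_four_two (h2 : (2 : F) ≠ 0) (hmin : Minus g) : NormTw hg 2 := by
  classical
  intro C μ hμ hadj hC
  have hs := bf_symmetric hg.wg
  obtain ⟨p, hp, hc, hodd, -⟩ := exists_char (F := F) h2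
  haveI := hc
  haveI : Fact p.Prime := ⟨hp⟩
  have hnc : ∀ {a c m m' : V1}, a ≠ 0 → c ≠ 0 → B1 a a = 0 → B1 c c = 0 → B1 a c ≠ 0 → B1 a m = 0 → B1 m m ≠ 0 →
      B1 c m' = 0 → B1 m' m' ≠ 0 → ei hg a m * ei hg c m' ≠ ei hg c m' * ei hg a m := by
    intro a c m m' ha hc haa hcc hac ham hmm hcm hmm' h
    exact hac (ei_fixed h2 hc hcc hcm hmm'
      (unip_comm_fix h2 hmin (ei_mem h2 hcc hcm) (ei_pow_char h2 hcc hcm) ha haa ham hmm h.symm)).1
  have himg : ∀ (i : Fin 2) (a m : V1), B1 a a = 0 → B1 a m = 0 → ∃ B : Fin 2 → GL (Ix 1) F,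
      (∀ l, B l ∈ u1 hg) ∧ (∀ l, B l ^ p = 1) ∧ C * sl i (ei hg a m) * C⁻¹ = pureGL B := by
    intro i a m haa ham
    have hu := sl_mem_uT (hg := hg) i (ei_mem h2 haa ham)
    have hpw : sl i (ei hg a m) ^ p = 1 := by rw [← sl_pow, ei_pow_char h2 haa ham, sl_one]
    exact tw_two_unipotent h2 hodd (hC _ ⟨sl_mem_tw _ _, odd_mem h2 le_rfl hu hodd hpw⟩)
      (sim_conj_uT hμ hadj hu) (by rw [conj_pow, hpw, mul_one, mul_inv_cancel])
  have hsingle : ∀ (i : Fin 2) (a m : V1), a ≠ 0 → B1 a a = 0 → B1 a m = 0 → B1 m m ≠ 0 →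
      ∃ (l : Fin 2) (v : GL (Ix 1) F), C * sl i (ei hg a m) * C⁻¹ = sl l v := by
    intro i a m ha haa ham hmm
    obtain ⟨B, hB1, hBp, hB⟩ := himg i a m haa ham
    by_cases h0 : B 0 = 1
    · refine ⟨1, B 1, ?_⟩
      rw [hB, sl_eq_pureGL]
      congr 1
      funext k
      fin_cases k <;> simp [h0]
    by_cases h1 : B 1 = 1
    · refine ⟨0, B 0, ?_⟩
      rw [hB, sl_eq_pureGL]
      congr 1
      funext k
      fin_cases k <;> simp [h1]
    exfalso
    obtain ⟨j, hji⟩ : ∃ j : Fin 2, j ≠ i := exists_ne i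
    obtain ⟨c, -, hcc, hca⟩ := nd_partner hs h2 (nd_top hs) trivial ha haa
    have hc0 : c ≠ 0 := fun e => by rw [e, Orth.sym_zero_left hs] at hca; exact zero_ne_one hca
    obtain ⟨m', -, hcm, -, hmm', -, -⟩ := exists_two_roots h2 hg hc0 hcc
    obtain ⟨G, hG1, hGp, hG⟩ := himg j a m haa ham
    obtain ⟨H, hH1, hHp, hH⟩ := himg j c m' hcc hcm
    have hcm1 : ∀ (b b' : V1) (K : Fin 2 → GL (Ix 1) F), C * sl j (ei hg b b') * C⁻¹ = pureGL K →
        pureGL K * pureGL B = pureGL B * pureGL K := fun b b' K hK => by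
      rw [← hK, ← hB, show C * sl j (ei hg b b') * C⁻¹ * (C * sl i (ei hg a m) * C⁻¹) =
        C * (sl j (ei hg b b') * sl i (ei hg a m)) * C⁻¹ by group, sl_comm hji]
      group
    have hB01 : ∀ l, B l ≠ 1 := Fin.forall_fin_two.2 ⟨h0, h1⟩
    have hGH : ∀ l, G l * H l = H l * G l := fun l =>
      unip_comm_trans h2 hmin (hG1 l) (hB1 l) (hH1 l) (hGp l) (hBp l) (hHp l) (hB01 l)
        (pure_two_comm hBp (hcm1 _ _ G hG) l) (pure_two_comm hBp (hcm1 _ _ H hH) l)
    refine hnc ha hc0 haa hcc (by rw [bf_comm hg.wg, hca]; exact one_ne_zero) ham hmm hcm hmm'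
      (sl_inj (k := j) (by omega) ?_)
    rw [← sl_mul, ← sl_mul]
    have h5 : C * (sl j (ei hg a m) * sl j (ei hg c m')) * C⁻¹ =
        C * (sl j (ei hg c m') * sl j (ei hg a m)) * C⁻¹ := by
      calc C * (sl j (ei hg a m) * sl j (ei hg c m')) * C⁻¹
          = C * sl j (ei hg a m) * C⁻¹ * (C * sl j (ei hg c m') * C⁻¹) := by group
        _ = C * sl j (ei hg c m') * C⁻¹ * (C * sl j (ei hg a m) * C⁻¹) := by
          rw [hG, hH, pureGL_mul, pureGL_mul, show G * H = H * G from funext hGH]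
        _ = _ := by group
    exact mul_left_cancel (mul_right_cancel h5)
  choose L f hf using hsingle
  have hclose : ∀ i {a c m m' : V1} (ha : a ≠ 0) (haa : B1 a a = 0) (ham : B1 a m = 0) (hmm : B1 m m ≠ 0)
      (hc : c ≠ 0) (hcc : B1 c c = 0) (hcm : B1 c m' = 0) (hmm' : B1 m' m' ≠ 0), B1 a c ≠ 0 →
      L i a m ha haa ham hmm = L i c m' hc hcc hcm hmm' := by
    intro i a c m m' ha haa ham hmm hc hcc hcm hmm' hac
    by_contra hne
    refine hnc ha hc haa hcc hac ham hmm hcm hmm' (sl_inj (k := i) (by omega) ?_)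
    rw [← sl_mul, ← sl_mul]
    have h5 : C * (sl i (ei hg a m) * sl i (ei hg c m')) * C⁻¹ =
        C * (sl i (ei hg c m') * sl i (ei hg a m)) * C⁻¹ := by
      calc C * (sl i (ei hg a m) * sl i (ei hg c m')) * C⁻¹
          = C * sl i (ei hg a m) * C⁻¹ * (C * sl i (ei hg c m') * C⁻¹) := by group
        _ = C * sl i (ei hg c m') * C⁻¹ * (C * sl i (ei hg a m) * C⁻¹) := by
          rw [hf i a m ha haa ham hmm, hf i c m' hc hcc hcm hmm', sl_comm hne]
        _ = _ := by group
    exact mul_left_cancel (mul_right_cancel h5)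
  obtain ⟨a0, -, ha0, haa0⟩ := nd_singular hs h2 (nd_top hs) (by rw [top_finrank hs, Fintype.card_fin]; omega)
  obtain ⟨m0, -, ham0, -, hmm0, -, -⟩ := exists_two_roots h2 hg ha0 haa0
  let π : Fin 2 → Fin 2 := fun i => L i a0 m0 ha0 haa0 ham0 hmm0
  have hconst : ∀ i {a m : V1} (ha : a ≠ 0) (haa : B1 a a = 0) (ham : B1 a m = 0) (hmm : B1 m m ≠ 0),
      L i a m ha haa ham hmm = π i := by
    intro i a m ha haa ham hmm
    by_cases h : B1 a a0 ≠ 0
    · exact hclose i ha haa ham hmm ha0 haa0 ham0 hmm0 h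
    push Not at h
    obtain ⟨k, hk⟩ := hmin a a0 ha haa haa0 h
    have hk0 : k ≠ 0 := fun e => ha0 (by rw [hk, e, zero_smul])
    obtain ⟨c, -, hcc, hca⟩ := nd_partner hs h2 (nd_top hs) trivial ha haa
    have hc0 : c ≠ 0 := fun e => by rw [e, Orth.sym_zero_left hs] at hca; exact zero_ne_one hca
    obtain ⟨m', -, hcm, -, hmm', -, -⟩ := exists_two_roots h2 hg hc0 hcc
    refine (hclose i ha haa ham hmm hc0 hcc hcm hmm' (by rw [bf_comm hg.wg, hca]; exact one_ne_zero)).trans
      (hclose i hc0 hcc hcm hmm' ha0 haa0 ham0 hmm0 ?_)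
    rw [hk, bf_smul_right, hca, mul_one]
    exact hk0
  have h11 : ∀ i (a : V1), B1 a a = 0 → vecMulVec a (dual g (s1 1) a) ∈ carried C i (π i) := by
    intro i a haa
    by_cases ha : a = 0
    · rw [ha, show vecMulVec (0 : V1) (dual g (s1 1) 0) = 0 by ext; simp [vecMulVec_apply]]
      exact (carried C i (π i)).zero_mem
    obtain ⟨m, -, ham, -, hmm, -, -⟩ := exists_two_roots h2 hg ha haa
    have h1 : (ei hg a m : M1) ∈ carried C i (π i) :=
      carried_of_sl (v := f i a m ha haa ham hmm) (by rw [hf i a m ha haa ham hmm, hconst])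
    have h3 := (carried C i (π i)).sub_mem h1 (carried_one C i (π i))
    have h5 := (carried C i (π i)).smul_mem (-B1 m m)⁻¹ (carried_mul h3 h3)
    rwa [ei_sq h2 haa ham, smul_smul, inv_mul_cancel₀ (neg_ne_zero.2 hmm), one_smul] at h5
  have h12 : ∀ i (a v : V1), B1 a a = 0 → vecMulVec a (dual g (s1 1) v) ∈ carried C i (π i) := by
    intro i a v haa
    by_cases ha : a = 0
    · rw [ha, show vecMulVec (0 : V1) (dual g (s1 1) v) = 0 by ext; simp [vecMulVec_apply]]
      exact (carried C i (π i)).zero_mem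
    let W : Submodule F V1 :=
      { carrier := {v | vecMulVec a (dual g (s1 1) v) ∈ carried C i (π i)}
        zero_mem' := by
          show _ ∈ carried C i (π i)
          rw [dual_zero, show vecMulVec a (0 : V1) = 0 by ext; simp [vecMulVec_apply]]
          exact (carried C i (π i)).zero_mem
        add_mem' := by
          intro v w hv hw
          show _ ∈ carried C i (π i)
          rw [dual_add, vecMulVec_add]
          exact (carried C i (π i)).add_mem hv hw
        smul_mem' := by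
          intro c v hv
          show _ ∈ carried C i (π i)
          rw [dual_smul, vecMulVec_smul]
          exact (carried C i (π i)).smul_mem c hv }
    have hWt : W = ⊤ := singular_span hg h2 ha haa W (h11 i a haa) fun v hvv hva => by
      show _ ∈ carried C i (π i)
      have h := carried_mul (h11 i a haa) (h11 i v hvv)
      rw [vecMulVec_mul_vecMulVec, vecMulVec_smul] at h
      have e' := (carried C i (π i)).smul_mem (B1 v a)⁻¹ h
      rwa [smul_smul, show dual g (s1 1) a ⬝ᵥ v = B1 v a from bf_comm hg.wg a v,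
        inv_mul_cancel₀ hva, one_smul] at e'
    exact (hWt ▸ Submodule.mem_top : v ∈ W)
  refine tw_of_rank_one hg (by omega) π fun i u v => ?_
  let W : Submodule F V1 :=
    { carrier := {u | vecMulVec u (dual g (s1 1) v) ∈ carried C i (π i)}
      zero_mem' := by
        show _ ∈ carried C i (π i)
        rw [zero_vecMulVec]
        exact (carried C i (π i)).zero_mem
      add_mem' := by
        intro u w hu hw
        show _ ∈ carried C i (π i)
        rw [add_vecMulVec]
        exact (carried C i (π i)).add_mem hu hw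
      smul_mem' := by
        intro c u hu
        show _ ∈ carried C i (π i)
        rw [smul_vecMulVec]
        exact (carried C i (π i)).smul_mem c hu }
  have hWt : W = ⊤ := singular_span hg h2 ha0 haa0 W (h12 i a0 v haa0) fun w hw _ => h12 i w v hw
  exact (hWt ▸ Submodule.mem_top : u ∈ W)

/-- **Theorem.** A normalising similitude for four-dimensional factors of minus type is in the wreath subgroup. -/
theorem normTw_four (hg : Dg g) (h2 : (2 : F) ≠ 0) (hmin : Minus g) {s : ℕ} (hs : 1 ≤ s) : NormTw hg s := by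
  rcases (show s = 1 ∨ s = 2 ∨ 3 ≤ s by omega) with rfl | rfl | h
  · exact fun C μ _ _ _ => mem_tw_one C
  · exact normTw_four_two h2 hmin
  · obtain ⟨r, rfl⟩ : ∃ r, s = r + 1 := ⟨s - 1, by omega⟩
    exact normTw_four_big h2 ⟨2, rfl⟩ (by omega)

end CfsgLib.Perm.Trans.TensorPowerO
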