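import Mathlib
import Cfsg.Agent.Lib.Perm.Trans.TensorPowerO.K4Norm

/-!
# Four-dimensional factors of minus type: reflections and half turns
-/

set_option autoImplicit false
set_option linter.all false

namespace CfsgLib.Perm.Trans.TensorPowerO

open scoped Matrix
open Matrix Cfsg.Geo CfsgLib.Perm.Asch CfsgLib.Perm.Trans CfsgLib.Perm.Trans.TensorPower
open CfsgLib.Perm.Trans.TensorSO CfsgLib.Perm.Trans.TensorOO

variable {F : Type*} [Field F] {g : Ix 1 → F} {hg : Dg g}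

local notation "M1" => Matrix (Ix 1) (Ix 1) F
local notation "V1" => Ix 1 → F
local notation "B1" => bf g (s1 1)

/-- the reflection of an anisotropic vector -/
noncomputable def rv (hg : Dg g) (d : Ix 1 → F) (hd : bf g (s1 1) d d ≠ 0) : GL (Ix 1) F :=
  refl (bf_symmetric hg.wg) d hd

/-- the half turn fixing an orthogonal pair -/
noncomputable def zeta (hg : Dg g) (d f : Ix 1 → F) (hd : bf g (s1 1) d d ≠ 0) (hf : bf g (s1 1) f f ≠ 0) :
    GL (Ix 1) F :=
  -(rv hg d hd * rv hg f hf)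

theorem rv_mulVec {d : V1} (hd : B1 d d ≠ 0) (x : V1) :
    (rv hg d hd : M1) *ᵥ x = x - (2 / B1 d d * B1 x d) • d :=
  refl_mulVec _ d hd x

theorem rv_mem {d : V1} (hd : B1 d d ≠ 0) : rv hg d hd ∈ u1 hg := rfl_mem hg.wg d hd

theorem rv_sq {d : V1} (hd : B1 d d ≠ 0) : rv hg d hd * rv hg d hd = 1 := TensorOO.refl_sq _ d hd

theorem rv_self {d : V1} (hd : B1 d d ≠ 0) : (rv hg d hd : M1) *ᵥ d = -d := by
  rw [rv_mulVec, div_mul_cancel₀ _ hd, two_smul, sub_add_cancel_left]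

theorem rv_perp {d x : V1} (hd : B1 d d ≠ 0) (h : B1 x d = 0) : (rv hg d hd : M1) *ᵥ x = x := by
  rw [rv_mulVec, h, mul_zero, zero_smul, sub_zero]

theorem rv_conj {d d' : V1} (hd : B1 d d ≠ 0) (hd' : B1 d' d' ≠ 0) {A : GL (Ix 1) F} (hA : A ∈ u1 hg)
    (h : (A : M1) *ᵥ d = d') : A * rv hg d hd * A⁻¹ = rv hg d' hd' :=
  TensorOO.refl_conj _ hd (bf_of_mem hA) hd' h

theorem rv_smul {d : V1} (hd : B1 d d ≠ 0) {c : F} (hcd : B1 (c • d) (c • d) ≠ 0) :
    rv hg (c • d) hcd = rv hg d hd := by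
  have hc : c ≠ 0 := fun e => hcd (by rw [e, zero_smul]; exact Orth.sym_zero_left (bf_symmetric hg.wg) _)
  refine Units.ext (Matrix.ext_iff_mulVec.2 fun x => ?_)
  rw [rv_mulVec, rv_mulVec, bf_smul_left, bf_smul_right, bf_smul_right, smul_smul]
  congr 2
  field_simp

theorem zeta_mulVec {d f : V1} (hd : B1 d d ≠ 0) (hf : B1 f f ≠ 0) (hdf : B1 d f = 0) (x : V1) :
    (zeta hg d f hd hf : M1) *ᵥ x = -x + (2 * B1 x d / B1 d d) • d + (2 * B1 x f / B1 f f) • f := by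
  rw [zeta, Units.val_neg, neg_mulVec, gl_mul_mulVec, rv_mulVec, rv_mulVec, Orth.sym_sub_left (bf_symmetric hg.wg),
    bf_smul_left, bf_comm hg.wg f d, hdf, mul_zero, sub_zero]
  module

theorem zeta_mem {d f : V1} (hd : B1 d d ≠ 0) (hf : B1 f f ≠ 0) : zeta hg d f hd hf ∈ u1 hg :=
  mem_of_bf fun x y => by
    have h := bf_of_mem (mul_mem (rv_mem (hg := hg) hd) (rv_mem (hg := hg) hf)) x y
    rw [zeta, Units.val_neg, neg_mulVec, neg_mulVec, Orth.sym_neg_left (bf_symmetric hg.wg),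
      Orth.sym_neg_right (bf_symmetric hg.wg), neg_neg]
    exact h

theorem zeta_fix_left {d f : V1} (hd : B1 d d ≠ 0) (hf : B1 f f ≠ 0) (hdf : B1 d f = 0) :
    (zeta hg d f hd hf : M1) *ᵥ d = d := by
  rw [zeta_mulVec hd hf hdf, hdf, mul_zero, zero_div, zero_smul, add_zero, mul_div_assoc, div_self hd, mul_one]
  module

theorem zeta_fix_right {d f : V1} (hd : B1 d d ≠ 0) (hf : B1 f f ≠ 0) (hdf : B1 d f = 0) :
    (zeta hg d f hd hf : M1) *ᵥ f = f := by
  rw [zeta_mulVec hd hf hdf, bf_comm hg.wg f d, hdf, mul_zero, zero_div, zero_smul, add_zero, mul_div_assoc,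
    div_self hf, mul_one]
  module

theorem zeta_sq (h2 : (2 : F) ≠ 0) {d f : V1} (hd : B1 d d ≠ 0) (hf : B1 f f ≠ 0) (hdf : B1 d f = 0) :
    zeta hg d f hd hf * zeta hg d f hd hf = 1 := Units.ext (Matrix.ext_iff_mulVec.2 fun x => by
  rw [gl_mul_mulVec, zeta_mulVec hd hf hdf x, mulVec_add, mulVec_add, mulVec_neg, mulVec_smul, mulVec_smul,
    zeta_mulVec hd hf hdf x, zeta_fix_left hd hf hdf, zeta_fix_right hd hf hdf, Units.val_one, one_mulVec]
  module)

theorem zeta_conj {d f d' f' : V1} (hd : B1 d d ≠ 0) (hf : B1 f f ≠ 0) (hd' : B1 d' d' ≠ 0) (hf' : B1 f' f' ≠ 0)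
    {A : GL (Ix 1) F} (hA : A ∈ u1 hg) (h1 : (A : M1) *ᵥ d = d') (h3 : (A : M1) *ᵥ f = f') :
    A * zeta hg d f hd hf * A⁻¹ = zeta hg d' f' hd' hf' := by
  have e : A * rv hg d hd * A⁻¹ * (A * rv hg f hf * A⁻¹) = rv hg d' hd' * rv hg f' hf' := by
    rw [rv_conj hd hd' hA h1, rv_conj hf hf' hA h3]
  rw [zeta, zeta, ← e, mul_neg, neg_mul]
  congr 1
  group

theorem zeta_comm' {d f : V1} (hd : B1 d d ≠ 0) (hf : B1 f f ≠ 0) (hdf : B1 d f = 0) :
    zeta hg f d hf hd = zeta hg d f hd hf := Units.ext (Matrix.ext_iff_mulVec.2 fun x => by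
  rw [zeta_mulVec hd hf hdf, zeta_mulVec hf hd (by rw [bf_comm hg.wg]; exact hdf)]
  abel)

theorem zeta_fixed (h2 : (2 : F) ≠ 0) {d f x : V1} (hd : B1 d d ≠ 0) (hf : B1 f f ≠ 0) (hdf : B1 d f = 0)
    (hx : (zeta hg d f hd hf : M1) *ᵥ x = x) : x = (B1 x d / B1 d d) • d + (B1 x f / B1 f f) • f := by
  rw [zeta_mulVec hd hf hdf] at hx
  refine smul_right_injective _ h2 ?_
  show (2 : F) • x = (2 : F) • _
  linear_combination (norm := skip) -hx
  match_scalars <;> ring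

/-- the fixed axes of a half turn about a vector determine it -/
theorem zeta_inj (h2 : (2 : F) ≠ 0) {d f e : V1} (hd : B1 d d ≠ 0) (hf : B1 f f ≠ 0) (he : B1 e e ≠ 0)
    (hdf : B1 d f = 0) (hde : B1 d e = 0) (h : zeta hg d f hd hf = zeta hg d e hd he) : ∃ c : F, e = c • f := by
  have h1 := zeta_fixed h2 hd hf hdf (x := e) (by rw [h]; exact zeta_fix_right hd he hde)
  rw [bf_comm hg.wg e d, hde, zero_div, zero_smul, zero_add] at h1
  exact ⟨_, h1⟩

theorem zeta_smul_right {d f : V1} (hd : B1 d d ≠ 0) (hf : B1 f f ≠ 0) {c : F} (hcf : B1 (c • f) (c • f) ≠ 0) :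
    zeta hg d (c • f) hd hcf = zeta hg d f hd hf := by
  rw [zeta, zeta, rv_smul hf hcf]

section Basis

variable (h2 : (2 : F) ≠ 0)
include h2

theorem zeta_fixSp {d f : V1} (hd : B1 d d ≠ 0) (hf : B1 f f ≠ 0) (hdf : B1 d f = 0) :
    Module.finrank F (negSp (zeta hg d f hd hf)) = 2 := by
  have hs := bf_symmetric hg.wg
  have hd0 : d ≠ 0 := fun e => hd (by rw [e]; exact Orth.sym_zero_left hs _)
  have hli : LinearIndependent F ![d, f] := LinearIndependent.pair_iff.2 fun x y e => by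
    have h1 := congrArg (fun z => B1 z f) e
    simp only [bf_add_left, bf_smul_left, hdf, Orth.sym_zero_left hs, mul_zero, zero_add] at h1
    have hy := (mul_eq_zero.1 h1).resolve_right hf
    rw [hy, zero_smul, add_zero] at e
    exact ⟨(smul_eq_zero.1 e).resolve_right hd0, hy⟩
  have hfix : fixSp (zeta hg d f hd hf) = Submodule.span F (Set.range ![d, f]) := by
    refine le_antisymm (fun x hx => ?_) (Submodule.span_le.2 ?_)
    · rw [zeta_fixed h2 hd hf hdf (mem_fixSp.1 hx)]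
      exact Submodule.add_mem _ (Submodule.smul_mem _ _ (Submodule.subset_span ⟨0, rfl⟩))
        (Submodule.smul_mem _ _ (Submodule.subset_span ⟨1, rfl⟩))
    · rintro _ ⟨i, rfl⟩
      fin_cases i
      exacts [mem_fixSp.2 (zeta_fix_left hd hf hdf), mem_fixSp.2 (zeta_fix_right hd hf hdf)]
  have h1 := invol_finrank h2 (zeta_sq (hg := hg) h2 hd hf hdf)
  rw [hfix, finrank_span_eq_card hli, Fintype.card_fin, Fintype.card_fin] at h1
  omega

/-- four pairwise orthogonal anisotropic vectors form a basis -/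
theorem basis_expand (hg : Dg g) {d a b c : V1} (hd : B1 d d ≠ 0) (ha : B1 a a ≠ 0) (hb : B1 b b ≠ 0)
    (hc : B1 c c ≠ 0) (hda : B1 d a = 0) (hdb : B1 d b = 0) (hdc : B1 d c = 0) (hab : B1 a b = 0)
    (hac : B1 a c = 0) (hbc : B1 b c = 0) (v : V1) :
    v = (B1 d v / B1 d d) • d + (B1 a v / B1 a a) • a + (B1 b v / B1 b b) • b + (B1 c v / B1 c c) • c := by
  have hs := bf_symmetric hg.wg
  have had : B1 a d = 0 := by rw [bf_comm hg.wg]; exact hda
  have hbd : B1 b d = 0 := by rw [bf_comm hg.wg]; exact hdb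
  have hcd : B1 c d = 0 := by rw [bf_comm hg.wg]; exact hdc
  have hba : B1 b a = 0 := by rw [bf_comm hg.wg]; exact hab
  have hca : B1 c a = 0 := by rw [bf_comm hg.wg]; exact hac
  have hcb : B1 c b = 0 := by rw [bf_comm hg.wg]; exact hbc
  have ha' : a ∈ perp hs (⊤ : Submodule F V1) d := ⟨trivial, had⟩
  have hb' : b ∈ perp hs (perp hs (⊤ : Submodule F V1) d) a := ⟨⟨trivial, hbd⟩, hba⟩
  have hc' : c ∈ perp hs (perp hs (perp hs (⊤ : Submodule F V1) d) a) b := ⟨⟨⟨trivial, hcd⟩, hca⟩, hcb⟩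
  have h0 := perp_dim hs h2 (Submodule.mem_top (x := d)) hd
  rw [top_finrank hs, Fintype.card_fin] at h0
  have h1 := perp_dim hs h2 ha' ha
  have h3 := perp_dim hs h2 hb' hb
  have h4 := perp_dim hs h2 hc' hc
  have hbot : perp hs (perp hs (perp hs (perp hs ⊤ d) a) b) c = ⊥ := Submodule.finrank_eq_zero.1 (by omega)
  set z := v - ((B1 d v / B1 d d) • d + (B1 a v / B1 a a) • a + (B1 b v / B1 b b) • b + (B1 c v / B1 c c) • c) with hz
  have hzm : z ∈ perp hs (perp hs (perp hs (perp hs ⊤ d) a) b) c := by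
    refine mem_perp.2 ⟨mem_perp.2 ⟨mem_perp.2 ⟨mem_perp.2 ⟨trivial, ?_⟩, ?_⟩, ?_⟩, ?_⟩ <;>
    · simp only [hz, Orth.sym_sub_left hs, bf_add_left, bf_smul_left, hda, hdb, hdc, hab, hac, hbc, had, hbd, hcd,
        hba, hca, hcb, mul_zero, add_zero, zero_add]
      rw [div_mul_cancel₀ _ (by assumption), bf_comm hg.wg, sub_self]
  rw [hbot, Submodule.mem_bot] at hzm
  exact sub_eq_zero.1 hzm

/-- completing an orthogonal pair -/
theorem exists_completion (hg : Dg g) {d f : V1} (hd : B1 d d ≠ 0) (hf : B1 f f ≠ 0) (hdf : B1 d f = 0) :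
    ∃ a b : V1, B1 a a ≠ 0 ∧ B1 b b ≠ 0 ∧ B1 d a = 0 ∧ B1 d b = 0 ∧ B1 f a = 0 ∧ B1 f b = 0 ∧ B1 a b = 0 := by
  have hs := bf_symmetric hg.wg
  have h0 := perp_dim hs h2 (Submodule.mem_top (x := d)) hd
  rw [top_finrank hs, Fintype.card_fin] at h0
  have hf' : f ∈ perp hs (⊤ : Submodule F V1) d := ⟨trivial, by show B1 f d = 0; rw [bf_comm hg.wg]; exact hdf⟩
  have hn1 := nd_perp hs (nd_perp hs (nd_top hs) (Submodule.mem_top (x := d)) hd) hf' hf
  have h1 := perp_dim hs h2 hf' hf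
  obtain ⟨a, ha, haa⟩ := nd_aniso hs h2 hn1 (by omega)
  have h3 := perp_dim hs h2 ha haa
  obtain ⟨b, hb, hbb⟩ := nd_aniso hs h2 (nd_perp hs hn1 ha haa) (by omega)
  refine ⟨a, b, haa, hbb, ?_, ?_, ?_, ?_, ?_⟩ <;> rw [bf_comm hg.wg]
  exacts [ha.1.2, hb.1.1.2, ha.2, hb.1.2, hb.2]

theorem zeta_eq_rr {d f a b : V1} (hd : B1 d d ≠ 0) (hf : B1 f f ≠ 0) (ha : B1 a a ≠ 0) (hb : B1 b b ≠ 0)
    (hdf : B1 d f = 0) (hda : B1 d a = 0) (hdb : B1 d b = 0) (hfa : B1 f a = 0) (hfb : B1 f b = 0)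
    (hab : B1 a b = 0) : zeta hg d f hd hf = rv hg a ha * rv hg b hb := Units.ext (Matrix.ext_iff_mulVec.2 fun x => by
  have hs := bf_symmetric hg.wg
  rw [zeta_mulVec hd hf hdf, gl_mul_mulVec, rv_mulVec, rv_mulVec, Orth.sym_sub_left hs, bf_smul_left,
    bf_comm hg.wg b a, hab, mul_zero, sub_zero]
  have e := basis_expand h2 hg hd hf ha hb hdf hda hdb hfa hfb hab x
  rw [bf_comm hg.wg d x, bf_comm hg.wg f x, bf_comm hg.wg a x, bf_comm hg.wg b x] at e
  linear_combination (norm := skip) (-2 : F) • e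
  match_scalars <;> ring)

theorem zeta_mul {d f f' f'' : V1} (hd : B1 d d ≠ 0) (hf : B1 f f ≠ 0) (hf' : B1 f' f' ≠ 0) (hf'' : B1 f'' f'' ≠ 0)
    (hdf : B1 d f = 0) (hdf' : B1 d f' = 0) (hdf'' : B1 d f'' = 0) (h01 : B1 f f' = 0) (h02 : B1 f f'' = 0)
    (h12 : B1 f' f'' = 0) :
    zeta hg d f hd hf * zeta hg d f' hd hf' = zeta hg d f'' hd hf'' := Units.ext (Matrix.ext_iff_mulVec.2 fun x => by
  have hz : (zeta hg d f hd hf : M1) *ᵥ f' = -f' := by
    rw [zeta_mulVec hd hf hdf, bf_comm hg.wg f' d, hdf', bf_comm hg.wg f' f, h01]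
    simp
  rw [gl_mul_mulVec, zeta_mulVec hd hf' hdf', zeta_mulVec hd hf'' hdf'', mulVec_add, mulVec_add, mulVec_neg,
    mulVec_smul, mulVec_smul, zeta_fix_left hd hf hdf, hz, zeta_mulVec hd hf hdf]
  have e := basis_expand h2 hg hd hf hf' hf'' hdf hdf' hdf'' h01 h02 h12 x
  rw [bf_comm hg.wg d x, bf_comm hg.wg f x, bf_comm hg.wg f' x, bf_comm hg.wg f'' x] at e
  linear_combination (norm := skip) (2 : F) • e
  match_scalars <;> ring)

/-- commuting half turns about a vector have orthogonal or equal axes -/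
theorem zeta_orth {d f e : V1} (hd : B1 d d ≠ 0) (hf : B1 f f ≠ 0) (he : B1 e e ≠ 0) (hdf : B1 d f = 0)
    (hde : B1 d e = 0) (hc : zeta hg d f hd hf * zeta hg d e hd he = zeta hg d e hd he * zeta hg d f hd hf)
    (hne : zeta hg d f hd hf ≠ zeta hg d e hd he) : B1 f e = 0 := by
  have hs := bf_symmetric hg.wg
  by_contra hfe
  have hk : (2 * B1 f e / B1 e e) ≠ 0 := div_ne_zero (mul_ne_zero h2 hfe) he
  have h1 : (zeta hg d f hd hf : M1) *ᵥ ((zeta hg d e hd he : M1) *ᵥ f) = (zeta hg d e hd he : M1) *ᵥ f := by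
    rw [← gl_mul_mulVec, hc, gl_mul_mulVec, zeta_fix_right hd hf hdf]
  rw [zeta_mulVec hd he hde, bf_comm hg.wg f d, hdf, mul_zero, zero_div, zero_smul, add_zero] at h1
  have h3 := zeta_fixed h2 hd hf hdf h1
  rw [bf_add_left, bf_add_left, Orth.sym_neg_left hs, Orth.sym_neg_left hs, bf_smul_left, bf_smul_left,
    bf_comm hg.wg f d, hdf, bf_comm hg.wg e d, hde, neg_zero, mul_zero, add_zero, zero_div, zero_smul, zero_add] at h3
  obtain ⟨r, hr⟩ : ∃ r : F, e = r • f := ⟨(2 * B1 f e / B1 e e)⁻¹ *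
      ((-B1 f f + 2 * B1 f e / B1 e e * B1 e f) / B1 f f + 1), by
    rw [mul_smul, add_smul, one_smul, ← h3]
    rw [neg_add_cancel_comm, smul_smul, inv_mul_cancel₀ hk, one_smul]⟩
  subst hr
  exact hne (zeta_smul_right hd hf he).symm

/-- an involution fixing a vector and negating a plane is a half turn about it -/
theorem invol_eq_zeta {A : GL (Ix 1) F} (hA : A ∈ u1 hg) (hAA : A * A = 1)
    (hn : Module.finrank F (negSp A) = 2) {d : V1} (hd : B1 d d ≠ 0) (hAd : (A : M1) *ᵥ d = d) :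
    ∃ (f : V1) (hf : B1 f f ≠ 0), B1 d f = 0 ∧ A = zeta hg d f hd hf := by
  have hs := bf_symmetric hg.wg
  have hfd := invol_finrank h2 hAA
  rw [Fintype.card_fin] at hfd
  have hnd := (nd_eigen hs h2 hAA (bf_of_mem hA)).1
  have hdm : d ∈ fixSp A := mem_fixSp.2 hAd
  have h1 := perp_dim hs h2 hdm hd
  obtain ⟨f, hf, hff⟩ := nd_aniso hs h2 (nd_perp hs hnd hdm hd) (by omega)
  have hfd' : B1 f d = 0 := hf.2
  have hdf : B1 d f = 0 := by rw [bf_comm hg.wg]; exact hfd'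
  have h3 := perp_dim hs h2 hf hff
  have hbot : perp hs (perp hs (fixSp A) d) f = ⊥ := Submodule.finrank_eq_zero.1 (by omega)
  refine ⟨f, hff, hdf, Units.ext (Matrix.ext_iff_mulVec.2 fun x => ?_)⟩
  obtain ⟨hp, hq, hx⟩ := invol_decomp h2 hAA x
  obtain ⟨u, hu⟩ : ∃ u, u = (2 : F)⁻¹ • (x + (A : M1) *ᵥ x) := ⟨_, rfl⟩
  obtain ⟨w, hw⟩ : ∃ w, w = (2 : F)⁻¹ • (x - (A : M1) *ᵥ x) := ⟨_, rfl⟩
  rw [← hu] at hp hx
  rw [← hw] at hq hx
  have hz : u - (B1 u d / B1 d d) • d - (B1 u f / B1 f f) • f ∈ perp hs (perp hs (fixSp A) d) f := by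
    refine mem_perp.2 ⟨mem_perp.2 ⟨Submodule.sub_mem _ (Submodule.sub_mem _ hp (Submodule.smul_mem _ _ hdm))
      (Submodule.smul_mem _ _ hf.1), ?_⟩, ?_⟩
    · rw [Orth.sym_sub_left hs, Orth.sym_sub_left hs, bf_smul_left, bf_smul_left, hfd', mul_zero, sub_zero,
        div_mul_cancel₀ _ hd, sub_self]
    · rw [Orth.sym_sub_left hs, Orth.sym_sub_left hs, bf_smul_left, bf_smul_left, hdf, mul_zero, sub_zero,
        div_mul_cancel₀ _ hff, sub_self]
  rw [hbot, Submodule.mem_bot, sub_sub, sub_eq_zero] at hz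
  have hwd : B1 w d = 0 := eigen_perp' hs h2 (bf_of_mem hA) hq hdm
  have hwf : B1 w f = 0 := eigen_perp' hs h2 (bf_of_mem hA) hq hf.1
  rw [zeta_mulVec hd hff hdf, hx, mulVec_add, mem_fixSp.1 hp, mem_negSp.1 hq, bf_add_left, bf_add_left, hwd, hwf]
  linear_combination (norm := skip) (2 : F) • hz
  match_scalars <;> ring

/-- four reflections of a basis -/
theorem neg_one_eq {d a b c : V1} (hd : B1 d d ≠ 0) (ha : B1 a a ≠ 0) (hb : B1 b b ≠ 0) (hc : B1 c c ≠ 0)
    (hda : B1 d a = 0) (hdb : B1 d b = 0) (hdc : B1 d c = 0) (hab : B1 a b = 0) (hac : B1 a c = 0)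
    (hbc : B1 b c = 0) : rv hg d hd * rv hg a ha * (rv hg b hb * rv hg c hc) = -1 := by
  rw [← zeta_eq_rr h2 hd ha hb hc hda hdb hdc hab hac hbc, zeta, mul_neg,
    show rv hg d hd * rv hg a ha * (rv hg d hd * rv hg a ha) = 1 from ?_]
  have hcomm : rv hg a ha * rv hg d hd = rv hg d hd * rv hg a ha := by
    have e := rv_conj (hg := hg) hd hd (rv_mem ha) (rv_perp ha hda)
    calc rv hg a ha * rv hg d hd = rv hg a ha * rv hg d hd * (rv hg a ha)⁻¹ * rv hg a ha := by group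
      _ = _ := by rw [e]
  rw [mul_assoc, ← mul_assoc (rv hg a ha), hcomm, mul_assoc (rv hg d hd) (rv hg a ha), rv_sq, mul_one, rv_sq]

/-- an isometry about a vector moving one orthogonal axis to another of the same value -/
theorem exists_move {d f e : V1} (hd : B1 d d ≠ 0) (hf : B1 f f ≠ 0) (hdf : B1 d f = 0) (hde : B1 d e = 0)
    (hval : B1 e e = B1 f f) : ∃ (a : V1) (ha : B1 a a ≠ 0) (ε : F), ε * ε = 1 ∧ B1 d a = 0 ∧
      (rv hg a ha : M1) *ᵥ e = ε • f := by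
  have hs := bf_symmetric hg.wg
  have hsum : ∀ ε : F, ε * ε = 1 → B1 (e - ε • f) (e - ε • f) = 2 * (B1 f f - ε * B1 e f) := fun ε hε => by
    simp only [Orth.sym_sub_left hs, Orth.sym_sub_right hs, bf_smul_left, bf_smul_right, hval, bf_comm hg.wg f e]
    linear_combination B1 f f * hε
  obtain ⟨ε, hε, hne⟩ : ∃ ε : F, ε * ε = 1 ∧ B1 f f - ε * B1 e f ≠ 0 := by
    by_cases h : B1 f f - 1 * B1 e f = 0
    · refine ⟨-1, by ring, fun h' => hf ((mul_eq_zero.1 (show (2 : F) * B1 f f = 0 by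
        linear_combination h + h')).resolve_left h2)⟩
    · exact ⟨1, one_mul 1, h⟩
  refine ⟨e - ε • f, by rw [hsum ε hε]; exact mul_ne_zero h2 hne, ε, hε, ?_, ?_⟩
  · rw [Orth.sym_sub_right hs, bf_smul_right, hde, hdf, mul_zero, sub_zero]
  · rw [rv_mulVec, hsum ε hε, Orth.sym_sub_right hs, bf_smul_right, hval]
    rw [show (2 : F) / (2 * (B1 f f - ε * B1 e f)) * (B1 f f - ε * B1 e f) = 1 by field_simp, one_smul]
    abel

/-- the discriminant does not depend on the orthogonal basis -/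
theorem frame_disc [Fintype F] (hg : Dg g) {e e' : Fin 4 → V1} (he : ∀ i, B1 (e i) (e i) ≠ 0) (he' : ∀ i, B1 (e' i) (e' i) ≠ 0)
    (ho : ∀ i j, i ≠ j → B1 (e i) (e j) = 0) (ho' : ∀ i j, i ≠ j → B1 (e' i) (e' j) = 0) :
    IsSquare (∏ i, B1 (e' i) (e' i) / B1 (e i) (e i)) := by
  let Q : M1 := Matrix.of fun x i => e i x
  let Q' : M1 := Matrix.of fun x i => e' i x
  have hcol : ∀ i, Q *ᵥ Pi.single i 1 = e i := fun i => by rw [mulVec_single_one]; rfl
  have hcol' : ∀ i, Q' *ᵥ Pi.single i 1 = e' i := fun i => by rw [mulVec_single_one]; rfl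
  have hexp : ∀ v, v = ∑ i, (B1 (e i) v / B1 (e i) (e i)) • e i := fun v => by
    rw [Fin.sum_univ_four]
    exact basis_expand h2 hg (he 0) (he 1) (he 2) (he 3) (ho 0 1 (by decide)) (ho 0 2 (by decide))
      (ho 0 3 (by decide)) (ho 1 2 (by decide)) (ho 1 3 (by decide)) (ho 2 3 (by decide)) v
  have hQ : Q.det ≠ 0 := by
    intro h0
    obtain ⟨w, hw0, hw⟩ := Matrix.exists_mulVec_eq_zero_iff.2 h0
    refine hw0 (funext fun i => ?_)
    have h1 := congrArg (B1 (e i)) hw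
    rw [Orth.sym_zero_right (bf_symmetric hg.wg), pi_eq_sum_univ' w, mulVec_sum] at h1
    simp only [mulVec_smul, hcol] at h1
    rw [Fin.sum_univ_four] at h1
    simp only [bf_add_right, bf_smul_right] at h1
    fin_cases i <;> simp [ho] at h1 <;> exact h1.resolve_right (he _)
  let D : Fin 4 → F := fun i => B1 (e' i) (e' i) / B1 (e i) (e i)
  set R := adj g (s1 1) Q' * Q' with hR
  set R0 := adj g (s1 1) Q * Q with hR0
  have key : R = R0 * Matrix.diagonal D := by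
    refine Matrix.ext fun a b => ?_
    have h1 : ∀ (P : M1) (a b : Ix 1), (adj g (s1 1) P * P) a b =
        (g (s1 1 (s1 1 a)))⁻¹ * (g (s1 1 (s1 1 a)) * (adj g (s1 1) P * P) a b) := fun P a b => by
      rw [← mul_assoc, inv_mul_cancel₀ (hg.nz _), one_mul]
    have hB : ∀ (P : M1) (a b : Ix 1), g (s1 1 a) * (adj g (s1 1) P * P) a b =
        B1 (P *ᵥ Pi.single (s1 1 a) 1) (P *ᵥ Pi.single b 1) := fun P a b => by
      rw [bf_mulVec_left hg.wg, mulVec_mulVec, bf_single hg.wg, s1_inv, mulVec_single_one, Matrix.col_apply]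
    apply mul_left_cancel₀ (hg.nz (s1 1 a))
    rw [Matrix.mul_diagonal, ← mul_assoc, hB, hB, hcol, hcol, hcol', hcol']
    by_cases hab : s1 1 a = b
    · rw [hab]
      simp only [D]
      rw [mul_div_cancel₀ _ (he b)]
    · rw [ho _ _ hab, ho' _ _ hab, zero_mul]
  have hdet := congrArg Matrix.det key
  rw [hR, hR0, Matrix.det_mul, Matrix.det_mul, Matrix.det_mul, det_adj hg.wg, det_adj hg.wg,
    Matrix.det_diagonal] at hdet
  refine ⟨Q'.det / Q.det, ?_⟩
  rw [div_mul_div_comm, hdet, mul_comm, mul_div_assoc, div_self (mul_ne_zero hQ hQ), mul_one]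

variable {r : ℕ}

/-- the negated space of an involution in one factor -/
theorem sl_neg_dim (l : Fin (r + 1)) {A : GL (Ix 1) F} (hA : A * A = 1) :
    Module.finrank F (negSp (sl l A : GL (Fin (r + 1) → Ix 1) F)) = Module.finrank F (negSp A) * 4 ^ r := by
  classical
  have h3 := pure_neg_dim h2 (A := Pi.mulSingle l A) (fun k => by
    rcases eq_or_ne k l with rfl | hk
    · rw [Pi.mulSingle_eq_same, hA]
    · rw [Pi.mulSingle_eq_of_ne hk, one_mul])
  rw [← sl_eq_pureGL, ← Finset.mul_prod_erase Finset.univ _ (Finset.mem_univ l), Pi.mulSingle_eq_same,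
    Finset.prod_congr rfl (g := fun _ => (4 : ℤ)) (fun k hk => by
      rw [Pi.mulSingle_eq_of_ne (Finset.ne_of_mem_erase hk),
        show Module.finrank F (negSp (1 : GL (Ix 1) F)) = 0 by
          rw [Submodule.finrank_eq_zero, Submodule.eq_bot_iff]
          intro x hx
          have h4 := mem_negSp.1 hx
          rw [Units.val_one, one_mulVec] at h4
          exact (smul_eq_zero.1 (show (2 : F) • x = 0 by linear_combination (norm := module) h4)).resolve_left h2]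
      norm_num), Finset.prod_const, Finset.card_erase_of_mem (Finset.mem_univ l), Finset.card_univ,
    Fintype.card_fin, Nat.add_sub_cancel] at h3
  push_cast at h3
  rw [pow_succ] at h3
  have h5 : (Module.finrank F (negSp (sl l A : GL (Fin (r + 1) → Ix 1) F)) : ℤ) =
      ((Module.finrank F (negSp A) * 4 ^ r : ℕ) : ℤ) := by
    push_cast
    linarith
  exact_mod_cast h5

/-- the fixed space of a half turn in one factor -/
theorem zeta_fix_range (j : Fin (r + 1)) {d f : V1} (hd : B1 d d ≠ 0) (hf : B1 f f ≠ 0) (hdf : B1 d f = 0)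
    {z : (Fin (r + 1) → Ix 1) → F}
    (hz : (sl j (zeta hg d f hd hf) : Matrix (Fin (r + 1) → Ix 1) (Fin (r + 1) → Ix 1) F) *ᵥ z = z) :
    ∃ w w', z = tv j d w + tv j f w' := by
  have e : (zeta hg d f hd hf : M1) = (2 / B1 d d) • vecMulVec d (dual g (s1 1) d) +
      (2 / B1 f f) • vecMulVec f (dual g (s1 1) f) - 1 := Matrix.ext_iff_mulVec.2 fun x => by
    rw [zeta_mulVec hd hf hdf, sub_mulVec, add_mulVec, one_mulVec, Matrix.smul_mulVec, Matrix.smul_mulVec,
      vecMulVec_mulVec, vecMulVec_mulVec, op_smul_eq_smul, op_smul_eq_smul, smul_smul, smul_smul,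
      show dual g (s1 1) d ⬝ᵥ x = B1 x d from bf_comm hg.wg d x,
      show dual g (s1 1) f ⬝ᵥ x = B1 x f from bf_comm hg.wg f x]
    match_scalars <;> ring
  rw [sl_coe, e, TensorPower.slot_sub, TensorPower.slot_add, TensorPower.slot_smul, TensorPower.slot_smul,
    TensorPower.slot_one, sub_mulVec, add_mulVec, one_mulVec, sub_eq_iff_eq_add, ← two_smul F z,
    Matrix.smul_mulVec, Matrix.smul_mulVec] at hz
  obtain ⟨w, hw⟩ := slot_vmv_range j d (dual g (s1 1) d) z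
  obtain ⟨w', hw'⟩ := slot_vmv_range j f (dual g (s1 1) f) z
  rw [hw, hw'] at hz
  refine ⟨((2 : F)⁻¹ * (2 / B1 d d)) • w, ((2 : F)⁻¹ * (2 / B1 f f)) • w', ?_⟩
  rw [tv_smul_right, tv_smul_right, mul_smul, mul_smul, ← smul_add, hz, smul_smul, inv_mul_cancel₀ h2, one_smul]

/-- the negated space of a reflection in one factor is a slice -/
theorem rv_neg_range (j : Fin (r + 1)) {d : V1} (hd : B1 d d ≠ 0) {z : (Fin (r + 1) → Ix 1) → F}
    (hz : (sl j (rv hg d hd) : Matrix (Fin (r + 1) → Ix 1) (Fin (r + 1) → Ix 1) F) *ᵥ z = -z) :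
    ∃ w, z = tv j d w := by
  have e : (rv hg d hd : M1) = 1 - (2 / B1 d d) • vecMulVec d (dual g (s1 1) d) := rfl_coe hg.wg d hd
  rw [sl_coe, e, TensorPower.slot_sub, TensorPower.slot_smul, TensorPower.slot_one, sub_mulVec, one_mulVec,
    Matrix.smul_mulVec] at hz
  obtain ⟨w, hw⟩ := slot_vmv_range j d (dual g (s1 1) d) z
  rw [hw] at hz
  refine ⟨((2 : F)⁻¹ * (2 / B1 d d)) • w, smul_right_injective _ h2 ?_⟩
  show (2 : F) • z = (2 : F) • _
  rw [tv_smul_right, mul_smul, smul_smul (2 : F) (2 : F)⁻¹, mul_inv_cancel₀ h2, one_smul]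
  linear_combination (norm := module) hz

end Basis

/-- a unipotent element has only the eigenvalue one -/
theorem unip_eigen {p : ℕ} [Fact p.Prime] [CharP F p] {A : GL (Ix 1) F} (hA : A ^ p = 1) {f : V1} (hf : f ≠ 0)
    {c : F} (h : (A : M1) *ᵥ f = c • f) : (A : M1) *ᵥ f = f := by
  have hpw : ∀ k : ℕ, ((A ^ k : GL (Ix 1) F) : M1) *ᵥ f = c ^ k • f := fun k => by
    induction k with
    | zero => rw [pow_zero, pow_zero, Units.val_one, one_mulVec, one_smul]
    | succ k ih => rw [pow_succ', gl_mul_mulVec, ih, mulVec_smul, h, smul_smul, pow_succ]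
  have h1 := hpw p
  rw [hA, Units.val_one, one_mulVec] at h1
  have h3 : c ^ p = 1 := by
    by_contra hne
    exact hf ((smul_eq_zero.1 (show (c ^ p - 1) • f = 0 by rw [sub_smul, ← h1, one_smul, sub_self])).resolve_left
      (sub_ne_zero.2 hne))
  have h5 : (c - 1) ^ p = 0 := by rw [sub_pow_char, h3, one_pow, sub_self]
  rw [h, sub_eq_zero.1 (eq_zero_of_pow_eq_zero h5), one_smul]

variable [Fintype F] {s : ℕ} {M : Subgroup (GL (Fin (s + 1) → Ix 1) F)} (hM : Ctx hg M)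
include hM

/-- half turns of one factor are members -/
theorem Ctx.zeta_sl (l : Fin (s + 1)) {d f : V1} (hd : B1 d d ≠ 0) (hf : B1 f f ≠ 0) (hdf : B1 d f = 0) :
    sl l (zeta hg d f hd hf) ∈ M := by
  obtain ⟨a, b, ha, hb, hda, hdb, hfa, hfb, hab⟩ := exists_completion hM.two hg hd hf hdf
  rw [zeta_eq_rr hM.two hd hf ha hb hdf hda hdb hfa hfb hab]
  exact hM.rr_mem ⟨2, rfl⟩ l ha hb

/-- reflections of one of at least three factors are members -/
theorem Ctx.rv_sl (hs : 2 ≤ s) (l : Fin (s + 1)) {d : V1} (hd : B1 d d ≠ 0) : sl l (rv hg d hd) ∈ M :=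
  hM.mem ⟨sl_mem_tw _ _, sl_refl_Om hM.two ⟨2, rfl⟩ (by omega) l hd⟩

end CfsgLib.Perm.Trans.TensorPowerO
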