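import Mathlib
import Cfsg.Agent.Lib.Perm.Trans.TensorPowerO.K4Tools

/-!
# Four-dimensional factors of minus type, three or more of them: slices and half turns
-/

set_option autoImplicit false
set_option linter.all false

namespace CfsgLib.Perm.Trans.TensorPowerO

open scoped Matrix
open Matrix Cfsg.Geo CfsgLib.Perm.Asch CfsgLib.Perm.Trans CfsgLib.Perm.Trans.TensorPower
open CfsgLib.Perm.Trans.TensorSO CfsgLib.Perm.Trans.TensorOO

variable {F : Type*} [Field F] {g : Ix 1 → F} {hg : Dg g}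

local notation "M1" => Matrix (Ix 1) (Ix 1) F
local notation "V1" => Ix 1 → F
local notation "B1" => bf g (s1 1)

/-- an involution about a vector other than the two trivial ones has an axis fixed by commuting unipotent elements -/
theorem exists_common_axis (h2 : (2 : F) ≠ 0) {p : ℕ} [Fact p.Prime] [CharP F p] {d : V1} (hd : B1 d d ≠ 0)
    {C : GL (Ix 1) F} (hC : C ∈ u1 hg) (hCC : C * C = 1) (hCd : (C : M1) *ᵥ d = d) (h1 : C ≠ 1)
    (h3 : C ≠ -rv hg d hd) :
    ∃ f, B1 f f ≠ 0 ∧ B1 d f = 0 ∧ ∀ A : GL (Ix 1) F, A ∈ u1 hg → A ^ p = 1 → (A : M1) *ᵥ d = d → A * C = C * A →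
      (A : M1) *ᵥ f = f := by
  have hs := bf_symmetric hg.wg
  obtain ⟨hn1, hn3⟩ := nd_eigen hs h2 hCC (bf_of_mem hC)
  have hfd := invol_finrank h2 hCC
  rw [Fintype.card_fin] at hfd
  have hdm : d ∈ fixSp C := mem_fixSp.2 hCd
  have hdim := perp_dim hs h2 hdm hd
  suffices h : ∃ L : Submodule F V1, Module.finrank F L = 1 ∧ Nd B1 L ∧ (∀ x ∈ L, B1 d x = 0) ∧
      ∀ A : GL (Ix 1) F, A ∈ u1 hg → (A : M1) *ᵥ d = d → A * C = C * A → ∀ x ∈ L, (A : M1) *ᵥ x ∈ L by
    obtain ⟨L, hL1, hLn, hLd, hLA⟩ := h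
    obtain ⟨f, hf, hff⟩ := nd_aniso hs h2 hLn (by omega)
    have hf0 : f ≠ 0 := fun e => hff (by rw [e]; exact Orth.sym_zero_left hs _)
    refine ⟨f, hff, hLd f hf, fun A hA hAp hAd hAC => ?_⟩
    have hspan : Submodule.span F ({f} : Set V1) = L := Submodule.eq_of_le_of_finrank_le
      ((Submodule.span_singleton_le_iff_mem _ _).2 hf) (by rw [finrank_span_singleton hf0, hL1])
    obtain ⟨c, hc⟩ := Submodule.mem_span_singleton.1 (hspan.symm ▸ hLA A hA hAd hAC f hf :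
      (A : M1) *ᵥ f ∈ Submodule.span F ({f} : Set V1))
    exact unip_eigen hAp hf0 hc.symm
  have hcm : ∀ A : GL (Ix 1) F, A * C = C * A → ∀ x,
      (C : M1) *ᵥ ((A : M1) *ᵥ x) = (A : M1) *ᵥ ((C : M1) *ᵥ x) := fun A h x => by
    rw [← gl_mul_mulVec, ← h, gl_mul_mulVec]
  have hnd : ∀ x ∈ negSp C, B1 d x = 0 := fun x hx => eigen_perp hs h2 (bf_of_mem hC) hdm hx
  have hq0 : Module.finrank F (negSp C) ≠ 0 := fun e => h1 (invol_neg_zero h2 hCC e)
  have hq3 : Module.finrank F (negSp C) ≠ 3 := fun e => by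
    have hle : negSp C ≤ perp hs ⊤ d := fun x hx => ⟨trivial, by show B1 x d = 0; rw [bf_comm hg.wg]; exact hnd x hx⟩
    have h0 := perp_dim hs h2 (Submodule.mem_top (x := d)) hd
    rw [top_finrank hs, Fintype.card_fin] at h0
    have heq := Submodule.eq_of_le_of_finrank_le hle (by omega)
    refine h3 (Units.ext (Matrix.ext_iff_mulVec.2 fun x => ?_))
    have hm : x - (B1 x d / B1 d d) • d ∈ negSp C := by
      rw [heq]
      refine ⟨trivial, ?_⟩
      show B1 (x - (B1 x d / B1 d d) • d) d = 0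
      rw [Orth.sym_sub_left hs, bf_smul_left, div_mul_cancel₀ _ hd, sub_self]
    have h5 := mem_negSp.1 hm
    rw [mulVec_sub, mulVec_smul, hCd] at h5
    rw [Units.val_neg, neg_mulVec, rv_mulVec, sub_eq_iff_eq_add.1 h5]
    match_scalars <;> ring
  have hd0 : d ≠ 0 := fun e => hd (by rw [e]; exact Orth.sym_zero_left hs _)
  have hpos : 1 ≤ Module.finrank F (fixSp C) := Submodule.one_le_finrank_iff.2 fun e => hd0 (by
    rwa [e, Submodule.mem_bot] at hdm)
  by_cases hq1 : Module.finrank F (negSp C) = 1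
  · exact ⟨negSp C, hq1, hn3, hnd, fun A hA _ hAC x hx =>
      mem_negSp.2 (by rw [hcm A hAC, mem_negSp.1 hx, mulVec_neg])⟩
  refine ⟨perp hs (fixSp C) d, by omega, nd_perp hs hn1 hdm hd,
    fun x hx => by rw [bf_comm hg.wg]; exact hx.2, fun A hA hAd hAC x hx => ?_⟩
  refine mem_perp.2 ⟨mem_fixSp.2 (by rw [hcm A hAC, mem_fixSp.1 hx.1]), ?_⟩
  rw [← hAd, bf_of_mem hA]
  exact hx.2

variable [Fintype F] {s : ℕ} {M : Subgroup (GL (Fin (s + 1) → Ix 1) F)} (hM : Ctx hg M) (hN : NormTw hg s)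
  (hmin : Minus g) (hs : 2 ≤ s)
include hM hN hmin

/-- a member fixing a slice and commuting with an involution about its vector -/
theorem Ctx.fix_cent {j : Fin (s + 1)} {d : V1} (hd : B1 d d ≠ 0) {C : GL (Ix 1) F} (hC : C ∈ u1 hg)
    (hCC : C * C = 1) (hCd : (C : M1) *ᵥ d = d) (h1 : C ≠ 1) (h3 : C ≠ -rv hg d hd)
    {y : GL (Fin (s + 1) → Ix 1) F} (hy : y ∈ fixSlice M j d) (hyC : y * sl j C = sl j C * y) :
    y ∈ tensorWreathStandard (1 + 3) (s + 1) F := by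
  classical
  have h2 := hM.two
  obtain ⟨p, hp, hc, -, -⟩ := exists_char (F := F) h2
  haveI := hc
  haveI : Fact p.Prime := ⟨hp⟩
  obtain ⟨f, hff, hdf, hfix⟩ := exists_common_axis (p := p) h2 hd hC hCC hCd h1 h3
  obtain ⟨i⟩ : Nonempty (Fin s) := ⟨⟨0, hM.one⟩⟩
  have hlj : j.succAbove i ≠ j := Fin.succAbove_ne j i
  obtain ⟨a, -, ha, haa⟩ := nd_singular (bf_symmetric hg.wg) h2 (nd_top (bf_symmetric hg.wg))
    (by rw [top_finrank (bf_symmetric hg.wg), Fintype.card_fin]; omega)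
  refine hM.root_principle hN hmin (p := p) (X := fixSlice M j d ⊓ Subgroup.centralizer {sl j C})
    (fun x hx => hx.1.1) (l := j.succAbove i) ha haa (fun m hm x hx => ?_) (fun x hx hxW hxp _ => ?_)
    ⟨hy, Subgroup.mem_centralizer_singleton_iff.2 hyC⟩
  · refine ⟨fix_normalised (hM.ei_sl _ haa hm) (sl_maps j d i _) hx.1, Subgroup.mem_centralizer_singleton_iff.2 ?_⟩
    have e1 := Subgroup.mem_centralizer_singleton_iff.1 hx.2
    have e3 : sl (j.succAbove i) (ei hg a m) * sl j C = sl j C * sl (j.succAbove i) (ei hg a m) := sl_comm hlj _ _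
    generalize sl (j.succAbove i) (ei hg a m) = R at e3 ⊢
    generalize sl j C = Z at e1 e3 ⊢
    have e4 : R⁻¹ * Z = Z * R⁻¹ := by rw [inv_mul_eq_iff_eq_mul, ← mul_assoc, e3, mul_inv_cancel_right]
    calc R * x * R⁻¹ * Z = R * x * (R⁻¹ * Z) := by group
      _ = R * (x * Z) * R⁻¹ := by rw [e4]; group
      _ = R * Z * x * R⁻¹ := by rw [e1]; group
      _ = Z * (R * x * R⁻¹) := by rw [e3]; group
  · obtain ⟨A, hA, rfl, hAd⟩ := tw_fix_slice hxW (hM.le_uT hx.1.1)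
      (fun e => hd (by rw [e]; exact Orth.sym_zero_left (bf_symmetric hg.wg) _)) (maps_one_iff.1 hx.1.2)
    have hAp : A ^ p = 1 := sl_inj (k := j) (by omega) (by rw [sl_pow, hxp, sl_one])
    have hAC : A * C = C * A := sl_inj (k := j) (by omega) (by
      rw [← sl_mul, ← sl_mul]; exact Subgroup.mem_centralizer_singleton_iff.1 hx.2)
    rw [unip_fix_plane h2 hmin hA hAp hd hff hdf hAd (hfix A hA hAp hAd hAC), sl_one]

omit hN hmin in
theorem Ctx.zeta_fixSlice (j : Fin (s + 1)) {d f : V1} (hd : B1 d d ≠ 0) (hf : B1 f f ≠ 0) (hdf : B1 d f = 0) :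
    sl j (zeta hg d f hd hf) ∈ fixSlice M j d :=
  ⟨hM.zeta_sl j hd hf hdf, fun w => by rw [sl_tv, zeta_fix_left hd hf hdf, Units.val_one, one_mulVec]⟩

omit hN hmin in
theorem zeta_ne {j : Fin (s + 1)} {d f : V1} (hd : B1 d d ≠ 0) (hf : B1 f f ≠ 0) (hdf : B1 d f = 0) :
    zeta hg d f hd hf ≠ 1 ∧ zeta hg d f hd hf ≠ -rv hg d hd := by
  obtain ⟨a, b, ha, hb, hda, hdb, hfa, hfb, hab⟩ := exists_completion hM.two hg hd hf hdf
  have hz : (zeta hg d f hd hf : M1) *ᵥ a = -a := by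
    rw [zeta_mulVec hd hf hdf, bf_comm hg.wg a d, hda, bf_comm hg.wg a f, hfa]
    simp
  have hf0 : f ≠ 0 := fun e => hf (by rw [e]; exact Orth.sym_zero_left (bf_symmetric hg.wg) _)
  have ha0 : a ≠ 0 := fun e => ha (by rw [e]; exact Orth.sym_zero_left (bf_symmetric hg.wg) _)
  refine ⟨fun e => ?_, fun e => ?_⟩
  · rw [e, Units.val_one, one_mulVec] at hz
    exact ha0 ((smul_eq_zero.1 (show (2 : F) • a = 0 by linear_combination (norm := module) hz)).resolve_left hM.two)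
  · have h1 := zeta_fix_right (hg := hg) hd hf hdf
    rw [e, Units.val_neg, neg_mulVec, rv_perp hd (by rw [bf_comm hg.wg]; exact hdf)] at h1
    exact hf0 ((smul_eq_zero.1 (show (2 : F) • f = 0 by linear_combination (norm := module) -h1)).resolve_left hM.two)

/-- a member fixing a slice commuting with a half turn about its vector -/
theorem Ctx.fix_zeta {j : Fin (s + 1)} {d f : V1} (hd : B1 d d ≠ 0) (hf : B1 f f ≠ 0) (hdf : B1 d f = 0)
    {y : GL (Fin (s + 1) → Ix 1) F} (hy : y ∈ fixSlice M j d)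
    (hyc : y * sl j (zeta hg d f hd hf) = sl j (zeta hg d f hd hf) * y) :
    y ∈ tensorWreathStandard (1 + 3) (s + 1) F :=
  hM.fix_cent hN hmin hd (zeta_mem hd hf) (zeta_sq hM.two hd hf hdf) (zeta_fix_left hd hf hdf)
    (zeta_ne hM (j := j) hd hf hdf).1 (zeta_ne hM (j := j) hd hf hdf).2 hy hyc

omit hN hmin in
/-- a conjugate of a half turn about the vector of a slice, if in the wreath subgroup, is another -/
theorem Ctx.fix_zeta_image {j : Fin (s + 1)} {d f : V1} (hd : B1 d d ≠ 0) (hf : B1 f f ≠ 0) (hdf : B1 d f = 0)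
    {x : GL (Fin (s + 1) → Ix 1) F} (hx : x ∈ fixSlice M j d)
    (hW : x * sl j (zeta hg d f hd hf) * x⁻¹ ∈ tensorWreathStandard (1 + 3) (s + 1) F) :
    ∃ (e : V1) (he : B1 e e ≠ 0), B1 d e = 0 ∧ x * sl j (zeta hg d f hd hf) * x⁻¹ = sl j (zeta hg d e hd he) := by
  have h2 := hM.two
  set a := sl j (zeta hg d f hd hf) with hadef
  have hy : x * a * x⁻¹ ∈ fixSlice M j d := mul_mem (mul_mem hx (hM.zeta_fixSlice j hd hf hdf)) (inv_mem hx)
  have hd0 : d ≠ 0 := fun e => hd (by rw [e]; exact Orth.sym_zero_left (bf_symmetric hg.wg) _)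
  obtain ⟨A, hA, hyA, hAd⟩ := tw_fix_slice hW (hM.le_uT hy.1) hd0 (maps_one_iff.1 hy.2)
  have hAA : A * A = 1 := sl_inj (k := j) (by omega) (by
    rw [← sl_mul, ← hyA, show x * a * x⁻¹ * (x * a * x⁻¹) = x * (a * a) * x⁻¹ by group, hadef, sl_mul,
      zeta_sq h2 hd hf hdf, sl_one]
    group)
  have hn : Module.finrank F (negSp A) = 2 := by
    have h1 := sl_neg_dim h2 (r := s) j hAA
    rw [← hyA, negSp_conj, hadef, sl_neg_dim h2 (r := s) j (zeta_sq h2 hd hf hdf),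
      zeta_fixSp h2 hd hf hdf] at h1
    exact (Nat.eq_of_mul_eq_mul_right (pow_pos (by omega) s) h1).symm
  obtain ⟨e, he, hde, hAe⟩ := invol_eq_zeta h2 hA hAA hn hd hAd
  exact ⟨e, he, hde, by rw [hyA, hAe]⟩

include hs

/-- conjugate axes of the same class -/
theorem Ctx.fix_same {j : Fin (s + 1)} {d f e : V1} (hd : B1 d d ≠ 0) (hf : B1 f f ≠ 0) (he : B1 e e ≠ 0)
    (hdf : B1 d f = 0) (hde : B1 d e = 0) (hsq : IsSquare (B1 e e / B1 f f))
    {x : GL (Fin (s + 1) → Ix 1) F} (hx : x ∈ fixSlice M j d)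
    (h : x * sl j (zeta hg d f hd hf) * x⁻¹ = sl j (zeta hg d e hd he)) :
    x ∈ tensorWreathStandard (1 + 3) (s + 1) F := by
  have h2 := hM.two
  obtain ⟨c, hc⟩ := hsq
  have hc0 : c ≠ 0 := fun e0 => div_ne_zero he hf (by rw [hc, e0, zero_mul])
  have hval : B1 (c⁻¹ • e) (c⁻¹ • e) = B1 f f := by
    rw [bf_smul_left, bf_smul_right, (div_eq_iff hf).1 hc]
    field_simp
  have hde' : B1 d (c⁻¹ • e) = 0 := by rw [bf_smul_right, hde, mul_zero]
  obtain ⟨a, ha, ε, hε, hda, hmove⟩ := exists_move (hg := hg) h2 hd hf hdf hde' hval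
  have he' : B1 (c⁻¹ • e) (c⁻¹ • e) ≠ 0 := by rw [hval]; exact hf
  have hεf : B1 (ε • f) (ε • f) ≠ 0 := by rw [bf_smul_left, bf_smul_right, ← mul_assoc, hε, one_mul]; exact hf
  have hl : sl j (rv hg a ha) ∈ fixSlice M j d := ⟨hM.rv_sl hs j ha, fun w => by
    rw [sl_tv, rv_perp ha hda, Units.val_one, one_mulVec]⟩
  have hconj : sl j (rv hg a ha) * sl j (zeta hg d e hd he) * (sl j (rv hg a ha))⁻¹ =
      sl j (zeta hg d f hd hf) := by
    rw [← sl_inv, sl_mul, sl_mul, ← zeta_smul_right hd he he', zeta_conj hd he' hd hεf (rv_mem ha)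
      (rv_perp ha hda) hmove, zeta_smul_right hd hf hεf]
  have hlx := hM.fix_zeta hN hmin hd hf hdf (mul_mem hl hx) (mul_inv_eq_iff_eq_mul.1 (by
    rw [show sl j (rv hg a ha) * x * sl j (zeta hg d f hd hf) * (sl j (rv hg a ha) * x)⁻¹ =
      sl j (rv hg a ha) * (x * sl j (zeta hg d f hd hf) * x⁻¹) * (sl j (rv hg a ha))⁻¹ by group, h, hconj]))
  have := mul_mem (inv_mem (sl_mem_tw j (rv hg a ha))) hlx
  rwa [inv_mul_cancel_left] at this

/-- axes of different classes are not conjugate -/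
theorem Ctx.fix_not_conj {j : Fin (s + 1)} {d f e : V1} (hd : B1 d d ≠ 0) (hf : B1 f f ≠ 0) (he : B1 e e ≠ 0)
    (hdf : B1 d f = 0) (hde : B1 d e = 0) (hsq : ¬ IsSquare (B1 e e / B1 f f))
    {x : GL (Fin (s + 1) → Ix 1) F} (hx : x ∈ fixSlice M j d) :
    x * sl j (zeta hg d f hd hf) * x⁻¹ ≠ sl j (zeta hg d e hd he) := by
  intro h
  have h2 := hM.two
  have hd0 : d ≠ 0 := fun e0 => hd (by rw [e0]; exact Orth.sym_zero_left (bf_symmetric hg.wg) _)
  have hsame : ∀ {f e : V1} (hf : B1 f f ≠ 0) (he : B1 e e ≠ 0), B1 d f = 0 → B1 d e = 0 →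
      x ∈ tensorWreathStandard (1 + 3) (s + 1) F →
      x * sl j (zeta hg d f hd hf) * x⁻¹ = sl j (zeta hg d e hd he) → IsSquare (B1 e e / B1 f f) := by
    intro f e hf he hdf hde hxW h
    obtain ⟨A, hA, rfl, hAd⟩ := tw_fix_slice hxW (hM.le_uT hx.1) hd0 (maps_one_iff.1 hx.2)
    have hAf : B1 ((A : M1) *ᵥ f) ((A : M1) *ᵥ f) ≠ 0 := by rw [bf_of_mem hA]; exact hf
    have h1 := h
    rw [← sl_inv, sl_mul, sl_mul, zeta_conj hd hf hd hAf hA hAd rfl] at h1
    obtain ⟨c, hc⟩ := zeta_inj h2 hd hAf he (by conv_lhs => rw [← hAd, bf_of_mem hA, hdf]) hde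
      (sl_inj (by omega) h1)
    refine ⟨c, ?_⟩
    rw [hc, bf_smul_left, bf_smul_right, bf_of_mem hA, ← mul_assoc, mul_div_assoc, div_self hf, mul_one]
  obtain ⟨f', f'', hf', hf'', hdf', hdf'', hff', hff'', hf'f''⟩ := exists_completion h2 hg hd hf hdf
  have hcomm : sl j (zeta hg d f hd hf) * sl j (zeta hg d f' hd hf') =
      sl j (zeta hg d f' hd hf') * sl j (zeta hg d f hd hf) := by
    rw [sl_mul, sl_mul, zeta_mul h2 hd hf hf' hf'' hdf hdf' hdf'' hff' hff'' hf'f'',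
      zeta_mul h2 hd hf' hf hf'' hdf' hdf hdf'' (by rw [bf_comm hg.wg]; exact hff') hf'f'' hff'']
  have hy' := hM.fix_zeta hN hmin (j := j) hd he hde
    (mul_mem (mul_mem hx (hM.zeta_fixSlice j hd hf' hdf')) (inv_mem hx)) (by
      rw [← h]
      calc x * sl j (zeta hg d f' hd hf') * x⁻¹ * (x * sl j (zeta hg d f hd hf) * x⁻¹)
          = x * (sl j (zeta hg d f' hd hf') * sl j (zeta hg d f hd hf)) * x⁻¹ := by group
        _ = _ := by rw [← hcomm]; group)
  obtain ⟨e', he', hde', h'⟩ := hM.fix_zeta_image hd hf' hdf' hx hy'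
  by_cases hs' : IsSquare (B1 e' e' / B1 f' f')
  · exact hsq (hsame hf he hdf hde (hM.fix_same hN hmin hs hd hf' he' hdf' hde' hs' hx h') h)
  have hne : zeta hg d e hd he ≠ zeta hg d e' hd he' := fun e0 => by
    rw [← e0] at h'
    have h1 : sl j (zeta hg d f hd hf) = sl j (zeta hg d f' hd hf') :=
      mul_left_cancel (mul_right_cancel (h.trans h'.symm))
    obtain ⟨c, hc⟩ := zeta_inj h2 hd hf hf' hdf hdf' (sl_inj (by omega) h1)
    rw [hc, bf_smul_right, mul_eq_zero] at hff'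
    exact hff'.elim (fun h0 => hf' (by rw [hc, h0, zero_smul]; exact Orth.sym_zero_left (bf_symmetric hg.wg) _)) hf
  have hee' : B1 e e' = 0 := by
    refine zeta_orth h2 hd he he' hde hde' (sl_inj (k := j) (by omega) ?_) hne
    rw [← sl_mul, ← sl_mul, ← h, ← h']
    calc x * sl j (zeta hg d f hd hf) * x⁻¹ * (x * sl j (zeta hg d f' hd hf') * x⁻¹)
        = x * (sl j (zeta hg d f hd hf) * sl j (zeta hg d f' hd hf')) * x⁻¹ := by group
      _ = _ := by rw [hcomm]; group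
  obtain ⟨e'', he'', hde'', hee'', he'e''⟩ : ∃ e'', B1 e'' e'' ≠ 0 ∧ B1 d e'' = 0 ∧ B1 e e'' = 0 ∧ B1 e' e'' = 0 := by
    have hs0 := bf_symmetric hg.wg
    have h0 := perp_dim hs0 h2 (Submodule.mem_top (x := d)) hd
    rw [top_finrank hs0, Fintype.card_fin] at h0
    have hem : e ∈ perp hs0 (⊤ : Submodule F V1) d := ⟨trivial, by show B1 e d = 0; rw [bf_comm hg.wg]; exact hde⟩
    have he'm : e' ∈ perp hs0 (perp hs0 (⊤ : Submodule F V1) d) e :=
      ⟨⟨trivial, by show B1 e' d = 0; rw [bf_comm hg.wg]; exact hde'⟩, by show B1 e' e = 0; rw [bf_comm hg.wg]; exact hee'⟩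
    have h1 := perp_dim hs0 h2 hem he
    have h3 := perp_dim hs0 h2 he'm he'
    obtain ⟨z, hz, hzz⟩ := nd_aniso hs0 h2
      (nd_perp hs0 (nd_perp hs0 (nd_perp hs0 (nd_top hs0) (Submodule.mem_top (x := d)) hd) hem he) he'm he') (by omega)
    refine ⟨z, hzz, ?_, ?_, ?_⟩ <;> rw [bf_comm hg.wg]
    exacts [hz.1.1.2, hz.1.2, hz.2]
  have h'' : x * sl j (zeta hg d f'' hd hf'') * x⁻¹ = sl j (zeta hg d e'' hd he'') := by
    rw [← zeta_mul h2 hd hf hf' hf'' hdf hdf' hdf'' hff' hff'' hf'f'',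
      ← zeta_mul h2 hd he he' he'' hde hde' hde'' hee' hee'' he'e'', ← sl_mul, ← sl_mul, ← h, ← h']
    group
  by_cases hs'' : IsSquare (B1 e'' e'' / B1 f'' f'')
  · exact hsq (hsame hf he hdf hde (hM.fix_same hN hmin hs hd hf'' he'' hdf'' hde'' hs'' hx h'') h)
  have hdisc := frame_disc h2 hg (e := ![d, f, f', f'']) (e' := ![d, e, e', e''])
    (fun i => by fin_cases i <;> assumption) (fun i => by fin_cases i <;> assumption)
    (fun i k hik => by
      fin_cases i <;> fin_cases k <;> first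
        | exact absurd rfl hik
        | assumption
        | (show B1 _ _ = 0; rw [bf_comm hg.wg]; assumption))
    (fun i k hik => by
      fin_cases i <;> fin_cases k <;> first
        | exact absurd rfl hik
        | assumption
        | (show B1 _ _ = 0; rw [bf_comm hg.wg]; assumption))
  rw [Fin.prod_univ_four] at hdisc
  simp only [Matrix.cons_val_zero, Matrix.cons_val_one, Matrix.cons_val, div_self hd, one_mul] at hdisc
  have h12 := nonsquare_mul h2 hsq hs'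
  refine hs'' ?_
  have hne0 : B1 e e / B1 f f * (B1 e' e' / B1 f' f') ≠ 0 := mul_ne_zero (div_ne_zero he hf) (div_ne_zero he' hf')
  have := hdisc.mul (isSquare_inv.2 h12)
  rwa [mul_right_comm, mul_inv_cancel₀ hne0, one_mul] at this

/-- **Theorem.** The pointwise stabiliser of an anisotropic slice lies in the wreath subgroup. -/
theorem Ctx.fix_tw {j : Fin (s + 1)} {d : V1} (hd : B1 d d ≠ 0) :
    fixSlice M j d ≤ tensorWreathStandard (1 + 3) (s + 1) F := by
  classical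
  intro x hx
  have h2 := hM.two
  have hs0 := bf_symmetric hg.wg
  have h0 := perp_dim hs0 h2 (Submodule.mem_top (x := d)) hd
  rw [top_finrank hs0, Fintype.card_fin] at h0
  have hnd := nd_perp hs0 (nd_top hs0) (Submodule.mem_top (x := d)) hd
  obtain ⟨ν, hν⟩ : ∃ ν : F, ¬ IsSquare ν := FiniteField.exists_nonsquare fun h => h2 (by
    haveI := ringChar.of_eq h; exact CharTwo.two_eq_zero)
  have hν0 : ν ≠ 0 := fun e => hν (e ▸ IsSquare.zero)
  obtain ⟨f, hfm, hfv⟩ := nd_value hs0 h2 hnd (by omega) (one_ne_zero (α := F))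
  obtain ⟨h, hhm, hhv⟩ := nd_value hs0 h2 hnd (by omega) hν0
  have hff : B1 f f ≠ 0 := by rw [hfv]; exact one_ne_zero
  have hhh : B1 h h ≠ 0 := by rw [hhv]; exact hν0
  have hdf : B1 d f = 0 := by rw [bf_comm hg.wg]; exact hfm.2
  have hdh : B1 d h = 0 := by rw [bf_comm hg.wg]; exact hhm.2
  set a := sl j (zeta hg d f hd hff) with hadef
  set y := x * sl j (zeta hg d h hd hhh) * x⁻¹ with hydef
  have haK : a ∈ fixSlice M j d := hM.zeta_fixSlice j hd hff hdf
  have hyK : y ∈ fixSlice M j d := mul_mem (mul_mem hx (hM.zeta_fixSlice j hd hhh hdh)) (inv_mem hx)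
  have hclK : Subgroup.closure ({a, y} : Set _) ≤ fixSlice M j d := (Subgroup.closure_le _).2 (by
    rintro z (rfl | rfl)
    exacts [haK, hyK])
  have ha2 : a * a = 1 := by rw [hadef, sl_mul, zeta_sq h2 hd hff hdf, sl_one]
  have hy2 : y * y = 1 := by
    rw [hydef, show x * sl j (zeta hg d h hd hhh) * x⁻¹ * (x * sl j (zeta hg d h hd hhh) * x⁻¹) =
      x * (sl j (zeta hg d h hd hhh) * sl j (zeta hg d h hd hhh)) * x⁻¹ by group, sl_mul, zeta_sq h2 hd hhh hdh,
      sl_one]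
    group
  have hnsq : ¬ IsSquare (B1 h h / B1 f f) := by rw [hhv, hfv, div_one]; exact hν
  rcases dihedral_cases ha2 hy2 with ⟨k, hk, e⟩ | ⟨c, i, -, hcmem, hc1, hcc, hca, hcy, hcases⟩
  · exfalso
    refine hM.fix_not_conj hN hmin hs hd hff hhh hdf hdh hnsq (mul_mem (inv_mem hx) (hclK hk)) ?_
    rw [← hadef, show x⁻¹ * k * a * (x⁻¹ * k)⁻¹ = x⁻¹ * (k * a * k⁻¹) * x by group, ← e, hydef]
    group
  have hcK := hclK hcmem
  have hd0 : d ≠ 0 := fun e0 => hd (by rw [e0]; exact Orth.sym_zero_left hs0 _)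
  obtain ⟨C, hC, hcC, hCd⟩ := tw_fix_slice (hM.fix_zeta hN hmin hd hff hdf hcK hca) (hM.le_uT hcK.1) hd0
    (maps_one_iff.1 hcK.2)
  have hCC : C * C = 1 := sl_inj (k := j) (by omega) (by rw [← sl_mul, ← hcC, hcc, sl_one])
  have hC1 : C ≠ 1 := fun e0 => hc1 (by rw [hcC, e0, sl_one])
  have hC3 : C ≠ -rv hg d hd := by
    intro e0
    have hca' : c * a = sl j (rv hg f hff) := by
      rw [hcC, hadef, sl_mul, e0, zeta, neg_mul_neg, ← mul_assoc, rv_sq, one_mul]
    have hdim : Module.finrank F (negSp (c * a)) = 2 * 4 ^ s := by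
      rcases hcases with ⟨-, k, -, hk, -, -⟩ | ⟨-, ⟨k, -, hk⟩, -⟩
      · rw [← hk, negSp_conj, hadef, sl_neg_dim h2 (r := s) j (zeta_sq h2 hd hff hdf),
          zeta_fixSp h2 hd hff hdf]
      · rw [← hk, negSp_conj, hydef, negSp_conj, sl_neg_dim h2 (r := s) j (zeta_sq h2 hd hhh hdh),
          zeta_fixSp h2 hd hhh hdh]
    rw [hca', sl_neg_dim h2 (r := s) j (rv_sq hff), rv, refl_neg_finrank (hg := hg) h2 hff] at hdim
    have : 0 < 4 ^ s := pow_pos (by omega) s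
    omega
  have hyW : y ∈ tensorWreathStandard (1 + 3) (s + 1) F :=
    hM.fix_cent hN hmin hd hC hCC hCd hC1 hC3 hyK (by rw [← hcC]; exact hcy.symm)
  obtain ⟨e, he, hde, hye⟩ := hM.fix_zeta_image hd hhh hdh hx hyW
  by_cases hsq : IsSquare (B1 e e / B1 h h)
  · exact hM.fix_same hN hmin hs hd hhh he hdh hde hsq hx hye
  · exact absurd hye (hM.fix_not_conj hN hmin hs hd hhh he hdh hde hsq hx)

/-- **Theorem.** An element carrying an anisotropic slice to one lies in the wreath subgroup. -/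
theorem Ctx.slice_move {x : GL (Fin (s + 1) → Ix 1) F} (hx : x ∈ M) {j l : Fin (s + 1)} {d d' : V1}
    (hd : B1 d d ≠ 0) (hd' : B1 d' d' ≠ 0) {C : GL (Fin s → Ix 1) F} (h : Maps x j d l d' C) :
    x ∈ tensorWreathStandard (1 + 3) (s + 1) F := by
  have h2 := hM.two
  obtain ⟨a, m, ha, haa, ham, hmm, hda, hdm⟩ := exists_root_perp h2 hd hg
  have hE : Maps (sl j (ei hg a m)) j d j d 1 := fun w => by
    rw [sl_tv, ei_fix h2 haa ham hda hdm, Units.val_one, one_mulVec]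
  have hy : x * sl j (ei hg a m) * x⁻¹ ∈ fixSlice M l d' :=
    ⟨M.mul_mem (M.mul_mem hx (hM.ei_sl j haa ham)) (M.inv_mem hx), h.conj_fix hE⟩
  obtain ⟨u, -, hyu, -⟩ := tw_fix_slice (hM.fix_tw hN hmin hs hd' hy) (hM.le_uT hy.1)
    (fun e => hd' (by rw [e]; exact Orth.sym_zero_left (bf_symmetric hg.wg) _)) (maps_one_iff.1 hy.2)
  exact hM.root_to_slot hN hmin hx ha haa ham hmm hyu

/-- **Theorem.** An element conjugating a reflection of one factor into the wreath subgroup lies in it. -/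
theorem Ctx.refl_fusion {x : GL (Fin (s + 1) → Ix 1) F} (hx : x ∈ M) {j : Fin (s + 1)} {d : V1}
    (hd : B1 d d ≠ 0) (hW : x * sl j (rv hg d hd) * x⁻¹ ∈ tensorWreathStandard (1 + 3) (s + 1) F) :
    x ∈ tensorWreathStandard (1 + 3) (s + 1) F := by
  have h2 := hM.two
  obtain ⟨l, d', hd', hk⟩ := refl_of_invol (hg := hg) h2 hW
    (hM.le_uT (M.mul_mem (M.mul_mem hx (hM.rv_sl hs j hd)) (M.inv_mem hx))) (by
      rw [show x * sl j (rv hg d hd) * x⁻¹ * (x * sl j (rv hg d hd) * x⁻¹) =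
        x * (sl j (rv hg d hd) * sl j (rv hg d hd)) * x⁻¹ by group, sl_mul, rv_sq, sl_one]
      group) (by rw [negSp_conj]; exact sl_refl_neg (hg := hg) h2 j hd)
  change x * sl j (rv hg d hd) * x⁻¹ = sl l (rv hg d' hd') at hk
  have key : ∀ (y : GL (Fin (s + 1) → Ix 1) F) (i i' : Fin (s + 1)) (e e' : V1) (he : B1 e e ≠ 0)
      (he' : B1 e' e' ≠ 0), y * sl i (rv hg e he) * y⁻¹ = sl i' (rv hg e' he') →
      ∀ w, ∃ w', (y : Matrix (Fin (s + 1) → Ix 1) (Fin (s + 1) → Ix 1) F) *ᵥ tv i e w = tv i' e' w' := by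
    intro y i i' e e' he he' h w
    refine rv_neg_range (hg := hg) h2 i' he' ?_
    rw [← h, gl_mul_mulVec, gl_mul_mulVec, gl_inv_mulVec, sl_tv, rv_self, ← mulVec_neg]
    congr 1
    rw [← neg_one_smul F e, tv_smul_left, neg_one_smul]
  obtain ⟨C, hC⟩ := exists_maps (x := x) (fun e => hd (by rw [e]; exact Orth.sym_zero_left (bf_symmetric hg.wg) _))
    (fun e => hd' (by rw [e]; exact Orth.sym_zero_left (bf_symmetric hg.wg) _)) (key x j l d d' hd hd' hk)
    (key x⁻¹ l j d' d hd' hd (by rw [← hk]; group))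
  exact hM.slice_move hN hmin hs hx hd hd' hC

/-- the centraliser of a reflection of one factor -/
theorem Ctx.refl_comm_tw {x : GL (Fin (s + 1) → Ix 1) F} (hx : x ∈ M) {j : Fin (s + 1)} {d : V1}
    (hd : B1 d d ≠ 0) (h : x * sl j (rv hg d hd) = sl j (rv hg d hd) * x) :
    x ∈ tensorWreathStandard (1 + 3) (s + 1) F :=
  hM.refl_fusion hN hmin hs hx hd (by rw [h, mul_inv_cancel_right]; exact sl_mem_tw _ _)

/-- the centraliser of a half turn of one factor -/
theorem Ctx.zeta_comm_tw {x : GL (Fin (s + 1) → Ix 1) F} (hx : x ∈ M) {j : Fin (s + 1)} {d f : V1}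
    (hd : B1 d d ≠ 0) (hf : B1 f f ≠ 0) (hdf : B1 d f = 0)
    (h : x * sl j (zeta hg d f hd hf) = sl j (zeta hg d f hd hf) * x) :
    x ∈ tensorWreathStandard (1 + 3) (s + 1) F := by
  have h2 := hM.two
  obtain ⟨a, b, ha, -, hda, -, hfa, -, -⟩ := exists_completion h2 hg hd hf hdf
  refine hM.refl_fusion hN hmin hs hx ha (j := j) (hM.fix_tw hN hmin hs (j := j) hd ⟨M.mul_mem (M.mul_mem hx
    (hM.rv_sl hs j ha)) (M.inv_mem hx), maps_one_iff.2 fun w => ?_⟩)
  have hz : (sl j (zeta hg d f hd hf) : Matrix (Fin (s + 1) → Ix 1) (Fin (s + 1) → Ix 1) F) *ᵥ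
      (((x⁻¹ : GL (Fin (s + 1) → Ix 1) F) : Matrix (Fin (s + 1) → Ix 1) (Fin (s + 1) → Ix 1) F) *ᵥ tv j d w) =
      ((x⁻¹ : GL (Fin (s + 1) → Ix 1) F) : Matrix (Fin (s + 1) → Ix 1) (Fin (s + 1) → Ix 1) F) *ᵥ tv j d w := by
    rw [← gl_mul_mulVec, show sl j (zeta hg d f hd hf) * x⁻¹ = x⁻¹ * sl j (zeta hg d f hd hf) by
      rw [eq_inv_mul_iff_mul_eq, ← mul_assoc, h, mul_inv_cancel_right], gl_mul_mulVec, sl_tv,
      zeta_fix_left hd hf hdf]
  obtain ⟨w1, w3, e⟩ := zeta_fix_range h2 j hd hf hdf hz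
  rw [gl_mul_mulVec, gl_mul_mulVec, e, mulVec_add, sl_tv, sl_tv, rv_perp ha hda, rv_perp ha hfa, ← e,
    gl_mulVec_inv]

end CfsgLib.Perm.Trans.TensorPowerO
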