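import Mathlib
import Cfsg.Agent.Lib.Perm.Trans.TensorPowerO.K4Fix

/-!
# Four-dimensional factors of minus type, three or more of them: maximality
-/

set_option autoImplicit false
set_option linter.all false

namespace CfsgLib.Perm.Trans.TensorPowerO

open scoped Matrix
open Matrix Cfsg.Geo CfsgLib.Perm.Asch CfsgLib.Perm.Trans CfsgLib.Perm.Trans.TensorPower
open CfsgLib.Perm.Trans.TensorSO CfsgLib.Perm.Trans.TensorOO

variable {F : Type*} [Field F] {g : Ix 1 → F} {hg : Dg g}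

local notation "M1" => Matrix (Ix 1) (Ix 1) F
local notation "V1" => Ix 1 → F
local notation "B1" => bf g (s1 1)

theorem rv_neg_dim (h2 : (2 : F) ≠ 0) {d : V1} (hd : B1 d d ≠ 0) :
    Module.finrank F (negSp (rv hg d hd)) = 1 :=
  refl_neg_finrank (hg := hg) h2 hd

theorem rv_ne_scalar (h2 : (2 : F) ≠ 0) {d : V1} (hd : B1 d d ≠ 0) [Finite F] (c : F) :
    (rv hg d hd : M1) ≠ c • 1 := by
  intro e
  obtain ⟨a, b, -, ha, -, -, hda, -⟩ := exists_basis4 h2 hg hd
  have h1 := congrArg (fun X : M1 => B1 (X *ᵥ d) d) e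
  have h3 := congrArg (fun X : M1 => B1 (X *ᵥ a) a) e
  simp only [rv_self, rv_perp hd (show B1 a d = 0 by rw [bf_comm hg.wg]; exact hda), Matrix.smul_mulVec, one_mulVec,
    bf_smul_left, Orth.sym_neg_left (bf_symmetric hg.wg)] at h1 h3
  have hc : c = 1 := mul_right_cancel₀ ha (by rw [← h3, one_mul])
  rw [hc, one_mul] at h1
  exact hd ((mul_eq_zero.1 (show (2 : F) * B1 d d = 0 by linear_combination -h1)).resolve_left h2)

/-- commuting reflections are equal or orthogonal -/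
theorem rv_orth (h2 : (2 : F) ≠ 0) {d e : V1} (hd : B1 d d ≠ 0) (he : B1 e e ≠ 0)
    (hc : rv hg d hd * rv hg e he = rv hg e he * rv hg d hd) (hne : rv hg d hd ≠ rv hg e he) : B1 d e = 0 := by
  by_contra hde
  refine refl_ne_comm (hg := hg) h2 hd he hde (fun c hce => hne ?_) hc
  subst hce
  exact (rv_smul hd he).symm

/-- how an element of the wreath group moves the factors of a pure tensor of involutions it commutes with -/
theorem pure_move (h2 : (2 : F) ≠ 0) {t : ℕ} {f : Fin t → GL (Ix 1) F} (hf : ∀ l, f l * f l = 1)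
    {h : GL (Fin t → Ix 1) F} (hh : h ∈ tensorWreathStandard (1 + 3) t F) (hc : h * pureGL f = pureGL f * h) :
    ∃ σ : Equiv.Perm (Fin t), HasPerm h σ ∧ ∀ l, ∃ B : GL (Ix 1) F, h * sl l (f l) * h⁻¹ = sl (σ l) B ∧
      Module.finrank F (negSp B) = Module.finrank F (negSp (f l)) ∧
      (B = f (σ l) ∨ Module.finrank F (negSp B) + Module.finrank F (negSp (f (σ l))) = 4) := by
  obtain ⟨σ, A, rfl⟩ := tw_shape hh
  refine ⟨σ, ⟨A, rfl⟩, fun l => ?_⟩
  set B : Fin t → GL (Ix 1) F := fun k => A k * f k * (A k)⁻¹ with hB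
  refine ⟨B l, Units.ext ?_, negSp_conj _ _, ?_⟩
  · rw [← cj_coe, sl_coe, sl_coe, cj_wreath_slot, hB, ← cj_coe]
  have e1 : permGL σ * pureGL A * pureGL f * (permGL σ * pureGL A)⁻¹ = pureGL (B ∘ σ.symm) := by
    have hAi : (pureGL A)⁻¹ = pureGL (fun k => (A k)⁻¹) := inv_eq_of_mul_eq_one_right (by
      rw [pureGL_mul, show A * (fun k => (A k)⁻¹) = 1 from funext fun k => mul_inv_cancel (A k), pureGL_one])
    have hB' : pureGL A * pureGL f * (pureGL A)⁻¹ = pureGL B := by rw [hAi, pureGL_mul, pureGL_mul]; rfl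
    rw [show permGL σ * pureGL A * pureGL f * (permGL σ * pureGL A)⁻¹ =
      permGL σ * (pureGL A * pureGL f * (pureGL A)⁻¹) * (permGL σ)⁻¹ by group, hB']
    have e2 : permGL σ * pureGL B = pureGL (B ∘ σ.symm) * permGL σ := by
      rw [pureGL_perm]
      congr 2
      funext k
      simp
    rw [e2, mul_inv_cancel_right]
  have e3 : pureGL (B ∘ σ.symm) = pureGL f := by rw [← e1, hc, mul_inv_cancel_right]
  have h1 : CfsgLib.Perm.Asch.pure (fun k => ((B ∘ σ.symm) k : M1)) =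
      CfsgLib.Perm.Asch.pure (fun k => (f k : M1)) := by rw [← pureGL_coe, e3, pureGL_coe]
  obtain ⟨c, hc0, hcB⟩ := pure_prop h1 (fun k => gl_ne_zero _) (fun k => gl_ne_zero _) (σ l)
  simp only [Function.comp_apply, Equiv.symm_apply_apply] at hcB
  have hcc : c * c = 1 := by
    have h3 := congrArg (fun X : M1 => X * X) hcB
    simp only [Matrix.smul_mul, Matrix.mul_smul, smul_smul, ← Units.val_mul, hf] at h3
    rw [show B l * B l = 1 by
      rw [hB]; show A l * f l * (A l)⁻¹ * (A l * f l * (A l)⁻¹) = 1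
      rw [show A l * f l * (A l)⁻¹ * (A l * f l * (A l)⁻¹) = A l * (f l * f l) * (A l)⁻¹ by group, hf]; group] at h3
    have h4 := congrFun (congrFun h3 0) 0
    rw [Units.val_one, Matrix.smul_apply, Matrix.one_apply_eq, smul_eq_mul, mul_one] at h4
    exact h4.symm
  rcases mul_self_eq_one_iff.1 hcc with rfl | rfl
  · exact Or.inl (Units.ext (hcB.trans (one_smul _ _)))
  · right
    have e : negSp (B l) = fixSp (f (σ l)) := by
      ext x
      rw [mem_negSp, mem_fixSp, hcB, neg_one_smul, neg_mulVec, neg_inj]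
    rw [e]
    have := invol_finrank h2 (hf (σ l))
    rwa [Fintype.card_fin] at this

variable [Fintype F] {s : ℕ} {M : Subgroup (GL (Fin (s + 1) → Ix 1) F)} (hM : Ctx hg M) (hN : NormTw hg s)
  (hmin : Minus g) (hs : 2 ≤ s)

omit [Fintype F] in
theorem rv_slot_unique [Finite F] (h2 : (2 : F) ≠ 0) {l l' : Fin (s + 1)} {d d' : V1} (hd : B1 d d ≠ 0)
    (hd' : B1 d' d' ≠ 0) (h : sl l (rv hg d hd) = sl l' (rv hg d' hd')) : l = l' := by
  by_contra hne
  obtain ⟨c, hc⟩ := scalar_of_slot_eq (by omega) hne (show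
    (slot l (rv hg d hd : M1) : Matrix (Fin (s + 1) → Ix 1) (Fin (s + 1) → Ix 1) F) = slot l' (rv hg d' hd' : M1) by
      rw [← sl_coe, ← sl_coe, h])
  exact rv_ne_scalar h2 hd c hc

include hM hN hmin hs

/-- a conjugate of a reflection of one factor by a member of the wreath subgroup is another -/
theorem Ctx.rv_conj_tw {x : GL (Fin (s + 1) → Ix 1) F} (hx : x ∈ M) {j : Fin (s + 1)} {d : V1} (hd : B1 d d ≠ 0)
    (hW : x * sl j (rv hg d hd) * x⁻¹ ∈ tensorWreathStandard (1 + 3) (s + 1) F) :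
    ∃ (σ : Equiv.Perm (Fin (s + 1))) (e : V1) (he : B1 e e ≠ 0),
      HasPerm x σ ∧ x * sl j (rv hg d hd) * x⁻¹ = sl (σ j) (rv hg e he) := by
  have h2 := hM.two
  obtain ⟨σ, A, hA⟩ := tw_shape (hM.refl_fusion hN hmin hs hx hd hW)
  have hB : x * sl j (rv hg d hd) * x⁻¹ = sl (σ j) (A j * rv hg d hd * (A j)⁻¹) := Units.ext (by
    rw [← cj_coe, sl_coe, sl_coe, hA, cj_wreath_slot, ← cj_coe])
  have hu : A j * rv hg d hd * (A j)⁻¹ ∈ u1 hg := (sl_mem_iff (hg := hg) (σ j)).1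
    (hB ▸ hM.le_uT (M.mul_mem (M.mul_mem hx (hM.rv_sl hs j hd)) (M.inv_mem hx)))
  obtain ⟨e, he, hBe⟩ := invol_eq_refl h2 hu (by
    rw [show A j * rv hg d hd * (A j)⁻¹ * (A j * rv hg d hd * (A j)⁻¹) =
      A j * (rv hg d hd * rv hg d hd) * (A j)⁻¹ by group, rv_sq]
    group) (by rw [negSp_conj, rv_neg_dim h2])
  exact ⟨σ, e, he, ⟨A, hA⟩, by rw [hB, hBe]; rfl⟩

/-- two commuting reflections of one factor -/
theorem Ctx.same_slot_cent {j : Fin (s + 1)} {d e : V1} (hd : B1 d d ≠ 0) (he : B1 e e ≠ 0)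
    (hc : sl j (rv hg e he) * sl j (rv hg d hd) = sl j (rv hg d hd) * sl j (rv hg e he))
    (hne : sl j (rv hg e he) ≠ sl j (rv hg d hd)) {y : GL (Fin (s + 1) → Ix 1) F} (hy : y ∈ M)
    (hyc : y * (sl j (rv hg e he) * sl j (rv hg d hd)) = sl j (rv hg e he) * sl j (rv hg d hd) * y) :
    y ∈ tensorWreathStandard (1 + 3) (s + 1) F := by
  have h2 := hM.two
  have hed : B1 e d = 0 := rv_orth h2 he hd (sl_inj (k := j) (by omega) (by rw [← sl_mul, ← sl_mul, hc]))
    fun h => hne (by rw [h])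
  obtain ⟨a, b, ha, hb, hea, heb, hda, hdb, hab⟩ := exists_completion h2 hg he hd hed
  have hz : zeta hg a b ha hb = rv hg e he * rv hg d hd := zeta_eq_rr h2 ha hb he hd hab
    (by rw [bf_comm hg.wg]; exact hea) (by rw [bf_comm hg.wg]; exact hda) (by rw [bf_comm hg.wg]; exact heb)
    (by rw [bf_comm hg.wg]; exact hdb) hed
  exact hM.zeta_comm_tw hN hmin hs hy ha hb hab (j := j) (by rw [hz, ← sl_mul]; exact hyc)

/-- **Theorem.** The centraliser of reflections in two factors. -/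
theorem Ctx.pair_cent {j m : Fin (s + 1)} (hjm : j ≠ m) {d e : V1} (hd : B1 d d ≠ 0) (he : B1 e e ≠ 0)
    {x : GL (Fin (s + 1) → Ix 1) F} (hx : x ∈ M)
    (hxc : x * (sl j (rv hg d hd) * sl m (rv hg e he)) = sl j (rv hg d hd) * sl m (rv hg e he) * x) :
    x ∈ tensorWreathStandard (1 + 3) (s + 1) F := by
  classical
  have h2 := hM.two
  set a := sl j (rv hg d hd) with hadef
  set km := sl m (rv hg e he) with hkmdef
  set c := a * km with hcdef
  obtain ⟨d', -, -, hd', -, -, hdd', -⟩ := exists_basis4 h2 hg hd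
  set b := sl j (rv hg d' hd') with hbdef
  have hak : a * km = km * a := sl_comm hjm _ _
  have hbk : b * km = km * b := sl_comm hjm _ _
  have hrc : rv hg d' hd' * rv hg d hd = rv hg d hd * rv hg d' hd' := by
    have h1 := rv_conj (hg := hg) hd hd (rv_mem hd') (rv_perp hd' hdd')
    exact mul_inv_eq_iff_eq_mul.1 h1
  have hba : b * a = a * b := by rw [hbdef, hadef, sl_mul, sl_mul, hrc]
  have hac : a * c = c * a := by rw [hcdef, mul_assoc, ← hak]
  have hbc : b * c = c * b := by rw [hcdef, ← mul_assoc, hba, mul_assoc, hbk, ← mul_assoc]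
  have ha2 : a * a = 1 := by rw [hadef, sl_mul, rv_sq, sl_one]
  have hb2 : b * b = 1 := by rw [hbdef, sl_mul, rv_sq, sl_one]
  set X := M ⊓ Subgroup.centralizer {c} with hX
  have hXc : ∀ z ∈ X, z * c = c * z := fun z hz => Subgroup.mem_centralizer_singleton_iff.1 hz.2
  have haX : a ∈ X := ⟨hM.rv_sl hs j hd, Subgroup.mem_centralizer_singleton_iff.2 hac⟩
  have hbX : b ∈ X := ⟨hM.rv_sl hs j hd', Subgroup.mem_centralizer_singleton_iff.2 hbc⟩
  have hxX : x ∈ X := ⟨hx, Subgroup.mem_centralizer_singleton_iff.2 hxc⟩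
  let f : Fin (s + 1) → GL (Ix 1) F := Pi.mulSingle j (rv hg d hd) * Pi.mulSingle m (rv hg e he)
  have hfj : f j = rv hg d hd := by simp [f, Pi.mulSingle_eq_of_ne hjm]
  have hfm : f m = rv hg e he := by simp [f, Pi.mulSingle_eq_of_ne hjm.symm]
  have hfo : ∀ l, l ≠ j → l ≠ m → f l = 1 := fun l h1 h3 => by
    simp [f, Pi.mulSingle_eq_of_ne h1, Pi.mulSingle_eq_of_ne h3]
  have hcf : c = pureGL f := by rw [hcdef, hadef, hkmdef, sl_eq_pureGL, sl_eq_pureGL, pureGL_mul]
  have hf2 : ∀ l, f l * f l = 1 := fun l => by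
    by_cases h1 : l = j
    · rw [h1, hfj, rv_sq]
    by_cases h3 : l = m
    · rw [h3, hfm, rv_sq]
    rw [hfo l h1 h3, mul_one]
  have hP : ∀ z ∈ X, z ∈ tensorWreathStandard (1 + 3) (s + 1) F → ∃ σ, HasPerm z σ ∧
      ((σ j = j ∧ z * a * z⁻¹ = a) ∨ (σ j = m ∧ z * a * z⁻¹ = km)) := by
    intro z hz hzW
    obtain ⟨σ, hσ, hmove⟩ := pure_move h2 hf2 hzW (by rw [← hcf]; exact hXc z hz)
    obtain ⟨B, hB, hBn, hBc⟩ := hmove j
    rw [hfj, rv_neg_dim h2] at hBn
    rw [hfj, ← hadef] at hB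
    refine ⟨σ, hσ, ?_⟩
    by_cases h1 : σ j = j
    · rw [h1, hfj, hBn, rv_neg_dim h2] at hBc
      exact Or.inl ⟨h1, by rw [hB, h1, hBc.resolve_right (by omega)]⟩
    by_cases h3 : σ j = m
    · rw [h3, hfm, hBn, rv_neg_dim h2] at hBc
      exact Or.inr ⟨h3, by rw [hB, h3, hBc.resolve_right (by omega)]⟩
    exfalso
    rw [hfo _ h1 h3, hBn] at hBc
    have hone : Module.finrank F (negSp (1 : GL (Ix 1) F)) = 0 := by
      have := sl_neg_dim h2 (r := 0) (0 : Fin 1) (show (1 : GL (Ix 1) F) * 1 = 1 from one_mul 1)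
      rw [Submodule.finrank_eq_zero, Submodule.eq_bot_iff]
      intro v hv
      have h4 := mem_negSp.1 hv
      rw [Units.val_one, one_mulVec] at h4
      exact (smul_eq_zero.1 (show (2 : F) • v = 0 by linear_combination (norm := module) h4)).resolve_left h2
    rw [hone] at hBc
    rcases hBc with h | h
    · rw [h, hone] at hBn
      omega
    · omega
  have hne : a ≠ b := fun h => by
    have h1 := congrArg (fun A : GL (Ix 1) F => (A : M1) *ᵥ d)
      (sl_inj (k := j) (show 0 < 1 + 3 by omega) (h : sl j (rv hg d hd) = sl j (rv hg d' hd')))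
    simp only [rv_self, rv_perp hd' hdd'] at h1
    have h0 : (2 : F) • d = 0 := by linear_combination (norm := module) -h1
    exact hd (by rw [(smul_eq_zero.1 h0).resolve_left h2]; exact Orth.sym_zero_left (bf_symmetric hg.wg) _)
  set y := x * b * x⁻¹ with hydef
  have hyX : y ∈ X := mul_mem (mul_mem hxX hbX) (inv_mem hxX)
  have hy2 : y * y = 1 := by
    rw [hydef, show x * b * x⁻¹ * (x * b * x⁻¹) = x * (b * b) * x⁻¹ by group, hb2]; group
  have hcl : Subgroup.closure ({a, y} : Set _) ≤ X := (Subgroup.closure_le _).2 (by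
    rintro z (rfl | rfl)
    exacts [haX, hyX])
  suffices hyW : y ∈ tensorWreathStandard (1 + 3) (s + 1) F from hM.refl_fusion hN hmin hs hx hd' hyW
  rcases dihedral_cases ha2 hy2 with ⟨h, hh, hyh⟩ | ⟨c2, i, -, hc2mem, hc21, hc22, hc2a, hc2y, hcases⟩
  · exfalso
    have hzX : x⁻¹ * h ∈ X := mul_mem (inv_mem hxX) (hcl hh)
    have hzb : x⁻¹ * h * a * (x⁻¹ * h)⁻¹ = b := by
      rw [show x⁻¹ * h * a * (x⁻¹ * h)⁻¹ = x⁻¹ * (h * a * h⁻¹) * x by group, ← hyh, hydef]; group
    obtain ⟨σ, -, h1 | h1⟩ := hP _ hzX (hM.refl_fusion hN hmin hs hzX.1 hd (j := j) (by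
      rw [hzb]; exact sl_mem_tw _ _))
    · exact hne (h1.2.symm.trans hzb)
    · exact hjm (rv_slot_unique (hg := hg) h2 hd' he (hzb.symm.trans h1.2))
  have hc2X := hcl hc2mem
  have hc2W : c2 ∈ tensorWreathStandard (1 + 3) (s + 1) F := hM.refl_comm_tw hN hmin hs hc2X.1 hd hc2a
  have hc2aW : c2 * a ∈ tensorWreathStandard (1 + 3) (s + 1) F := mul_mem hc2W (sl_mem_tw _ _)
  rcases hcases with ⟨-, h, hh, hha, -, hhh, k, hk, hkk⟩ | ⟨-, ⟨h, hh, hhy⟩, -⟩
  · exfalso
    obtain ⟨σ, hσ, h1 | h1⟩ := hP h (hcl hh) (hM.refl_fusion hN hmin hs (hcl hh).1 hd (by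
      rw [← hadef, hha]; exact hc2aW))
    · rw [hha] at h1
      exact hc21 (mul_eq_right.1 h1.2)
    have hhW := hM.refl_fusion hN hmin hs (hcl hh).1 hd (j := j) (by rw [← hadef, hha]; exact hc2aW)
    have hW : h * a ∈ tensorWreathStandard (1 + 3) (s + 1) F := mul_mem hhW (sl_mem_tw _ _)
    obtain ⟨l, v, hv, hl⟩ : ∃ (l : Fin (s + 1)) (v : V1) (hv : B1 v v ≠ 0), h * a = sl l (rv hg v hv) := by
      rcases hkk with e1 | e1
      · obtain ⟨τ, v, hv, -, e3⟩ := hM.rv_conj_tw hN hmin hs (hcl hk).1 hd (j := j) (by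
          rw [← hadef, ← e1]; exact hW)
        exact ⟨τ j, v, hv, e1.trans e3⟩
      · have e1' : h * a = k * x * b * (k * x)⁻¹ := by rw [e1, hydef]; group
        obtain ⟨τ, v, hv, -, e3⟩ := hM.rv_conj_tw hN hmin hs (M.mul_mem (hcl hk).1 hx) hd' (j := j) (by
          rw [← hbdef, ← e1']; exact hW)
        exact ⟨τ j, v, hv, e1'.trans e3⟩
    have hσ1 : σ = 1 := hσ.unique (by omega) ⟨Pi.mulSingle l (rv hg v hv) * Pi.mulSingle j (rv hg d hd), by
      rw [permGL_one, one_mul, ← pureGL_mul, ← sl_eq_pureGL, ← sl_eq_pureGL, ← hl, ← hadef, mul_assoc, ha2, mul_one]⟩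
    rw [hσ1] at h1
    exact hjm h1.1
  have hzX : h * x ∈ X := mul_mem (hcl hh) hxX
  have hzb : h * x * b * (h * x)⁻¹ = c2 * a := by rw [← hhy, hydef]; group
  obtain ⟨σ, v, hv, hσ, hzv⟩ := hM.rv_conj_tw hN hmin hs hzX.1 hd' (j := j) (by rw [← hbdef, hzb]; exact hc2aW)
  obtain ⟨σ', hσ', hσj⟩ := hP _ hzX (hM.refl_fusion hN hmin hs hzX.1 hd' (j := j) (by
    rw [← hbdef, hzb]; exact hc2aW))
  obtain rfl := hσ.unique (by omega) hσ'
  rw [← hbdef] at hzv
  have hk : c2 * a = sl (σ j) (rv hg v hv) := hzb.symm.trans hzv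
  have hc2e : c2 = sl (σ j) (rv hg v hv) * a := by rw [← hk, mul_assoc, ha2, mul_one]
  have hka : sl (σ j) (rv hg v hv) * a = a * sl (σ j) (rv hg v hv) := by
    rw [← hk, ← mul_assoc a, ← hc2a]
  rcases hσj with ⟨h1, h3⟩ | ⟨h1, h3⟩ <;> rw [h1] at hk hc2e hka
  · exact hM.same_slot_cent hN hmin hs hd hv hka (fun e0 => hc21 (by rw [hc2e, e0, ← hadef, ha2]))
      hyX.1 (by rw [← hadef, ← hc2e]; exact hc2y.symm)
  · have hvk : sl m (rv hg v hv) * km = km * sl m (rv hg v hv) := by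
      have hkX : sl m (rv hg v hv) ∈ X := hk ▸ mul_mem hc2X haX
      have e0 : km = a * c := by rw [hcdef, ← mul_assoc, ha2, one_mul]
      have e2 := hXc _ hkX
      rw [e0, ← mul_assoc, hka, mul_assoc, e2, ← mul_assoc]
    have hne' : sl m (rv hg v hv) ≠ km := fun e0 => hne (by
      have e2 : h * x * b * (h * x)⁻¹ = h * x * a * (h * x)⁻¹ := by rw [h3, hzv, h1, e0]
      exact (mul_left_cancel (mul_right_cancel e2)).symm)
    have hcc2 : sl m (rv hg v hv) * km = c2 * c := by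
      rw [hc2e, hcdef, mul_assoc, ← mul_assoc a a km, ha2, one_mul]
    exact hM.same_slot_cent hN hmin hs he hv hvk hne' hyX.1 (by
      rw [← hkmdef, hcc2, ← mul_assoc, ← hc2y, mul_assoc, hXc y hyX, ← mul_assoc])

/-- two commuting reflections of any factors -/
theorem Ctx.two_refl_cent {l j : Fin (s + 1)} {d e : V1} (hd : B1 d d ≠ 0) (he : B1 e e ≠ 0)
    (hc : sl l (rv hg e he) * sl j (rv hg d hd) = sl j (rv hg d hd) * sl l (rv hg e he))
    (hne : sl l (rv hg e he) ≠ sl j (rv hg d hd)) {y : GL (Fin (s + 1) → Ix 1) F} (hy : y ∈ M)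
    (hyc : y * (sl l (rv hg e he) * sl j (rv hg d hd)) = sl l (rv hg e he) * sl j (rv hg d hd) * y) :
    y ∈ tensorWreathStandard (1 + 3) (s + 1) F := by
  by_cases h : l = j
  · subst h
    exact hM.same_slot_cent hN hmin hs hd he hc hne hy hyc
  · exact hM.pair_cent hN hmin hs h he hd hy hyc

/-- **Theorem.** A pure tensor with two marked factors of different kinds. -/
theorem Ctx.marks_cent {f : Fin (s + 1) → GL (Ix 1) F} (hf : ∀ l, f l * f l = 1) {b b' : Fin (s + 1)} {d d' : V1}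
    (hd : B1 d d ≠ 0) (hd' : B1 d' d' ≠ 0) (hb : rv hg d hd * f b = f b * rv hg d hd)
    (hb' : rv hg d' hd' * f b' = f b' * rv hg d' hd')
    (hq : Module.finrank F (negSp (f b)) ≠ Module.finrank F (negSp (f b')))
    (hq4 : Module.finrank F (negSp (f b)) + Module.finrank F (negSp (f b')) ≠ 4)
    {x : GL (Fin (s + 1) → Ix 1) F} (hx : x ∈ M) (hxc : x * pureGL f = pureGL f * x) :
    x ∈ tensorWreathStandard (1 + 3) (s + 1) F := by
  classical
  have h2 := hM.two
  set c := pureGL f with hcdef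
  set a := sl b (rv hg d hd) with hadef
  set a' := sl b' (rv hg d' hd') with ha'def
  have hcomm : ∀ (l : Fin (s + 1)) (A : GL (Ix 1) F), A * f l = f l * A → sl l A * c = c * sl l A := by
    intro l A h
    rw [hcdef, sl_eq_pureGL, pureGL_mul, pureGL_mul]
    congr 1
    funext k
    rcases eq_or_ne k l with rfl | hk
    · simp only [Pi.mul_apply, Pi.mulSingle_eq_same, h]
    · simp [Pi.mulSingle_eq_of_ne hk]
  set X := M ⊓ Subgroup.centralizer {c} with hX
  have haX : a ∈ X := ⟨hM.rv_sl hs b hd, Subgroup.mem_centralizer_singleton_iff.2 (hcomm b _ hb)⟩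
  have ha'X : a' ∈ X := ⟨hM.rv_sl hs b' hd', Subgroup.mem_centralizer_singleton_iff.2 (hcomm b' _ hb')⟩
  have hxX : x ∈ X := ⟨hx, Subgroup.mem_centralizer_singleton_iff.2 hxc⟩
  set y := x * a' * x⁻¹ with hydef
  have hyX : y ∈ X := mul_mem (mul_mem hxX ha'X) (inv_mem hxX)
  have ha2 : a * a = 1 := by rw [hadef, sl_mul, rv_sq, sl_one]
  have hy2 : y * y = 1 := by
    rw [hydef, show x * a' * x⁻¹ * (x * a' * x⁻¹) = x * (a' * a') * x⁻¹ by group, ha'def, sl_mul, rv_sq, sl_one]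
    group
  have hcl : Subgroup.closure ({a, y} : Set _) ≤ X := (Subgroup.closure_le _).2 (by
    rintro z (rfl | rfl)
    exacts [haX, hyX])
  suffices hyW : y ∈ tensorWreathStandard (1 + 3) (s + 1) F from hM.refl_fusion hN hmin hs hx hd' hyW
  rcases dihedral_cases ha2 hy2 with ⟨h, hh, hyh⟩ | ⟨c2, i, -, hc2mem, hc21, hc22, hc2a, hc2y, hcases⟩
  · exfalso
    have hzX : x⁻¹ * h ∈ X := mul_mem (inv_mem hxX) (hcl hh)
    have hzb : x⁻¹ * h * a * (x⁻¹ * h)⁻¹ = a' := by
      rw [show x⁻¹ * h * a * (x⁻¹ * h)⁻¹ = x⁻¹ * (h * a * h⁻¹) * x by group, ← hyh, hydef]; group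
    have hzW : x⁻¹ * h * a * (x⁻¹ * h)⁻¹ ∈ tensorWreathStandard (1 + 3) (s + 1) F := by
      rw [hzb]; exact sl_mem_tw _ _
    obtain ⟨σ, v, hv, hσ, hzv⟩ := hM.rv_conj_tw hN hmin hs hzX.1 hd hzW
    obtain ⟨σ', hσ', hmove⟩ := pure_move h2 hf (hM.refl_fusion hN hmin hs hzX.1 hd hzW)
      (Subgroup.mem_centralizer_singleton_iff.1 hzX.2)
    obtain rfl := hσ.unique (by omega) hσ'
    have hσb : σ b = b' := rv_slot_unique (hg := hg) h2 hv hd' (hzv.symm.trans hzb)
    obtain ⟨B, -, hBn, hBc⟩ := hmove b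
    rw [hσb, hBn] at hBc
    rcases hBc with h0 | h0
    · exact hq (hBn.symm.trans (by rw [h0]))
    · exact hq4 h0
  have hc2X := hcl hc2mem
  have hc2W : c2 ∈ tensorWreathStandard (1 + 3) (s + 1) F := hM.refl_comm_tw hN hmin hs hc2X.1 hd hc2a
  have hc2aW : c2 * a ∈ tensorWreathStandard (1 + 3) (s + 1) F := mul_mem hc2W (sl_mem_tw _ _)
  obtain ⟨l, v, hv, hk⟩ : ∃ (l : Fin (s + 1)) (v : V1) (hv : B1 v v ≠ 0), c2 * a = sl l (rv hg v hv) := by
    rcases hcases with ⟨-, h, hh, hha, -, -⟩ | ⟨-, ⟨h, hh, hhy⟩, -⟩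
    · obtain ⟨σ, v, hv, -, e3⟩ := hM.rv_conj_tw hN hmin hs (hcl hh).1 hd (j := b) (by
        rw [← hadef, hha]; exact hc2aW)
      exact ⟨σ b, v, hv, hha.symm.trans e3⟩
    · have e1 : h * x * a' * (h * x)⁻¹ = c2 * a := by rw [← hhy, hydef]; group
      obtain ⟨σ, v, hv, -, e3⟩ := hM.rv_conj_tw hN hmin hs (M.mul_mem (hcl hh).1 hx) hd' (j := b') (by
        rw [← ha'def, e1]; exact hc2aW)
      exact ⟨σ b', v, hv, e1.symm.trans e3⟩
  have hc2e : c2 = sl l (rv hg v hv) * a := by rw [← hk, mul_assoc, ha2, mul_one]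
  refine hM.two_refl_cent hN hmin hs (l := l) (j := b) hd hv ?_ (fun e0 => hc21 ?_) hyX.1 ?_
  · rw [← hadef, ← hk, ← mul_assoc a, ← hc2a]
  · rw [hc2e, e0, ← hadef, ha2]
  · rw [← hadef, ← hc2e]; exact hc2y.symm

omit hN hmin in
theorem one_neg_dim : Module.finrank F (negSp (1 : GL (Ix 1) F)) = 0 := by
  rw [Submodule.finrank_eq_zero, Submodule.eq_bot_iff]
  intro v hv
  have h4 := mem_negSp.1 hv
  rw [Units.val_one, one_mulVec] at h4
  exact (smul_eq_zero.1 (show (2 : F) • v = 0 by linear_combination (norm := module) h4)).resolve_left hM.two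

/-- **Theorem.** Four-dimensional factors of minus type, at least three of them. -/
theorem Ctx.main_four_big : M ≤ tensorWreathStandard (1 + 3) (s + 1) F := by
  classical
  intro x hx
  by_contra hxW
  have h2 := hM.two
  have hs0 := bf_symmetric hg.wg
  obtain ⟨d, -, hdd⟩ := nd_aniso hs0 h2 (nd_top hs0) (by rw [top_finrank hs0, Fintype.card_fin]; omega)
  obtain ⟨e, -, -, hee, -, -, hde, -⟩ := exists_basis4 h2 hg hdd
  let j : Fin (s + 1) := ⟨0, by omega⟩
  let m : Fin (s + 1) := ⟨1, by omega⟩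
  let l₃ : Fin (s + 1) := ⟨2, by omega⟩
  have hjm : j ≠ m := by simp [j, m, Fin.ext_iff]
  have hj3 : j ≠ l₃ := by simp [j, l₃, Fin.ext_iff]
  have hm3 : m ≠ l₃ := by simp [m, l₃, Fin.ext_iff]
  set ζ := zeta hg d e hdd hee with hζdef
  have hζn : Module.finrank F (negSp ζ) = 2 := zeta_fixSp h2 hdd hee hde
  have hζd : rv hg d hdd * ζ = ζ * rv hg d hdd := by
    have h1 := rv_conj (hg := hg) hdd hdd (zeta_mem hdd hee) (zeta_fix_left hdd hee hde)
    exact (mul_inv_eq_iff_eq_mul.1 h1).symm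
  let f : Fin (s + 1) → GL (Ix 1) F := Pi.mulSingle j (rv hg d hdd) * Pi.mulSingle m ζ
  have hfj : f j = rv hg d hdd := by simp [f, Pi.mulSingle_eq_of_ne hjm]
  have hfm : f m = ζ := by simp [f, Pi.mulSingle_eq_of_ne hjm.symm]
  have hfo : ∀ l, l ≠ j → l ≠ m → f l = 1 := fun l h1 h3 => by
    simp [f, Pi.mulSingle_eq_of_ne h1, Pi.mulSingle_eq_of_ne h3]
  have hf2 : ∀ l, f l * f l = 1 := fun l => by
    by_cases h1 : l = j
    · rw [h1, hfj, rv_sq]
    by_cases h3 : l = m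
    · rw [h3, hfm, hζdef, zeta_sq h2 hdd hee hde]
    rw [hfo l h1 h3, mul_one]
  set v := pureGL f with hvdef
  set k := sl j (rv hg d hdd) with hkdef
  have hvM : v ∈ M := by
    rw [hvdef, show f = Pi.mulSingle j (rv hg d hdd) * Pi.mulSingle m ζ from rfl, ← pureGL_mul, ← sl_eq_pureGL,
      ← sl_eq_pureGL]
    exact M.mul_mem (hM.rv_sl hs j hdd) (hM.zeta_sl m hdd hee hde)
  have hv2 : v * v = 1 := by rw [hvdef, pureGL_mul, show f * f = 1 from funext hf2, pureGL_one]
  set y := x * k * x⁻¹ with hydef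
  have hyM : y ∈ M := M.mul_mem (M.mul_mem hx (hM.rv_sl hs j hdd)) (M.inv_mem hx)
  have hyW : y ∉ tensorWreathStandard (1 + 3) (s + 1) F := fun h => hxW (hM.refl_fusion hN hmin hs hx hdd h)
  have hy2 : y * y = 1 := by
    rw [hydef, show x * k * x⁻¹ * (x * k * x⁻¹) = x * (k * k) * x⁻¹ by group, hkdef, sl_mul, rv_sq, sl_one]
    group
  have hkn : Module.finrank F (negSp k) = 4 ^ s := sl_refl_neg (hg := hg) h2 j hdd
  have hpos : 0 < 4 ^ s := pow_pos (by omega) s
  have hvn : Module.finrank F (negSp v) = 2 * 4 ^ s := by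
    have h3 := pure_neg_dim h2 hf2
    rw [Finset.prod_eq_zero (Finset.mem_univ m) (by rw [hfm, hζn]; norm_num), add_zero] at h3
    push_cast at h3
    rw [pow_succ] at h3
    have h5 : (Module.finrank F (negSp v) : ℤ) = ((2 * 4 ^ s : ℕ) : ℤ) := by push_cast; rw [hvdef]; linarith
    exact_mod_cast h5
  have hcl : Subgroup.closure ({v, y} : Set _) ≤ M := (Subgroup.closure_le _).2 (by
    rintro z (rfl | rfl)
    exacts [hvM, hyM])
  rcases dihedral_cases hv2 hy2 with ⟨h, hh, hyh⟩ | ⟨c, i, -, hcmem, hc1, hcc, hcv, hcy, hcases⟩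
  · have h1 : Module.finrank F (negSp y) = Module.finrank F (negSp v) := by rw [hyh, negSp_conj]
    rw [hydef, negSp_conj, hkn, hvn] at h1
    omega
  have hcM := hcl hcmem
  have hcW : c ∈ tensorWreathStandard (1 + 3) (s + 1) F := hM.marks_cent hN hmin hs hf2 (b := j) (b' := m) hdd hdd
    (by rw [hfj]) (by rw [hfm]; exact hζd) (by rw [hfj, hfm, hζn, rv_neg_dim h2]; omega)
    (by rw [hfj, hfm, hζn, rv_neg_dim h2]; omega) hcM hcv
  rcases hcases with ⟨-, h, hh, -, hhy, -⟩ | ⟨-, ⟨h, hh, hhy⟩, -⟩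
  · -- the product with the conjugate reflection is one
    set z := x⁻¹ * h * x with hzdef
    have hzM : z ∈ M := M.mul_mem (M.mul_mem (M.inv_mem hx) (hcl hh)) hx
    set c' := x⁻¹ * c * x with hc'def
    have hc'M : c' ∈ M := M.mul_mem (M.mul_mem (M.inv_mem hx) hcM) hx
    have hc'k : c' * k = k * c' := by
      calc c' * k = x⁻¹ * (c * y) * x := by rw [hc'def, hydef]; group
        _ = x⁻¹ * (y * c) * x := by rw [hcy]
        _ = _ := by rw [hc'def, hydef]; group
    have hzk : z * k * z⁻¹ = c' * k := by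
      calc z * k * z⁻¹ = x⁻¹ * (h * y * h⁻¹) * x := by rw [hzdef, hydef]; group
        _ = x⁻¹ * (c * y) * x := by rw [hhy]
        _ = _ := by rw [hc'def, hydef]; group
    obtain ⟨σ, w, hw, -, hzw⟩ := hM.rv_conj_tw hN hmin hs hzM hdd (j := j) (by
      rw [← hkdef, hzk]; exact mul_mem (hM.refl_comm_tw hN hmin hs hc'M hdd hc'k) (sl_mem_tw _ _))
    rw [← hkdef, hzk] at hzw
    have hk2 : k * k = 1 := by rw [hkdef, sl_mul, rv_sq, sl_one]
    have hc'e : c' = sl (σ j) (rv hg w hw) * k := by rw [← hzw, mul_assoc, hk2, mul_one]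
    obtain ⟨τ, -, hmove⟩ := pure_move h2 hf2 hcW hcv
    obtain ⟨B, hB, hBn, hBc⟩ := hmove j
    rw [hfj, rv_neg_dim h2] at hBn
    rw [hfj, ← hkdef] at hB
    have hck : c * k = k * c := by
      by_cases h1 : τ j = j
      · rw [h1, hfj, hBn, rv_neg_dim h2] at hBc
        rw [h1, hBc.resolve_right (by omega)] at hB
        exact mul_inv_eq_iff_eq_mul.1 hB
      exfalso
      by_cases h3 : τ j = m
      · rw [h3, hfm, hBn, hζn] at hBc
        rcases hBc with h0 | h0
        · rw [h0, hζn] at hBn; omega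
        · omega
      rw [hfo _ h1 h3, hBn, one_neg_dim hM hs] at hBc
      rcases hBc with h0 | h0
      · rw [h0, one_neg_dim hM hs] at hBn; omega
      · omega
    set q := x⁻¹ * k * x with hqdef
    have hqM : q ∈ M := M.mul_mem (M.mul_mem (M.inv_mem hx) (hM.rv_sl hs j hdd)) hx
    have hqc : q * c' = c' * q := by
      calc q * c' = x⁻¹ * (k * c) * x := by rw [hqdef, hc'def]; group
        _ = x⁻¹ * (c * k) * x := by rw [hck]
        _ = _ := by rw [hqdef, hc'def]; group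
    have hqW : q ∈ tensorWreathStandard (1 + 3) (s + 1) F := by
      refine hM.two_refl_cent hN hmin hs (l := σ j) (j := j) hdd hw ?_ (fun e0 => hc1 ?_) hqM ?_
      · rw [← hkdef, ← hzw, ← mul_assoc k, ← hc'k]
      · have h1 : c' = 1 := by rw [hc'e, e0, ← hkdef, hk2]
        calc c = x * c' * x⁻¹ := by rw [hc'def]; group
          _ = 1 := by rw [h1]; group
      · rw [← hkdef, ← hc'e]; exact hqc
    exact hxW (inv_inv x ▸ inv_mem (hM.refl_fusion hN hmin hs (M.inv_mem hx) hdd (j := j) (by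
      rw [inv_inv]; exact hqW)))
  · -- the product with the marks is a reflection
    have e1 : h * x * k * (h * x)⁻¹ = c * v := by rw [← hhy, hydef]; group
    obtain ⟨σ, w, hw, -, hzw⟩ := hM.rv_conj_tw hN hmin hs (M.mul_mem (hcl hh) hx) hdd (j := j) (by
      rw [← hkdef, e1]; exact mul_mem hcW (pure_mem_tw _))
    rw [← hkdef, e1] at hzw
    generalize σ j = l at hzw
    let f' : Fin (s + 1) → GL (Ix 1) F := Pi.mulSingle l (rv hg w hw) * f
    have hc : c = pureGL f' := by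
      rw [show f' = Pi.mulSingle l (rv hg w hw) * f from rfl, ← pureGL_mul, ← sl_eq_pureGL, ← hzw, ← hvdef, mul_assoc,
        hv2, mul_one]
    have hwl : rv hg w hw * f l = f l * rv hg w hw := by
      refine sl_inj (k := l) (by omega) ?_
      have h1 : sl l (rv hg w hw) * v = v * sl l (rv hg w hw) := by rw [← hzw, ← mul_assoc v, ← hcv]
      obtain ⟨τ, hτ, hmove⟩ := pure_move h2 hf2 (sl_mem_tw l (rv hg w hw)) h1
      have hτ1 : τ = 1 := hτ.unique (by omega) ⟨Pi.mulSingle l (rv hg w hw), by rw [permGL_one, one_mul]; rfl⟩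
      obtain ⟨B, hB, hBn, hBc⟩ := hmove l
      rw [hτ1, Equiv.Perm.one_apply] at hB hBc
      by_cases h1' : l = m
      · subst h1'
        rw [hfm] at hBn hBc hB ⊢
        have hBζ : B = ζ ∨ (B : M1) = -(ζ : M1) := by
          rcases hBc with h0 | -
          · exact Or.inl h0
          · have hconj : (sl m (rv hg w hw) : GL (Fin (s + 1) → Ix 1) F) * sl m ζ * (sl m (rv hg w hw))⁻¹ =
                sl m B := hB
            have hcomm : sl m (rv hg w hw) * sl m ζ = sl m ζ * sl m (rv hg w hw) := by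
              have h5 : sl m ζ = sl j (rv hg d hdd) * v := by
                rw [hvdef, show f = Pi.mulSingle j (rv hg d hdd) * Pi.mulSingle m ζ from rfl, ← pureGL_mul,
                  ← sl_eq_pureGL, ← sl_eq_pureGL, ← mul_assoc, sl_mul j, rv_sq, sl_one, one_mul]
              rw [h5, ← mul_assoc, sl_comm hjm.symm, mul_assoc, h1, ← mul_assoc]
            rw [hcomm, mul_inv_cancel_right] at hconj
            exact Or.inl (sl_inj (by omega) hconj).symm
        rcases hBζ with h0 | h0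
        · rw [h0] at hB
          rw [← sl_mul, ← sl_mul]
          exact mul_inv_eq_iff_eq_mul.1 hB
        · exfalso
          have hcomm : sl m (rv hg w hw) * sl m ζ = sl m ζ * sl m (rv hg w hw) := by
            have h5 : sl m ζ = sl j (rv hg d hdd) * v := by
              rw [hvdef, show f = Pi.mulSingle j (rv hg d hdd) * Pi.mulSingle m ζ from rfl, ← pureGL_mul,
                ← sl_eq_pureGL, ← sl_eq_pureGL, ← mul_assoc, sl_mul j, rv_sq, sl_one, one_mul]
            rw [h5, ← mul_assoc, sl_comm hjm.symm, mul_assoc, h1, ← mul_assoc]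
          rw [hcomm, mul_inv_cancel_right] at hB
          rw [← sl_inj (by omega) hB] at h0
          have hz0 := congrArg (fun X : M1 => B1 (X *ᵥ d) d) h0
          simp only [neg_mulVec, hζdef, zeta_fix_left hdd hee hde, Orth.sym_neg_left hs0] at hz0
          exact hdd ((mul_eq_zero.1 (show (2 : F) * B1 d d = 0 by linear_combination hz0)).resolve_left h2)
      · rw [← sl_mul, ← sl_mul]
        refine mul_inv_eq_iff_eq_mul.1 (hB.trans (congrArg (sl l) (hBc.resolve_right ?_)))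
        rw [hBn]
        by_cases h3 : l = j
        · rw [h3, hfj, rv_neg_dim h2]; omega
        · rw [hfo l h3 h1', one_neg_dim hM hs]; omega
    have hf'o : ∀ b, b ≠ l → f' b = f b := fun b hb => by simp [f', Pi.mulSingle_eq_of_ne hb]
    have hf'2 : ∀ b, f' b * f' b = 1 := fun b => by
      rcases eq_or_ne b l with rfl | hb
      · have : f' b = rv hg w hw * f b := by simp [f']
        rw [this, mul_assoc, ← mul_assoc (f b), ← hwl, mul_assoc, hf2, mul_one, rv_sq]
      · rw [hf'o b hb, hf2]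
    refine hyW ?_
    by_cases h1 : l = j
    · subst h1
      refine hM.marks_cent hN hmin hs hf'2 (b := l₃) (b' := m) hdd hdd ?_ ?_ ?_ ?_ hyM (by rw [← hc]; exact hcy.symm)
      · rw [hf'o _ hj3.symm, hfo _ hj3.symm hm3.symm, mul_one, one_mul]
      · rw [hf'o _ hjm.symm, hfm]; exact hζd
      · rw [hf'o _ hj3.symm, hfo _ hj3.symm hm3.symm, hf'o _ hjm.symm, hfm, hζn, one_neg_dim hM hs]; omega
      · rw [hf'o _ hj3.symm, hfo _ hj3.symm hm3.symm, hf'o _ hjm.symm, hfm, hζn, one_neg_dim hM hs]; omega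
    by_cases h3 : l = m
    · subst h3
      refine hM.marks_cent hN hmin hs hf'2 (b := j) (b' := l₃) hdd hdd ?_ ?_ ?_ ?_ hyM (by rw [← hc]; exact hcy.symm)
      · rw [hf'o _ hjm, hfj]
      · rw [hf'o _ hm3.symm, hfo _ hj3.symm hm3.symm, mul_one, one_mul]
      · rw [hf'o _ hjm, hfj, hf'o _ hm3.symm, hfo _ hj3.symm hm3.symm, one_neg_dim hM hs, rv_neg_dim h2]; omega
      · rw [hf'o _ hjm, hfj, hf'o _ hm3.symm, hfo _ hj3.symm hm3.symm, one_neg_dim hM hs, rv_neg_dim h2]; omega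
    refine hM.marks_cent hN hmin hs hf'2 (b := j) (b' := m) hdd hdd ?_ ?_ ?_ ?_ hyM (by rw [← hc]; exact hcy.symm)
    · rw [hf'o _ (Ne.symm h1), hfj]
    · rw [hf'o _ (Ne.symm h3), hfm]; exact hζd
    · rw [hf'o _ (Ne.symm h1), hfj, hf'o _ (Ne.symm h3), hfm, hζn, rv_neg_dim h2]; omega
    · rw [hf'o _ (Ne.symm h1), hfj, hf'o _ (Ne.symm h3), hfm, hζn, rv_neg_dim h2]; omega

end CfsgLib.Perm.Trans.TensorPowerO
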