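import Mathlib
import Cfsg.Agent.Lib.Perm.Trans.TensorPowerO.K4Big

/-!
# Two four-dimensional factors of minus type: involutions of the wreath subgroup
-/

set_option autoImplicit false
set_option linter.all false

namespace CfsgLib.Perm.Trans.TensorPowerO

open scoped Matrix
open Matrix Cfsg.Geo CfsgLib.Perm.Asch CfsgLib.Perm.Trans CfsgLib.Perm.Trans.TensorPower
open CfsgLib.Perm.Trans.TensorSO CfsgLib.Perm.Trans.TensorOO

variable {F : Type*} [Field F] {g : Ix 1 → F} {hg : Dg g}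

local notation "M1" => Matrix (Ix 1) (Ix 1) F
local notation "V1" => Ix 1 → F
local notation "B1" => bf g (s1 1)
local notation "G2" => GL (Fin (1 + 1) → Ix 1) F

theorem neg_mem_u1 {A : GL (Ix 1) F} (hA : A ∈ u1 hg) : -A ∈ u1 hg := mem_of_bf fun x y => by
  rw [Units.val_neg, neg_mulVec, neg_mulVec, Orth.sym_neg_left (bf_symmetric hg.wg),
    Orth.sym_neg_right (bf_symmetric hg.wg), neg_neg, bf_of_mem hA]

theorem zeta_neg_eq (h2 : (2 : F) ≠ 0) {d f a b : V1} (hd : B1 d d ≠ 0) (hf : B1 f f ≠ 0) (ha : B1 a a ≠ 0)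
    (hb : B1 b b ≠ 0) (hdf : B1 d f = 0) (hda : B1 d a = 0) (hdb : B1 d b = 0) (hfa : B1 f a = 0) (hfb : B1 f b = 0)
    (hab : B1 a b = 0) : zeta hg a b ha hb = -zeta hg d f hd hf := by
  rw [zeta_eq_rr h2 hd hf ha hb hdf hda hdb hfa hfb hab]; rfl

/-- a reflection determines its axis -/
theorem rv_inj (h2 : (2 : F) ≠ 0) {d e : V1} (hd : B1 d d ≠ 0) (he : B1 e e ≠ 0)
    (h : rv hg d hd = rv hg e he) : ∃ c : F, e = c • d := by
  have e1 := congrArg (fun A : GL (Ix 1) F => (A : M1) *ᵥ e) h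
  simp only [rv_self, rv_mulVec] at e1
  refine ⟨(2 : F)⁻¹ * (2 / B1 d d * B1 e d), ?_⟩
  rw [mul_smul, eq_comm, inv_smul_eq_iff₀ h2]
  linear_combination (norm := module) -e1

/-- commuting with a reflection stabilises its axis -/
theorem rv_comm_axis (h2 : (2 : F) ≠ 0) {A : GL (Ix 1) F} (hA : A ∈ u1 hg) {d : V1} (hd : B1 d d ≠ 0)
    (h : A * rv hg d hd = rv hg d hd * A) : ∃ c : F, c * c = 1 ∧ (A : M1) *ᵥ d = c • d := by
  have hAd : B1 ((A : M1) *ᵥ d) ((A : M1) *ᵥ d) ≠ 0 := by rw [bf_of_mem hA]; exact hd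
  have e := rv_conj hd hAd hA rfl
  rw [h, mul_inv_cancel_right] at e
  obtain ⟨c, hc⟩ := rv_inj h2 hd hAd e
  refine ⟨c, mul_right_cancel₀ hd ?_, hc⟩
  rw [one_mul]
  conv_rhs => rw [← bf_of_mem hA d d, hc, bf_smul_left, bf_smul_right, ← mul_assoc]

/-- no element conjugates a reflection to minus one -/
theorem rv_conj_ne (h2 : (2 : F) ≠ 0) {A : GL (Ix 1) F} {d e : V1} (hd : B1 d d ≠ 0) (he : B1 e e ≠ 0)
    (h : A * rv hg d hd * A⁻¹ = -rv hg e he) : False := by
  have h1 := congrArg (fun X : GL (Ix 1) F => Module.finrank F (negSp X)) h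
  simp only [negSp_conj, rv_neg_dim h2] at h1
  have h3 : negSp (-rv hg e he) = fixSp (rv hg e he) := by
    ext x
    rw [mem_negSp, mem_fixSp, Units.val_neg, neg_mulVec, neg_inj]
  rw [h3] at h1
  have h5 := invol_finrank h2 (rv_sq (hg := hg) he)
  rw [rv_neg_dim h2, Fintype.card_fin] at h5
  omega

/-- a half turn times a commuting reflection -/
theorem zeta_times_rv (h2 : (2 : F) ≠ 0) {d f w : V1} (hd : B1 d d ≠ 0) (hf : B1 f f ≠ 0) (hdf : B1 d f = 0)
    (hw : B1 w w ≠ 0) (h : zeta hg d f hd hf * rv hg w hw = rv hg w hw * zeta hg d f hd hf) :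
    ∃ (w' : V1) (hw' : B1 w' w' ≠ 0), B1 w w' = 0 ∧
      (((zeta hg d f hd hf : M1) *ᵥ w = w ∧ zeta hg d f hd hf = zeta hg w w' hw hw' ∧
          rv hg w hw * zeta hg d f hd hf = -rv hg w' hw') ∨
        ((zeta hg d f hd hf : M1) *ᵥ w = -w ∧ zeta hg d f hd hf = rv hg w hw * rv hg w' hw' ∧
          rv hg w hw * zeta hg d f hd hf = rv hg w' hw')) := by
  set ζ := zeta hg d f hd hf with hζ
  obtain ⟨c, hcc, hc⟩ := rv_comm_axis h2 (zeta_mem hd hf) hw h
  rcases mul_self_eq_one_iff.1 hcc with rfl | rfl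
  · rw [one_smul] at hc
    obtain ⟨w', hw', hww', e⟩ := invol_eq_zeta h2 (zeta_mem hd hf) (zeta_sq h2 hd hf hdf)
      (zeta_fixSp h2 hd hf hdf) hw hc
    refine ⟨w', hw', hww', Or.inl ⟨hc, e, ?_⟩⟩
    rw [hζ, e, zeta, mul_neg, ← mul_assoc, rv_sq, one_mul]
  · rw [neg_one_smul] at hc
    obtain ⟨a, b, ha, hb, hda, hdb, hfa, hfb, hab⟩ := exists_completion h2 hg hd hf hdf
    have hn := zeta_neg_eq (hg := hg) h2 hd hf ha hb hdf hda hdb hfa hfb hab
    obtain ⟨w', hw', hww', e⟩ := invol_eq_zeta h2 (zeta_mem ha hb) (zeta_sq h2 ha hb hab)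
      (zeta_fixSp h2 ha hb hab) hw (by rw [hn, Units.val_neg, neg_mulVec, ← hζ, hc, neg_neg])
    have e' : ζ = rv hg w hw * rv hg w' hw' := by
      rw [hn, ← hζ, zeta, neg_inj] at e; exact e
    refine ⟨w', hw', hww', Or.inr ⟨hc, e', ?_⟩⟩
    rw [e', ← mul_assoc, rv_sq, one_mul]

theorem one_neg_dim' (h2 : (2 : F) ≠ 0) : Module.finrank F (negSp (1 : GL (Ix 1) F)) = 0 := by
  rw [Submodule.finrank_eq_zero, Submodule.eq_bot_iff]
  intro v hv
  have h4 := mem_negSp.1 hv
  rw [Units.val_one, one_mulVec] at h4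
  exact (smul_eq_zero.1 (show (2 : F) • v = 0 by linear_combination (norm := module) h4)).resolve_left h2

theorem neg_neg_dim (h2 : (2 : F) ≠ 0) {A : GL (Ix 1) F} (hA : A * A = 1) :
    Module.finrank F (negSp (-A)) + Module.finrank F (negSp A) = 4 := by
  have h := invol_finrank h2 hA
  rw [Fintype.card_fin] at h
  rw [show negSp (-A) = fixSp A from by ext x; rw [mem_negSp, mem_fixSp, Units.val_neg, neg_mulVec, neg_inj]]
  exact h

/-- the involutive isometries of one factor -/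
theorem invol_class (h2 : (2 : F) ≠ 0) {A : GL (Ix 1) F} (hA : A ∈ u1 hg) (hAA : A * A = 1) :
    A = 1 ∨ A = -1 ∨ (∃ (d : V1) (hd : B1 d d ≠ 0), A = rv hg d hd ∨ A = -rv hg d hd) ∨
      ∃ (d f : V1) (hd : B1 d d ≠ 0) (hf : B1 f f ≠ 0), B1 d f = 0 ∧ A = zeta hg d f hd hf := by
  have h := invol_finrank h2 hAA
  rw [Fintype.card_fin] at h
  have hn := neg_neg_dim h2 hAA
  rcases (show Module.finrank F (negSp A) = 0 ∨ Module.finrank F (negSp A) = 1 ∨ Module.finrank F (negSp A) = 2 ∨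
    Module.finrank F (negSp A) = 3 ∨ Module.finrank F (negSp A) = 4 by omega) with e | e | e | e | e
  · exact Or.inl (invol_neg_zero h2 hAA e)
  · obtain ⟨d, hd, he⟩ := invol_eq_refl h2 hA hAA e
    exact Or.inr (Or.inr (Or.inl ⟨d, hd, Or.inl he⟩))
  · have hs := bf_symmetric hg.wg
    obtain ⟨d, hdm, hd⟩ := nd_aniso hs h2 (nd_eigen hs h2 hAA (bf_of_mem hA)).1 (by omega)
    obtain ⟨f, hf, hdf, he⟩ := invol_eq_zeta h2 hA hAA e hd (mem_fixSp.1 hdm)
    exact Or.inr (Or.inr (Or.inr ⟨d, f, hd, hf, hdf, he⟩))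
  · obtain ⟨d, hd, he⟩ := invol_eq_refl h2 (neg_mem_u1 hA) (by rw [neg_mul_neg]; exact hAA) (by omega)
    exact Or.inr (Or.inr (Or.inl ⟨d, hd, Or.inr (neg_eq_iff_eq_neg.1 he)⟩))
  · exact Or.inr (Or.inl (Units.ext (by
      rw [invol_neg_top h2 hAA (by rw [Fintype.card_fin]; exact e), Units.val_neg, Units.val_one])))

/-- an involutive similitude is an isometry -/
theorem invol_sim (h2 : (2 : F) ≠ 0) (hmin : Minus g) {A : GL (Ix 1) F} {μ : F}
    (hA : ∀ x y, B1 ((A : M1) *ᵥ x) ((A : M1) *ᵥ y) = μ * B1 x y) (hAA : A * A = 1) : A ∈ u1 hg := by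
  have hs := bf_symmetric hg.wg
  have hμ : μ * μ = 1 := by
    obtain ⟨w, -, hw⟩ := nd_aniso hs h2 (nd_top hs) (by rw [top_finrank hs, Fintype.card_fin]; omega)
    have h1 := hA ((A : M1) *ᵥ w) ((A : M1) *ᵥ w)
    rw [← gl_mul_mulVec, hAA, Units.val_one, one_mulVec, hA, ← mul_assoc] at h1
    exact mul_right_cancel₀ hw (by rw [one_mul]; exact h1.symm)
  rcases mul_self_eq_one_iff.1 hμ with rfl | rfl
  · exact mem_of_bf fun x y => by rw [hA, one_mul]
  exfalso
  have hiso : ∀ S : Submodule F V1, (∀ x ∈ S, ∀ y ∈ S, B1 x y = 0) → Module.finrank F S ≤ 1 := by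
    intro S hS
    by_cases h : ∃ a ∈ S, a ≠ 0
    · obtain ⟨a, ha, ha0⟩ := h
      refine (Submodule.finrank_mono (show S ≤ Submodule.span F {a} from fun x hx => ?_)).trans
        (le_of_eq (finrank_span_singleton ha0))
      obtain ⟨c, hc⟩ := hmin a x ha0 (hS a ha a ha) (hS x hx x hx) (hS a ha x hx)
      exact Submodule.mem_span_singleton.2 ⟨c, hc.symm⟩
    · push Not at h
      rw [(Submodule.eq_bot_iff S).2 h, finrank_bot]
      exact Nat.zero_le _
  have hz : ∀ x y : V1, B1 x y = -1 * B1 x y → B1 x y = 0 := fun x y e =>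
    (mul_eq_zero.1 (show (2 : F) * B1 x y = 0 by linear_combination e)).resolve_left h2
  have h1 := hiso (fixSp A) fun x hx y hy => hz x y (by
    have e := hA x y
    rwa [mem_fixSp.1 hx, mem_fixSp.1 hy] at e)
  have h3 := hiso (negSp A) fun x hx y hy => hz x y (by
    have e := hA x y
    rwa [mem_negSp.1 hx, mem_negSp.1 hy, Orth.sym_neg_left hs, Orth.sym_neg_right hs, neg_neg] at e)
  have h5 := invol_finrank h2 hAA
  rw [Fintype.card_fin] at h5
  omega

/-- the discriminant of minus type -/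
theorem minus_disc [Fintype F] (hg : Dg g) (h2 : (2 : F) ≠ 0) (hmin : Minus g) {d f a b : V1} (hd : B1 d d ≠ 0) (hf : B1 f f ≠ 0)
    (ha : B1 a a ≠ 0) (hb : B1 b b ≠ 0) (hdf : B1 d f = 0) (hda : B1 d a = 0) (hdb : B1 d b = 0) (hfa : B1 f a = 0)
    (hfb : B1 f b = 0) (hab : B1 a b = 0) : ¬ IsSquare (B1 d d * B1 f f * (B1 a a * B1 b b)) := by
  intro hsq
  have hs := bf_symmetric hg.wg
  have hfm : f ∈ perp hs (⊤ : Submodule F V1) d := ⟨trivial, by show B1 f d = 0; rw [bf_comm hg.wg]; exact hdf⟩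
  set P := perp hs (perp hs (⊤ : Submodule F V1) d) f with hP
  have hnd : Nd B1 P := nd_perp hs (nd_perp hs (nd_top hs) Submodule.mem_top hd) hfm hf
  have h0 := perp_dim hs h2 (Submodule.mem_top (x := d)) hd
  have h1 := perp_dim hs h2 hfm hf
  rw [top_finrank hs, Fintype.card_fin] at h0
  rw [← hP] at h1
  obtain ⟨a', ha'm, ha'⟩ := nd_value hs h2 hnd (by omega) (neg_ne_zero.2 hd)
  have ha'0 : B1 a' a' ≠ 0 := by rw [ha']; exact neg_ne_zero.2 hd
  have h3 := perp_dim hs h2 ha'm ha'0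
  obtain ⟨b', hb'm, hb'⟩ := nd_aniso hs h2 (nd_perp hs hnd ha'm ha'0) (by omega)
  have hda' : B1 d a' = 0 := by rw [bf_comm hg.wg]; exact ha'm.1.2
  have hfa' : B1 f a' = 0 := by rw [bf_comm hg.wg]; exact ha'm.2
  have hdb' : B1 d b' = 0 := by rw [bf_comm hg.wg]; exact hb'm.1.1.2
  have hfb' : B1 f b' = 0 := by rw [bf_comm hg.wg]; exact hb'm.1.2
  have hab' : B1 a' b' = 0 := by rw [bf_comm hg.wg]; exact hb'm.2
  have hdisc := frame_disc h2 hg (e := ![d, f, a, b]) (e' := ![d, f, a', b'])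
    (fun i => by fin_cases i <;> assumption) (fun i => by fin_cases i <;> assumption)
    (fun i k hik => by
      fin_cases i <;> fin_cases k <;> first
        | exact absurd rfl hik
        | assumption
        | (show B1 _ _ = 0; rw [bf_comm hg.wg]; assumption))
    (fun i k hik => by
      fin_cases i <;> fin_cases k <;> first
        | exact absurd rfl hik
        | assumption
        | (show B1 _ _ = 0; rw [bf_comm hg.wg]; assumption))
  rw [Fin.prod_univ_four] at hdisc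
  simp only [Matrix.cons_val_zero, Matrix.cons_val_one, Matrix.cons_val, div_self hd, div_self hf, one_mul,
    ha'] at hdisc
  obtain ⟨r, hr⟩ : IsSquare (-(B1 b' b') / B1 f f) := by
    obtain ⟨u, hu⟩ := hdisc
    obtain ⟨v, hv⟩ := hsq
    refine ⟨u * v / (B1 d d * B1 f f), ?_⟩
    rw [div_mul_div_comm, show u * v * (u * v) = u * u * (v * v) by ring, ← hu, ← hv]
    field_simp
  have hr0 : r ≠ 0 := fun e => hb' (by
    rw [e, mul_zero, div_eq_zero_iff, or_iff_left hf] at hr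
    exact neg_eq_zero.1 hr)
  rw [div_eq_iff hf] at hr
  obtain ⟨c, hc⟩ := hmin (d + a') (f + r⁻¹ • b') (fun e => hd (by
      have := congrArg (fun z => B1 z d) e
      simpa [bf_add_left, bf_comm hg.wg a' d, hda', Orth.sym_zero_left hs] using this))
    (by
      simp only [bf_add_left, bf_add_right, hda', bf_comm hg.wg a' d, ha']
      ring)
    (by
      simp only [bf_add_left, bf_add_right, bf_smul_left, bf_smul_right, hfb', bf_comm hg.wg b' f]
      field_simp
      linear_combination -hr)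
    (by
      simp only [bf_add_left, bf_add_right, bf_smul_right, hdf, hdb', hab', bf_comm hg.wg a' f, hfa']
      ring)
  have := congrArg (fun z => B1 z f) hc
  simp only [bf_add_left, bf_smul_left, bf_comm hg.wg b' f, hfb', hdf, bf_comm hg.wg a' f, hfa', mul_zero,
    add_zero] at this
  exact hf this

section Unip

variable (h2 : (2 : F) ≠ 0) (hmin : Minus g) {p : ℕ} [Fact p.Prime] [CharP F p]
include h2 hmin

/-- no element of order `p` commutes with a half turn -/
theorem unip_comm_zeta {v : GL (Ix 1) F} (hv : v ∈ u1 hg) (hvp : v ^ p = 1) {d f : V1} (hd : B1 d d ≠ 0)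
    (hf : B1 f f ≠ 0) (hdf : B1 d f = 0) (hc : v * zeta hg d f hd hf = zeta hg d f hd hf * v) : v = 1 := by
  by_contra hv1
  have hs := bf_symmetric hg.wg
  obtain ⟨a, m, ha, haa, ham, hmm, he⟩ := exists_ei h2 hmin hv hvp hv1
  have hz2 := zeta_sq (hg := hg) h2 hd hf hdf
  have hzu : zeta hg d f hd hf ∈ u1 hg := zeta_mem hd hf
  have hdim := zeta_fixSp (hg := hg) h2 hd hf hdf
  generalize zeta hg d f hd hf = ζ at hc hz2 hzu hdim
  have hfixl : (v : M1) *ᵥ ((ζ : M1) *ᵥ a) = (ζ : M1) *ᵥ a := by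
    rw [← gl_mul_mulVec, hc, gl_mul_mulVec, he, ei_self h2 haa ham]
  obtain ⟨c, hca⟩ := ei_fixed_line h2 hmin ha haa ham hmm (x := (ζ : M1) *ᵥ a) (by rw [← he]; exact hfixl)
    (by rw [bf_of_mem hzu, haa])
  have hcc : c * c = 1 := by
    have h1 : (ζ : M1) *ᵥ ((ζ : M1) *ᵥ a) = (c * c) • a := by rw [hca, mulVec_smul, hca, smul_smul]
    rw [← gl_mul_mulVec, hz2, Units.val_one, one_mulVec] at h1
    exact (smul_left_injective F ha (by show (1 : F) • a = (c * c) • a; rw [one_smul]; exact h1)).symm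
  obtain ⟨η, hη, hηa⟩ : ∃ η : GL (Ix 1) F, (η ∈ u1 hg ∧ η * η = 1 ∧ v * η = η * v ∧
      Module.finrank F (fixSp η) = 2) ∧ (η : M1) *ᵥ a = a := by
    have h5 := invol_finrank h2 hz2
    rw [Fintype.card_fin] at h5
    rcases mul_self_eq_one_iff.1 hcc with rfl | rfl
    · exact ⟨ζ, ⟨hzu, hz2, hc, by omega⟩, by rw [hca, one_smul]⟩
    · refine ⟨-ζ, ⟨neg_mem_u1 hzu, by rw [neg_mul_neg, hz2], by rw [mul_neg, neg_mul, hc], ?_⟩, ?_⟩
      · rw [show fixSp (-ζ) = negSp ζ from by ext x; rw [mem_fixSp, mem_negSp, Units.val_neg, neg_mulVec, neg_eq_iff_eq_neg]]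
        exact hdim
      · rw [Units.val_neg, neg_mulVec, hca, neg_one_smul, neg_neg]
  obtain ⟨hη, hη2, hηv, hη4⟩ := hη
  have hnd := (nd_eigen hs h2 hη2 (bf_of_mem hη)).1
  obtain ⟨c0, hc0, hcc0, hc0a⟩ := nd_partner hs h2 hnd (mem_fixSp.2 hηa) ha haa
  have hli : LinearIndependent F ![a, c0] := LinearIndependent.pair_iff.2 fun x y e => by
    have hy : y = 0 := by
      have := congrArg (fun z => B1 z a) e
      simpa [bf_add_left, bf_smul_left, haa, hc0a, Orth.sym_zero_left hs] using this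
    rw [hy, zero_smul, add_zero] at e
    exact ⟨(smul_eq_zero.1 e).resolve_right ha, hy⟩
  have hspan : Submodule.span F (Set.range ![a, c0]) = fixSp η := Submodule.eq_of_le_of_finrank_le
    (Submodule.span_le.2 (by rintro _ ⟨i, rfl⟩; fin_cases i; exacts [mem_fixSp.2 hηa, hc0]))
    (by rw [finrank_span_eq_card hli, hη4, Fintype.card_fin])
  have hvc : (v : M1) *ᵥ c0 ∈ fixSp η := mem_fixSp.2 (by
    rw [← gl_mul_mulVec, ← hηv, gl_mul_mulVec, mem_fixSp.1 hc0])
  rw [← hspan, Matrix.range_cons, Matrix.range_cons, Matrix.range_empty, Set.union_empty, Set.union_singleton,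
    Set.pair_comm] at hvc
  obtain ⟨α, β, hαβ⟩ := Submodule.mem_span_pair.1 hvc
  have e1 : (v : M1) *ᵥ c0 = c0 + m - (B1 c0 m + B1 m m / 2) • a := by
    rw [he, ei_mulVec h2 haa ham, hc0a]
    module
  rw [e1] at hαβ
  have hβ : β = 1 := by
    have := congrArg (fun z => B1 z a) hαβ
    simpa [bf_add_left, bf_smul_left, Orth.sym_sub_left hs, haa, hc0a, bf_comm hg.wg m a, ham] using this
  rw [hβ] at hαβ
  have hm : m = (α + (B1 c0 m + B1 m m / 2)) • a := by linear_combination (norm := module) -hαβ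
  exact hmm (by rw [hm, bf_smul_left, bf_smul_right, haa, mul_zero, mul_zero])

end Unip

/-! ### two factors -/

/-- a pure tensor of two factors, the given factor first -/
def tp (j : Fin (1 + 1)) (A B : GL (Ix 1) F) : GL (Fin (1 + 1) → Ix 1) F := sl j A * sl (j + 1) B

theorem oth_ne : ∀ j : Fin (1 + 1), j + 1 ≠ j := by decide

theorem oth_oth : ∀ j : Fin (1 + 1), j + 1 + 1 = j := by decide

theorem oth_cases : ∀ j l : Fin (1 + 1), l = j ∨ l = j + 1 := by decide

theorem mk_mul (j : Fin (1 + 1)) (A B C D : GL (Ix 1) F) : tp j A B * tp j C D = tp j (A * C) (B * D) := by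
  rw [tp, tp, tp, mul_assoc, ← mul_assoc (sl (j + 1) B), sl_comm (oth_ne j), mul_assoc, sl_mul, ← mul_assoc,
    sl_mul]

theorem mk_swap (j : Fin (1 + 1)) (A B : GL (Ix 1) F) : tp (j + 1) B A = tp j A B := by
  rw [tp, tp, oth_oth, sl_comm (oth_ne j)]

theorem mk_left (j : Fin (1 + 1)) (A : GL (Ix 1) F) : tp j A 1 = sl j A := by rw [tp, sl_one, mul_one]

theorem mk_right (j : Fin (1 + 1)) (B : GL (Ix 1) F) : tp j 1 B = sl (j + 1) B := by rw [tp, sl_one, one_mul]

theorem mk_one (j : Fin (1 + 1)) : tp j (1 : GL (Ix 1) F) 1 = 1 := by rw [mk_left, sl_one]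

theorem mk_eq_pure (j : Fin (1 + 1)) (A B : GL (Ix 1) F) :
    tp j A B = pureGL (Function.update (fun _ => B) j A) := by
  rw [tp, sl_eq_pureGL, sl_eq_pureGL, pureGL_mul]
  congr 1
  funext l
  rcases oth_cases j l with rfl | rfl
  · simp [Pi.mulSingle_eq_of_ne (oth_ne l).symm]
  · simp [Pi.mulSingle_eq_of_ne (oth_ne j), Function.update_of_ne (oth_ne j)]

theorem pure_eq_mk (j : Fin (1 + 1)) (f : Fin (1 + 1) → GL (Ix 1) F) : pureGL f = tp j (f j) (f (j + 1)) := by
  rw [mk_eq_pure]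
  congr 1
  funext l
  rcases oth_cases j l with rfl | rfl
  · simp
  · rw [Function.update_of_ne (oth_ne j)]

theorem mk_mem_tw (j : Fin (1 + 1)) (A B : GL (Ix 1) F) : tp j A B ∈ tensorWreathStandard (1 + 3) (1 + 1) F :=
  mul_mem (sl_mem_tw _ _) (sl_mem_tw _ _)

theorem mk_mem_uT (j : Fin (1 + 1)) {A B : GL (Ix 1) F} (hA : A ∈ u1 hg) (hB : B ∈ u1 hg) :
    tp j A B ∈ uT hg (1 + 1) := mul_mem (sl_mem_uT _ hA) (sl_mem_uT _ hB)

theorem mk_neg_left (j : Fin (1 + 1)) (A B : GL (Ix 1) F) : tp j (-A) B = -tp j A B := by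
  have e : sl j (-A) = -(sl j A : G2) := Units.ext (by
    rw [sl_coe, Units.val_neg, Units.val_neg, sl_coe, ← neg_one_smul F (A : M1), TensorPower.slot_smul,
      neg_one_smul])
  rw [tp, tp, e, neg_mul]

theorem mk_neg_right (j : Fin (1 + 1)) (A B : GL (Ix 1) F) : tp j A (-B) = -tp j A B := by
  rw [← mk_swap, mk_neg_left, mk_swap]

/-- equal pure tensors of isometries -/
theorem mk_prop (h2 : (2 : F) ≠ 0) {j : Fin (1 + 1)} {A B C D : GL (Ix 1) F} (hA : A ∈ u1 hg) (hC : C ∈ u1 hg)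
    (h : tp j C D = tp j A B) : (C = A ∧ D = B) ∨ (C = -A ∧ D = -B) := by
  have h' := h
  rw [mk_eq_pure, mk_eq_pure] at h
  have h1 : CfsgLib.Perm.Asch.pure (fun k => ((Function.update (fun _ => D) j C : Fin (1 + 1) → GL (Ix 1) F) k : M1)) =
      CfsgLib.Perm.Asch.pure (fun k => ((Function.update (fun _ => B) j A : Fin (1 + 1) → GL (Ix 1) F) k : M1)) := by
    rw [← pureGL_coe, h, pureGL_coe]
  obtain ⟨c, -, hc⟩ := pure_prop h1 (fun k => gl_ne_zero _) (fun k => gl_ne_zero _) j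
  rw [Function.update_self, Function.update_self] at hc
  have hcc : c * c = 1 := by
    have hs := bf_symmetric hg.wg
    obtain ⟨w, -, hw⟩ := nd_aniso hs h2 (nd_top hs) (by rw [top_finrank hs, Fintype.card_fin]; omega)
    have h3 := bf_of_mem hC w w
    rw [hc, Matrix.smul_mulVec, bf_smul_left, bf_smul_right, bf_of_mem hA, ← mul_assoc] at h3
    exact mul_right_cancel₀ hw (by rw [one_mul]; exact h3)
  rcases mul_self_eq_one_iff.1 hcc with rfl | rfl
  · obtain rfl : C = A := Units.ext (hc.trans (one_smul _ _))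
    refine Or.inl ⟨rfl, sl_inj (k := j + 1) (by omega) ?_⟩
    exact mul_left_cancel h'
  · obtain rfl : C = -A := Units.ext (by rw [hc, neg_one_smul, Units.val_neg])
    refine Or.inr ⟨rfl, ?_⟩
    rw [mk_neg_left, ← mk_neg_right] at h'
    exact neg_eq_iff_eq_neg.1 (sl_inj (k := j + 1) (by omega) (mul_left_cancel h'))

/-- commuting with a pair of reflections -/
theorem mk_comm_pair (h2 : (2 : F) ≠ 0) {j : Fin (1 + 1)} {A B : GL (Ix 1) F} (hA : A ∈ u1 hg) (hB : B ∈ u1 hg)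
    {d e : V1} (hd : B1 d d ≠ 0) (he : B1 e e ≠ 0)
    (h : tp j A B * tp j (rv hg d hd) (rv hg e he) = tp j (rv hg d hd) (rv hg e he) * tp j A B) :
    A * rv hg d hd = rv hg d hd * A ∧ B * rv hg e he = rv hg e he * B := by
  rw [mk_mul, mk_mul] at h
  rcases mk_prop (hg := hg) h2 (mul_mem (rv_mem hd) hA) (mul_mem hA (rv_mem hd)) h with h1 | ⟨h1, -⟩
  · exact h1
  · exfalso
    refine rv_conj_ne (hg := hg) h2 hd hd (A := A) ?_
    rw [h1, neg_mul, mul_inv_cancel_right]

theorem mk_dim (h2 : (2 : F) ≠ 0) {j : Fin (1 + 1)} {A B : GL (Ix 1) F} (hA : A * A = 1) (hB : B * B = 1) :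
    2 * (Module.finrank F (negSp (tp j A B)) : ℤ) +
      ((4 : ℤ) - 2 * Module.finrank F (negSp A)) * ((4 : ℤ) - 2 * Module.finrank F (negSp B)) = 16 := by
  have h := pure_neg_dim h2 (A := Function.update (fun _ => B) j A) (fun l => by
    rcases oth_cases j l with rfl | rfl
    · rw [Function.update_self, hA]
    · rw [Function.update_of_ne (oth_ne j), hB])
  rw [← mk_eq_pure, Finset.prod_eq_mul j (j + 1) (oth_ne j).symm
    (fun l _ hl => absurd (oth_cases j l) (by tauto)) (fun h => absurd (Finset.mem_univ _) h)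
    (fun h => absurd (Finset.mem_univ _) h), Function.update_self, Function.update_of_ne (oth_ne j)] at h
  norm_num at h
  exact h

/-- the factors of an isometry of the wreath subgroup are similitudes -/
theorem mk_sim (h2 : (2 : F) ≠ 0) [Fintype F] {j : Fin (1 + 1)} {A B : GL (Ix 1) F} (hu : tp j A B ∈ uT hg (1 + 1)) :
    ∃ μ : F, μ ≠ 0 ∧ (∀ x y, B1 ((A : M1) *ᵥ x) ((A : M1) *ᵥ y) = μ * B1 x y) ∧
      ∀ x y, B1 ((B : M1) *ᵥ x) ((B : M1) *ᵥ y) = μ⁻¹ * B1 x y := by
  have hs := bf_symmetric hg.wg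
  rw [mk_eq_pure] at hu
  have hpair : ∀ x x' y y', B1 ((A : M1) *ᵥ x) ((A : M1) *ᵥ x') * B1 ((B : M1) *ᵥ y) ((B : M1) *ᵥ y') =
      B1 x x' * B1 y y' := fun x x' y y' => by
    have h1 := bf_of_mem hu (TensorPower.pv (Function.update (fun _ => y) j x))
      (TensorPower.pv (Function.update (fun _ => y') j x'))
    rw [pureGL_coe, pure_pv, pure_pv, bf_pv hg, bf_pv hg, Finset.prod_eq_mul j (j + 1) (oth_ne j).symm
      (fun l _ hl => absurd (oth_cases j l) (by tauto)) (fun h => absurd (Finset.mem_univ _) h)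
      (fun h => absurd (Finset.mem_univ _) h), Finset.prod_eq_mul j (j + 1) (oth_ne j).symm
      (fun l _ hl => absurd (oth_cases j l) (by tauto)) (fun h => absurd (Finset.mem_univ _) h)
      (fun h => absurd (Finset.mem_univ _) h)] at h1
    simpa [Function.update_of_ne (oth_ne j)] using h1
  obtain ⟨w, -, hw⟩ := nd_value hs h2 (nd_top hs) (by rw [top_finrank hs, Fintype.card_fin]; omega)
    (one_ne_zero (α := F))
  have hww := hpair w w w w
  rw [hw, one_mul] at hww
  refine ⟨(B1 ((B : M1) *ᵥ w) ((B : M1) *ᵥ w))⁻¹, inv_ne_zero (right_ne_zero_of_mul_eq_one hww), fun x y => ?_,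
    fun x y => ?_⟩
  · have h1 := hpair x y w w
    rw [hw, mul_one] at h1
    rw [← h1, mul_comm (B1 _ _) (B1 ((B : M1) *ᵥ w) _), inv_mul_cancel_left₀]
    exact right_ne_zero_of_mul_eq_one hww
  · have h1 := hpair w w x y
    rw [hw, one_mul] at h1
    rw [← h1, inv_inv, ← mul_assoc, mul_comm (B1 _ _) (B1 ((A : M1) *ᵥ w) _), hww, one_mul]

/-- an involution exchanging two factors does not negate half -/
theorem swap_dim (h2 : (2 : F) ≠ 0) {c : G2} (hc : c * c = 1) {σ : Equiv.Perm (Fin (1 + 1))}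
    (hσ : HasPerm c σ) (hσ1 : σ ≠ 1) : Module.finrank F (negSp c) ≠ 8 := by
  classical
  obtain ⟨A, hA⟩ := hσ
  obtain rfl : σ = Equiv.swap 0 1 := by
    have h : ∀ τ : Equiv.Perm (Fin (1 + 1)), τ ≠ 1 → τ = Equiv.swap 0 1 := by decide
    exact h σ hσ1
  set σ := Equiv.swap (0 : Fin (1 + 1)) 1 with hσdef
  set V := sl (1 : Fin (1 + 1)) (A 0)⁻¹ with hV
  let A' : Fin (1 + 1) → GL (Ix 1) F :=
    (Pi.mulSingle 1 (A 0)⁻¹ ∘ σ) * A * Pi.mulSingle 1 (A 0)
  have hA' : V * c * V⁻¹ = permGL σ * pureGL A' := by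
    rw [hV, hA, ← sl_inv, inv_inv, sl_eq_pureGL, sl_eq_pureGL, ← mul_assoc, pureGL_perm, mul_assoc (permGL σ),
      pureGL_mul, mul_assoc, pureGL_mul]
  rw [← negSp_conj V c]
  set c' := V * c * V⁻¹ with hc'
  have hc'c : c' * c' = 1 := by
    rw [hc', show V * c * V⁻¹ * (V * c * V⁻¹) = V * (c * c) * V⁻¹ by group, hc]; group
  have hA0 : A' 0 = 1 := by simp [A', hσdef]
  obtain ⟨κ, hκ⟩ : ∃ κ : F, (A' 1 : M1) = κ • 1 := by
    have e : pureGL ((A' ∘ σ) * A') = 1 := by
      have h' := hc'c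
      rw [hA', mul_assoc, ← mul_assoc (pureGL A'), pureGL_perm, mul_assoc, pureGL_mul, ← mul_assoc, permGL_mul,
        Equiv.swap_mul_self, permGL_one, one_mul] at h'
      exact h'
    have h1 : CfsgLib.Perm.Asch.pure (fun k => (((A' ∘ σ) * A') k : M1)) =
        CfsgLib.Perm.Asch.pure (1 : Fin (1 + 1) → M1) := by rw [← pureGL_coe, e, pure_one, Units.val_one]
    obtain ⟨κ, -, hκ⟩ := pure_prop h1 (fun k => gl_ne_zero _) (fun k => one_ne_zero_mat) 1
    exact ⟨κ, by simpa [hσdef, hA0] using hκ⟩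
  have hpure : ((pureGL A' : G2) : Matrix (Fin (1 + 1) → Ix 1) (Fin (1 + 1) → Ix 1) F) = κ • 1 := by
    rw [pureGL_coe, show (fun k => (A' k : M1)) = fun k => (![1, κ] : Fin (1 + 1) → F) k • (1 : Fin (1 + 1) → M1) k from
      funext fun k => by fin_cases k <;> simp [hA0, hκ], pure_smul, pure_one]
    simp
  let π : (Fin (1 + 1) → Ix 1) → (Fin (1 + 1) → Ix 1) := fun x => x ∘ σ
  have hcol : ∀ x, (c' : Matrix (Fin (1 + 1) → Ix 1) (Fin (1 + 1) → Ix 1) F) *ᵥ Pi.single x 1 =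
      κ • (Pi.single (π x) 1 : (Fin (1 + 1) → Ix 1) → F) := fun x => by
    rw [hA', gl_mul_mulVec, hpure, Matrix.smul_mulVec, one_mulVec, mulVec_smul, single_pv, permGL_coe, perm_pv,
      single_pv]
    rfl
  have hπ : ∀ x, π (π x) = x := fun x => funext fun l => by simp [π, hσdef]
  have hκ2 : κ * κ = 1 := by
    have h1 := congrArg (fun X : G2 => (X : Matrix (Fin (1 + 1) → Ix 1) (Fin (1 + 1) → Ix 1) F) *ᵥ
      (Pi.single (fun _ => 0) 1 : (Fin (1 + 1) → Ix 1) → F)) hc'c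
    simp only [gl_mul_mulVec, hcol, mulVec_smul, hπ, smul_smul, Units.val_one, one_mulVec] at h1
    have h3 := congrFun h1 (fun _ => 0)
    simpa using h3
  obtain ⟨pairs, htot, -, hneg⟩ := monomial_count h2 hc'c π hπ (fun _ => κ) (fun _ => hκ2) hcol
  have hfix : (Finset.univ.filter fun x => π x = x).card = 4 := by
    simp only [π, hσdef]
    decide
  rw [hfix, Fintype.card_fun, Fintype.card_fin, Fintype.card_fin] at htot
  norm_num at htot
  by_cases hκ1 : κ = 1
  · rw [hneg, Finset.filter_eq_empty_iff.2 fun x _ h => h.2 hκ1, Finset.card_empty]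
    omega
  · rw [hneg, Finset.filter_congr (q := fun x => π x = x) fun x _ => ⟨fun h => h.1, fun h => ⟨h, hκ1⟩⟩, hfix]
    omega

/-- **Theorem.** An involution of the wreath subgroup negating other than half, or commuting with a pair. -/
theorem tw2_invol (h2 : (2 : F) ≠ 0) [Fintype F] (hmin : Minus g) (j : Fin (1 + 1)) {z : G2}
    (hz : z ∈ tensorWreathStandard (1 + 3) (1 + 1) F) (hu : z ∈ uT hg (1 + 1)) (hzz : z * z = 1)
    (h : Module.finrank F (negSp z) ≠ 8 ∨ ∃ (d e : V1) (hd : B1 d d ≠ 0) (he : B1 e e ≠ 0),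
      z * tp j (rv hg d hd) (rv hg e he) = tp j (rv hg d hd) (rv hg e he) * z) :
    (Module.finrank F (negSp z) ≠ 8 ∧ ∃ σ : Equiv.Perm (Fin (1 + 1)), HasPerm z σ ∧ σ ≠ 1) ∨
      ∃ A B : GL (Ix 1) F, A ∈ u1 hg ∧ B ∈ u1 hg ∧ A * A = 1 ∧ B * B = 1 ∧ z = tp j A B := by
  classical
  obtain ⟨σ, A, hA⟩ := tw_shape hz
  by_cases hσ : σ = 1
  swap
  · exact Or.inl ⟨swap_dim h2 hzz ⟨A, hA⟩ hσ, σ, ⟨A, hA⟩, hσ⟩
  right
  rw [hσ, permGL_one, one_mul] at hA
  subst hA
  obtain ⟨C, hC, e⟩ : ∃ C : Fin (1 + 1) → GL (Ix 1) F, (∀ l, C l * C l = 1) ∧ pureGL A = pureGL C := by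
    rcases h with h | ⟨d, e, hd, he, hc⟩
    · exact pure_invol_normal h2 hzz (by simpa using h)
    -- the factor fixes an axis up to a scalar, so its square is a square
    rw [pure_eq_mk j A, mk_mul, mk_mul, mk_eq_pure, mk_eq_pure] at hc
    have h1 : CfsgLib.Perm.Asch.pure (fun k => ((Function.update (fun _ => A (j + 1) * rv hg e he) j
          (A j * rv hg d hd) : Fin (1 + 1) → GL (Ix 1) F) k : M1)) =
        CfsgLib.Perm.Asch.pure (fun k => ((Function.update (fun _ => rv hg e he * A (j + 1)) j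
          (rv hg d hd * A j) : Fin (1 + 1) → GL (Ix 1) F) k : M1)) := by rw [← pureGL_coe, hc, pureGL_coe]
    obtain ⟨c, -, hc'⟩ := pure_prop h1 (fun k => gl_ne_zero _) (fun k => gl_ne_zero _) j
    rw [Function.update_self, Function.update_self, Units.val_mul, Units.val_mul] at hc'
    set w := (A j : M1) *ᵥ d with hw
    have hwm : -w = c • ((rv hg d hd : M1) *ᵥ w) := by
      have := congrArg (fun X : M1 => X *ᵥ d) hc'
      simp only [← mulVec_mulVec, rv_self, mulVec_neg, Matrix.smul_mulVec] at this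
      exact this
    have hw0 : w ≠ 0 := fun e0 => hd (by
      rw [gl_mulVec_eq_zero.1 e0]; exact Orth.sym_zero_left (bf_symmetric hg.wg) _)
    obtain ⟨lam, hlam⟩ : ∃ lam : F, w = lam • d := by
      rw [rv_mulVec, smul_sub, smul_smul] at hwm
      by_cases hc1 : c = -1
      · subst hc1
        refine (rv_conj_ne (hg := hg) h2 hd hd (A := A j) (Units.ext ?_)).elim
        rw [Units.val_mul, Units.val_mul, hc', Matrix.smul_mul, mul_assoc, gl_mul_inv, mul_one, neg_one_smul,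
          Units.val_neg]
      · refine ⟨c * (2 / B1 d d * B1 w d) / (c + 1), ?_⟩
        have hne : c + 1 ≠ 0 := fun e0 => hc1 (by linear_combination e0)
        rw [div_eq_inv_mul, mul_smul, eq_inv_smul_iff₀ hne]
        linear_combination (norm := module) -hwm
    have hlam0 : lam ≠ 0 := fun e0 => hw0 (by rw [hlam, e0, zero_smul])
    have hκ : ∀ l, ∃ κ : F, κ ≠ 0 ∧ (A l : M1) * (A l : M1) = κ • 1 := by
      intro l
      have h1 : CfsgLib.Perm.Asch.pure (fun k => ((A * A) k : M1)) =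
          CfsgLib.Perm.Asch.pure (1 : Fin (1 + 1) → M1) := by
        rw [← pureGL_coe, ← pureGL_mul, hzz, pure_one, Units.val_one]
      obtain ⟨κ, hκ0, hκ⟩ := pure_prop h1 (fun k => gl_ne_zero _) (fun k => one_ne_zero_mat) l
      exact ⟨κ, hκ0, hκ⟩
    choose κ hκ0 hκ using hκ
    have hd0 : d ≠ 0 := fun e0 => hd (by rw [e0]; exact Orth.sym_zero_left (bf_symmetric hg.wg) _)
    have hκj : κ j = lam * lam := by
      have := congrArg (fun X : M1 => X *ᵥ d) (hκ j)
      simp only [← mulVec_mulVec, ← hw, hlam, mulVec_smul, smul_smul, Matrix.smul_mulVec, one_mulVec] at this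
      exact (smul_left_injective F hd0 this).symm
    have hprod : κ j * κ (j + 1) = 1 := by
      have h1 : ((pureGL A * pureGL A : G2) : Matrix (Fin (1 + 1) → Ix 1) (Fin (1 + 1) → Ix 1) F) = (∏ l, κ l) • 1 := by
        rw [pureGL_mul, pureGL_coe, show (fun l => ((A * A) l : M1)) = fun l => κ l • (1 : Fin (1 + 1) → M1) l from
          funext hκ, pure_smul, pure_one]
      rw [hzz, Finset.prod_eq_mul j (j + 1) (oth_ne j).symm
        (fun l _ hl => absurd (oth_cases j l) (by tauto)) (fun h => absurd (Finset.mem_univ _) h)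
        (fun h => absurd (Finset.mem_univ _) h)] at h1
      simpa using (congrFun (congrFun h1 (fun _ => 0)) (fun _ => 0)).symm
    let ε : Fin (1 + 1) → F := Function.update (fun _ => lam) j lam⁻¹
    have hε : ∀ l, ε l * ε l * κ l = 1 := fun l => by
      rcases oth_cases j l with rfl | rfl
      · simp only [ε, Function.update_self, hκj]; field_simp
      · simp only [ε, Function.update_of_ne (oth_ne j)]; rw [← hκj, hprod]
    have hεp : ∏ l, ε l = 1 := by
      rw [Finset.prod_eq_mul j (j + 1) (oth_ne j).symm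
        (fun l _ hl => absurd (oth_cases j l) (by tauto)) (fun h => absurd (Finset.mem_univ _) h)
        (fun h => absurd (Finset.mem_univ _) h)]
      simp only [ε, Function.update_self, Function.update_of_ne (oth_ne j), inv_mul_cancel₀ hlam0]
    refine ⟨fun l => ⟨ε l • (A l : M1), ε l • (A l : M1), ?_, ?_⟩, fun l => Units.ext ?_, Units.ext ?_⟩
    · rw [Matrix.smul_mul, Matrix.mul_smul, hκ, smul_smul, smul_smul, hε, one_smul]
    · rw [Matrix.smul_mul, Matrix.mul_smul, hκ, smul_smul, smul_smul, hε, one_smul]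
    · show (ε l • (A l : M1)) * (ε l • (A l : M1)) = 1
      rw [Matrix.smul_mul, Matrix.mul_smul, hκ, smul_smul, smul_smul, hε, one_smul]
    · rw [pureGL_coe, pureGL_coe]
      show _ = CfsgLib.Perm.Asch.pure fun l => ε l • (A l : M1)
      rw [pure_smul, hεp, one_smul]
  rw [e, pure_eq_mk j C] at hu
  obtain ⟨μ, -, hμA, hμB⟩ := mk_sim h2 hu
  exact ⟨C j, C (j + 1), invol_sim h2 hmin hμA (hC j), invol_sim h2 hmin hμB (hC _), hC j, hC _,
    e.trans (pure_eq_mk j C)⟩

end CfsgLib.Perm.Trans.TensorPowerO
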