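import Mathlib
import Cfsg.Agent.Lib.Perm.Trans.TensorPowerO.K4Two

/-!
# Two four-dimensional factors of minus type: the centraliser of a half turn
-/

set_option autoImplicit false
set_option linter.all false

namespace CfsgLib.Perm.Trans.TensorPowerO

open scoped Matrix
open Matrix Cfsg.Geo CfsgLib.Perm.Asch CfsgLib.Perm.Trans CfsgLib.Perm.Trans.TensorPower
open CfsgLib.Perm.Trans.TensorSO CfsgLib.Perm.Trans.TensorOO

variable {F : Type*} [Field F] {g : Ix 1 → F} {hg : Dg g}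

local notation "M1" => Matrix (Ix 1) (Ix 1) F
local notation "V1" => Ix 1 → F
local notation "B1" => bf g (s1 1)
local notation "G2" => GL (Fin (1 + 1) → Ix 1) F
local notation "M2" => Matrix (Fin (1 + 1) → Ix 1) (Fin (1 + 1) → Ix 1) F

/-- the eigenvectors of an isometry for an eigenvalue other than plus or minus one form at most a line -/
theorem eigen_line (hg : Dg g) (hmin : Minus g) {u : GL (Ix 1) F} (hu : u ∈ u1 hg) {y : F} (hy : y * y ≠ 1) {a v : V1}
    (ha : a ≠ 0) (h1 : (u : M1) *ᵥ a = y • a) (h3 : (u : M1) *ᵥ v = y • v) : ∃ c : F, v = c • a := by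
  have key : ∀ x z : V1, (u : M1) *ᵥ x = y • x → (u : M1) *ᵥ z = y • z → B1 x z = 0 := fun x z hx hz => by
    have h := bf_of_mem hu x z
    rw [hx, hz, bf_smul_left, bf_smul_right, ← mul_assoc] at h
    exact (mul_eq_zero.1 (show (y * y - 1) * B1 x z = 0 by linear_combination h)).resolve_left (sub_ne_zero.2 hy)
  exact hmin a v ha (key a a h1 h1) (key v v h3 h3) (key a v h1 h3)

/-- an element of one factor acts on the fibres -/
theorem slot_fibre (j : Fin (1 + 1)) (X : M1) (z : (Fin (1 + 1) → Ix 1) → F) (c : Ix 1) (p : Fin 1 → Ix 1) :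
    ((slot j X : M2) *ᵥ z) (j.insertNth c p) = (X *ᵥ fun c' => z (j.insertNth c' p)) c := by
  classical
  conv_lhs => rw [tv_expand j z, mulVec_sum, Finset.sum_apply]
  rw [mulVec, dotProduct]
  refine Finset.sum_congr rfl fun a _ => ?_
  rw [slot_tv, tv_apply_insertNth, mulVec_single_one]
  rfl

/-- one of two complementary planes is hyperbolic -/
theorem hyp_plane [Fintype F] (hg : Dg g) (h2 : (2 : F) ≠ 0) (hmin : Minus g) {d f a b : V1} (hd : B1 d d ≠ 0)
    (hf : B1 f f ≠ 0) (ha : B1 a a ≠ 0) (hb : B1 b b ≠ 0) (hdf : B1 d f = 0) (hda : B1 d a = 0) (hdb : B1 d b = 0)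
    (hfa : B1 f a = 0) (hfb : B1 f b = 0) (hab : B1 a b = 0) :
    (IsSquare (-(B1 d d * B1 f f)) ∧ ¬ IsSquare (-(B1 a a * B1 b b))) ∨
      (¬ IsSquare (-(B1 d d * B1 f f)) ∧ IsSquare (-(B1 a a * B1 b b))) := by
  have h := minus_disc hg h2 hmin hd hf ha hb hdf hda hdb hfa hfb hab
  rw [← neg_mul_neg] at h
  by_cases h1 : IsSquare (-(B1 d d * B1 f f))
  · exact Or.inl ⟨h1, fun h3 => h (h1.mul h3)⟩
  · refine Or.inr ⟨h1, ?_⟩
    by_contra h3
    exact h (nonsquare_mul h2 h1 h3)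

variable [Fintype F] {M : Subgroup (GL (Fin (1 + 1) → Ix 1) F)} (hM : Ctx hg M) (hN : NormTw hg 1) (hmin : Minus g)
include hM hN hmin

/-- **Theorem.** The pointwise stabiliser of two slices lies in the wreath subgroup. -/
theorem Ctx.fix_two {j : Fin (1 + 1)} {d f : V1} (hd : B1 d d ≠ 0) (hf : B1 f f ≠ 0) (hdf : B1 d f = 0) {x : G2}
    (hx : x ∈ fixSlice M j d) (hx' : x ∈ fixSlice M j f) :
    ∃ u ∈ u1 hg, x = sl j u ∧ (u : M1) *ᵥ d = d ∧ (u : M1) *ᵥ f = f := by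
  classical
  have h2 := hM.two
  have hs := bf_symmetric hg.wg
  obtain ⟨p, hp, hc, -, -⟩ := exists_char (F := F) h2
  haveI := hc
  haveI : Fact p.Prime := ⟨hp⟩
  have hd0 : d ≠ 0 := fun e => hd (by rw [e]; exact Orth.sym_zero_left hs _)
  have hread : ∀ y : G2, y ∈ tensorWreathStandard (1 + 3) (1 + 1) F → y ∈ fixSlice M j d → y ∈ fixSlice M j f →
      ∃ u ∈ u1 hg, y = sl j u ∧ (u : M1) *ᵥ d = d ∧ (u : M1) *ᵥ f = f := by
    intro y hyW hy hy'
    obtain ⟨u, hu, rfl, hud⟩ := tw_fix_slice hyW (hM.le_uT hy.1) hd0 (maps_one_iff.1 hy.2)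
    refine ⟨u, hu, rfl, hud, ?_⟩
    have h := maps_one_iff.1 hy'.2 (fun _ => 1)
    rw [sl_tv] at h
    exact tv_inj_left j (fun e => one_ne_zero (α := F) (congrFun e (fun _ => 0))) h
  obtain ⟨a, -, ha, haa⟩ := nd_singular hs h2 (nd_top hs) (by rw [top_finrank hs, Fintype.card_fin]; omega)
  refine hread x ?_ hx hx'
  refine hM.root_principle hN hmin (p := p) (X := fixSlice M j d ⊓ fixSlice M j f) (fun x hx => hx.1.1)
    (l := j.succAbove 0) ha haa (fun m hm x hx => ⟨?_, ?_⟩) (fun y hy hyW hyp _ => ?_) ⟨hx, hx'⟩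
  · exact fix_normalised (hM.ei_sl _ haa hm) (sl_maps j d 0 _) hx.1
  · exact fix_normalised (hM.ei_sl _ haa hm) (sl_maps j f 0 _) hx.2
  · obtain ⟨A, hA, rfl, hAd, hAf⟩ := hread y hyW hy.1 hy.2
    have hAp : A ^ p = 1 := sl_inj (k := j) (by omega) (by rw [sl_pow, hyp, sl_one])
    rw [unip_fix_plane h2 hmin hA hAp hd hf hdf hAd hAf, sl_one]

omit hN hmin in
/-- the centraliser of a half turn normalises the fixer of its fixed plane -/
theorem Ctx.fix_two_normal {j : Fin (1 + 1)} {d f : V1} (hd : B1 d d ≠ 0) (hf : B1 f f ≠ 0) (hdf : B1 d f = 0)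
    {x : G2} (hx : x ∈ M) (hxc : x * sl j (zeta hg d f hd hf) = sl j (zeta hg d f hd hf) * x) {y : G2}
    (hy : y ∈ fixSlice M j d) (hy' : y ∈ fixSlice M j f) :
    x * y * x⁻¹ ∈ fixSlice M j d ∧ x * y * x⁻¹ ∈ fixSlice M j f := by
  have h2 := hM.two
  have hxy := M.mul_mem (M.mul_mem hx hy.1) (M.inv_mem hx)
  have hpre : ∀ z : (Fin (1 + 1) → Ix 1) → F, (sl j (zeta hg d f hd hf) : M2) *ᵥ z = z →
      ((x * y * x⁻¹ : G2) : M2) *ᵥ z = z := by
    intro z hz
    have hz' : (sl j (zeta hg d f hd hf) : M2) *ᵥ (((x⁻¹ : G2) : M2) *ᵥ z) = ((x⁻¹ : G2) : M2) *ᵥ z := by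
      rw [← gl_mul_mulVec, show sl j (zeta hg d f hd hf) * x⁻¹ = x⁻¹ * sl j (zeta hg d f hd hf) by
        rw [eq_inv_mul_iff_mul_eq, ← mul_assoc, hxc, mul_inv_cancel_right], gl_mul_mulVec, hz]
    obtain ⟨w, w', e⟩ := zeta_fix_range h2 j hd hf hdf hz'
    rw [gl_mul_mulVec, gl_mul_mulVec, e, mulVec_add, maps_one_iff.1 hy.2, maps_one_iff.1 hy'.2, ← e, gl_mulVec_inv]
  exact ⟨⟨hxy, maps_one_iff.2 fun w => hpre _ (by rw [sl_tv, zeta_fix_left hd hf hdf])⟩,
    ⟨hxy, maps_one_iff.2 fun w => hpre _ (by rw [sl_tv, zeta_fix_right hd hf hdf])⟩⟩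

/-- **Theorem.** The centraliser of a half turn when the field has more than three elements. -/
theorem Ctx.zeta_cent_big (hy : ∃ y : F, y ≠ 0 ∧ y * y ≠ 1) {j : Fin (1 + 1)} {d f : V1} (hd : B1 d d ≠ 0)
    (hf : B1 f f ≠ 0) (hdf : B1 d f = 0) {x : G2} (hx : x ∈ M)
    (hxc : x * sl j (zeta hg d f hd hf) = sl j (zeta hg d f hd hf) * x) :
    x ∈ tensorWreathStandard (1 + 3) (1 + 1) F := by
  classical
  have h2 := hM.two
  obtain ⟨y, hy0, hy1⟩ := hy
  obtain ⟨a, b, ha, hb, hda, hdb, hfa, hfb, hab⟩ := exists_completion h2 hg hd hf hdf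
  suffices key : ∀ {d f a b : V1} (hd : B1 d d ≠ 0) (hf : B1 f f ≠ 0) (ha : B1 a a ≠ 0) (hb : B1 b b ≠ 0),
      B1 d f = 0 → B1 d a = 0 → B1 d b = 0 → B1 f a = 0 → B1 f b = 0 → B1 a b = 0 →
      IsSquare (-(B1 d d * B1 f f)) → x * sl j (zeta hg a b ha hb) = sl j (zeta hg a b ha hb) * x →
      x ∈ tensorWreathStandard (1 + 3) (1 + 1) F by
    rcases hyp_plane hg h2 hmin hd hf ha hb hdf hda hdb hfa hfb hab with ⟨h, -⟩ | ⟨-, h⟩
    · refine key hd hf ha hb hdf hda hdb hfa hfb hab h ?_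
      have e : sl j (zeta hg a b ha hb) = -sl j (zeta hg d f hd hf) := by
        rw [zeta_neg_eq h2 hd hf ha hb hdf hda hdb hfa hfb hab, ← mk_left, mk_neg_left, mk_left]
      rw [e, mul_neg, neg_mul, hxc]
    · exact key ha hb hd hf hab (by rw [bf_comm hg.wg]; exact hda) (by rw [bf_comm hg.wg]; exact hfa)
        (by rw [bf_comm hg.wg]; exact hdb) (by rw [bf_comm hg.wg]; exact hfb) hdf h hxc
  clear! d f a b
  intro d f a b hd hf ha hb hdf hda hdb hfa hfb hab hsq hxc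
  have hs := bf_symmetric hg.wg
  obtain ⟨k, hk⟩ := hsq
  set r := k / B1 d d with hr
  have hrr : B1 f f = -(r * r * B1 d d) := by
    rw [hr]; field_simp
    linear_combination -hk
  have hr0 : r ≠ 0 := fun e => hf (by rw [hrr, e]; ring)
  set a0 := r • d + f with ha0def
  set c0 := (2 * B1 f f)⁻¹ • (-r • d + f) with hc0def
  have haa : B1 a0 a0 = 0 := by
    simp only [ha0def, bf_add_left, bf_add_right, bf_smul_left, bf_smul_right, hdf, bf_comm hg.wg f d]
    linear_combination hrr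
  have hcc : B1 c0 c0 = 0 := by
    simp only [hc0def, bf_add_left, bf_add_right, bf_smul_left, bf_smul_right, hdf, bf_comm hg.wg f d]
    field_simp
    linear_combination hrr
  have hac : B1 a0 c0 = 1 := by
    simp only [ha0def, hc0def, bf_add_left, bf_add_right, bf_smul_left, bf_smul_right, hdf, bf_comm hg.wg f d]
    field_simp
    linear_combination -hrr
  have hca : B1 c0 a0 = 1 := by rw [bf_comm hg.wg]; exact hac
  have ha0 : a0 ≠ 0 := fun e => one_ne_zero (α := F) (by rw [← hac, e]; exact Orth.sym_zero_left hs _)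
  -- the torus
  have hv : ∀ lam : F, lam ≠ 0 → B1 (a0 - lam • c0) (a0 - lam • c0) ≠ 0 := fun lam hl => by
    simp only [Orth.sym_sub_left hs, Orth.sym_sub_right hs, bf_smul_left, bf_smul_right, haa, hcc, hac, hca]
    intro e
    exact mul_ne_zero h2 hl (by linear_combination -e)
  have hperp : ∀ (lam : F) (z : V1), B1 z d = 0 → B1 z f = 0 → B1 z (a0 - lam • c0) = 0 := fun lam z h1 h3 => by
    simp only [ha0def, hc0def, Orth.sym_sub_right hs, bf_add_right, bf_smul_right, h1, h3]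
    ring
  set T := rv hg _ (hv 1 one_ne_zero) * rv hg _ (hv y hy0) with hT
  have hTa : (T : M1) *ᵥ a0 = y • a0 := by
    have h1 : (rv hg _ (hv y hy0) : M1) *ᵥ a0 = y • c0 := by
      rw [rv_mulVec, show 2 / B1 (a0 - y • c0) (a0 - y • c0) * B1 a0 (a0 - y • c0) = 1 by
        rw [div_mul_eq_mul_div, div_eq_iff (hv y hy0)]
        simp only [Orth.sym_sub_left hs, Orth.sym_sub_right hs, bf_smul_left, bf_smul_right, haa, hcc, hac, hca]
        ring, one_smul, sub_sub_cancel]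
    have h3 : (rv hg _ (hv 1 one_ne_zero) : M1) *ᵥ c0 = a0 := by
      rw [rv_mulVec, show 2 / B1 (a0 - (1 : F) • c0) (a0 - (1 : F) • c0) * B1 c0 (a0 - (1 : F) • c0) = -1 by
        rw [div_mul_eq_mul_div, div_eq_iff (hv 1 one_ne_zero)]
        simp only [Orth.sym_sub_left hs, Orth.sym_sub_right hs, bf_smul_left, bf_smul_right, haa, hcc, hac, hca]
        ring, neg_one_smul, one_smul, sub_neg_eq_add, add_sub_cancel]
    rw [hT, gl_mul_mulVec, h1, mulVec_smul, h3]
  have hTfix : ∀ z : V1, B1 z d = 0 → B1 z f = 0 → (T : M1) *ᵥ z = z := fun z h1 h3 => by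
    rw [hT, gl_mul_mulVec, rv_perp _ (hperp y z h1 h3), rv_perp _ (hperp 1 z h1 h3)]
  have hTM : sl j T ∈ M := hM.rr_mem ⟨2, rfl⟩ j _ _
  have hfix : ∀ z : V1, B1 z d = 0 → B1 z f = 0 → sl j T ∈ fixSlice M j z := fun z h1 h3 =>
    ⟨hTM, maps_one_iff.2 fun w => by rw [sl_tv, hTfix z h1 h3]⟩
  obtain ⟨h3, h4⟩ := hM.fix_two_normal ha hb hab hx hxc
    (hfix a (by rw [bf_comm hg.wg]; exact hda) (by rw [bf_comm hg.wg]; exact hfa))
    (hfix b (by rw [bf_comm hg.wg]; exact hdb) (by rw [bf_comm hg.wg]; exact hfb))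
  obtain ⟨u, hu, hxu, -, -⟩ := hM.fix_two hN hmin ha hb hab h3 h4
  -- the eigenspace of the image is one slice
  have heig : ∀ w, ∀ p, (u : M1) *ᵥ (fun c => ((x : M2) *ᵥ tv j a0 w) (j.insertNth c p)) =
      y • (fun c => ((x : M2) *ᵥ tv j a0 w) (j.insertNth c p)) := by
    intro w p
    have h1 : (sl j u : M2) *ᵥ ((x : M2) *ᵥ tv j a0 w) = y • ((x : M2) *ᵥ tv j a0 w) := by
      rw [← hxu, gl_mul_mulVec, gl_mul_mulVec, gl_inv_mulVec, sl_tv, hTa, tv_smul_left, mulVec_smul]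
    funext c
    have h5 := congrFun h1 (j.insertNth c p)
    rw [sl_coe, Pi.smul_apply] at h5
    rw [Pi.smul_apply, ← h5, slot_fibre]
  obtain ⟨p0, hp0⟩ : ∃ p, (fun c => ((x : M2) *ᵥ tv j a0 (fun _ => 1)) (j.insertNth c p)) ≠ 0 := by
    by_contra hcon
    push Not at hcon
    have h0 : (x : M2) *ᵥ tv j a0 (fun _ => 1) = 0 := funext fun z => by
      rw [← Fin.insertNth_self_removeNth j z]
      exact congrFun (hcon _) _
    have h1 : tv j a0 (fun _ => (1 : F)) = 0 := gl_mulVec_eq_zero.1 h0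
    refine ha0 (funext fun c => ?_)
    have := congrFun h1 (j.insertNth (α := fun _ => Ix 1) c fun _ => 0)
    rwa [tv_apply_insertNth, mul_one] at this
  set a' := fun c => ((x : M2) *ᵥ tv j a0 (fun _ => 1)) (j.insertNth c p0) with ha'def
  have ha'e := heig (fun _ => 1) p0
  have haa' : B1 a' a' = 0 := by
    have h := bf_of_mem hu a' a'
    rw [ha'e, bf_smul_left, bf_smul_right, ← mul_assoc] at h
    exact (mul_eq_zero.1 (show (y * y - 1) * B1 a' a' = 0 by linear_combination h)).resolve_left (sub_ne_zero.2 hy1)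
  refine hM.pure_rigid hN hx ha0 haa hp0 haa' (j := j) (l := j) fun w => ?_
  choose cs hcs using fun p => eigen_line hg hmin hu hy1 hp0 ha'e (heig w p)
  refine ⟨cs, funext fun z => ?_⟩
  rw [← Fin.insertNth_self_removeNth j z, tv_apply_insertNth]
  have := congrFun (hcs (Fin.removeNth j z)) (z j)
  rw [Pi.smul_apply, smul_eq_mul] at this
  rw [this, mul_comm]

end CfsgLib.Perm.Trans.TensorPowerO
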