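import Mathlib
import Cfsg.Agent.Lib.Perm.Trans.TensorPowerO.K4Cent

/-!
# Two four-dimensional factors of minus type: fusion of half turns
-/

set_option autoImplicit false
set_option linter.all false

namespace CfsgLib.Perm.Trans.TensorPowerO

open scoped Matrix
open Matrix Cfsg.Geo CfsgLib.Perm.Asch CfsgLib.Perm.Trans CfsgLib.Perm.Trans.TensorPower
open CfsgLib.Perm.Trans.TensorSO CfsgLib.Perm.Trans.TensorOO

variable {F : Type*} [Field F] {g : Ix 1 → F} {hg : Dg g}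

local notation "M1" => Matrix (Ix 1) (Ix 1) F
local notation "V1" => Ix 1 → F
local notation "B1" => bf g (s1 1)
local notation "G2" => GL (Fin (1 + 1) → Ix 1) F

/-- half turns of one factor have centralisers in the wreath subgroup -/
def HalfCent {F : Type*} [Field F] {g : Ix 1 → F} (hg : Dg g) (M : Subgroup (GL (Fin (1 + 1) → Ix 1) F)) : Prop :=
  ∀ (x : GL (Fin (1 + 1) → Ix 1) F), x ∈ M → ∀ (j : Fin (1 + 1)) (d f : Ix 1 → F) (hd : bf g (s1 1) d d ≠ 0)
    (hf : bf g (s1 1) f f ≠ 0), bf g (s1 1) d f = 0 →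
    x * sl j (zeta hg d f hd hf) = sl j (zeta hg d f hd hf) * x → x ∈ tensorWreathStandard (1 + 3) (1 + 1) F

/-- two orthogonal vectors negated by a half turn give it -/
theorem neg_plane_eq (h2 : (2 : F) ≠ 0) {d f u w : V1} (hd : B1 d d ≠ 0) (hf : B1 f f ≠ 0) (hdf : B1 d f = 0)
    (hu : B1 u u ≠ 0) (hw : B1 w w ≠ 0) (huw : B1 u w = 0) (hzu : (zeta hg d f hd hf : M1) *ᵥ u = -u)
    (hzw : (zeta hg d f hd hf : M1) *ᵥ w = -w) : zeta hg d f hd hf = rv hg u hu * rv hg w hw := by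
  have hu0 : u ≠ 0 := fun e => hu (by rw [e]; exact Orth.sym_zero_left (bf_symmetric hg.wg) _)
  have hc : zeta hg d f hd hf * rv hg u hu = rv hg u hu * zeta hg d f hd hf := by
    refine mul_inv_eq_iff_eq_mul.1 ?_
    have hu' : B1 ((-1 : F) • u) ((-1 : F) • u) ≠ 0 := by
      rw [bf_smul_left, bf_smul_right]; simpa using hu
    rw [rv_conj hu hu' (zeta_mem hd hf) (by rw [hzu, neg_one_smul]), rv_smul hu hu']
  obtain ⟨w', hw', huw', h | ⟨-, e, -⟩⟩ := zeta_times_rv h2 hd hf hdf hu hc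
  · exfalso
    have h1 := h.1
    rw [hzu] at h1
    exact hu0 ((smul_eq_zero.1 (show (2 : F) • u = 0 by linear_combination (norm := module) -h1)).resolve_left h2)
  rw [e, gl_mul_mulVec] at hzw
  have h1 := congrArg (fun z => (rv hg u hu : M1) *ᵥ z) hzw
  simp only [← gl_mul_mulVec, rv_sq, Units.val_one, one_mulVec, mulVec_neg] at h1
  rw [← mul_assoc, rv_sq, one_mul, rv_perp hu (by rw [bf_comm hg.wg]; exact huw), rv_mulVec] at h1
  obtain ⟨k, hk⟩ : ∃ k : F, w = k • w' := ⟨(2 : F)⁻¹ * (2 / B1 w' w' * B1 w w'), by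
    rw [mul_smul, eq_inv_smul_iff₀ h2]
    linear_combination (norm := module) h1⟩
  subst hk
  rw [e, rv_smul hw' hw]

variable [Fintype F] {M : Subgroup (GL (Fin (1 + 1) → Ix 1) F)} (hM : Ctx hg M) (hmin : Minus g)
include hM

/-- the image of an involution of one factor under an element of the wreath subgroup -/
theorem Ctx.slot_image {x : G2} (hx : x ∈ M) (hxW : x ∈ tensorWreathStandard (1 + 3) (1 + 1) F) :
    ∃ σ : Equiv.Perm (Fin (1 + 1)), HasPerm x σ ∧ ∀ (j : Fin (1 + 1)) (A : GL (Ix 1) F), A ∈ u1 hg → A * A = 1 →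
      ∃ B : GL (Ix 1) F, B ∈ u1 hg ∧ B * B = 1 ∧ Module.finrank F (negSp B) = Module.finrank F (negSp A) ∧
        x * sl j A * x⁻¹ = sl (σ j) B := by
  obtain ⟨σ, C, hC⟩ := tw_shape hxW
  refine ⟨σ, ⟨C, hC⟩, fun j A hA hAA => ?_⟩
  have e : x * sl j A * x⁻¹ = sl (σ j) (C j * A * (C j)⁻¹) := Units.ext (by
    rw [← cj_coe, sl_coe, sl_coe, hC, cj_wreath_slot, ← cj_coe])
  refine ⟨_, (sl_mem_iff (hg := hg) (σ j)).1 (e ▸ mul_mem (mul_mem (hM.le_uT hx) (sl_mem_uT j hA))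
    (inv_mem (hM.le_uT hx))), ?_, negSp_conj _ _, e⟩
  rw [show C j * A * (C j)⁻¹ * (C j * A * (C j)⁻¹) = C j * (A * A) * (C j)⁻¹ by group, hAA]
  group

/-- the image of a half turn -/
theorem Ctx.zeta_image {x : G2} (hx : x ∈ M) (hxW : x ∈ tensorWreathStandard (1 + 3) (1 + 1) F) {j : Fin (1 + 1)}
    {d f : V1} (hd : B1 d d ≠ 0) (hf : B1 f f ≠ 0) (hdf : B1 d f = 0) :
    ∃ (σ : Equiv.Perm (Fin (1 + 1))) (d' f' : V1) (hd' : B1 d' d' ≠ 0) (hf' : B1 f' f' ≠ 0),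
      HasPerm x σ ∧ B1 d' f' = 0 ∧ x * sl j (zeta hg d f hd hf) * x⁻¹ = sl (σ j) (zeta hg d' f' hd' hf') := by
  have h2 := hM.two
  obtain ⟨σ, hσ, h⟩ := hM.slot_image hx hxW
  obtain ⟨B, hB, hBB, hBn, e⟩ := h j _ (zeta_mem hd hf) (zeta_sq h2 hd hf hdf)
  rw [zeta_fixSp h2 hd hf hdf] at hBn
  have hs := bf_symmetric hg.wg
  have hfd := invol_finrank h2 hBB
  rw [Fintype.card_fin] at hfd
  obtain ⟨d', hd'm, hd'⟩ := nd_aniso hs h2 (nd_eigen hs h2 hBB (bf_of_mem hB)).1 (by omega)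
  obtain ⟨f', hf', hd'f', hBe⟩ := invol_eq_zeta h2 hB hBB hBn hd' (mem_fixSp.1 hd'm)
  exact ⟨σ, d', f', hd', hf', hσ, hd'f', by rw [e, hBe]⟩

omit hM in
theorem zeta_not_scalar (h2 : (2 : F) ≠ 0) {d f : V1} (hd : B1 d d ≠ 0) (hf : B1 f f ≠ 0) (hdf : B1 d f = 0)
    (c : F) : (zeta hg d f hd hf : M1) ≠ c • 1 := by
  intro e
  have hd0 : d ≠ 0 := fun e => hd (by rw [e]; exact Orth.sym_zero_left (bf_symmetric hg.wg) _)
  have h1 := zeta_fix_left (hg := hg) hd hf hdf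
  rw [e, Matrix.smul_mulVec, one_mulVec] at h1
  have hc : c = 1 := smul_left_injective F hd0 (by show c • d = (1 : F) • d; rw [h1, one_smul])
  have h3 := zeta_fixSp (hg := hg) h2 hd hf hdf
  rw [show zeta hg d f hd hf = 1 from Units.ext (by rw [e, hc, one_smul, Units.val_one]), one_neg_dim' h2] at h3
  omega

omit hM in
theorem mk_pair_dim (h2 : (2 : F) ≠ 0) (j : Fin (1 + 1)) {d e : V1} (hd : B1 d d ≠ 0) (he : B1 e e ≠ 0) :
    Module.finrank F (negSp (tp j (rv hg d hd) (rv hg e he))) = 6 := by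
  have h := mk_dim (j := j) h2 (rv_sq (hg := hg) hd) (rv_sq (hg := hg) he)
  rw [rv_neg_dim h2, rv_neg_dim h2] at h
  omega

omit hM in
theorem mk_neg_pair_dim (h2 : (2 : F) ≠ 0) (j : Fin (1 + 1)) {d e : V1} (hd : B1 d d ≠ 0) (he : B1 e e ≠ 0) :
    Module.finrank F (negSp (tp j (-rv hg d hd) (rv hg e he))) = 10 := by
  have h := mk_dim (j := j) h2 (show -rv hg d hd * -rv hg d hd = 1 by rw [neg_mul_neg, rv_sq])
    (rv_sq (hg := hg) he)
  have h3 := neg_neg_dim h2 (rv_sq (hg := hg) hd)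
  rw [rv_neg_dim h2] at h3
  rw [rv_neg_dim h2, show Module.finrank F (negSp (-rv hg d hd)) = 3 by omega] at h
  omega

include hmin

/-- pure pairs of reflections are recognised by their negated spaces -/
theorem Ctx.pair_of_invol {i : Fin (1 + 1)} {A B : GL (Ix 1) F} (hA : A ∈ u1 hg) (hB : B ∈ u1 hg) (hAA : A * A = 1)
    (hBB : B * B = 1) (hdim : Module.finrank F (negSp (tp i A B)) = 6) :
    ∃ (u w : V1) (hu : B1 u u ≠ 0) (hw : B1 w w ≠ 0), tp i A B = tp i (rv hg u hu) (rv hg w hw) := by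
  have h2 := hM.two
  have h := mk_dim (j := i) h2 hAA hBB
  rw [hdim] at h
  have ha := invol_finrank h2 hAA
  have hb := invol_finrank h2 hBB
  rw [Fintype.card_fin] at ha hb
  have hna := neg_neg_dim h2 hAA
  have hnb := neg_neg_dim h2 hBB
  generalize hqa : Module.finrank F (negSp A) = qa at h ha hna
  generalize hqb : Module.finrank F (negSp B) = qb at h hb hnb
  have hqa' : qa ≤ 4 := by omega
  have hqb' : qb ≤ 4 := by omega
  rcases (show (qa = 1 ∧ qb = 1) ∨ (qa = 3 ∧ qb = 3) by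
    interval_cases qa <;> interval_cases qb <;> simp_all) with ⟨rfl, rfl⟩ | ⟨rfl, rfl⟩
  · obtain ⟨u, hu, eA⟩ := invol_eq_refl h2 hA hAA hqa
    obtain ⟨w, hw, eB⟩ := invol_eq_refl h2 hB hBB hqb
    exact ⟨u, w, hu, hw, by rw [eA, eB]; rfl⟩
  · obtain ⟨u, hu, eA⟩ := invol_eq_refl h2 (neg_mem_u1 hA) (by rw [neg_mul_neg]; exact hAA) (by omega)
    obtain ⟨w, hw, eB⟩ := invol_eq_refl h2 (neg_mem_u1 hB) (by rw [neg_mul_neg]; exact hBB) (by omega)
    refine ⟨u, w, hu, hw, ?_⟩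
    rw [show rv hg u hu = -A from eA.symm, show rv hg w hw = -B from eB.symm, mk_neg_left, mk_neg_right, neg_neg]

variable (hZ : HalfCent hg M)
include hZ

/-- elements of order `p` commuting with a half turn lie in the other factor -/
theorem Ctx.unip_other {p : ℕ} [Fact p.Prime] [CharP F p] (hp : Odd p) {x : G2} (hx : x ∈ M) (hxp : x ^ p = 1)
    {j : Fin (1 + 1)} {d f : V1} (hd : B1 d d ≠ 0) (hf : B1 f f ≠ 0) (hdf : B1 d f = 0)
    (hxc : x * sl j (zeta hg d f hd hf) = sl j (zeta hg d f hd hf) * x) :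
    ∃ B : GL (Ix 1) F, B ∈ u1 hg ∧ B ^ p = 1 ∧ x = sl (j + 1) B := by
  have h2 := hM.two
  obtain ⟨B, hB, hBp, rfl⟩ := tw_two_unipotent h2 hp (hZ x hx j d f hd hf hdf hxc) (hM.le_uT hx) hxp
  rw [pure_eq_mk j B] at hxc
  rw [← mk_left j (zeta hg d f hd hf), mk_mul, mk_mul, mul_one, one_mul] at hxc
  have h1 : B j * zeta hg d f hd hf = zeta hg d f hd hf * B j := by
    have h3 := hxc
    rw [tp, tp] at h3
    exact sl_inj (by omega) (mul_right_cancel h3)
  refine ⟨B (j + 1), hB _, hBp _, ?_⟩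
  rw [pure_eq_mk j B, unip_comm_zeta h2 hmin (hB j) (hBp j) hd hf hdf h1, mk_right]

/-- a root commuting with a conjugate of a half turn -/
theorem Ctx.root_witness (hN : NormTw hg 1) {x : G2} (hx : x ∈ M) {j : Fin (1 + 1)} {d f : V1} (hd : B1 d d ≠ 0)
    (hf : B1 f f ≠ 0) (hdf : B1 d f = 0) {l : Fin (1 + 1)} {a m : V1} (ha : a ≠ 0) (haa : B1 a a = 0)
    (ham : B1 a m = 0) (hmm : B1 m m ≠ 0)
    (hc : sl l (ei hg a m) * (x * sl j (zeta hg d f hd hf) * x⁻¹) =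
      x * sl j (zeta hg d f hd hf) * x⁻¹ * sl l (ei hg a m)) :
    x ∈ tensorWreathStandard (1 + 3) (1 + 1) F := by
  have h2 := hM.two
  obtain ⟨p, hp, hcp, hodd, -⟩ := exists_char (F := F) h2
  haveI := hcp
  haveI : Fact p.Prime := ⟨hp⟩
  set u := x⁻¹ * sl l (ei hg a m) * x with hu
  have huM : u ∈ M := M.mul_mem (M.mul_mem (M.inv_mem hx) (hM.ei_sl l haa ham)) hx
  have hup : u ^ p = 1 := by
    rw [hu, show x⁻¹ * sl l (ei hg a m) * x = x⁻¹ * sl l (ei hg a m) * x⁻¹⁻¹ by rw [inv_inv], conj_pow, ← sl_pow,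
      ei_pow_char h2 haa ham, sl_one]
    group
  obtain ⟨B, -, -, hB⟩ := hM.unip_other hmin hZ hodd huM hup (j := j) hd hf hdf (by
    calc u * sl j (zeta hg d f hd hf) =
        x⁻¹ * (sl l (ei hg a m) * (x * sl j (zeta hg d f hd hf) * x⁻¹)) * x := by rw [hu]; group
      _ = x⁻¹ * (x * sl j (zeta hg d f hd hf) * x⁻¹ * sl l (ei hg a m)) * x := by rw [hc]
      _ = _ := by rw [hu]; group)
  exact inv_inv x ▸ inv_mem (hM.root_to_slot hN hmin (M.inv_mem hx) (j := l) ha haa ham hmm (l := j + 1) (v := B)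
    (by rw [inv_inv]; exact hB))

/-- the image of a pair commuting with the conjugate of a half turn -/
theorem Ctx.pair_theta {x : G2} (hx : x ∈ M) {j : Fin (1 + 1)} {d f : V1} (hd : B1 d d ≠ 0) (hf : B1 f f ≠ 0)
    (hdf : B1 d f = 0) {P : G2} (hP : P ∈ M) (hPP : P * P = 1) (hdim : Module.finrank F (negSp P) = 6)
    (hc : P * (x * sl j (zeta hg d f hd hf) * x⁻¹) = x * sl j (zeta hg d f hd hf) * x⁻¹ * P)
    (hdimz : Module.finrank F (negSp (P * (x * sl j (zeta hg d f hd hf) * x⁻¹))) = 6) :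
    ∃ (u w : V1) (hu : B1 u u ≠ 0) (hw : B1 w w ≠ 0), (zeta hg d f hd hf : M1) *ᵥ u = -u ∧
      x⁻¹ * P * x = tp j (rv hg u hu) (rv hg w hw) := by
  have h2 := hM.two
  set v := x⁻¹ * P * x with hv
  have hvM : v ∈ M := M.mul_mem (M.mul_mem (M.inv_mem hx) hP) hx
  have hvc : v * sl j (zeta hg d f hd hf) = sl j (zeta hg d f hd hf) * v := by
    calc v * sl j (zeta hg d f hd hf) = x⁻¹ * (P * (x * sl j (zeta hg d f hd hf) * x⁻¹)) * x := by rw [hv]; group
      _ = x⁻¹ * (x * sl j (zeta hg d f hd hf) * x⁻¹ * P) * x := by rw [hc]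
      _ = _ := by rw [hv]; group
  have hvdim : Module.finrank F (negSp v) = 6 := by
    rw [hv]
    have := negSp_conj x⁻¹ P
    rwa [inv_inv, hdim] at this
  rcases tw2_invol h2 hmin j (hZ v hvM j d f hd hf hdf hvc) (hM.le_uT hvM)
      (by rw [hv, show x⁻¹ * P * x * (x⁻¹ * P * x) = x⁻¹ * (P * P) * x by group, hPP]; group)
      (Or.inl (by omega)) with ⟨-, σ, hσ, hσ1⟩ | ⟨A, B, hA, hB, hAA, hBB, he⟩
  · exfalso
    obtain ⟨C, hC⟩ := hσ
    have e : v * sl j (zeta hg d f hd hf) * v⁻¹ = sl (σ j) (C j * zeta hg d f hd hf * (C j)⁻¹) := Units.ext (by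
      rw [← cj_coe, sl_coe, sl_coe, hC, cj_wreath_slot, ← cj_coe])
    rw [hvc, mul_inv_cancel_right] at e
    have hσj : σ j ≠ j := fun h0 => hσ1 (by
      have h : ∀ (τ : Equiv.Perm (Fin (1 + 1))) (k : Fin (1 + 1)), τ k = k → τ = 1 := by decide
      exact h σ j h0)
    have e' : (slot j (zeta hg d f hd hf : M1) : Matrix (Fin (1 + 1) → Ix 1) (Fin (1 + 1) → Ix 1) F) =
        slot (σ j) (C j * zeta hg d f hd hf * (C j)⁻¹ : GL (Ix 1) F) := by rw [← sl_coe, e, sl_coe]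
    obtain ⟨c, hc'⟩ := scalar_of_slot_eq (by omega) hσj.symm e'
    exact zeta_not_scalar h2 hd hf hdf c hc'
  rw [he] at hvdim
  obtain ⟨u, w, hu, hw, e2⟩ := hM.pair_of_invol hmin hA hB hAA hBB hvdim
  refine ⟨u, w, hu, hw, ?_, he.trans e2⟩
  rw [he, e2, ← mk_left j (zeta hg d f hd hf), mk_mul, mk_mul, mul_one, one_mul] at hvc
  have hzu : zeta hg d f hd hf * rv hg u hu = rv hg u hu * zeta hg d f hd hf := by
    rw [tp, tp] at hvc
    exact (sl_inj (by omega) (mul_right_cancel hvc)).symm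
  obtain ⟨u', hu', -, ⟨-, -, h1⟩ | ⟨h1, -, -⟩⟩ := zeta_times_rv h2 hd hf hdf hu hzu
  swap
  · exact h1
  exfalso
  have h3 : x⁻¹ * (P * (x * sl j (zeta hg d f hd hf) * x⁻¹)) * x = tp j (-rv hg u' hu') (rv hg w hw) := by
    calc x⁻¹ * (P * (x * sl j (zeta hg d f hd hf) * x⁻¹)) * x = v * sl j (zeta hg d f hd hf) := by rw [hv]; group
      _ = tp j (rv hg u hu) (rv hg w hw) * tp j (zeta hg d f hd hf) 1 := by rw [he, e2, mk_left]
      _ = _ := by rw [mk_mul, mul_one, h1]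
  have h4 := negSp_conj x⁻¹ (P * (x * sl j (zeta hg d f hd hf) * x⁻¹))
  rw [inv_inv, h3, mk_neg_pair_dim h2, hdimz] at h4
  omega

/-- **Theorem.** A half turn of one factor is not conjugate to a double half turn. -/
theorem Ctx.single_not_double {x : G2} (hx : x ∈ M) {j : Fin (1 + 1)} {d f : V1} (hd : B1 d d ≠ 0) (hf : B1 f f ≠ 0)
    (hdf : B1 d f = 0) {i : Fin (1 + 1)} {p r p' r' : V1} (hp : B1 p p ≠ 0) (hr : B1 r r ≠ 0) (hp' : B1 p' p' ≠ 0)
    (hr' : B1 r' r' ≠ 0) (hpr : B1 p r = 0) (hpr' : B1 p' r' = 0) :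
    x * sl j (zeta hg d f hd hf) * x⁻¹ ≠ tp i (zeta hg p r hp hr) (zeta hg p' r' hp' hr') := by
  classical
  have h2 := hM.two
  suffices key : ∀ {d f p r a b p' r' a' b' : V1} (hd : B1 d d ≠ 0) (hf : B1 f f ≠ 0), B1 d f = 0 →
      ∀ (hp : B1 p p ≠ 0) (hr : B1 r r ≠ 0) (ha : B1 a a ≠ 0) (hb : B1 b b ≠ 0) (hp' : B1 p' p' ≠ 0)
        (hr' : B1 r' r' ≠ 0) (ha' : B1 a' a' ≠ 0) (hb' : B1 b' b' ≠ 0),
      B1 p r = 0 → B1 p a = 0 → B1 p b = 0 → B1 r a = 0 → B1 r b = 0 → B1 a b = 0 →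
      B1 p' r' = 0 → B1 p' a' = 0 → B1 p' b' = 0 → B1 r' a' = 0 → B1 r' b' = 0 → B1 a' b' = 0 →
      ¬ IsSquare (-(B1 a a * B1 b b)) → ¬ IsSquare (-(B1 a' a' * B1 b' b')) →
      x * sl j (zeta hg d f hd hf) * x⁻¹ ≠ tp i (zeta hg p r hp hr) (zeta hg p' r' hp' hr') by
    intro he
    obtain ⟨a, b, ha, hb, hpa, hpb, hra, hrb, hab⟩ := exists_completion h2 hg hp hr hpr
    obtain ⟨a', b', ha', hb', hpa', hpb', hra', hrb', hab'⟩ := exists_completion h2 hg hp' hr' hpr'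
    obtain ⟨c, e, hc, hee, hdc, hde, hfc, hfe, hce⟩ := exists_completion h2 hg hd hf hdf
    have hn := zeta_neg_eq (hg := hg) h2 hp hr ha hb hpr hpa hpb hra hrb hab
    have hn' := zeta_neg_eq (hg := hg) h2 hp' hr' ha' hb' hpr' hpa' hpb' hra' hrb' hab'
    have hflip : x * sl j (zeta hg c e hc hee) * x⁻¹ = -(tp i (zeta hg p r hp hr) (zeta hg p' r' hp' hr')) := by
      rw [← he, zeta_neg_eq h2 hd hf hc hee hdf hdc hde hfc hfe hce, ← mk_left, mk_neg_left, mk_left, mul_neg,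
        neg_mul]
    have hc' : ∀ {u v : V1}, B1 u v = 0 → B1 v u = 0 := fun h => by rw [bf_comm hg.wg]; exact h
    rcases hyp_plane hg h2 hmin hp hr ha hb hpr hpa hpb hra hrb hab with ⟨-, h⟩ | ⟨h, -⟩ <;>
      rcases hyp_plane hg h2 hmin hp' hr' ha' hb' hpr' hpa' hpb' hra' hrb' hab' with ⟨-, h'⟩ | ⟨h', -⟩
    · exact key hd hf hdf hp hr ha hb hp' hr' ha' hb' hpr hpa hpb hra hrb hab hpr' hpa' hpb' hra' hrb' hab' h h' he
    · exact key hc hee hce hp hr ha hb ha' hb' hp' hr' hpr hpa hpb hra hrb hab hab' (hc' hpa') (hc' hra') (hc' hpb')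
        (hc' hrb') hpr' h h' (by rw [hflip, hn', mk_neg_right])
    · exact key hc hee hce ha hb hp hr hp' hr' ha' hb' hab (hc' hpa) (hc' hra) (hc' hpb) (hc' hrb) hpr hpr' hpa' hpb'
        hra' hrb' hab' h h' (by rw [hflip, hn, mk_neg_left])
    · exact key hd hf hdf ha hb hp hr ha' hb' hp' hr' hab (hc' hpa) (hc' hra) (hc' hpb) (hc' hrb) hpr hab' (hc' hpa')
        (hc' hra') (hc' hpb') (hc' hrb') hpr' h h' (by rw [he, hn, hn', mk_neg_left, mk_neg_right, neg_neg])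
  clear! d f p r p' r'
  intro d f p r a b p' r' a' b' hd hf hdf hp hr ha hb hp' hr' ha' hb' hpr hpa hpb hra hrb hab hpr' hpa' hpb' hra'
    hrb' hab' hAn hAn' he
  set ζ0 := zeta hg d f hd hf with hζ0
  set ζ := zeta hg p r hp hr with hζ
  set ζ' := zeta hg p' r' hp' hr' with hζ'
  set z := x * sl j ζ0 * x⁻¹ with hz
  have hxz : x⁻¹ * z * x = sl j ζ0 := by rw [hz]; group
  -- a pair commuting with the double half turn
  have hcomm : ∀ {c e : V1} {k : F} (hc : B1 c c ≠ 0) (he : B1 e e ≠ 0), k * k = 1 →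
      (ζ : M1) *ᵥ c = k • c → (ζ' : M1) *ᵥ e = k • e →
      tp i (rv hg c hc) (rv hg e he) * z = z * tp i (rv hg c hc) (rv hg e he) ∧
        Module.finrank F (negSp (tp i (rv hg c hc) (rv hg e he) * z)) = 6 := by
    intro c e k hc he' hk h1 h3
    have hk0 : k ≠ 0 := fun e0 => by rw [e0, mul_zero] at hk; exact zero_ne_one hk
    have hkc : B1 (k • c) (k • c) ≠ 0 := by rw [bf_smul_left, bf_smul_right, ← mul_assoc, hk, one_mul]; exact hc
    have hke : B1 (k • e) (k • e) ≠ 0 := by rw [bf_smul_left, bf_smul_right, ← mul_assoc, hk, one_mul]; exact he'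
    have e1 : ζ * rv hg c hc = rv hg c hc * ζ := mul_inv_eq_iff_eq_mul.1 (by
      rw [rv_conj hc hkc (zeta_mem hp hr) h1, rv_smul hc hkc])
    have e3 : ζ' * rv hg e he' = rv hg e he' * ζ' := mul_inv_eq_iff_eq_mul.1 (by
      rw [rv_conj he' hke (zeta_mem hp' hr') h3, rv_smul he' hke])
    refine ⟨by rw [he, mk_mul, mk_mul, e1, e3], ?_⟩
    rw [he, mk_mul]
    obtain ⟨c', hc', -, ⟨u1, -, u2⟩ | ⟨u1, -, u2⟩⟩ := zeta_times_rv h2 hp hr hpr hc e1 <;>
      obtain ⟨e', he'', -, ⟨v1, -, v2⟩ | ⟨v1, -, v2⟩⟩ := zeta_times_rv h2 hp' hr' hpr' he' e3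
    · rw [u2, v2, mk_neg_left, mk_neg_right, neg_neg, mk_pair_dim h2]
    · exfalso
      rw [h1] at u1; rw [h3] at v1
      have hc0 : c ≠ 0 := fun e0 => hc (by rw [e0]; exact Orth.sym_zero_left (bf_symmetric hg.wg) _)
      have hk1 : k = 1 := smul_left_injective F hc0 (show k • c = (1 : F) • c by rw [one_smul]; exact u1)
      rw [hk1, one_smul] at v1
      exact he' (by
        rw [(smul_eq_zero.1 (show (2 : F) • e = 0 by linear_combination (norm := module) v1)).resolve_left h2]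
        exact Orth.sym_zero_left (bf_symmetric hg.wg) _)
    · exfalso
      rw [h1] at u1; rw [h3] at v1
      have he0 : e ≠ 0 := fun e0 => he' (by rw [e0]; exact Orth.sym_zero_left (bf_symmetric hg.wg) _)
      have hk1 : k = 1 := smul_left_injective F he0 (show k • e = (1 : F) • e by rw [one_smul]; exact v1)
      rw [hk1, one_smul] at u1
      exact hc (by
        rw [(smul_eq_zero.1 (show (2 : F) • c = 0 by linear_combination (norm := module) u1)).resolve_left h2]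
        exact Orth.sym_zero_left (bf_symmetric hg.wg) _)
    · rw [u2, v2, mk_pair_dim h2]
  have hth : ∀ {c e : V1} {k : F} (hc : B1 c c ≠ 0) (he : B1 e e ≠ 0), k * k = 1 →
      (ζ : M1) *ᵥ c = k • c → (ζ' : M1) *ᵥ e = k • e →
      ∃ (u w : V1) (hu : B1 u u ≠ 0) (hw : B1 w w ≠ 0), (ζ0 : M1) *ᵥ u = -u ∧
        x⁻¹ * tp i (rv hg c hc) (rv hg e he) * x = tp j (rv hg u hu) (rv hg w hw) := by
    intro c e k hc he' hk h1 h3
    obtain ⟨e1, e3⟩ := hcomm hc he' hk h1 h3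
    exact hM.pair_theta hmin hZ hx hd hf hdf (hM.pp_mem ⟨2, rfl⟩ (oth_ne i).symm hc he')
      (by rw [mk_mul, rv_sq, rv_sq, mk_one]) (mk_pair_dim h2 i hc he') e1 e3
  obtain ⟨u1, w1, hu1, hw1, hzu1, t1⟩ := hth hp hp' (one_mul 1) (by rw [one_smul]; exact zeta_fix_left hp hr hpr)
    (by rw [one_smul]; exact zeta_fix_left hp' hr' hpr')
  obtain ⟨u3, w3, hu3, hw3, hzu3, t3⟩ := hth hp hr' (one_mul 1) (by rw [one_smul]; exact zeta_fix_left hp hr hpr)
    (by rw [one_smul]; exact zeta_fix_right hp' hr' hpr')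
  have hcomb : ∀ {P Q : G2}, P * Q = Q * P → x⁻¹ * P * x * (x⁻¹ * Q * x) = x⁻¹ * Q * x * (x⁻¹ * P * x) := by
    intro P Q h
    rw [show x⁻¹ * P * x * (x⁻¹ * Q * x) = x⁻¹ * (P * Q) * x by group, h]
    group
  have hrr : rv hg p' hp' * rv hg r' hr' = rv hg r' hr' * rv hg p' hp' :=
    (mul_inv_eq_iff_eq_mul.1 (rv_conj hr' hr' (rv_mem hp') (rv_perp hp' (by rw [bf_comm hg.wg]; exact hpr'))))
  have hb13 := hcomb (P := tp i (rv hg p hp) (rv hg p' hp')) (Q := tp i (rv hg p hp) (rv hg r' hr'))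
    (by rw [mk_mul, mk_mul, hrr])
  rw [t1, t3] at hb13
  obtain ⟨hcu, hcw⟩ := mk_comm_pair h2 (rv_mem hu1) (rv_mem hw1) hu3 hw3 hb13
  have hne13 : rv hg w1 hw1 ≠ rv hg w3 hw3 := by
    intro e0
    have hprod : x⁻¹ * (tp i (rv hg p hp) (rv hg p' hp') * tp i (rv hg p hp) (rv hg r' hr')) * x =
        sl j (rv hg u1 hu1 * rv hg u3 hu3) := by
      rw [show ∀ P Q : G2, x⁻¹ * (P * Q) * x = x⁻¹ * P * x * (x⁻¹ * Q * x) from fun P Q => by group, t1, t3, mk_mul,
        e0, rv_sq, mk_left]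
    rw [mk_mul, rv_sq] at hprod
    have hnz : zeta hg p' r' hp' hr' ≠ 1 := fun e1 => zeta_not_scalar h2 hp' hr' hpr' 1 (by
      rw [e1, one_smul, Units.val_one])
    have hrn : rv hg p' hp' * rv hg r' hr' = -ζ' := by rw [hζ', zeta, neg_neg]
    by_cases hueq : rv hg u1 hu1 = rv hg u3 hu3
    · rw [hueq, rv_sq, sl_one] at hprod
      have h5 : tp i (1 : GL (Ix 1) F) (rv hg p' hp' * rv hg r' hr') = 1 := by
        calc _ = x * (x⁻¹ * tp i (1 : GL (Ix 1) F) (rv hg p' hp' * rv hg r' hr') * x) * x⁻¹ := by group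
          _ = 1 := by rw [hprod]; group
      rw [mk_right, hrn] at h5
      have h7 : -ζ' = 1 := sl_inj (k := i + 1) (by omega) (by rw [h5, sl_one])
      exact zeta_not_scalar h2 hp' hr' hpr' (-1) (by
        rw [← hζ', neg_eq_iff_eq_neg.1 h7, Units.val_neg, Units.val_one, neg_one_smul])
    · have horth := rv_orth h2 hu1 hu3 hcu hueq
      rw [← neg_plane_eq h2 hd hf hdf hu1 hu3 horth hzu1 hzu3, ← hxz, he] at hprod
      have h5 := mul_left_cancel (mul_right_cancel hprod)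
      rcases mk_prop (hg := hg) h2 (zeta_mem hp hr) (one_mem _) h5 with ⟨h7, -⟩ | ⟨h7, -⟩
      · exact zeta_not_scalar h2 hp hr hpr 1 (by rw [← h7, one_smul, Units.val_one])
      · exact zeta_not_scalar h2 hp hr hpr (-1) (by
          rw [← neg_eq_iff_eq_neg.2 h7, Units.val_neg, Units.val_one, neg_one_smul])
  have hw13 : B1 w1 w3 = 0 := rv_orth h2 hw1 hw3 hcw hne13
  obtain ⟨g1, g3, hg1, hg3, hw1g1, hw1g3, hw3g1, hw3g3, hg13⟩ := exists_completion h2 hg hw1 hw3 hw13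
  -- lines of the anisotropic planes
  let L : V1 → V1 → Option F → V1 := fun u v o => o.elim v fun t => u + t • v
  have hL : ∀ {u v : V1}, B1 v v ≠ 0 → B1 u v = 0 → ¬ IsSquare (-(B1 u u * B1 v v)) →
      ∀ o, B1 (L u v o) (L u v o) ≠ 0 := by
    intro u v hv huv hn o
    cases o with
    | none => exact hv
    | some t =>
      intro e0
      refine hn ⟨t * B1 v v, ?_⟩
      simp only [L, Option.elim, bf_add_left, bf_add_right, bf_smul_left, bf_smul_right, huv,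
        bf_comm hg.wg v u] at e0
      linear_combination -(B1 v v) * e0
  have hLneg : ∀ (o : Option F), (ζ : M1) *ᵥ L a b o = (-1 : F) • L a b o := by
    have h1 : (ζ : M1) *ᵥ a = -a := by
      rw [hζ, zeta_mulVec hp hr hpr, bf_comm hg.wg a p, hpa, bf_comm hg.wg a r, hra]; simp
    have h3 : (ζ : M1) *ᵥ b = -b := by
      rw [hζ, zeta_mulVec hp hr hpr, bf_comm hg.wg b p, hpb, bf_comm hg.wg b r, hrb]; simp
    rintro (_ | t) <;> simp only [L, Option.elim, mulVec_add, mulVec_smul, h1, h3] <;> module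
  have hLneg' : ∀ (o : Option F), (ζ' : M1) *ᵥ L a' b' o = (-1 : F) • L a' b' o := by
    have h1 : (ζ' : M1) *ᵥ a' = -a' := by
      rw [hζ', zeta_mulVec hp' hr' hpr', bf_comm hg.wg a' p', hpa', bf_comm hg.wg a' r', hra']; simp
    have h3 : (ζ' : M1) *ᵥ b' = -b' := by
      rw [hζ', zeta_mulVec hp' hr' hpr', bf_comm hg.wg b' p', hpb', bf_comm hg.wg b' r', hrb']; simp
    rintro (_ | t) <;> simp only [L, Option.elim, mulVec_add, mulVec_smul, h1, h3] <;> module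
  have hLinj : ∀ {u v : V1}, B1 u u ≠ 0 → B1 v v ≠ 0 → B1 u v = 0 → ∀ o o' (k : F), L u v o' = k • L u v o → o = o' := by
    intro u v hu hv huv o o' k e0
    have e1 := congrArg (fun w => B1 w u) e0
    have e2 := congrArg (fun w => B1 w v) e0
    cases o <;> cases o' <;>
      simp only [L, Option.elim, bf_add_left, bf_smul_left, huv, bf_comm hg.wg v u, mul_zero, add_zero, zero_add] at e1 e2
    · rfl
    · exact absurd e1 hu
    · exfalso
      have hk : k = 0 := (mul_eq_zero.1 e1.symm).resolve_right hu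
      rw [hk, zero_mul] at e2
      exact hv e2
    · have hk : k = 1 := mul_right_cancel₀ hu (by rw [one_mul]; exact e1.symm)
      rw [hk, one_mul] at e2
      exact congrArg some (mul_right_cancel₀ hv e2).symm
  have hLa := hL hb hab hAn
  have hLa' := hL hb' hab' hAn'
  -- the possible images
  let S1 : Finset (GL (Ix 1) F) := {rv hg u1 hu1, rv hg u1 hu1 * ζ0}
  let R : Option F → GL (Ix 1) F := fun o => if h : B1 (L g1 g3 o) (L g1 g3 o) ≠ 0 then rv hg (L g1 g3 o) h else 1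
  let S3 : Finset (GL (Ix 1) F) := {rv hg w1 hw1, rv hg w3 hw3} ∪ Finset.univ.image R
  let T : Finset G2 := (S1 ×ˢ S3).image fun q => tp j q.1 q.2
  let Φ : Option F × Option F → G2 := fun q =>
    x⁻¹ * tp i (rv hg (L a b q.1) (hLa q.1)) (rv hg (L a' b' q.2) (hLa' q.2)) * x
  have hΦinj : Function.Injective Φ := by
    rintro ⟨o, o'⟩ ⟨q, q'⟩ e0
    have e1 := mul_left_cancel (mul_right_cancel e0)
    rcases mk_prop (hg := hg) h2 (rv_mem _) (rv_mem _) e1 with ⟨h1, h3⟩ | ⟨h1, -⟩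
    · obtain ⟨k, hk⟩ := rv_inj h2 _ _ h1
      obtain ⟨k', hk'⟩ := rv_inj h2 _ _ h3
      exact Prod.ext (hLinj ha hb hab _ _ k hk) (hLinj ha' hb' hab' _ _ k' hk')
    · exact (rv_conj_ne (hg := hg) h2 (hLa o) (hLa q) (A := 1) (by rw [one_mul, inv_one, mul_one]; exact h1)).elim
  have hΦT : ∀ q, Φ q ∈ T := by
    rintro ⟨o, o'⟩
    obtain ⟨u, w, hu, hw, hzu, tq⟩ := hth (hLa o) (hLa' o') (show (-1 : F) * -1 = 1 by ring) (hLneg o) (hLneg' o')
    have hco : ∀ (c : V1) (hc : B1 c c ≠ 0) (e : V1) (he : B1 e e ≠ 0), (B1 c a = 0 ∧ B1 c b = 0) →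
        (B1 e a' = 0 ∧ B1 e b' = 0) →
        tp i (rv hg (L a b o) (hLa o)) (rv hg (L a' b' o') (hLa' o')) * tp i (rv hg c hc) (rv hg e he) =
          tp i (rv hg c hc) (rv hg e he) * tp i (rv hg (L a b o) (hLa o)) (rv hg (L a' b' o') (hLa' o')) := by
      intro c hc e he ⟨c1, c3⟩ ⟨d1, d3⟩
      have e1 : B1 c (L a b o) = 0 := by
        cases o <;> simp [L, bf_add_right, bf_smul_right, c1, c3]
      have e3 : B1 e (L a' b' o') = 0 := by
        cases o' <;> simp [L, bf_add_right, bf_smul_right, d1, d3]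
      rw [mk_mul, mk_mul, mul_inv_eq_iff_eq_mul.1 (rv_conj hc hc (rv_mem (hLa o)) (rv_perp (hLa o) e1)),
        mul_inv_eq_iff_eq_mul.1 (rv_conj he he (rv_mem (hLa' o')) (rv_perp (hLa' o') e3))]
    have c1 := hcomb (hco p hp p' hp' ⟨hpa, hpb⟩ ⟨hpa', hpb'⟩)
    have c3 := hcomb (hco p hp r' hr' ⟨hpa, hpb⟩ ⟨hra', hrb'⟩)
    rw [tq, t1] at c1
    rw [tq, t3] at c3
    obtain ⟨cu, cw⟩ := mk_comm_pair h2 (rv_mem hu) (rv_mem hw) hu1 hw1 c1
    obtain ⟨-, cw3⟩ := mk_comm_pair h2 (rv_mem hu) (rv_mem hw) hu3 hw3 c3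
    refine Finset.mem_image.2 ⟨(rv hg u hu, rv hg w hw), Finset.mem_product.2 ⟨?_, ?_⟩, tq.symm⟩
    · by_cases e0 : rv hg u hu = rv hg u1 hu1
      · exact Finset.mem_insert.2 (Or.inl e0)
      · refine Finset.mem_insert_of_mem (Finset.mem_singleton.2 ?_)
        rw [hζ0, neg_plane_eq h2 hd hf hdf hu1 hu (by rw [bf_comm hg.wg]; exact rv_orth h2 hu hu1 cu e0) hzu1 hzu,
          ← mul_assoc, rv_sq, one_mul]
    · by_cases e1 : rv hg w hw = rv hg w1 hw1
      · exact Finset.mem_union_left _ (Finset.mem_insert.2 (Or.inl e1))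
      by_cases e3 : rv hg w hw = rv hg w3 hw3
      · exact Finset.mem_union_left _ (Finset.mem_insert_of_mem (Finset.mem_singleton.2 e3))
      refine Finset.mem_union_right _ (Finset.mem_image.2 ?_)
      have o1 := rv_orth h2 hw hw1 cw e1
      have o3 := rv_orth h2 hw hw3 cw3 e3
      have hexp := basis_expand h2 hg hw1 hw3 hg1 hg3 hw13 hw1g1 hw1g3 hw3g1 hw3g3 hg13 w
      rw [bf_comm hg.wg w1 w, bf_comm hg.wg w3 w, o1, o3, zero_div, zero_div, zero_smul, zero_smul, zero_add,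
        zero_add] at hexp
      generalize B1 g1 w / B1 g1 g1 = α at hexp
      generalize B1 g3 w / B1 g3 g3 = β at hexp
      obtain ⟨o2, k, hk⟩ : ∃ (o2 : Option F) (k : F), w = k • L g1 g3 o2 := by
        by_cases hα : α = 0
        · exact ⟨none, β, by rw [hexp, hα, zero_smul, zero_add]; rfl⟩
        · refine ⟨some (β / α), α, ?_⟩
          simp only [L, Option.elim]
          rw [hexp, smul_add, smul_smul, mul_div_cancel₀ _ hα]
      have hL2 : B1 (L g1 g3 o2) (L g1 g3 o2) ≠ 0 := fun e0 => hw (by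
        rw [hk, bf_smul_left, bf_smul_right, e0, mul_zero, mul_zero])
      refine ⟨o2, Finset.mem_univ _, ?_⟩
      simp only [R, dif_pos hL2]
      subst hk
      exact (rv_smul hL2 hw).symm
  have hcard := Finset.card_le_card_of_injOn (s := (Finset.univ : Finset (Option F × Option F))) (t := T) Φ
    (fun q _ => hΦT q) hΦinj.injOn
  rw [Finset.card_univ, Fintype.card_prod, Fintype.card_option] at hcard
  have hT : T.card ≤ 2 * (2 + (Fintype.card F + 1)) := by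
    refine Finset.card_image_le.trans ?_
    rw [Finset.card_product]
    refine Nat.mul_le_mul Finset.card_le_two ((Finset.card_union_le _ _).trans (Nat.add_le_add Finset.card_le_two
      (Finset.card_image_le.trans ?_)))
    rw [Finset.card_univ, Fintype.card_option]
  have hq : 3 ≤ Fintype.card F := by
    rw [← Finset.card_univ]
    refine le_trans ?_ (Finset.card_le_univ ({0, 1, -1} : Finset F))
    have h1 : (0 : F) ≠ 1 := zero_ne_one
    have h3 : (0 : F) ≠ -1 := (neg_ne_zero.2 one_ne_zero).symm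
    have h5 : (1 : F) ≠ -1 := fun e => h2 (by linear_combination e)
    rw [Finset.card_insert_of_notMem (by simp [h1, h3]), Finset.card_insert_of_notMem (by simp [h5]),
      Finset.card_singleton]
  nlinarith

/-- **Theorem.** An element conjugating a half turn of one factor into the wreath subgroup, commuting with a pair,
lies in it. -/
theorem Ctx.zeta_fusion (hN : NormTw hg 1) {x : G2} (hx : x ∈ M) {j : Fin (1 + 1)} {d f : V1} (hd : B1 d d ≠ 0)
    (hf : B1 f f ≠ 0) (hdf : B1 d f = 0) {u w : V1} {hu : B1 u u ≠ 0} {hw : B1 w w ≠ 0}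
    (hW : x * sl j (zeta hg d f hd hf) * x⁻¹ ∈ tensorWreathStandard (1 + 3) (1 + 1) F)
    (hc : x * sl j (zeta hg d f hd hf) * x⁻¹ * tp 0 (rv hg u hu) (rv hg w hw) =
      tp 0 (rv hg u hu) (rv hg w hw) * (x * sl j (zeta hg d f hd hf) * x⁻¹)) :
    x ∈ tensorWreathStandard (1 + 3) (1 + 1) F := by
  classical
  have h2 := hM.two
  have hzM := M.mul_mem (M.mul_mem hx (hM.zeta_sl j hd hf hdf)) (M.inv_mem hx)
  rcases tw2_invol h2 hmin 0 hW (hM.le_uT hzM) (by
      rw [show x * sl j (zeta hg d f hd hf) * x⁻¹ * (x * sl j (zeta hg d f hd hf) * x⁻¹) =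
        x * (sl j (zeta hg d f hd hf) * sl j (zeta hg d f hd hf)) * x⁻¹ by group, sl_mul, zeta_sq h2 hd hf hdf, sl_one]
      group) (Or.inr ⟨u, w, hu, hw, hc⟩) with ⟨h8, -⟩ | ⟨A, B, hA, hB, hAA, hBB, he⟩
  · exact absurd (by rw [negSp_conj, sl_neg_dim h2 (r := 1) j (zeta_sq h2 hd hf hdf), zeta_fixSp h2 hd hf hdf]; norm_num) h8
  have hroot : ∀ {C : GL (Ix 1) F}, (C = 1 ∨ C = -1 ∨ ∃ (c : V1) (hc : B1 c c ≠ 0), C = rv hg c hc ∨ C = -rv hg c hc) →
      ∃ a m, a ≠ 0 ∧ B1 a a = 0 ∧ B1 a m = 0 ∧ B1 m m ≠ 0 ∧ ei hg a m * C = C * ei hg a m := by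
    rintro C (rfl | rfl | ⟨c, hc0, hC⟩)
    · obtain ⟨a, m, ha, haa, ham, hmm, -, -⟩ := exists_root_perp h2 hu hg
      exact ⟨a, m, ha, haa, ham, hmm, by rw [mul_one, one_mul]⟩
    · obtain ⟨a, m, ha, haa, ham, hmm, -, -⟩ := exists_root_perp h2 hu hg
      exact ⟨a, m, ha, haa, ham, hmm, by rw [mul_neg, neg_mul, mul_one, one_mul]⟩
    · obtain ⟨a, m, ha, haa, ham, hmm, hca, hcm⟩ := exists_root_perp h2 hc0 hg
      have e1 : ei hg a m * rv hg c hc0 = rv hg c hc0 * ei hg a m := mul_inv_eq_iff_eq_mul.1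
        (rv_conj hc0 hc0 (ei_mem h2 haa ham) (ei_fix h2 haa ham hca hcm))
      refine ⟨a, m, ha, haa, ham, hmm, ?_⟩
      rcases hC with rfl | rfl
      · exact e1
      · rw [mul_neg, neg_mul, e1]
  have hA' : (A = 1 ∨ A = -1 ∨ ∃ (c : V1) (hc : B1 c c ≠ 0), A = rv hg c hc ∨ A = -rv hg c hc) ∨
      ∃ (p r : V1) (hp : B1 p p ≠ 0) (hr : B1 r r ≠ 0), B1 p r = 0 ∧ A = zeta hg p r hp hr := by
    rcases invol_class h2 hA hAA with h | h | h | h
    exacts [Or.inl (Or.inl h), Or.inl (Or.inr (Or.inl h)), Or.inl (Or.inr (Or.inr h)), Or.inr h]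
  have hB' : (B = 1 ∨ B = -1 ∨ ∃ (c : V1) (hc : B1 c c ≠ 0), B = rv hg c hc ∨ B = -rv hg c hc) ∨
      ∃ (p r : V1) (hp : B1 p p ≠ 0) (hr : B1 r r ≠ 0), B1 p r = 0 ∧ B = zeta hg p r hp hr := by
    rcases invol_class h2 hB hBB with h | h | h | h
    exacts [Or.inl (Or.inl h), Or.inl (Or.inr (Or.inl h)), Or.inl (Or.inr (Or.inr h)), Or.inr h]
  rcases hA' with h | ⟨p, r, hp, hr, hpr, hAe⟩
  · obtain ⟨a, m, ha, haa, ham, hmm, e⟩ := hroot h
    refine hM.root_witness hmin hZ hN hx (j := j) hd hf hdf (l := (0 : Fin (1 + 1))) ha haa ham hmm ?_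
    rw [he, ← mk_left, mk_mul, mk_mul, one_mul, mul_one, e]
  rcases hB' with h | ⟨p', r', hp', hr', hpr', hBe⟩
  · obtain ⟨a, m, ha, haa, ham, hmm, e⟩ := hroot h
    refine hM.root_witness hmin hZ hN hx (j := j) hd hf hdf (l := (0 : Fin (1 + 1)) + 1) ha haa ham hmm ?_
    rw [he, ← mk_right, mk_mul, mk_mul, one_mul, mul_one, e]
  exact absurd (by rw [he, hAe, hBe]) (hM.single_not_double hmin hZ hx hd hf hdf (i := 0) hp hr hp' hr' hpr hpr')

end CfsgLib.Perm.Trans.TensorPowerO
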