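import Mathlib
import Cfsg.Agent.Lib.Perm.Trans.TensorPowerO.K4Fusion

/-!
# Two four-dimensional factors of minus type: pairs of reflections
-/

set_option autoImplicit false
set_option linter.all false

namespace CfsgLib.Perm.Trans.TensorPowerO

open scoped Matrix
open Matrix Cfsg.Geo CfsgLib.Perm.Asch CfsgLib.Perm.Trans CfsgLib.Perm.Trans.TensorPower
open CfsgLib.Perm.Trans.TensorSO CfsgLib.Perm.Trans.TensorOO

variable {F : Type*} [Field F] {g : Ix 1 → F} {hg : Dg g}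

local notation "M1" => Matrix (Ix 1) (Ix 1) F
local notation "V1" => Ix 1 → F
local notation "B1" => bf g (s1 1)
local notation "G2" => GL (Fin (1 + 1) → Ix 1) F

/-- reflections of orthogonal vectors commute -/
theorem rv_comm {u w : V1} (hu : B1 u u ≠ 0) (hw : B1 w w ≠ 0) (h : B1 u w = 0) :
    rv hg u hu * rv hg w hw = rv hg w hw * rv hg u hu :=
  mul_inv_eq_iff_eq_mul.1 (rv_conj hw hw (rv_mem hu) (rv_perp hu (by rw [bf_comm hg.wg]; exact h)))

theorem rr_sandwich {u w : V1} (hu : B1 u u ≠ 0) (hw : B1 w w ≠ 0) (h : B1 u w = 0) :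
    rv hg u hu * rv hg w hw * rv hg u hu = rv hg w hw := by
  rw [rv_comm hu hw h, mul_assoc, rv_sq, mul_one]

/-- products of two commuting half turns -/
theorem zeta_mul_class (h2 : (2 : F) ≠ 0) {d f d' f' : V1} (hd : B1 d d ≠ 0) (hf : B1 f f ≠ 0) (hd' : B1 d' d' ≠ 0)
    (hf' : B1 f' f' ≠ 0) (hdf : B1 d f = 0) (hdf' : B1 d' f' = 0)
    (hc : zeta hg d f hd hf * zeta hg d' f' hd' hf' = zeta hg d' f' hd' hf' * zeta hg d f hd hf) :
    zeta hg d f hd hf * zeta hg d' f' hd' hf' = 1 ∨ zeta hg d f hd hf * zeta hg d' f' hd' hf' = -1 ∨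
      ∃ (u w : V1) (hu : B1 u u ≠ 0) (hw : B1 w w ≠ 0), B1 u w = 0 ∧
        zeta hg d f hd hf * zeta hg d' f' hd' hf' = zeta hg u w hu hw := by
  have hz := zeta_sq (hg := hg) h2 hd hf hdf
  have hz' := zeta_sq (hg := hg) h2 hd' hf' hdf'
  have hn := zeta_fixSp (hg := hg) h2 hd hf hdf
  have hn' := zeta_fixSp (hg := hg) h2 hd' hf' hdf'
  have hu' : zeta hg d' f' hd' hf' ∈ u1 hg := zeta_mem hd' hf'
  generalize zeta hg d' f' hd' hf' = Z' at *
  have hCC : zeta hg d f hd hf * Z' * (zeta hg d f hd hf * Z') = 1 := by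
    calc _ = zeta hg d f hd hf * (Z' * zeta hg d f hd hf) * Z' := by group
      _ = zeta hg d f hd hf * zeta hg d f hd hf * (Z' * Z') := by rw [← hc]; group
      _ = 1 := by rw [hz, hz', mul_one]
  rcases invol_class h2 (mul_mem (zeta_mem hd hf) hu') hCC with h | h | ⟨w, hw, h⟩ | h
  · exact Or.inl h
  · exact Or.inr (Or.inl h)
  swap
  · obtain ⟨u, w, hu, hw, huw, e⟩ := h
    exact Or.inr (Or.inr ⟨u, w, hu, hw, huw, e⟩)
  exfalso
  have hcw : zeta hg d f hd hf * rv hg w hw = rv hg w hw * zeta hg d f hd hf := by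
    have h1 : zeta hg d f hd hf * (zeta hg d f hd hf * Z') = zeta hg d f hd hf * Z' * zeta hg d f hd hf := by
      conv_rhs => rw [mul_assoc, ← hc]
    rcases h with h | h <;> rw [h] at h1
    · exact h1
    · rwa [mul_neg, neg_mul, neg_inj] at h1
  obtain ⟨w', hw', -, hcase⟩ := zeta_times_rv h2 hd hf hdf hw hcw
  have hr : Z' = rv hg w' hw' ∨ Z' = -rv hg w' hw' := by
    have h3 : Z' = zeta hg d f hd hf * (zeta hg d f hd hf * Z') := by rw [← mul_assoc, hz, one_mul]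
    have h5 : zeta hg d f hd hf * rv hg w hw = rv hg w' hw' ∨ zeta hg d f hd hf * rv hg w hw = -rv hg w' hw' := by
      rw [hcw]; rcases hcase with ⟨-, -, e⟩ | ⟨-, -, e⟩
      exacts [Or.inr e, Or.inl e]
    rcases h with h | h <;> rcases h5 with h5 | h5 <;> rw [h] at h3
    · exact Or.inl (h3.trans h5)
    · exact Or.inr (h3.trans h5)
    · exact Or.inr (h3.trans (by rw [mul_neg, h5]))
    · exact Or.inl (h3.trans (by rw [mul_neg, h5, neg_neg]))
  have h7 := neg_neg_dim h2 (rv_sq (hg := hg) hw')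
  rw [rv_neg_dim h2] at h7
  rcases hr with e | e <;> rw [e] at hn'
  · rw [rv_neg_dim h2] at hn'; omega
  · omega

/-- conjugating a reflection by a similitude -/
theorem sim_rv_conj {A : GL (Ix 1) F} {μ : F} (hμ : μ ≠ 0)
    (hA : ∀ x y, B1 ((A : M1) *ᵥ x) ((A : M1) *ᵥ y) = μ * B1 x y) {d : V1} (hd : B1 d d ≠ 0) :
    ∃ h : B1 ((A : M1) *ᵥ d) ((A : M1) *ᵥ d) ≠ 0, A * rv hg d hd * A⁻¹ = rv hg ((A : M1) *ᵥ d) h := by
  have h : B1 ((A : M1) *ᵥ d) ((A : M1) *ᵥ d) ≠ 0 := by rw [hA]; exact mul_ne_zero hμ hd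
  refine ⟨h, Units.ext (Matrix.ext_iff_mulVec.2 fun z => ?_)⟩
  obtain ⟨y, rfl⟩ : ∃ y, z = (A : M1) *ᵥ y := ⟨((A⁻¹ : GL (Ix 1) F) : M1) *ᵥ z, (gl_mulVec_inv A z).symm⟩
  rw [gl_mul_mulVec, gl_mul_mulVec, gl_inv_mulVec, rv_mulVec, rv_mulVec, mulVec_sub, mulVec_smul, hA, hA]
  congr 2
  field_simp

theorem sim_conj_u1 {A : GL (Ix 1) F} {μ : F} (hμ : μ ≠ 0)
    (hA : ∀ x y, B1 ((A : M1) *ᵥ x) ((A : M1) *ᵥ y) = μ * B1 x y) {T : GL (Ix 1) F} (hT : T ∈ u1 hg) :
    A * T * A⁻¹ ∈ u1 hg := mem_of_bf fun x y => by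
  rw [gl_mul_mulVec, gl_mul_mulVec, gl_mul_mulVec, gl_mul_mulVec, hA, bf_of_mem hT]
  conv_rhs => rw [← gl_mulVec_inv A x, ← gl_mulVec_inv A y, hA]

theorem mk_dim_neg (h2 : (2 : F) ≠ 0) {z : G2} (hz : z * z = 1) :
    Module.finrank F (negSp (-z)) + Module.finrank F (negSp z) = 16 := by
  have h := invol_finrank h2 hz
  rw [Fintype.card_fun, Fintype.card_fin, Fintype.card_fin] at h
  rw [show negSp (-z) = fixSp z from by ext x; rw [mem_negSp, mem_fixSp, Units.val_neg, neg_mulVec, neg_inj]]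
  norm_num at h
  exact h

theorem mk_neg_pair_dim' [Fintype F] (h2 : (2 : F) ≠ 0) (j : Fin (1 + 1)) {d e : V1} (hd : B1 d d ≠ 0) (he : B1 e e ≠ 0) :
    Module.finrank F (negSp (tp j (rv hg d hd) (-rv hg e he))) = 10 := by
  rw [mk_neg_right, ← mk_neg_left, mk_neg_pair_dim h2]

theorem tp_neg_pair_dim [Fintype F] (h2 : (2 : F) ≠ 0) (j : Fin (1 + 1)) {d e : V1} (hd : B1 d d ≠ 0) (he : B1 e e ≠ 0) :
    Module.finrank F (negSp (-tp j (rv hg d hd) (rv hg e he))) = 10 := by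
  rw [← mk_neg_left, mk_neg_pair_dim h2]

theorem tp_sq (j : Fin (1 + 1)) {d e : V1} (hd : B1 d d ≠ 0) (he : B1 e e ≠ 0) :
    tp j (rv hg d hd) (rv hg e he) * tp j (rv hg d hd) (rv hg e he) = 1 := by rw [mk_mul, rv_sq, rv_sq, mk_one]

theorem conj_mul_comm {G : Type*} [Group G] {z c a : G} (h : z * c = c * z) : z * (a * c) * z⁻¹ = z * a * z⁻¹ * c := by
  calc z * (a * c) * z⁻¹ = z * a * (c * z⁻¹) := by group
    _ = z * a * (z⁻¹ * c) := by
      rw [show c * z⁻¹ = z⁻¹ * c by rw [eq_inv_mul_iff_mul_eq, ← mul_assoc, h, mul_inv_cancel_right]]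
    _ = _ := by group

theorem comm_of_inv_mul {G : Type*} [Group G] {y a b : G} (h1 : y * a = a * y) (h3 : y * b = b * y) :
    y * (a * b) = a * b * y := by rw [← mul_assoc, h1, mul_assoc, h3, mul_assoc]

variable [Fintype F] {M : Subgroup (GL (Fin (1 + 1) → Ix 1) F)} (hM : Ctx hg M) (hN : NormTw hg 1) (hmin : Minus g)
  (hZ : HalfCent hg M)
include hM hN hmin hZ

/-- **Theorem.** The centraliser of two commuting pairs with four axes. -/
theorem Ctx.two_pairs_cent {d f e u : V1} (hd : B1 d d ≠ 0) (hf : B1 f f ≠ 0) (he : B1 e e ≠ 0) (hu : B1 u u ≠ 0)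
    (hdf : B1 d f = 0) (heu : B1 e u = 0) {x : G2} (hx : x ∈ M)
    (hxc : x * tp 0 (rv hg d hd) (rv hg e he) = tp 0 (rv hg d hd) (rv hg e he) * x)
    (hxc' : x * tp 0 (rv hg f hf) (rv hg u hu) = tp 0 (rv hg f hf) (rv hg u hu) * x) :
    x ∈ tensorWreathStandard (1 + 3) (1 + 1) F := by
  classical
  have h2 := hM.two
  obtain ⟨h, h', hh, hh', hdh, hdh', hfh, hfh', hhh'⟩ := exists_completion h2 hg hd hf hdf
  set c := tp 0 (rv hg d hd) (rv hg e he) with hcdef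
  set c' := tp 0 (rv hg f hf) (rv hg u hu) with hc'def
  set a := sl (0 : Fin (1 + 1)) (zeta hg d f hd hf) with hadef
  set b := sl (0 : Fin (1 + 1)) (zeta hg d h hd hh) with hbdef
  -- the basic products
  have z1 : zeta hg d f hd hf * rv hg f hf = -rv hg d hd := by rw [zeta, neg_mul, mul_assoc, rv_sq, mul_one]
  have z2 : zeta hg d f hd hf * rv hg d hd = -rv hg f hf := by rw [zeta, neg_mul, rr_sandwich hd hf hdf]
  have z1' : rv hg f hf * zeta hg d f hd hf = -rv hg d hd := by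
    rw [zeta, mul_neg, ← mul_assoc, rr_sandwich hf hd (by rw [bf_comm hg.wg]; exact hdf)]
  have z2' : rv hg d hd * zeta hg d f hd hf = -rv hg f hf := by rw [zeta, mul_neg, ← mul_assoc, rv_sq, one_mul]
  have z3 : zeta hg d h hd hh * rv hg f hf = rv hg h' hh' := by
    rw [zeta_eq_rr h2 hd hh hf hh' hdh hdf hdh' (by rw [bf_comm hg.wg]; exact hfh) hhh' hfh', rr_sandwich hf hh' hfh']
  have z3' : rv hg f hf * zeta hg d h hd hh = rv hg h' hh' := by
    rw [zeta_eq_rr h2 hd hh hf hh' hdh hdf hdh' (by rw [bf_comm hg.wg]; exact hfh) hhh' hfh', ← mul_assoc, rv_sq,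
      one_mul]
  have z4 : zeta hg d h hd hh * rv hg d hd = -rv hg h hh := by rw [zeta, neg_mul, rr_sandwich hd hh hdh]
  have z4' : rv hg d hd * zeta hg d h hd hh = -rv hg h hh := by rw [zeta, mul_neg, ← mul_assoc, rv_sq, one_mul]
  have hac : a * c = c * a := by rw [hadef, hcdef, ← mk_left, mk_mul, mk_mul, z2, z2', one_mul, mul_one]
  have hac' : a * c' = c' * a := by rw [hadef, hc'def, ← mk_left, mk_mul, mk_mul, z1, z1', one_mul, mul_one]
  have hbc : b * c = c * b := by rw [hbdef, hcdef, ← mk_left, mk_mul, mk_mul, z4, z4', one_mul, mul_one]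
  have hbc' : b * c' = c' * b := by rw [hbdef, hc'def, ← mk_left, mk_mul, mk_mul, z3, z3', one_mul, mul_one]
  have Dac' : Module.finrank F (negSp (a * c')) = 10 := by
    rw [hadef, hc'def, ← mk_left, mk_mul, z1, one_mul, mk_neg_pair_dim h2]
  have Dac : Module.finrank F (negSp (a * c)) = 10 := by
    rw [hadef, hcdef, ← mk_left, mk_mul, z2, one_mul, mk_neg_pair_dim h2]
  have Dbc' : Module.finrank F (negSp (b * c')) = 6 := by
    rw [hbdef, hc'def, ← mk_left, mk_mul, z3, one_mul, mk_pair_dim h2]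
  have Dbc : Module.finrank F (negSp (b * c)) = 10 := by
    rw [hbdef, hcdef, ← mk_left, mk_mul, z4, one_mul, mk_neg_pair_dim h2]
  have ha2 : a * a = 1 := by rw [hadef, sl_mul, zeta_sq h2 hd hf hdf, sl_one]
  have hb2 : b * b = 1 := by rw [hbdef, sl_mul, zeta_sq h2 hd hh hdh, sl_one]
  set X := M ⊓ Subgroup.centralizer {c, c'} with hX
  have hXc : ∀ z ∈ X, z * c = c * z ∧ z * c' = c' * z := fun z hz =>
    ⟨(Subgroup.mem_centralizer_iff.1 hz.2 c (Set.mem_insert _ _)).symm,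
      (Subgroup.mem_centralizer_iff.1 hz.2 c' (Set.mem_insert_of_mem _ rfl)).symm⟩
  have hXmk : ∀ z, z ∈ M → z * c = c * z → z * c' = c' * z → z ∈ X := fun z hz h1 h3 =>
    ⟨hz, Subgroup.mem_centralizer_iff.2 (by rintro w (rfl | rfl); exacts [h1.symm, h3.symm])⟩
  have haX : a ∈ X := hXmk a (hM.zeta_sl 0 hd hf hdf) hac hac'
  have hbX : b ∈ X := hXmk b (hM.zeta_sl 0 hd hh hdh) hbc hbc'
  have hxX : x ∈ X := hXmk x hx hxc hxc'
  set y := x * b * x⁻¹ with hydef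
  have hyX : y ∈ X := mul_mem (mul_mem hxX hbX) (inv_mem hxX)
  have hy2 : y * y = 1 := by rw [hydef, show x * b * x⁻¹ * (x * b * x⁻¹) = x * (b * b) * x⁻¹ by group, hb2]; group
  have hdimc : ∀ k ∈ X, ∀ w : G2, Module.finrank F (negSp (k * w * k⁻¹ * c)) = Module.finrank F (negSp (w * c)) :=
    fun k hk w => by rw [← conj_mul_comm (hXc k hk).1, negSp_conj]
  have hdimc' : ∀ k ∈ X, ∀ w : G2, Module.finrank F (negSp (k * w * k⁻¹ * c')) = Module.finrank F (negSp (w * c')) :=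
    fun k hk w => by rw [← conj_mul_comm (hXc k hk).2, negSp_conj]
  have hcl : Subgroup.closure ({a, y} : Set _) ≤ X := (Subgroup.closure_le _).2 (by
    rintro z (rfl | rfl)
    exacts [haX, hyX])
  suffices hyW : y ∈ tensorWreathStandard (1 + 3) (1 + 1) F from
    hM.zeta_fusion hmin hZ hN hx hd hh hdh (hu := hd) (hw := he) hyW (hXc y hyX).1
  have himg : ∀ k ∈ X, ∀ {j : Fin (1 + 1)} {p q : V1} (hp : B1 p p ≠ 0) (hq : B1 q q ≠ 0), B1 p q = 0 →
      k * sl j (zeta hg p q hp hq) * k⁻¹ ∈ tensorWreathStandard (1 + 3) (1 + 1) F → sl j (zeta hg p q hp hq) ∈ X →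
      ∃ (σ : Equiv.Perm (Fin (1 + 1))) (d' f' : V1) (hd' : B1 d' d' ≠ 0) (hf' : B1 f' f' ≠ 0),
        HasPerm k σ ∧ B1 d' f' = 0 ∧ k * sl j (zeta hg p q hp hq) * k⁻¹ = sl (σ j) (zeta hg d' f' hd' hf') := by
    intro k hk j p q hp hq hpq hW hmem
    exact hM.zeta_image hk.1 (hM.zeta_fusion hmin hZ hN hk.1 hp hq hpq (hu := hd) (hw := he) hW
      (hXc _ (mul_mem (mul_mem hk hmem) (inv_mem hk))).1) hp hq hpq
  rcases dihedral_cases ha2 hy2 with ⟨k, hk, hyk⟩ | ⟨c3, i, -, hc3mem, hc31, hc32, hc3a, hc3y, hcases⟩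
  · exfalso
    have hz : x⁻¹ * k ∈ X := mul_mem (inv_mem hxX) (hcl hk)
    have e1 : x⁻¹ * k * a * (x⁻¹ * k)⁻¹ = b := by
      rw [show x⁻¹ * k * a * (x⁻¹ * k)⁻¹ = x⁻¹ * (k * a * k⁻¹) * x by group, ← hyk, hydef]; group
    have := hdimc' _ hz a
    rw [e1, Dbc', Dac'] at this
    omega
  have hc3X := hcl hc3mem
  have hc3W : c3 ∈ tensorWreathStandard (1 + 3) (1 + 1) F := hZ c3 hc3X.1 0 d f hd hf hdf hc3a
  have hWa : c3 * a ∈ tensorWreathStandard (1 + 3) (1 + 1) F := mul_mem hc3W (sl_mem_tw _ _)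
  obtain ⟨k, hk, hkz⟩ : ∃ k ∈ X, (k * a * k⁻¹ = c3 * a ∧ ∃ k' ∈ X, k * a = k' * a * k'⁻¹ ∨ k * a = k' * b * k'⁻¹) ∨
      k * b * k⁻¹ = c3 * a := by
    rcases hcases with ⟨-, k, hk, hka, -, -, k', hk', hkk⟩ | ⟨-, ⟨k, hk, hky⟩, -⟩
    · refine ⟨k, hcl hk, Or.inl ⟨hka, ?_⟩⟩
      rcases hkk with e1 | e1
      · exact ⟨k', hcl hk', Or.inl e1⟩
      · exact ⟨k' * x, mul_mem (hcl hk') hxX, Or.inr (by rw [e1, hydef]; group)⟩
    · exact ⟨k * x, mul_mem (hcl hk) hxX, Or.inr (by rw [← hky, hydef]; group)⟩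
  obtain ⟨l, S, hS, hSform, hzS, hperm⟩ : ∃ (l : Fin (1 + 1)) (S : GL (Ix 1) F), S ∈ u1 hg ∧
      (∃ (p q : V1) (hp : B1 p p ≠ 0) (hq : B1 q q ≠ 0), B1 p q = 0 ∧ S = zeta hg p q hp hq) ∧ c3 * a = sl l S ∧
      (k * a * k⁻¹ = c3 * a → ∃ σ, HasPerm k σ ∧ sl (σ 0) S = sl l S ∧ σ 0 = l) := by
    rcases hkz with ⟨e1, -⟩ | e1
    · obtain ⟨σ, p, q, hp, hq, hσ, hpq, e3⟩ := himg k hk hd hf hdf (by rw [← hadef, e1]; exact hWa) haX
      exact ⟨σ 0, _, zeta_mem hp hq, ⟨p, q, hp, hq, hpq, rfl⟩, e1.symm.trans e3, fun _ => ⟨σ, hσ, rfl, rfl⟩⟩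
    · obtain ⟨σ, p, q, hp, hq, hσ, hpq, e3⟩ := himg k hk hd hh hdh (by rw [← hbdef, e1]; exact hWa) hbX
      refine ⟨σ 0, _, zeta_mem hp hq, ⟨p, q, hp, hq, hpq, rfl⟩, e1.symm.trans e3, fun e5 => ?_⟩
      exfalso
      have h1 := hdimc' _ hk a
      rw [e5, ← e1, hdimc' _ hk b, Dbc', Dac'] at h1
      omega
  obtain ⟨p, q, hp, hq, hpq, rfl⟩ := hSform
  have hc3e : c3 = sl l (zeta hg p q hp hq) * a := by rw [← hzS, mul_assoc, ha2, mul_one]
  have hsing : ∀ (j : Fin (1 + 1)) (P Q : V1) (hP : B1 P P ≠ 0) (hQ : B1 Q Q ≠ 0), B1 P Q = 0 →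
      y * sl j (zeta hg P Q hP hQ) = sl j (zeta hg P Q hP hQ) * y → y ∈ tensorWreathStandard (1 + 3) (1 + 1) F :=
    fun j P Q hP hQ hPQ => hZ y hyX.1 j P Q hP hQ hPQ
  rcases oth_cases 0 l with rfl | rfl
  · have hcom : zeta hg p q hp hq * zeta hg d f hd hf = zeta hg d f hd hf * zeta hg p q hp hq := by
      refine sl_inj (k := (0 : Fin (1 + 1))) (by omega) ?_
      rw [← sl_mul, ← sl_mul, ← hadef, ← hzS, ← mul_assoc a, ← hc3a]
    rw [hadef, sl_mul] at hc3e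
    rcases zeta_mul_class h2 hp hq hd hf hpq hdf hcom with e1 | e1 | ⟨P, Q, hP, hQ, hPQ, e1⟩
    · exact absurd (by rw [hc3e, e1, sl_one]) hc31
    · exfalso
      have e3 : c3 = -1 := by rw [hc3e, e1, ← mk_left, mk_neg_left, mk_one]
      have hneg : c3 * a = -a := by rw [e3, neg_mul, one_mul]
      rcases hkz with ⟨e5, -⟩ | e5
      · have h1 := hdimc' _ hk a
        rw [e5, hneg, neg_mul] at h1
        have h3 := mk_dim_neg h2 (show a * c' * (a * c') = 1 by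
          rw [mul_assoc, ← mul_assoc c', ← hac', ← mul_assoc, ← mul_assoc, ha2, one_mul, hc'def, tp_sq])
        rw [h1, Dac'] at h3; omega
      · have h1 := hdimc _ hk b
        rw [e5, hneg, neg_mul] at h1
        have h3 := mk_dim_neg h2 (show a * c * (a * c) = 1 by
          rw [mul_assoc, ← mul_assoc c, ← hac, ← mul_assoc, ← mul_assoc, ha2, one_mul, hcdef, tp_sq])
        rw [h1, Dbc, Dac] at h3; omega
    · rw [e1] at hc3e
      exact hsing 0 P Q hP hQ hPQ (by rw [← hc3e]; exact hc3y.symm)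
  · -- the other factor
    set R := zeta hg e u he hu with hR
    have hcc' : c * c' = tp 0 (zeta hg d f hd hf) R := by
      rw [hcdef, hc'def, mk_mul, hR, zeta, zeta, mk_neg_left, mk_neg_right, neg_neg]
    have hc3cc : c3 * (c * c') = sl (0 + 1 : Fin (1 + 1)) (zeta hg p q hp hq * R) := by
      rw [hc3e, hadef, hcc', ← mk_right, ← mk_left, mk_mul, mk_mul, one_mul, mul_one, zeta_sq h2 hd hf hdf, mk_right]
    have hzX : c3 * a ∈ X := mul_mem hc3X haX
    have hSe : zeta hg p q hp hq * rv hg e he = rv hg e he * zeta hg p q hp hq ∧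
        zeta hg p q hp hq * rv hg u hu = rv hg u hu * zeta hg p q hp hq := by
      have h1 := (hXc _ hzX).1
      have h3 := (hXc _ hzX).2
      rw [hzS, hcdef, ← mk_right] at h1
      rw [hzS, hc'def, ← mk_right] at h3
      exact ⟨(mk_comm_pair h2 (one_mem _) (zeta_mem hp hq) hd he h1).2,
        (mk_comm_pair h2 (one_mem _) (zeta_mem hp hq) hf hu h3).2⟩
    have hcom : zeta hg p q hp hq * R = R * zeta hg p q hp hq := by
      rw [hR, show zeta hg e u he hu = -(rv hg e he * rv hg u hu) from rfl, mul_neg, neg_mul, comm_of_inv_mul hSe.1 hSe.2]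
    rcases zeta_mul_class h2 hp hq he hu hpq heu hcom with e1 | e1 | ⟨P, Q, hP, hQ, hPQ, e1⟩
    · exfalso
      have hSR : zeta hg p q hp hq = R := by
        calc zeta hg p q hp hq = zeta hg p q hp hq * (R * R) := by rw [hR, zeta_sq h2 he hu heu, mul_one]
          _ = R := by rw [← mul_assoc, e1, one_mul]
      have Dz : Module.finrank F (negSp (c3 * a * c')) = 10 := by
        rw [hzS, hSR, hc'def, hR, ← mk_right, mk_mul, one_mul,
          show zeta hg e u he hu * rv hg u hu = -rv hg e he by rw [zeta, neg_mul, mul_assoc, rv_sq, mul_one],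
          mk_neg_pair_dim' h2]
      rcases hkz with ⟨e5, k', hk', hkk⟩ | e5
      · obtain ⟨σ, hσ, -, hσl⟩ := hperm e5
        have hkW : k ∈ tensorWreathStandard (1 + 3) (1 + 1) F :=
          hM.zeta_fusion hmin hZ hN hk.1 hd hf hdf (hu := hd) (hw := he) (by rw [← hadef, e5]; exact hWa)
            (hXc _ (mul_mem (mul_mem hk haX) (inv_mem hk))).1
        have hkaW : k * a ∈ tensorWreathStandard (1 + 3) (1 + 1) F := mul_mem hkW (sl_mem_tw _ _)
        obtain ⟨m, Z, hZe⟩ : ∃ (m : Fin (1 + 1)) (Z : GL (Ix 1) F), k * a = sl m Z := by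
          rcases hkk with e3 | e3
          · obtain ⟨τ, p', q', hp', hq', -, -, e7⟩ := himg k' hk' hd hf hdf (by rw [← hadef, ← e3]; exact hkaW) haX
            exact ⟨_, _, e3.trans e7⟩
          · obtain ⟨τ, p', q', hp', hq', -, -, e7⟩ := himg k' hk' hd hh hdh (by rw [← hbdef, ← e3]; exact hkaW) hbX
            exact ⟨_, _, e3.trans e7⟩
        have hσ1 : σ = 1 := hσ.unique (by omega) ⟨Pi.mulSingle m Z * Pi.mulSingle 0 (zeta hg d f hd hf), by
          rw [permGL_one, one_mul, ← pureGL_mul, ← sl_eq_pureGL, ← sl_eq_pureGL, ← hZe, ← hadef, mul_assoc, ha2,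
            mul_one]⟩
        rw [hσ1] at hσl
        exact oth_ne 0 hσl.symm
      · have h1 := hdimc' _ hk b
        rw [e5, Dz, Dbc'] at h1
        omega
    · exfalso
      have hSR : zeta hg p q hp hq = -R := by
        calc zeta hg p q hp hq = zeta hg p q hp hq * (R * R) := by rw [hR, zeta_sq h2 he hu heu, mul_one]
          _ = -R := by rw [← mul_assoc, e1, neg_one_mul]
      rcases hkz with ⟨e5, -⟩ | e5
      · have h1 := hdimc' _ hk a
        rw [e5, hzS, hSR, hc'def, hR, ← mk_right, mk_mul, one_mul,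
          show -zeta hg e u he hu * rv hg u hu = rv hg e he by rw [zeta, neg_neg, mul_assoc, rv_sq, mul_one],
          mk_pair_dim h2, ← hc'def, Dac'] at h1
        omega
      · have h1 := hdimc _ hk b
        rw [e5, hzS, hSR, hcdef, hR, ← mk_right, mk_mul, one_mul,
          show -zeta hg e u he hu * rv hg e he = rv hg u hu by rw [zeta, neg_neg, rr_sandwich he hu heu],
          mk_pair_dim h2, ← hcdef, Dbc] at h1
        omega
    · rw [e1] at hc3cc
      exact hsing _ P Q hP hQ hPQ (by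
        rw [← hc3cc]
        exact comm_of_inv_mul hc3y.symm (comm_of_inv_mul (hXc y hyX).1 (hXc y hyX).2))

/-- **Theorem.** The centraliser of a pair of reflections. -/
theorem Ctx.pair_cent_two {j : Fin (1 + 1)} {d e : V1} (hd : B1 d d ≠ 0) (he : B1 e e ≠ 0) {x : G2} (hx : x ∈ M)
    (hxc : x * tp j (rv hg d hd) (rv hg e he) = tp j (rv hg d hd) (rv hg e he) * x) :
    x ∈ tensorWreathStandard (1 + 3) (1 + 1) F := by
  classical
  suffices key : ∀ {d e : V1} (hd : B1 d d ≠ 0) (he : B1 e e ≠ 0),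
      x * tp 0 (rv hg d hd) (rv hg e he) = tp 0 (rv hg d hd) (rv hg e he) * x →
      x ∈ tensorWreathStandard (1 + 3) (1 + 1) F by
    rcases oth_cases 0 j with rfl | rfl
    · exact key hd he hxc
    · rw [mk_swap] at hxc
      exact key he hd hxc
  clear! d e j
  intro d e hd he hxc
  have h2 := hM.two
  have hs0 := bf_symmetric hg.wg
  have h0 := perp_dim hs0 h2 (Submodule.mem_top (x := d)) hd
  rw [top_finrank hs0, Fintype.card_fin] at h0
  have hnd := nd_perp hs0 (nd_top hs0) (Submodule.mem_top (x := d)) hd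
  obtain ⟨ν, hν⟩ : ∃ ν : F, ¬ IsSquare ν := FiniteField.exists_nonsquare fun h => h2 (by
    haveI := ringChar.of_eq h; exact CharTwo.two_eq_zero)
  have hν0 : ν ≠ 0 := fun e => hν (e ▸ IsSquare.zero)
  obtain ⟨f, hfm, hfv⟩ := nd_value hs0 h2 hnd (by omega) (one_ne_zero (α := F))
  obtain ⟨h, hhm, hhv⟩ := nd_value hs0 h2 hnd (by omega) hν0
  have hf : B1 f f ≠ 0 := by rw [hfv]; exact one_ne_zero
  have hh : B1 h h ≠ 0 := by rw [hhv]; exact hν0
  have hdf : B1 d f = 0 := by rw [bf_comm hg.wg]; exact hfm.2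
  have hdh : B1 d h = 0 := by rw [bf_comm hg.wg]; exact hhm.2
  set c := tp 0 (rv hg d hd) (rv hg e he) with hcdef
  set a := sl (0 : Fin (1 + 1)) (zeta hg d f hd hf) with hadef
  set b := sl (0 : Fin (1 + 1)) (zeta hg d h hd hh) with hbdef
  have z2 : zeta hg d f hd hf * rv hg d hd = -rv hg f hf := by rw [zeta, neg_mul, rr_sandwich hd hf hdf]
  have z2' : rv hg d hd * zeta hg d f hd hf = -rv hg f hf := by rw [zeta, mul_neg, ← mul_assoc, rv_sq, one_mul]
  have z4 : zeta hg d h hd hh * rv hg d hd = -rv hg h hh := by rw [zeta, neg_mul, rr_sandwich hd hh hdh]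
  have z4' : rv hg d hd * zeta hg d h hd hh = -rv hg h hh := by rw [zeta, mul_neg, ← mul_assoc, rv_sq, one_mul]
  have hac : a * c = c * a := by rw [hadef, hcdef, ← mk_left, mk_mul, mk_mul, z2, z2', one_mul, mul_one]
  have hbc : b * c = c * b := by rw [hbdef, hcdef, ← mk_left, mk_mul, mk_mul, z4, z4', one_mul, mul_one]
  have Dac : Module.finrank F (negSp (a * c)) = 10 := by
    rw [hadef, hcdef, ← mk_left, mk_mul, z2, one_mul, mk_neg_pair_dim h2]
  have Dbc : Module.finrank F (negSp (b * c)) = 10 := by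
    rw [hbdef, hcdef, ← mk_left, mk_mul, z4, one_mul, mk_neg_pair_dim h2]
  have ha2 : a * a = 1 := by rw [hadef, sl_mul, zeta_sq h2 hd hf hdf, sl_one]
  have hb2 : b * b = 1 := by rw [hbdef, sl_mul, zeta_sq h2 hd hh hdh, sl_one]
  set X := M ⊓ Subgroup.centralizer {c} with hX
  have hXc : ∀ z ∈ X, z * c = c * z := fun z hz => Subgroup.mem_centralizer_singleton_iff.1 hz.2
  have haX : a ∈ X := ⟨hM.zeta_sl 0 hd hf hdf, Subgroup.mem_centralizer_singleton_iff.2 hac⟩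
  have hbX : b ∈ X := ⟨hM.zeta_sl 0 hd hh hdh, Subgroup.mem_centralizer_singleton_iff.2 hbc⟩
  have hxX : x ∈ X := ⟨hx, Subgroup.mem_centralizer_singleton_iff.2 hxc⟩
  set y := x * b * x⁻¹ with hydef
  have hyX : y ∈ X := mul_mem (mul_mem hxX hbX) (inv_mem hxX)
  have hy2 : y * y = 1 := by rw [hydef, show x * b * x⁻¹ * (x * b * x⁻¹) = x * (b * b) * x⁻¹ by group, hb2]; group
  have hdimc : ∀ k ∈ X, ∀ w : G2, Module.finrank F (negSp (k * w * k⁻¹ * c)) = Module.finrank F (negSp (w * c)) :=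
    fun k hk w => by rw [← conj_mul_comm (hXc k hk), negSp_conj]
  have hcl : Subgroup.closure ({a, y} : Set _) ≤ X := (Subgroup.closure_le _).2 (by
    rintro z (rfl | rfl)
    exacts [haX, hyX])
  suffices hyW : y ∈ tensorWreathStandard (1 + 3) (1 + 1) F from
    hM.zeta_fusion hmin hZ hN hx hd hh hdh (hu := hd) (hw := he) hyW (hXc y hyX)
  rcases dihedral_cases ha2 hy2 with ⟨k, hk, hyk⟩ | ⟨c2, i, -, hc2mem, hc21, hc22, hc2a, hc2y, hcases⟩
  · exfalso
    set z := x⁻¹ * k with hzdef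
    have hzX : z ∈ X := mul_mem (inv_mem hxX) (hcl hk)
    have e1 : z * a * z⁻¹ = b := by
      rw [hzdef, show x⁻¹ * k * a * (x⁻¹ * k)⁻¹ = x⁻¹ * (k * a * k⁻¹) * x by group, ← hyk, hydef]; group
    have hzW := hM.zeta_fusion hmin hZ hN hzX.1 hd hf hdf (hu := hd) (hw := he)
      (by rw [← hadef, e1]; exact sl_mem_tw _ _) (by rw [← hadef, e1]; exact hbc)
    obtain ⟨σ, A, hA⟩ := tw_shape hzW
    have e3 : sl (σ 0) (A 0 * zeta hg d f hd hf * (A 0)⁻¹) = sl (0 : Fin (1 + 1)) (zeta hg d h hd hh) := by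
      rw [← hbdef, ← e1]
      exact Units.ext (by rw [← cj_coe, hadef, sl_coe, sl_coe, hA, cj_wreath_slot, ← cj_coe])
    have hσ0 : σ 0 = 0 := by
      by_contra hne
      obtain ⟨k', hk'⟩ := scalar_of_slot_eq (by omega) (Ne.symm hne)
        (show (slot (0 : Fin (1 + 1)) (zeta hg d h hd hh : M1) : Matrix (Fin (1 + 1) → Ix 1) (Fin (1 + 1) → Ix 1) F) =
          slot (σ 0) (A 0 * zeta hg d f hd hf * (A 0)⁻¹ : GL (Ix 1) F) by rw [← sl_coe, ← e3, sl_coe])
      exact zeta_not_scalar h2 hd hh hdh k' hk'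
    have hσ : σ = 1 := by
      have hh1 : ∀ τ : Equiv.Perm (Fin (1 + 1)), τ 0 = 0 → τ = 1 := by decide
      exact hh1 σ hσ0
    rw [hσ, permGL_one, one_mul, pure_eq_mk 0] at hA
    obtain ⟨μ, hμ, hμA, hμB⟩ := mk_sim h2 (hA ▸ hM.le_uT hzX.1)
    obtain ⟨hAd, e5⟩ := sim_rv_conj (hg := hg) hμ hμA hd
    obtain ⟨hBe, e7⟩ := sim_rv_conj (hg := hg) (inv_ne_zero hμ) hμB he
    have e9 : tp 0 (rv hg _ hAd) (rv hg _ hBe) = tp 0 (rv hg d hd) (rv hg e he) := by
      rw [← e5, ← e7, ← mk_mul, ← mk_mul, ← hA, ← hcdef, hXc z hzX, mul_assoc, hA, mk_mul, mul_inv_cancel,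
        mul_inv_cancel, mk_one, mul_one]
    rw [hσ0] at e3
    have e3' := sl_inj (by omega) e3
    obtain ⟨kd, hkd⟩ : ∃ kd : F, (A 0 : M1) *ᵥ d = kd • d := by
      rcases mk_prop (hg := hg) h2 (rv_mem hd) (rv_mem hAd) e9 with ⟨e11, -⟩ | ⟨e11, -⟩
      · exact rv_inj h2 hd hAd e11.symm
      · exact (rv_conj_ne (hg := hg) h2 hAd hd (A := 1) (by rw [one_mul, inv_one, mul_one]; exact e11)).elim
    have hfixf : (zeta hg d h hd hh : M1) *ᵥ ((A 0 : M1) *ᵥ f) = (A 0 : M1) *ᵥ f := by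
      rw [← e3', gl_mul_mulVec, gl_mul_mulVec, gl_inv_mulVec, zeta_fix_right hd hf hdf]
    have hkd0 : kd ≠ 0 := fun e0 => hAd (by rw [hkd, e0, zero_smul]; exact Orth.sym_zero_left hs0 _)
    have hfd : B1 ((A 0 : M1) *ᵥ f) d = 0 := by
      have h1 := hμA f d
      rw [hkd, bf_smul_right, bf_comm hg.wg f d, hdf, mul_zero] at h1
      exact (mul_eq_zero.1 h1).resolve_left hkd0
    have hfe := zeta_fixed h2 hd hh hdh hfixf
    rw [hfd, zero_div, zero_smul, zero_add] at hfe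
    generalize B1 ((A 0 : M1) *ᵥ f) h / B1 h h = kf at hfe
    have h1 := hμA d d
    have h3 := hμA f f
    rw [hkd, bf_smul_left, bf_smul_right] at h1
    rw [hfe, bf_smul_left, bf_smul_right, hfv, hhv, mul_one] at h3
    have hμk : kd * kd = μ := mul_right_cancel₀ hd (by rw [mul_assoc]; exact h1)
    have hkf : kf ≠ 0 := fun e0 => hμ (by rw [← h3, e0, zero_mul])
    refine hν ⟨kd / kf, ?_⟩
    rw [div_mul_div_comm, eq_div_iff (mul_ne_zero hkf hkf), hμk, ← h3]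
    ring
  have hc2X := hcl hc2mem
  have hc2W : c2 ∈ tensorWreathStandard (1 + 3) (1 + 1) F := hZ c2 hc2X.1 0 d f hd hf hdf hc2a
  have hWa : c2 * a ∈ tensorWreathStandard (1 + 3) (1 + 1) F := mul_mem hc2W (sl_mem_tw _ _)
  obtain ⟨l, p, q, hp, hq, hpq, hzS, hDz⟩ : ∃ (l : Fin (1 + 1)) (p q : V1) (hp : B1 p p ≠ 0) (hq : B1 q q ≠ 0),
      B1 p q = 0 ∧ c2 * a = sl l (zeta hg p q hp hq) ∧ Module.finrank F (negSp (c2 * a * c)) = 10 := by
    rcases hcases with ⟨-, k, hk, hka, -, -, -⟩ | ⟨-, ⟨k, hk, hky⟩, -⟩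
    · obtain ⟨σ, p, q, hp, hq, -, hpq, e3⟩ := hM.zeta_image (hcl hk).1 (hM.zeta_fusion hmin hZ hN (hcl hk).1 hd hf hdf
        (hu := hd) (hw := he) (by rw [← hadef, hka]; exact hWa)
        (by rw [← hadef, hka]; exact hXc _ (mul_mem hc2X haX))) (j := 0) hd hf hdf
      exact ⟨σ 0, p, q, hp, hq, hpq, hka.symm.trans e3, by rw [← hka, hdimc _ (hcl hk), Dac]⟩
    · have e1 : k * x * b * (k * x)⁻¹ = c2 * a := by rw [← hky, hydef]; group
      have hkx : k * x ∈ X := mul_mem (hcl hk) hxX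
      obtain ⟨σ, p, q, hp, hq, -, hpq, e3⟩ := hM.zeta_image hkx.1 (hM.zeta_fusion hmin hZ hN hkx.1 hd hh hdh
        (hu := hd) (hw := he) (by rw [← hbdef, e1]; exact hWa)
        (by rw [← hbdef, e1]; exact hXc _ (mul_mem hc2X haX))) (j := 0) hd hh hdh
      exact ⟨σ 0, p, q, hp, hq, hpq, e1.symm.trans e3, by rw [← e1, hdimc _ hkx, Dbc]⟩
  have hc2e : c2 = sl l (zeta hg p q hp hq) * a := by rw [← hzS, mul_assoc, ha2, mul_one]
  rcases oth_cases 0 l with rfl | rfl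
  · have hcom : zeta hg p q hp hq * zeta hg d f hd hf = zeta hg d f hd hf * zeta hg p q hp hq := by
      refine sl_inj (k := (0 : Fin (1 + 1))) (by omega) ?_
      rw [← sl_mul, ← sl_mul, ← hadef, ← hzS, ← mul_assoc a, ← hc2a]
    rw [hadef, sl_mul] at hc2e
    rcases zeta_mul_class h2 hp hq hd hf hpq hdf hcom with e1 | e1 | ⟨P, Q, hP, hQ, hPQ, e1⟩
    · exact absurd (by rw [hc2e, e1, sl_one]) hc21
    · exfalso
      have e3 : c2 = -1 := by rw [hc2e, e1, ← mk_left, mk_neg_left, mk_one]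
      rw [e3, neg_mul, one_mul, neg_mul] at hDz
      have h3 := mk_dim_neg h2 (show a * c * (a * c) = 1 by
        rw [mul_assoc, ← mul_assoc c, ← hac, ← mul_assoc, ← mul_assoc, ha2, one_mul, hcdef, tp_sq])
      rw [hDz, Dac] at h3; omega
    · rw [e1] at hc2e
      exact hZ y hyX.1 0 P Q hP hQ hPQ (by rw [← hc2e]; exact hc2y.symm)
  · have h1 := hXc _ (mul_mem hc2X haX)
    rw [hzS, hcdef, ← mk_right] at h1
    have hSe := (mk_comm_pair h2 (one_mem _) (zeta_mem hp hq) hd he h1).2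
    obtain ⟨u, hu, heu, hcase⟩ := zeta_times_rv h2 hp hq hpq he hSe
    have hcc2 : c * c2 = tp 0 (-rv hg f hf) (rv hg e he * zeta hg p q hp hq) := by
      rw [hc2e, hcdef, hadef, ← mk_right, ← mk_left, mk_mul, mk_mul, one_mul, mul_one, z2']
    have hy' : y * (c * c2) = c * c2 * y := comm_of_inv_mul (hXc y hyX) hc2y.symm
    refine hM.two_pairs_cent hN hmin hZ hd hf he hu hdf heu hyX.1 (hXc y hyX) ?_
    rw [hcc2, mk_neg_left] at hy'
    rcases hcase with ⟨-, -, e1⟩ | ⟨-, -, e1⟩ <;> rw [e1] at hy'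
    · rw [mk_neg_right, neg_neg] at hy'
      exact hy'
    · rw [mul_neg, neg_mul, neg_inj] at hy'
      exact hy'

end CfsgLib.Perm.Trans.TensorPowerO
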