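import Mathlib
import Cfsg.Agent.Lib.Perm.Trans.TensorPowerO.K4Pair

/-!
# Two four-dimensional factors of minus type: fusion of pairs and maximality
-/

set_option autoImplicit false
set_option linter.all false

namespace CfsgLib.Perm.Trans.TensorPowerO

open scoped Matrix
open Matrix Cfsg.Geo CfsgLib.Perm.Asch CfsgLib.Perm.Trans CfsgLib.Perm.Trans.TensorPower
open CfsgLib.Perm.Trans.TensorSO CfsgLib.Perm.Trans.TensorOO

variable {F : Type*} [Field F] {g : Ix 1 → F} {hg : Dg g}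

local notation "M1" => Matrix (Ix 1) (Ix 1) F
local notation "V1" => Ix 1 → F
local notation "B1" => bf g (s1 1)
local notation "G2" => GL (Fin (1 + 1) → Ix 1) F
local notation "W2" => tensorWreathStandard (1 + 3) (1 + 1) F

theorem tp_inv (j : Fin (1 + 1)) (A B : GL (Ix 1) F) : (tp j A B)⁻¹ = tp j A⁻¹ B⁻¹ :=
  inv_eq_of_mul_eq_one_right (by rw [mk_mul, mul_inv_cancel, mul_inv_cancel, mk_one])

/-- roots of the two vectors of a hyperbolic pair do not commute -/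
theorem ei_opp_ne_comm (h2 : (2 : F) ≠ 0) (hmin : Minus g) {p : ℕ} [Fact p.Prime] [CharP F p] {a c m n : V1}
    (ha : a ≠ 0) (haa : B1 a a = 0) (hc : c ≠ 0) (hcc : B1 c c = 0) (hca : B1 c a = 1) (ham : B1 a m = 0)
    (hmm : B1 m m ≠ 0) (hcn : B1 c n = 0) (hnn : B1 n n ≠ 0) :
    ei hg c n * ei hg a m ≠ ei hg a m * ei hg c n := fun h => by
  have h1 := unip_comm_fix h2 hmin (ei_mem h2 hcc hcn) (ei_pow_char (p := p) h2 hcc hcn) ha haa ham hmm h
  have h3 := (ei_fixed h2 hc hcc hcn hnn h1).1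
  rw [bf_comm hg.wg, hca] at h3
  exact one_ne_zero h3

/-- the roots fixing an anisotropic vector contain two which do not commute -/
theorem exists_two_opp [Fintype F] (hg : Dg g) (h2 : (2 : F) ≠ 0) {e : V1} (he : B1 e e ≠ 0) :
    ∃ a c m : V1, a ≠ 0 ∧ B1 a a = 0 ∧ c ≠ 0 ∧ B1 c c = 0 ∧ B1 c a = 1 ∧ B1 a m = 0 ∧ B1 c m = 0 ∧ B1 m m ≠ 0 ∧
      B1 e a = 0 ∧ B1 e c = 0 ∧ B1 e m = 0 := by
  have hs := bf_symmetric hg.wg
  obtain ⟨a, m, ha, haa, ham, hmm, hea, hem⟩ := exists_root_perp h2 he hg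
  have hm : m ∈ perp hs (⊤ : Submodule F V1) e := ⟨trivial, by show B1 m e = 0; rw [bf_comm hg.wg]; exact hem⟩
  have hnd := nd_perp hs (nd_perp hs (nd_top hs) (Submodule.mem_top (x := e)) he) hm hmm
  obtain ⟨c, hc, hcc, hca⟩ := nd_partner hs h2 hnd (a := a)
    ⟨⟨trivial, by show B1 a e = 0; rw [bf_comm hg.wg]; exact hea⟩, ham⟩ ha haa
  refine ⟨a, c, m, ha, haa, fun e0 => one_ne_zero (α := F) ?_, hcc, hca, ham, hc.2, hmm, hea, ?_, hem⟩
  · rw [← hca, e0]; exact Orth.sym_zero_left hs _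
  · rw [bf_comm hg.wg]; exact hc.1.2

/-- a half turn times a product of commuting reflections of two of its axes -/
theorem zeta_mul_rr {p r : V1} (hp : B1 p p ≠ 0) (hr : B1 r r ≠ 0) :
    zeta hg p r hp hr * (rv hg r hr * rv hg p hp) = -1 := by
  rw [zeta, neg_mul, ← mul_assoc, mul_assoc (rv hg p hp), rv_sq, mul_one, rv_sq]

/-- a half turn times a product of reflections of a fixed axis and a negated one -/
theorem zeta_mul_rr_neg (h2 : (2 : F) ≠ 0) {p r l l' : V1} (hp : B1 p p ≠ 0) (hr : B1 r r ≠ 0) (hl : B1 l l ≠ 0)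
    (hl' : B1 l' l' ≠ 0) (hpr : B1 p r = 0) (hlp : B1 l p = 0)
    (hz : zeta hg p r hp hr * rv hg l hl = rv hg l hl * zeta hg p r hp hr)
    (he : rv hg l hl * zeta hg p r hp hr = rv hg l' hl') :
    B1 l' p = 0 ∧ zeta hg p r hp hr * (rv hg l hl * rv hg p hp) = rv hg l' hl' * rv hg p hp := by
  have hzp : zeta hg p r hp hr * rv hg p hp = rv hg p hp * zeta hg p r hp hr :=
    mul_inv_eq_iff_eq_mul.1 (rv_conj hp hp (zeta_mem hp hr) (zeta_fix_left hp hr hpr))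
  refine ⟨rv_orth (hg := hg) h2 hl' hp ?_ (fun e => ?_), by rw [← mul_assoc, hz, he]⟩
  · rw [← he, mul_assoc, hzp, ← mul_assoc, rv_comm hl hp hlp, mul_assoc]
  · have h1 : zeta hg p r hp hr = rv hg l hl * rv hg p hp := by rw [← e, ← he, ← mul_assoc, rv_sq, one_mul]
    have h3 := zeta_fix_left (hg := hg) hp hr hpr
    rw [h1, gl_mul_mulVec, rv_self, mulVec_neg, rv_perp hl (by rw [bf_comm hg.wg]; exact hlp)] at h3
    have hp0 : p ≠ 0 := fun e0 => hp (by rw [e0]; exact Orth.sym_zero_left (bf_symmetric hg.wg) _)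
    exact hp0 ((smul_eq_zero.1 (show (2 : F) • p = 0 by linear_combination (norm := module) -h3)).resolve_left h2)

variable [Fintype F] {M : Subgroup (GL (Fin (1 + 1) → Ix 1) F)} (hM : Ctx hg M) (hN : NormTw hg 1) (hmin : Minus g)
  (hZ : HalfCent hg M)
include hM hN hmin hZ

theorem Ctx.rr_cent {y : G2} (hy : y ∈ M) {l : Fin (1 + 1)} {u w : V1} (hu : B1 u u ≠ 0) (hw : B1 w w ≠ 0)
    (huw : B1 u w = 0) (h : y * sl l (rv hg u hu * rv hg w hw) = sl l (rv hg u hu * rv hg w hw) * y) : y ∈ W2 := by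
  refine hZ y hy l u w hu hw huw ?_
  rw [zeta, ← mk_left, mk_neg_left, mk_left, mul_neg, neg_mul, h]

/-- elements carrying a pair to one of the wreath subgroup exchanging the factors do not exist -/
theorem Ctx.swap_not_pair {x : G2} (hx : x ∈ M) {d e : V1} (hd : B1 d d ≠ 0) (he : B1 e e ≠ 0)
    {σ : Equiv.Perm (Fin (1 + 1))} (hσ : HasPerm (x * tp 0 (rv hg d hd) (rv hg e he) * x⁻¹) σ) (hσ1 : σ ≠ 1) :
    False := by
  classical
  have h2 := hM.two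
  have hs := bf_symmetric hg.wg
  obtain ⟨p, hp, hcp, hodd, -⟩ := exists_char (F := F) h2
  haveI := hcp
  haveI : Fact p.Prime := ⟨hp⟩
  set v := tp 0 (rv hg d hd) (rv hg e he) with hvdef
  set z := x * v * x⁻¹ with hzdef
  have hzM : z ∈ M := M.mul_mem (M.mul_mem hx (hM.pp_mem ⟨2, rfl⟩ (oth_ne 0).symm hd he)) (M.inv_mem hx)
  have hzz : z * z = 1 := by
    rw [hzdef, show x * v * x⁻¹ * (x * v * x⁻¹) = x * (v * v) * x⁻¹ by group, hvdef, tp_sq]; group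
  have hzi : z⁻¹ = z := inv_eq_of_mul_eq_one_right hzz
  obtain ⟨C, hC⟩ := hσ
  obtain rfl : σ = Equiv.swap 0 1 := by
    have h : ∀ τ : Equiv.Perm (Fin (1 + 1)), τ ≠ 1 → τ = Equiv.swap 0 1 := by decide
    exact h σ hσ1
  set E : V1 → V1 → GL (Ix 1) F := fun a m => C 0 * ei hg a m * (C 0)⁻¹ with hE
  have hconj : ∀ a m, z * sl 0 (ei hg a m) * z⁻¹ = sl ((0 : Fin (1 + 1)) + 1) (E a m) := fun a m => Units.ext (by
    rw [← cj_coe, sl_coe, sl_coe, hC, cj_wreath_slot, ← cj_coe]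
    rfl)
  set u : V1 → V1 → G2 := fun a m => tp 0 (ei hg a m) (E a m) with hu
  have hum : ∀ {a m : V1}, B1 a a = 0 → B1 a m = 0 → u a m ∈ M ∧ z * u a m = u a m * z ∧ u a m ^ p = 1 := by
    intro a m haa ham
    have e1 : u a m = sl 0 (ei hg a m) * (z * sl 0 (ei hg a m) * z⁻¹) := by rw [hu, hconj]; rfl
    have hc : Commute (sl 0 (ei hg a m)) (z * sl 0 (ei hg a m) * z⁻¹) := by
      rw [hconj]; exact sl_comm (oth_ne 0).symm _ _
    refine ⟨?_, ?_, ?_⟩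
    · rw [e1]
      exact M.mul_mem (hM.ei_sl 0 haa ham) (M.mul_mem (M.mul_mem hzM (hM.ei_sl 0 haa ham)) (M.inv_mem hzM))
    · rw [e1, hc.eq]
      calc z * (z * sl 0 (ei hg a m) * z⁻¹ * sl 0 (ei hg a m))
          = z * z * sl 0 (ei hg a m) * z⁻¹ * sl 0 (ei hg a m) := by group
        _ = sl 0 (ei hg a m) * z⁻¹ * sl 0 (ei hg a m) * (z⁻¹ * z) := by rw [hzz]; group
        _ = sl 0 (ei hg a m) * (z * sl 0 (ei hg a m) * z⁻¹) * z := by rw [hzi]; group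
        _ = _ := by rw [hc.eq]
    · rw [e1, hc.mul_pow, conj_pow, ← sl_pow, ei_pow_char h2 haa ham, sl_one, mul_one, mul_inv_cancel, one_mul]
  have hB : ∀ {a m : V1}, B1 a a = 0 → B1 a m = 0 → ∃ B : Fin (1 + 1) → GL (Ix 1) F, (∀ l, B l ∈ u1 hg) ∧
      (∀ l, B l ^ p = 1) ∧ B 0 * rv hg d hd = rv hg d hd * B 0 ∧ B (0 + 1) * rv hg e he = rv hg e he * B (0 + 1) ∧
      x⁻¹ * u a m * x = pureGL B := by
    intro a m haa ham
    obtain ⟨hM', hz', hp'⟩ := hum haa ham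
    have hxu : x⁻¹ * u a m * x * v = v * (x⁻¹ * u a m * x) := by
      calc x⁻¹ * u a m * x * v = x⁻¹ * (u a m * z) * x := by rw [hzdef]; group
        _ = x⁻¹ * (z * u a m) * x := by rw [hz']
        _ = _ := by rw [hzdef]; group
    have hMx := M.mul_mem (M.mul_mem (M.inv_mem hx) hM') hx
    obtain ⟨B, hB1, hBp, hBe⟩ := tw_two_unipotent h2 hodd (hM.pair_cent_two hN hmin hZ hd he hMx hxu) (hM.le_uT hMx)
      (by rw [show x⁻¹ * u a m * x = x⁻¹ * u a m * x⁻¹⁻¹ by rw [inv_inv], conj_pow, hp']; group)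
    refine ⟨B, hB1, hBp, ?_⟩
    rw [hBe, pure_eq_mk 0 B, hvdef] at hxu
    exact ⟨(mk_comm_pair h2 (hB1 0) (hB1 _) hd he hxu).1, (mk_comm_pair h2 (hB1 0) (hB1 _) hd he hxu).2, hBe⟩
  -- in each factor some root image is trivial
  have hkey : ∀ (l : Fin (1 + 1)) {a : V1}, a ≠ 0 → B1 a a = 0 →
      ∃ (m : V1) (B' : GL (Ix 1) F), B1 a m = 0 ∧ B1 m m ≠ 0 ∧ x⁻¹ * u a m * x = sl (l + 1) B' := by
    intro l a ha haa
    obtain ⟨d', hd', hcd⟩ : ∃ (d' : V1) (hd' : B1 d' d' ≠ 0), ∀ B : Fin (1 + 1) → GL (Ix 1) F,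
        B 0 * rv hg d hd = rv hg d hd * B 0 → B (0 + 1) * rv hg e he = rv hg e he * B (0 + 1) →
        B l * rv hg d' hd' = rv hg d' hd' * B l := by
      rcases oth_cases 0 l with rfl | rfl
      · exact ⟨d, hd, fun B h _ => h⟩
      · exact ⟨e, he, fun B _ h => h⟩
    obtain ⟨m1, m3, hm1, hm3, hmm1, hmm3, h13⟩ := exists_two_roots h2 hg ha haa
    let mv : F × F → V1 := fun q => q.1 • m1 + q.2 • m3
    have hmv : ∀ q, B1 a (mv q) = 0 := fun q => by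
      simp only [mv, bf_add_right, bf_smul_right, hm1, hm3, mul_zero, add_zero]
    have hmn : ∀ q, q ≠ 0 → B1 (mv q) (mv q) ≠ 0 := by
      intro q hq e0
      obtain ⟨k, hk⟩ := hmin a (mv q) ha haa e0 (hmv q)
      have e1 := congrArg (fun z => B1 z m1) hk
      have e3 := congrArg (fun z => B1 z m3) hk
      simp only [mv, bf_add_left, bf_smul_left, h13, bf_comm hg.wg m3 m1, hm1, hm3, mul_zero, add_zero, zero_add]
        at e1 e3
      exact hq (Prod.ext ((mul_eq_zero.1 e1).resolve_right hmm1) ((mul_eq_zero.1 e3).resolve_right hmm3))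
    by_contra hcon
    push Not at hcon
    choose B hB1 hBp hB0 hB2 hBe using fun q => hB haa (hmv q)
    have hne : ∀ q, q ≠ 0 → B q l ≠ 1 := fun q hq e0 => hcon (mv q) (B q (l + 1)) (hmv q) (hmn q hq) (by
      rw [hBe, pure_eq_mk l (B q), e0, mk_right])
    have hcommB : ∀ q q', B q l * B q' l = B q' l * B q l := fun q q' => by
      refine pure_two_comm (p := p) (hBp q') ?_ l
      rw [← hBe, ← hBe, show ∀ P Q : G2, x⁻¹ * P * x * (x⁻¹ * Q * x) = x⁻¹ * (P * Q) * x from fun P Q => by group,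
        show ∀ P Q : G2, x⁻¹ * P * x * (x⁻¹ * Q * x) = x⁻¹ * (P * Q) * x from fun P Q => by group, hu, mk_mul, mk_mul,
        hE]
      simp only
      rw [ei_comm h2 haa (hmv q) (hmv q')]
      congr 2
      rw [show ∀ P Q : GL (Ix 1) F, C 0 * P * (C 0)⁻¹ * (C 0 * Q * (C 0)⁻¹) = C 0 * (P * Q) * (C 0)⁻¹ from
          fun P Q => by group,
        show ∀ P Q : GL (Ix 1) F, C 0 * P * (C 0)⁻¹ * (C 0 * Q * (C 0)⁻¹) = C 0 * (P * Q) * (C 0)⁻¹ from
          fun P Q => by group, ei_comm h2 haa (hmv q) (hmv q')]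
    have hfix : ∀ q, (B q l : M1) *ᵥ d' = d' := fun q => by
      obtain ⟨c, -, hc⟩ := rv_comm_axis h2 (hB1 q l) hd' (hcd _ (hB0 q) (hB2 q))
      exact unip_eigen (hBp q l) (fun e0 => hd' (by rw [e0]; exact Orth.sym_zero_left hs _)) hc
    have hq0 : ((1, 0) : F × F) ≠ 0 := fun e0 => one_ne_zero (congrArg Prod.fst e0)
    obtain ⟨a0, n0, ha0, haa0, han0, hn0, hB0e⟩ := exists_ei h2 hmin (hB1 _ l) (hBp _ l) (hne _ hq0)
    obtain ⟨hda0, hdn0⟩ := ei_fixed h2 ha0 haa0 han0 hn0 (x := d') (by rw [← hB0e]; exact hfix _)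
    have hk : ∀ q, ∃ k : F, B q l = ei hg a0 (k • n0) := by
      intro q
      obtain ⟨n, han, hBn⟩ := unip_eq_ei h2 hmin (hB1 q l) (hBp q l) ha0 haa0
        (unip_comm_fix h2 hmin (hB1 q l) (hBp q l) ha0 haa0 han0 hn0 (by rw [← hB0e]; exact hcommB _ _))
      refine ⟨B1 n n0 / B1 n0 n0, ?_⟩
      set k := B1 n n0 / B1 n0 n0 with hkdef
      have hkn : B1 a0 (k • n0) = 0 := by rw [bf_smul_right, han0, mul_zero]
      have hkk : B1 a0 (-(k • n0)) = 0 := by rw [Orth.sym_neg_right hs, hkn, neg_zero]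
      have e1 : ei hg a0 (n + -(k • n0)) = 1 := by
        refine unip_fix_plane (p := p) h2 hmin (ei_mem h2 haa0 (by rw [bf_add_right, han, hkk, add_zero]))
          (ei_pow_char h2 haa0 (by rw [bf_add_right, han, hkk, add_zero])) hd' hn0 hdn0 ?_ ?_
        · rw [← ei_mul h2 haa0 han hkk, ← hBn, gl_mul_mulVec, ei_fix h2 haa0 hkk hda0
            (by rw [Orth.sym_neg_right hs, bf_smul_right, hdn0, mul_zero, neg_zero])]
          exact hfix q
        · refine ei_fix h2 haa0 (by rw [bf_add_right, han, hkk, add_zero])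
            (by rw [bf_comm hg.wg]; exact han0) ?_
          rw [bf_add_right, Orth.sym_neg_right hs, bf_smul_right, bf_comm hg.wg n0 n, hkdef, div_mul_cancel₀ _ hn0,
            add_neg_cancel]
      rw [hBn]
      calc ei hg a0 n = ei hg a0 (n + -(k • n0)) * ei hg a0 (k • n0) := by
            rw [ei_mul h2 haa0 (by rw [bf_add_right, han, hkk, add_zero]) hkn, neg_add_cancel_right]
        _ = _ := by rw [e1, one_mul]
    choose k hk using hk
    have hinj : Function.Injective k := by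
      intro q q' hqq
      by_contra hne'
      have hsub : mv q = mv (q - q') + mv q' := by
        simp only [mv, Prod.fst_sub, Prod.snd_sub]
        module
      have e1 : x⁻¹ * u a (mv (q - q')) * x = pureGL (B q) * (pureGL (B q'))⁻¹ := by
        rw [eq_mul_inv_iff_mul_eq, ← hBe, ← hBe,
          show ∀ P Q : G2, x⁻¹ * P * x * (x⁻¹ * Q * x) = x⁻¹ * (P * Q) * x from fun P Q => by group, hu, mk_mul, hE]
        simp only
        rw [show ∀ P Q : GL (Ix 1) F, C 0 * P * (C 0)⁻¹ * (C 0 * Q * (C 0)⁻¹) = C 0 * (P * Q) * (C 0)⁻¹ from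
            fun P Q => by group, ei_mul h2 haa (hmv _) (hmv _), ← hsub]
      refine hcon _ (B q (l + 1) * (B q' (l + 1))⁻¹) (hmv _) (hmn _ (sub_ne_zero.2 hne')) ?_
      rw [e1, pure_eq_mk l (B q), pure_eq_mk l (B q'), tp_inv, mk_mul, hk q, hk q', hqq, mul_inv_cancel, mk_right]
    have := Fintype.card_le_of_injective k hinj
    rw [Fintype.card_prod] at this
    nlinarith [Fintype.one_lt_card (α := F)]
  obtain ⟨a, -, ha, haa⟩ := nd_singular hs h2 (nd_top hs) (by rw [top_finrank hs, Fintype.card_fin]; omega)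
  obtain ⟨c, -, hcc, hca⟩ := nd_partner hs h2 (nd_top hs) trivial ha haa
  have hc : c ≠ 0 := fun e0 => one_ne_zero (α := F) (by rw [← hca, e0]; exact Orth.sym_zero_left hs _)
  obtain ⟨m, B, ham, hmm, hBm⟩ := hkey 0 ha haa
  obtain ⟨n, B', hcn, hnn, hBn⟩ := hkey (0 + 1) hc hcc
  rw [oth_oth] at hBn
  have hcom : u c n * u a m = u a m * u c n := by
    calc u c n * u a m = x * (x⁻¹ * u c n * x * (x⁻¹ * u a m * x)) * x⁻¹ := by group
      _ = x * (x⁻¹ * u a m * x * (x⁻¹ * u c n * x)) * x⁻¹ := by rw [hBm, hBn, sl_comm (oth_ne 0).symm]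
      _ = _ := by group
  rw [hu] at hcom
  simp only [mk_mul] at hcom
  rcases mk_prop (hg := hg) h2 (mul_mem (ei_mem h2 haa ham) (ei_mem h2 hcc hcn))
    (mul_mem (ei_mem h2 hcc hcn) (ei_mem h2 haa ham)) hcom with ⟨h, -⟩ | ⟨h, -⟩
  · exact ei_opp_ne_comm (p := p) h2 hmin ha haa hc hcc hca ham hmm hcn hnn h
  · have h1 : ei hg c n * ei hg a m * (ei hg c n)⁻¹ = -ei hg a m := by rw [h, neg_mul, mul_inv_cancel_right]
    have h3 := congrArg (fun A : GL (Ix 1) F => A ^ p) h1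
    simp only [conj_pow, ei_pow_char h2 haa ham, mul_one, mul_inv_cancel, hodd.neg_pow] at h3
    have h5 := congrFun (congrFun (congrArg (fun A : GL (Ix 1) F => (A : M1)) h3) 0) 0
    simp only [Units.val_one, Units.val_neg, Matrix.neg_apply, Matrix.one_apply_eq] at h5
    exact h2 (by linear_combination h5)

/-- **Theorem.** The image of a pair in the wreath subgroup is a pair. -/
theorem Ctx.pair_image {x : G2} (hx : x ∈ M) {d e : V1} (hd : B1 d d ≠ 0) (he : B1 e e ≠ 0)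
    (hW : x * tp 0 (rv hg d hd) (rv hg e he) * x⁻¹ ∈ W2) :
    ∃ (u w : V1) (hu : B1 u u ≠ 0) (hw : B1 w w ≠ 0),
      x * tp 0 (rv hg d hd) (rv hg e he) * x⁻¹ = tp 0 (rv hg u hu) (rv hg w hw) := by
  have h2 := hM.two
  have hzM := M.mul_mem (M.mul_mem hx (hM.pp_mem ⟨2, rfl⟩ (oth_ne 0).symm hd he)) (M.inv_mem hx)
  have hdim : Module.finrank F (negSp (x * tp 0 (rv hg d hd) (rv hg e he) * x⁻¹)) = 6 := by
    rw [negSp_conj, mk_pair_dim h2]
  rcases tw2_invol h2 hmin 0 hW (hM.le_uT hzM) (by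
      rw [show ∀ v : G2, x * v * x⁻¹ * (x * v * x⁻¹) = x * (v * v) * x⁻¹ from fun v => by group, tp_sq]; group)
      (Or.inl (by omega)) with ⟨-, σ, hσ, hσ1⟩ | ⟨A, B, hA, hB, hAA, hBB, he'⟩
  · exact (hM.swap_not_pair hN hmin hZ hx hd he hσ hσ1).elim
  · rw [he'] at hdim ⊢
    exact hM.pair_of_invol hmin hA hB hAA hBB hdim

/-- **Theorem.** An element carrying a pair into the wreath subgroup lies in it. -/
theorem Ctx.pair_fusion {x : G2} (hx : x ∈ M) {d e : V1} (hd : B1 d d ≠ 0) (he : B1 e e ≠ 0)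
    (hW : x * tp 0 (rv hg d hd) (rv hg e he) * x⁻¹ ∈ W2) : x ∈ W2 := by
  classical
  have h2 := hM.two
  obtain ⟨u, w, hu, hw, himg⟩ := hM.pair_image hN hmin hZ hx hd he hW
  by_contra hxW
  obtain ⟨p, hp, hcp, hodd, -⟩ := exists_char (F := F) h2
  haveI := hcp
  haveI : Fact p.Prime := ⟨hp⟩
  have hroot : ∀ {d' : V1} (hd' : B1 d' d' ≠ 0) {a m : V1}, B1 a a = 0 → B1 a m = 0 → B1 d' a = 0 → B1 d' m = 0 →
      ei hg a m * rv hg d' hd' = rv hg d' hd' * ei hg a m := fun hd' a m haa ham h1 h3 =>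
    mul_inv_eq_iff_eq_mul.1 (rv_conj hd' hd' (ei_mem h2 haa ham) (ei_fix h2 haa ham h1 h3))
  have hB : ∀ (j : Fin (1 + 1)) {a m : V1}, a ≠ 0 → B1 a a = 0 → B1 a m = 0 → B1 m m ≠ 0 →
      sl j (ei hg a m) * tp 0 (rv hg d hd) (rv hg e he) = tp 0 (rv hg d hd) (rv hg e he) * sl j (ei hg a m) →
      ∃ B : Fin (1 + 1) → GL (Ix 1) F, (∀ l, B l ∈ u1 hg) ∧ (∀ l, B l ^ p = 1) ∧ (∀ l, B l ≠ 1) ∧
        x * sl j (ei hg a m) * x⁻¹ = pureGL B := by
    intro j a m ha haa ham hmm hc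
    have hP := M.mul_mem (M.mul_mem hx (hM.ei_sl j haa ham)) (M.inv_mem hx)
    obtain ⟨B, hB1, hBp, hBe⟩ := tw_two_unipotent h2 hodd (hM.pair_cent_two hN hmin hZ hu hw hP (j := 0) (by
        rw [← himg]
        calc x * sl j (ei hg a m) * x⁻¹ * (x * tp 0 (rv hg d hd) (rv hg e he) * x⁻¹) =
            x * (sl j (ei hg a m) * tp 0 (rv hg d hd) (rv hg e he)) * x⁻¹ := by group
          _ = _ := by rw [hc]; group))
      (hM.le_uT hP) (by rw [conj_pow, ← sl_pow, ei_pow_char h2 haa ham, sl_one]; group)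
    refine ⟨B, hB1, hBp, fun l h0 => hxW ?_, hBe⟩
    exact hM.root_to_slot hN hmin hx ha haa ham hmm (l := l + 1) (v := B (l + 1)) (by
      rw [hBe, pure_eq_mk l B, h0, mk_right])
  obtain ⟨a0, m0, ha0, haa0, ham0, hmm0, hda0, hdm0⟩ := exists_root_perp h2 hd hg
  obtain ⟨a, c, m, ha, haa, hc, hcc, hca, ham, hcm, hmm, hea, hec, hem⟩ := exists_two_opp hg h2 he
  obtain ⟨P, hP1, hPp, hPne, hPe⟩ := hB 0 ha0 haa0 ham0 hmm0 (by
    rw [← mk_left, mk_mul, mk_mul, one_mul, mul_one, hroot hd haa0 ham0 hda0 hdm0])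
  obtain ⟨Q, hQ1, hQp, -, hQe⟩ := hB (0 + 1) ha haa ham hmm (by
    rw [← mk_right, mk_mul, mk_mul, one_mul, mul_one, hroot he haa ham hea hem])
  obtain ⟨R, hR1, hRp, -, hRe⟩ := hB (0 + 1) hc hcc hcm hmm (by
    rw [← mk_right, mk_mul, mk_mul, one_mul, mul_one, hroot he hcc hcm hec hem])
  have hcomm : ∀ {j l : Fin (1 + 1)} {A B : GL (Ix 1) F}, j ≠ l →
      x * sl j A * x⁻¹ * (x * sl l B * x⁻¹) = x * sl l B * x⁻¹ * (x * sl j A * x⁻¹) := by
    intro j l A B hjl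
    rw [show ∀ X Y : G2, x * X * x⁻¹ * (x * Y * x⁻¹) = x * (X * Y) * x⁻¹ from fun X Y => by group, sl_comm hjl]
    group
  have hQR : Q * R = R * Q := by
    funext l
    refine unip_comm_trans h2 hmin (hQ1 l) (hP1 l) (hR1 l) (hQp l) (hPp l) (hRp l) (hPne l) ?_ ?_
    · exact pure_two_comm (hPp) (by rw [← hQe, ← hPe]; exact hcomm (oth_ne 0)) l
    · exact pure_two_comm (hPp) (by rw [← hRe, ← hPe]; exact hcomm (oth_ne 0)) l
  refine ei_opp_ne_comm (hg := hg) (p := p) h2 hmin ha haa hc hcc hca ham hmm hcm hmm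
    (sl_inj (k := (0 : Fin (1 + 1)) + 1) (by omega) ?_)
  rw [← sl_mul, ← sl_mul]
  have e1 : x * (sl (0 + 1) (ei hg c m) * sl (0 + 1) (ei hg a m)) * x⁻¹ =
      x * (sl (0 + 1) (ei hg a m) * sl (0 + 1) (ei hg c m)) * x⁻¹ := by
    rw [show ∀ X Y : G2, x * (X * Y) * x⁻¹ = x * X * x⁻¹ * (x * Y * x⁻¹) from fun X Y => by group,
      show ∀ X Y : G2, x * (X * Y) * x⁻¹ = x * X * x⁻¹ * (x * Y * x⁻¹) from fun X Y => by group, hQe, hRe,
      pureGL_mul, pureGL_mul, hQR]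
  exact mul_left_cancel (mul_right_cancel e1)

/-- **Theorem.** Conjugate pairs have the same product of classes. -/
theorem Ctx.pair_class {x : G2} (hx : x ∈ M) {d e d' e' : V1} (hd : B1 d d ≠ 0) (he : B1 e e ≠ 0)
    (hd' : B1 d' d' ≠ 0) (he' : B1 e' e' ≠ 0)
    (h : x * tp 0 (rv hg d hd) (rv hg e he) * x⁻¹ = tp 0 (rv hg d' hd') (rv hg e' he')) :
    IsSquare (B1 d d * B1 e e * (B1 d' d' * B1 e' e')) := by
  have h2 := hM.two
  obtain ⟨σ, A, hA⟩ := tw_shape (hM.pair_fusion hN hmin hZ hx hd he (by rw [h]; exact mk_mem_tw _ _ _))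
  have hAu : pureGL A ∈ uT hg (1 + 1) := by
    rw [show pureGL A = (permGL σ)⁻¹ * x by rw [hA, ← mul_assoc, inv_mul_cancel, one_mul]]
    exact mul_mem (inv_mem (permGL_mem_uT σ)) (hM.le_uT hx)
  rw [pure_eq_mk 0 A] at hA hAu
  obtain ⟨μ, hμ, hμA, hμB⟩ := mk_sim h2 hAu
  obtain ⟨hAd, e5⟩ := sim_rv_conj (hg := hg) hμ hμA hd
  obtain ⟨hBe, e7⟩ := sim_rv_conj (hg := hg) (inv_ne_zero hμ) hμB he
  have hperm : ∀ (X : GL (Ix 1) F) (j : Fin (1 + 1)), permGL σ * sl j X * (permGL σ)⁻¹ = sl (σ j) X := fun X j =>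
    Units.ext (by rw [← cj_coe, sl_coe, sl_coe, cj_permGL_slot])
  have e1 : x * tp 0 (rv hg d hd) (rv hg e he) * x⁻¹ = tp (σ 0) (rv hg _ hAd) (rv hg _ hBe) := by
    rw [hA, _root_.mul_inv_rev, show ∀ P V U : G2, P * U * V * (U⁻¹ * P⁻¹) = P * (U * V * U⁻¹) * P⁻¹ from
      fun P V U => by group, tp_inv, mk_mul, mk_mul, e5, e7, tp, tp,
      show ∀ X Y : G2, permGL σ * (X * Y) * (permGL σ)⁻¹ = permGL σ * X * (permGL σ)⁻¹ * (permGL σ * Y * (permGL σ)⁻¹)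
        from fun X Y => by group, hperm, hperm, show σ (0 + 1) = σ 0 + 1 from
        (by decide : ∀ τ : Equiv.Perm (Fin (1 + 1)), τ (0 + 1) = τ 0 + 1) σ]
  rw [e1] at h
  have key : ∀ {d1 e1 : V1} (hd1 : B1 d1 d1 ≠ 0) (he1 : B1 e1 e1 ≠ 0),
      tp 0 (rv hg d1 hd1) (rv hg e1 he1) = tp 0 (rv hg d' hd') (rv hg e' he') →
      ∃ c c' : F, d' = c • d1 ∧ e' = c' • e1 := by
    intro d1 e1 hd1 he1 h0
    rcases mk_prop (hg := hg) h2 (rv_mem hd') (rv_mem hd1) h0 with ⟨h1, h3⟩ | ⟨h1, -⟩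
    · obtain ⟨c, hc⟩ := rv_inj h2 hd1 hd' h1
      obtain ⟨c', hc'⟩ := rv_inj h2 he1 he' h3
      exact ⟨c, c', hc, hc'⟩
    · exact (rv_conj_ne (hg := hg) h2 hd1 hd' (A := 1) (by rw [one_mul, inv_one, mul_one]; exact h1)).elim
  rcases oth_cases 0 (σ 0) with hσ | hσ <;> rw [hσ] at h
  · obtain ⟨c, c', rfl, rfl⟩ := key _ _ h
    refine ⟨c * c' * (B1 d d * B1 e e), ?_⟩
    rw [bf_smul_left, bf_smul_right, bf_smul_left, bf_smul_right, hμA, hμB]
    field_simp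
  · rw [mk_swap] at h
    obtain ⟨c, c', rfl, rfl⟩ := key _ _ h
    refine ⟨c * c' * (B1 d d * B1 e e), ?_⟩
    rw [bf_smul_left, bf_smul_right, bf_smul_left, bf_smul_right, hμA, hμB]
    field_simp

/-- **Theorem.** The centraliser of a double half turn. -/
theorem Ctx.double_cent {p r p' r' : V1} (hp : B1 p p ≠ 0) (hr : B1 r r ≠ 0) (hp' : B1 p' p' ≠ 0)
    (hr' : B1 r' r' ≠ 0) (hpr : B1 p r = 0) (hpr' : B1 p' r' = 0) {x : G2} (hx : x ∈ M)
    (hxc : x * tp 0 (zeta hg p r hp hr) (zeta hg p' r' hp' hr') =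
      tp 0 (zeta hg p r hp hr) (zeta hg p' r' hp' hr') * x) : x ∈ W2 := by
  classical
  have h2 := hM.two
  have hs := bf_symmetric hg.wg
  obtain ⟨a, b, ha, hb, hpa, hpb, hra, hrb, hab⟩ := exists_completion h2 hg hp hr hpr
  set ζ := zeta hg p r hp hr with hζ
  set ζ' := zeta hg p' r' hp' hr' with hζ'
  set c := tp 0 ζ ζ' with hcdef
  set P1 := tp 0 (rv hg p hp) (rv hg p' hp') with hP1
  set P2 := tp 0 (rv hg a ha) (rv hg p' hp') with hP2
  have hζab : ζ = rv hg a ha * rv hg b hb := zeta_eq_rr h2 hp hr ha hb hpr hpa hpb hra hrb hab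
  have z1 : rv hg p hp * ζ = -rv hg r hr := by rw [hζ, zeta, mul_neg, ← mul_assoc, rv_sq, one_mul]
  have z1' : ζ * rv hg p hp = -rv hg r hr := by rw [hζ, zeta, neg_mul, rr_sandwich hp hr hpr]
  have z3 : rv hg p' hp' * ζ' = -rv hg r' hr' := by rw [hζ', zeta, mul_neg, ← mul_assoc, rv_sq, one_mul]
  have z3' : ζ' * rv hg p' hp' = -rv hg r' hr' := by rw [hζ', zeta, neg_mul, rr_sandwich hp' hr' hpr']
  have z5 : rv hg a ha * ζ = rv hg b hb := by rw [hζab, ← mul_assoc, rv_sq, one_mul]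
  have z5' : ζ * rv hg a ha = rv hg b hb := by rw [hζab, rr_sandwich ha hb hab]
  have hP1c : P1 * c = c * P1 := by rw [hP1, hcdef, mk_mul, mk_mul, z1, z1', z3, z3']
  have hP2c : P2 * c = c * P2 := by rw [hP2, hcdef, mk_mul, mk_mul, z5, z5', z3, z3']
  have hd1 : Module.finrank F (negSp (P1 * c)) = 6 := by
    rw [hP1, hcdef, mk_mul, z1, z3, mk_neg_left, mk_neg_right, neg_neg, mk_pair_dim h2]
  have hd2 : Module.finrank F (negSp (P2 * c)) = 10 := by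
    rw [hP2, hcdef, mk_mul, z5, z3, mk_neg_pair_dim' h2]
  have hP1M : P1 ∈ M := hM.pp_mem ⟨2, rfl⟩ (oth_ne 0).symm hp hp'
  have hP2M : P2 ∈ M := hM.pp_mem ⟨2, rfl⟩ (oth_ne 0).symm ha hp'
  have hP11 : P1 * P1 = 1 := tp_sq 0 hp hp'
  set X := M ⊓ Subgroup.centralizer {c} with hX
  have hXc : ∀ z ∈ X, z * c = c * z := fun z hz => Subgroup.mem_centralizer_singleton_iff.1 hz.2
  have haX : P1 ∈ X := ⟨hP1M, Subgroup.mem_centralizer_singleton_iff.2 hP1c⟩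
  have hbX : P2 ∈ X := ⟨hP2M, Subgroup.mem_centralizer_singleton_iff.2 hP2c⟩
  have hxX : x ∈ X := ⟨hx, Subgroup.mem_centralizer_singleton_iff.2 hxc⟩
  set y := x * P2 * x⁻¹ with hydef
  have hyX : y ∈ X := mul_mem (mul_mem hxX hbX) (inv_mem hxX)
  have hy2 : y * y = 1 := by
    rw [hydef, show x * P2 * x⁻¹ * (x * P2 * x⁻¹) = x * (P2 * P2) * x⁻¹ by group, hP2, tp_sq]; group
  have hdimc : ∀ k ∈ X, ∀ w : G2, Module.finrank F (negSp (k * w * k⁻¹ * c)) = Module.finrank F (negSp (w * c)) :=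
    fun k hk w => by rw [← conj_mul_comm (hXc k hk), negSp_conj]
  have hcl : Subgroup.closure ({P1, y} : Set _) ≤ X := (Subgroup.closure_le _).2 (by
    rintro z (rfl | rfl)
    exacts [haX, hyX])
  suffices hyW : y ∈ W2 from hM.pair_fusion hN hmin hZ hx ha hp' hyW
  rcases dihedral_cases hP11 hy2 with ⟨k, hk, hyk⟩ | ⟨c2, i, -, hc2mem, hc21, hc22, hc2a, hc2y, hcases⟩
  · exfalso
    have h1 := hdimc _ (mul_mem (inv_mem hxX) (hcl hk)) P1
    rw [show x⁻¹ * k * P1 * (x⁻¹ * k)⁻¹ = x⁻¹ * (k * P1 * k⁻¹) * x by group, ← hyk, hydef,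
      show x⁻¹ * (x * P2 * x⁻¹) * x = P2 by group, hd1, hd2] at h1
    omega
  have hc2X := hcl hc2mem
  have hc2W : c2 ∈ W2 := hM.pair_cent_two hN hmin hZ hp hp' hc2X.1 (j := 0) hc2a
  have hzW : c2 * P1 ∈ W2 := mul_mem hc2W (mk_mem_tw _ _ _)
  obtain ⟨k, l, hkk, hll, hz, hpar⟩ : ∃ (k l : V1) (hkk : B1 k k ≠ 0) (hll : B1 l l ≠ 0),
      c2 * P1 = tp 0 (rv hg k hkk) (rv hg l hll) ∧
      ((Module.finrank F (negSp (c2 * P1 * c)) = 6 ∧ Module.finrank F (negSp (c2 * y * c)) = 10 ∧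
        ∃ h ∈ X, h * P1 * h⁻¹ = c2 * P1 ∧ ∃ (u w : V1) (hu : B1 u u ≠ 0) (hw : B1 w w ≠ 0),
          h * P1 = tp 0 (rv hg u hu) (rv hg w hw)) ∨
      Module.finrank F (negSp (c2 * P1 * c)) = 10) := by
    rcases hcases with ⟨-, h, hh, hha, hhy, -, k', hk', hkk'⟩ | ⟨-, ⟨h, hh, hhy⟩, -⟩
    · obtain ⟨u, w, hu, hw, e1⟩ := hM.pair_image hN hmin hZ (hcl hh).1 hp hp' (by rw [← hP1, hha]; exact hzW)
      have hhW : h * P1 ∈ W2 := mul_mem (hM.pair_fusion hN hmin hZ (hcl hh).1 hp hp' (by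
        rw [← hP1, hha]; exact hzW)) (mk_mem_tw _ _ _)
      refine ⟨u, w, hu, hw, hha.symm.trans e1, Or.inl ⟨by rw [← hha, hdimc _ (hcl hh), hd1], ?_, h, hcl hh, hha, ?_⟩⟩
      · rw [← hhy, hdimc _ (hcl hh), hydef, hdimc _ hxX, hd2]
      rcases hkk' with e3 | e3
      · obtain ⟨u', w', hu', hw', e5⟩ := hM.pair_image hN hmin hZ (hcl hk').1 hp hp' (by rw [← hP1, ← e3]; exact hhW)
        exact ⟨u', w', hu', hw', e3.trans e5⟩
      · have e4 : h * P1 = k' * x * P2 * (k' * x)⁻¹ := by rw [e3, hydef]; group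
        obtain ⟨u', w', hu', hw', e5⟩ := hM.pair_image hN hmin hZ (mul_mem (hcl hk') hxX).1 ha hp'
          (by rw [← hP2, ← e4]; exact hhW)
        exact ⟨u', w', hu', hw', e4.trans e5⟩
    · have e4 : h * x * P2 * (h * x)⁻¹ = c2 * P1 := by rw [← hhy, hydef]; group
      obtain ⟨u, w, hu, hw, e1⟩ := hM.pair_image hN hmin hZ (mul_mem (hcl hh) hxX).1 ha hp'
        (by rw [← hP2, e4]; exact hzW)
      exact ⟨u, w, hu, hw, e4.symm.trans e1, Or.inr (by rw [← e4, hdimc _ (mul_mem (hcl hh) hxX), hd2])⟩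
  have hc2e : c2 = tp 0 (rv hg k hkk * rv hg p hp) (rv hg l hll * rv hg p' hp') := by
    rw [← mk_mul, ← hz, ← hP1, mul_assoc, hP11, mul_one]
  obtain ⟨hkz, hlz⟩ := mk_comm_pair h2 (zeta_mem hp hr) (zeta_mem hp' hr') hkk hll (by
    rw [← hz]; exact (hXc _ (mul_mem hc2X haX)).symm)
  obtain ⟨hkp, hlp⟩ := mk_comm_pair h2 (rv_mem hp) (rv_mem hp') hkk hll (by
    rw [← hz, ← hP1, ← mul_assoc, ← hc2a])
  have hyc2 : y * c2 = c2 * y := hc2y.symm
  by_cases hk1 : rv hg k hkk = rv hg p hp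
  · rw [hk1, rv_sq, mk_right] at hc2e
    by_cases hl1 : rv hg l hll = rv hg p' hp'
    · exact absurd (by rw [hc2e, hl1, rv_sq, sl_one]) hc21
    · exact hM.rr_cent hN hmin hZ hyX.1 hll hp' (rv_orth h2 hll hp' hlp.symm hl1) (by rw [← hc2e]; exact hyc2)
  by_cases hl1 : rv hg l hll = rv hg p' hp'
  · rw [hl1, rv_sq, mk_left] at hc2e
    exact hM.rr_cent hN hmin hZ hyX.1 hkk hp (rv_orth h2 hkk hp hkp.symm hk1) (by rw [← hc2e]; exact hyc2)
  have hkp0 := rv_orth h2 hkk hp hkp.symm hk1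
  have hlp0 := rv_orth h2 hll hp' hlp.symm hl1
  have hfix : ∀ {p r k : V1} (hp : B1 p p ≠ 0) (hr : B1 r r ≠ 0) (hk : B1 k k ≠ 0), B1 p r = 0 → B1 k p = 0 →
      (zeta hg p r hp hr : M1) *ᵥ k = k → rv hg k hk = rv hg r hr := by
    intro p r k hp hr hk hpr hkp h
    have h1 := zeta_fixed h2 hp hr hpr h
    rw [hkp, zero_div, zero_smul, zero_add] at h1
    generalize B1 k r / B1 r r = α at h1
    subst h1
    exact rv_smul hr hk
  have hyc : y * (c * c2) = c * c2 * y := comm_of_inv_mul (hXc y hyX) hyc2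
  have hcc2 : c * c2 = tp 0 (ζ * (rv hg k hkk * rv hg p hp)) (ζ' * (rv hg l hll * rv hg p' hp')) := by
    rw [hcdef, hc2e, mk_mul]
  obtain ⟨k', hk', hkk'0, hkcase⟩ := zeta_times_rv h2 hp hr hpr hkk hkz
  obtain ⟨l', hl', hll'0, hlcase⟩ := zeta_times_rv h2 hp' hr' hpr' hll hlz
  rcases hkcase with ⟨hzk, -, hkk'⟩ | ⟨hzk, -, hkk'⟩ <;> rcases hlcase with ⟨hzl, -, hll'⟩ | ⟨hzl, -, hll'⟩
  · exfalso
    have e2 : c2 = c := by
      rw [hc2e, hfix hp hr hkk hpr hkp0 hzk, hfix hp' hr' hll hpr' hlp0 hzl,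
        rv_comm hr hp (by rw [bf_comm hg.wg]; exact hpr), rv_comm hr' hp' (by rw [bf_comm hg.wg]; exact hpr'),
        hcdef, hζ, hζ', zeta, zeta, mk_neg_left, mk_neg_right, neg_neg]
    rcases hpar with ⟨-, h10, -⟩ | h10
    · rw [e2, mul_assoc, hXc y hyX, ← mul_assoc, show c * c = 1 by rw [← e2, hc22], one_mul, hydef, negSp_conj,
        hP2, mk_pair_dim h2] at h10
      omega
    · rw [e2, mul_assoc, hP1c, ← mul_assoc, show c * c = 1 by rw [← e2, hc22], one_mul, hP1, mk_pair_dim h2] at h10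
      omega
  · obtain ⟨hl'p, e1⟩ := zeta_mul_rr_neg h2 hp' hr' hll hl' hpr' hlp0 hlz hll'
    rw [hcc2, hfix hp hr hkk hpr hkp0 hzk, zeta_mul_rr, e1, mk_neg_left, mk_right, mul_neg, neg_mul, neg_inj] at hyc
    exact hM.rr_cent hN hmin hZ hyX.1 hl' hp' hl'p hyc
  · obtain ⟨hk'p, e1⟩ := zeta_mul_rr_neg h2 hp hr hkk hk' hpr hkp0 hkz hkk'
    rw [hcc2, hfix hp' hr' hll hpr' hlp0 hzl, zeta_mul_rr, e1, mk_neg_right, mk_left, mul_neg, neg_mul, neg_inj] at hyc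
    exact hM.rr_cent hN hmin hZ hyX.1 hk' hp hk'p hyc
  -- both axes are negated
  exfalso
  rcases hpar with ⟨-, -, h, hhX, hha, u, w, hu, hw, hhe⟩ | h10
  swap
  · rw [hz, hcdef, mk_mul, hkk', hll', mk_pair_dim h2] at h10
    omega
  set A := rv hg u hu * rv hg p hp with hA
  have hAu : A ∈ u1 hg := mul_mem (rv_mem hu) (rv_mem hp)
  have hhA : h = tp 0 A (rv hg w hw * rv hg p' hp') := by
    rw [hA, ← mk_mul, ← hhe, ← hP1, mul_assoc, hP11, mul_one]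
  have e1 : tp 0 (A * rv hg p hp) (rv hg w hw * rv hg p' hp' * rv hg p' hp') =
      tp 0 (rv hg k hkk * A) (rv hg l hll * (rv hg w hw * rv hg p' hp')) := by
    rw [← mk_mul 0 A, ← mk_mul 0 (rv hg k hkk) (rv hg l hll), ← hhA, ← hz, ← hha, ← hP1]; group
  have hAk : A * rv hg p hp * A⁻¹ = rv hg k hkk := by
    rcases mk_prop (hg := hg) h2 (mul_mem (rv_mem hkk) hAu) (mul_mem hAu (rv_mem hp)) e1 with ⟨h1, -⟩ | ⟨h1, -⟩
    · rw [h1, mul_inv_cancel_right]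
    · exact (rv_conj_ne (hg := hg) h2 hp hkk (A := A) (by rw [h1, neg_mul, mul_inv_cancel_right])).elim
  have hAp : B1 ((A : M1) *ᵥ p) ((A : M1) *ᵥ p) ≠ 0 := by rw [bf_of_mem hAu]; exact hp
  rw [rv_conj hp hAp hAu rfl] at hAk
  obtain ⟨α, hα⟩ := rv_inj h2 hAp hkk hAk
  have e3 : tp 0 (A * ζ) (rv hg w hw * rv hg p' hp' * ζ') = tp 0 (ζ * A) (ζ' * (rv hg w hw * rv hg p' hp')) := by
    rw [← mk_mul 0 A, ← mk_mul 0 ζ, ← hhA, ← hcdef]; exact hXc h hhX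
  rcases mk_prop (hg := hg) h2 (mul_mem (zeta_mem hp hr) hAu) (mul_mem hAu (zeta_mem hp hr)) e3 with ⟨h1, -⟩ | ⟨h1, -⟩
  · have h3 : (ζ : M1) *ᵥ ((A : M1) *ᵥ p) = (A : M1) *ᵥ p := by
      simp only [hζ] at h1 ⊢
      rw [← gl_mul_mulVec, ← h1, gl_mul_mulVec, zeta_fix_left hp hr hpr]
    rw [hα, mulVec_smul, h3] at hzk
    have hk0 : α • ((A : M1) *ᵥ p) = 0 :=
      (smul_eq_zero.1 (show (2 : F) • (α • ((A : M1) *ᵥ p)) = 0 by
        linear_combination (norm := module) hzk)).resolve_left h2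
    exact hkk (by rw [hα, hk0]; exact Orth.sym_zero_left hs _)
  · have hz' : ∀ v, (ζ : M1) *ᵥ v = v → (ζ : M1) *ᵥ ((A : M1) *ᵥ v) = -((A : M1) *ᵥ v) := fun v hv => by
      have h3 := congrArg (fun X : GL (Ix 1) F => (X : M1) *ᵥ v) h1
      simp only [hζ] at hv h3 ⊢
      simp only [gl_mul_mulVec, Units.val_neg, neg_mulVec, hv] at h3
      exact eq_neg_iff_add_eq_zero.2 (by rw [add_comm]; exact eq_neg_iff_add_eq_zero.1 h3)
    have horth : ∀ v w', (ζ : M1) *ᵥ v = v → (ζ : M1) *ᵥ w' = w' → B1 v ((A : M1) *ᵥ w') = 0 := fun v w' hv hw' => by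
      have h3 := bf_of_mem (zeta_mem (hg := hg) hp hr) v ((A : M1) *ᵥ w')
      rw [← hζ, hv, hz' w' hw', Orth.sym_neg_right hs] at h3
      exact (mul_eq_zero.1 (show (2 : F) * B1 v ((A : M1) *ᵥ w') = 0 by linear_combination -h3)).resolve_left h2
    have f1 := zeta_fix_left (hg := hg) hp hr hpr
    have f3 := zeta_fix_right (hg := hg) hp hr hpr
    refine minus_disc hg h2 hmin hp hr hAp (show B1 ((A : M1) *ᵥ r) ((A : M1) *ᵥ r) ≠ 0 by
      rw [bf_of_mem hAu]; exact hr) hpr (horth p p f1 f1) (horth p r f1 f3) (horth r p f3 f1) (horth r r f3 f3)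
      (by rw [bf_of_mem hAu]; exact hpr) ?_
    rw [bf_of_mem hAu, bf_of_mem hAu]
    exact ⟨_, rfl⟩

/-- **Theorem.** Two four-dimensional factors of minus type, given the centralisers of half turns. -/
theorem Ctx.main_four_two : M ≤ W2 := by
  classical
  intro x hx
  have h2 := hM.two
  have hs := bf_symmetric hg.wg
  obtain ⟨ν, hν⟩ : ∃ ν : F, ¬ IsSquare ν := FiniteField.exists_nonsquare fun h => h2 (by
    haveI := ringChar.of_eq h; exact CharTwo.two_eq_zero)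
  obtain ⟨d, -, hd⟩ := nd_aniso hs h2 (nd_top hs) (by rw [top_finrank hs, Fintype.card_fin]; omega)
  obtain ⟨d2, -, hd2v⟩ := nd_value hs h2 (nd_top hs) (by rw [top_finrank hs, Fintype.card_fin]; omega)
    (c := ν * B1 d d) (mul_ne_zero (fun e => hν (e ▸ IsSquare.zero)) hd)
  have hd2 : B1 d2 d2 ≠ 0 := by rw [hd2v]; exact mul_ne_zero (fun e => hν (e ▸ IsSquare.zero)) hd
  set v1 := tp 0 (rv hg d hd) (rv hg d hd) with hv1
  set v2 := tp 0 (rv hg d2 hd2) (rv hg d hd) with hv2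
  have hv1M : v1 ∈ M := hM.pp_mem ⟨2, rfl⟩ (oth_ne 0).symm hd hd
  have hv2M : v2 ∈ M := hM.pp_mem ⟨2, rfl⟩ (oth_ne 0).symm hd2 hd
  have hv11 : v1 * v1 = 1 := tp_sq 0 hd hd
  set y := x * v2 * x⁻¹ with hydef
  have hyM : y ∈ M := M.mul_mem (M.mul_mem hx hv2M) (M.inv_mem hx)
  have hy2 : y * y = 1 := by
    rw [hydef, show x * v2 * x⁻¹ * (x * v2 * x⁻¹) = x * (v2 * v2) * x⁻¹ by group, hv2, tp_sq]; group
  have hcl : Subgroup.closure ({v1, y} : Set _) ≤ M := (Subgroup.closure_le _).2 (by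
    rintro z (rfl | rfl)
    exacts [hv1M, hyM])
  suffices hyW : y ∈ W2 from hM.pair_fusion hN hmin hZ hx hd2 hd hyW
  rcases dihedral_cases hv11 hy2 with ⟨k, hk, hyk⟩ | ⟨c, i, -, hcmem, hc1, hcc, hca, hcy, hcases⟩
  · exfalso
    obtain ⟨w, hw⟩ := hM.pair_class hN hmin hZ (x := x⁻¹ * k) (M.mul_mem (M.inv_mem hx) (hcl hk)) hd hd hd2 hd (by
      rw [← hv1, show x⁻¹ * k * v1 * (x⁻¹ * k)⁻¹ = x⁻¹ * (k * v1 * k⁻¹) * x by group, ← hyk, hydef, ← hv2]; group)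
    rw [hd2v] at hw
    refine hν ⟨w / (B1 d d * B1 d d), ?_⟩
    rw [div_mul_div_comm, eq_div_iff (mul_ne_zero (mul_ne_zero hd hd) (mul_ne_zero hd hd)), ← hw]
    ring
  have hcM := hcl hcmem
  have hcW : c ∈ W2 := hM.pair_cent_two hN hmin hZ hd hd hcM (j := 0) hca
  have hzW : c * v1 ∈ W2 := mul_mem hcW (mk_mem_tw _ _ _)
  obtain ⟨k, l, hk, hl, hz⟩ : ∃ (k l : V1) (hk : B1 k k ≠ 0) (hl : B1 l l ≠ 0),
      c * v1 = tp 0 (rv hg k hk) (rv hg l hl) := by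
    rcases hcases with ⟨-, h, hh, hha, -⟩ | ⟨-, ⟨h, hh, hhy⟩, -⟩
    · obtain ⟨u, w, hu, hw, e1⟩ := hM.pair_image hN hmin hZ (hcl hh) hd hd (by rw [← hv1, hha]; exact hzW)
      exact ⟨u, w, hu, hw, hha.symm.trans e1⟩
    · have e4 : h * x * v2 * (h * x)⁻¹ = c * v1 := by rw [← hhy, hydef]; group
      obtain ⟨u, w, hu, hw, e1⟩ := hM.pair_image hN hmin hZ (M.mul_mem (hcl hh) hx) hd2 hd
        (by rw [← hv2, e4]; exact hzW)
      exact ⟨u, w, hu, hw, e4.symm.trans e1⟩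
  have hce : c = tp 0 (rv hg k hk * rv hg d hd) (rv hg l hl * rv hg d hd) := by
    rw [← mk_mul, ← hz, ← hv1, mul_assoc, hv11, mul_one]
  obtain ⟨hkd, hld⟩ := mk_comm_pair h2 (rv_mem hd) (rv_mem hd) hk hl (by
    rw [← hz, ← hv1, ← mul_assoc, ← hca])
  have hyc : y * c = c * y := hcy.symm
  by_cases hk1 : rv hg k hk = rv hg d hd
  · rw [hk1, rv_sq, mk_right] at hce
    by_cases hl1 : rv hg l hl = rv hg d hd
    · exact absurd (by rw [hce, hl1, rv_sq, sl_one]) hc1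
    · exact hM.rr_cent hN hmin hZ hyM hl hd (rv_orth h2 hl hd hld.symm hl1) (by rw [← hce]; exact hyc)
  by_cases hl1 : rv hg l hl = rv hg d hd
  · rw [hl1, rv_sq, mk_left] at hce
    exact hM.rr_cent hN hmin hZ hyM hk hd (rv_orth h2 hk hd hkd.symm hk1) (by rw [← hce]; exact hyc)
  refine hM.double_cent hN hmin hZ hk hd hl hd (rv_orth h2 hk hd hkd.symm hk1) (rv_orth h2 hl hd hld.symm hl1) hyM ?_
  rw [zeta, zeta, mk_neg_left, mk_neg_right, neg_neg, ← hce]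
  exact hyc

end CfsgLib.Perm.Trans.TensorPowerO
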