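import Mathlib
import Cfsg.Agent.Lib.Perm.Trans.TensorPowerO.K4Two

/-!
# Four-dimensional forms of minus type over three elements and six letters
-/

set_option autoImplicit false
set_option linter.all false

namespace CfsgLib.Perm.Trans.TensorPowerO

open scoped Matrix
open Matrix Cfsg.Geo CfsgLib.Perm.Asch CfsgLib.Perm.Trans CfsgLib.Perm.Trans.TensorPower
open CfsgLib.Perm.Trans.TensorSO CfsgLib.Perm.Trans.TensorOO

namespace Six

/-- an orthogonal basis of sum-zero functions on six letters modulo constants -/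
def E : Fin 4 → Fin 6 → ZMod 3 :=
  ![![1, -1, 0, 0, 0, 0], ![0, 0, 1, -1, 0, 0], ![1, 1, -1, -1, 0, 0], ![0, 0, 0, 0, 1, -1]]

/-- the values of the basis -/
def val : Fin 4 → ZMod 3 := ![-1, -1, 1, -1]

/-- the function with given coordinates -/
def comb (c : Fin 4 → ZMod 3) : Fin 6 → ZMod 3 := fun k => c 0 * E 0 k + c 1 * E 1 k + c 2 * E 2 k + c 3 * E 3 k

/-- the scalar product -/
def dot (w v : Fin 6 → ZMod 3) : ZMod 3 := w 0 * v 0 + w 1 * v 1 + w 2 * v 2 + w 3 * v 3 + w 4 * v 4 + w 5 * v 5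

/-- the coordinates of a function -/
def proj (w : Fin 6 → ZMod 3) : Fin 4 → ZMod 3 := fun i => val i * dot w (E i)

/-- the quadratic form in coordinates -/
def Q (c : Fin 4 → ZMod 3) : ZMod 3 :=
  val 0 * (c 0 * c 0) + val 1 * (c 1 * c 1) + val 2 * (c 2 * c 2) + val 3 * (c 3 * c 3)

/-- the action of a permutation in coordinates -/
def act (σ : Equiv.Perm (Fin 6)) (c : Fin 4 → ZMod 3) : Fin 4 → ZMod 3 := proj fun k => comb c (σ.symm k)

theorem sum_six (w : Fin 6 → ZMod 3) : w 0 + w 1 + w 2 + w 3 + w 4 + w 5 = ∑ k, w k := by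
  rw [Fin.sum_univ_six]

theorem dot_sum (w v : Fin 6 → ZMod 3) : dot w v = ∑ k, w k * v k := (sum_six fun k => w k * v k)

theorem comb_sum (c : Fin 4 → ZMod 3) : ∑ k, comb c k = 0 := by
  have h : ∀ i, E i 0 + E i 1 + E i 2 + E i 3 + E i 4 + E i 5 = 0 := by decide
  rw [← sum_six]
  simp only [comb]
  linear_combination c 0 * h 0 + c 1 * h 1 + c 2 * h 2 + c 3 * h 3

theorem key : ∀ w0 w1 w2 w3 w4 : ZMod 3, ∀ k : Fin 6,
    ![w0, w1, w2, w3, w4, -(w0 + w1 + w2 + w3 + w4)] k - comb (proj ![w0, w1, w2, w3, w4, -(w0 + w1 + w2 + w3 + w4)]) k =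
      w0 - comb (proj ![w0, w1, w2, w3, w4, -(w0 + w1 + w2 + w3 + w4)]) 0 := by
  decide +kernel

theorem key' {w : Fin 6 → ZMod 3} (hw : ∑ k, w k = 0) (k : Fin 6) : w k = comb (proj w) k + (w 0 - comb (proj w) 0) := by
  have e : w = ![w 0, w 1, w 2, w 3, w 4, -(w 0 + w 1 + w 2 + w 3 + w 4)] := by
    rw [← sum_six] at hw
    funext k
    fin_cases k <;> simp
    linear_combination hw
  have h := key (w 0) (w 1) (w 2) (w 3) (w 4) k
  rw [← e] at h
  linear_combination h

theorem proj_comb : ∀ c : Fin 4 → ZMod 3, proj (comb c) = c := by decide +kernel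

theorem proj_add_const (w : Fin 6 → ZMod 3) (t : ZMod 3) : proj (fun k => w k + t) = proj w := by
  funext i
  have h : ∀ i, E i 0 + E i 1 + E i 2 + E i 3 + E i 4 + E i 5 = 0 := by decide
  simp only [proj, dot]
  linear_combination val i * t * h i

theorem proj_add (w v : Fin 6 → ZMod 3) : proj (w + v) = proj w + proj v := by
  funext i
  simp only [proj, dot, Pi.add_apply]
  ring

theorem proj_smul (t : ZMod 3) (w : Fin 6 → ZMod 3) : proj (t • w) = t • proj w := by
  funext i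
  simp only [proj, dot, Pi.smul_apply, smul_eq_mul]
  ring

theorem act_add (σ : Equiv.Perm (Fin 6)) (c d : Fin 4 → ZMod 3) : act σ (c + d) = act σ c + act σ d := by
  rw [act, act, act, ← proj_add]
  congr 1
  funext k
  simp only [comb, Pi.add_apply]
  ring

theorem act_smul (σ : Equiv.Perm (Fin 6)) (t : ZMod 3) (c : Fin 4 → ZMod 3) : act σ (t • c) = t • act σ c := by
  rw [act, act, ← proj_smul]
  congr 1
  funext k
  simp only [comb, Pi.smul_apply, smul_eq_mul]
  ring

theorem act_proj (σ : Equiv.Perm (Fin 6)) {w : Fin 6 → ZMod 3} (hw : ∑ k, w k = 0) :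
    act σ (proj w) = proj fun k => w (σ.symm k) := by
  rw [act, show (fun k => w (σ.symm k)) = fun k => comb (proj w) (σ.symm k) + (w 0 - comb (proj w) 0) from
    funext fun k => key' hw _, proj_add_const]

theorem act_mul (σ τ : Equiv.Perm (Fin 6)) (c : Fin 4 → ZMod 3) : act σ (act τ c) = act (σ * τ) c := by
  rw [show act τ c = proj fun k => comb c (τ.symm k) from rfl,
    act_proj σ (by rw [Equiv.sum_comp τ.symm (comb c), comb_sum]), act]
  rfl

theorem act_one (c : Fin 4 → ZMod 3) : act 1 c = c := proj_comb c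

theorem Q_comb : ∀ c : Fin 4 → ZMod 3, Q c = dot (comb c) (comb c) := by decide +kernel

theorem two_eq : (2 : ZMod 3) = -1 := by decide

theorem one_add : (1 + 1 : ZMod 3) = -1 := by decide

theorem six_eq : ((6 : ℕ) : ZMod 3) = 0 := by decide

theorem dot_proj {w : Fin 6 → ZMod 3} (h0 : ∑ k, w k = 0) {v : Fin 6 → ZMod 3} (hv : ∑ k, v k = 0) :
    dot v (comb (proj w)) = dot v w := by
  rw [dot_sum, dot_sum]
  conv_rhs => rw [Finset.sum_congr rfl fun k _ => show v k * w k =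
    v k * comb (proj w) k + v k * (w 0 - comb (proj w) 0) by rw [key' h0 k]; ring]
  rw [Finset.sum_add_distrib, ← Finset.sum_mul, hv, zero_mul, add_zero]

theorem dot_comm (w v : Fin 6 → ZMod 3) : dot w v = dot v w := by
  simp only [dot]; ring

theorem Q_proj {w : Fin 6 → ZMod 3} (h0 : ∑ k, w k = 0) : Q (proj w) = dot w w := by
  rw [Q_comb, dot_proj h0 (comb_sum _), dot_comm, dot_proj h0 h0]

theorem Q_polar (c d : Fin 4 → ZMod 3) : Q (c + d) - Q c - Q d = 2 * dot (comb c) (comb d) := by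
  rw [Q_comb, Q_comb, Q_comb]
  simp only [dot, comb, Pi.add_apply]
  ring

theorem Q_act (σ : Equiv.Perm (Fin 6)) (c : Fin 4 → ZMod 3) : Q (act σ c) = Q c := by
  rw [act, Q_proj (by rw [Equiv.sum_comp σ.symm (comb c), comb_sum]), Q_comb, dot_sum, dot_sum]
  exact Equiv.sum_comp σ.symm fun k => comb c k * comb c k

/-- the difference of two letters -/
def diff (i j : Fin 6) : Fin 6 → ZMod 3 := Pi.single i 1 - Pi.single j 1

theorem diff_sum (i j : Fin 6) : ∑ k, diff i j k = 0 := by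
  simp [diff, Finset.sum_sub_distrib]

theorem act_swap (i j : Fin 6) (hij : i ≠ j) (c : Fin 4 → ZMod 3) :
    act (Equiv.swap i j) c = c - (comb c i - comb c j) • proj (diff i j) := by
  conv_rhs => rw [show c = proj (comb c) from (proj_comb c).symm]
  rw [proj_comb c, sub_eq_add_neg, ← neg_smul, ← proj_smul, act]
  conv_rhs => arg 1; rw [← proj_comb c]
  rw [← proj_add]
  congr 1
  funext k
  simp only [Pi.add_apply, Pi.smul_apply, smul_eq_mul, diff, Pi.sub_apply, Equiv.symm_swap]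
  rcases eq_or_ne k i with rfl | hki
  · simp [hij]
  rcases eq_or_ne k j with rfl | hkj
  · simp [hij.symm]
  rw [Equiv.swap_apply_of_ne_of_ne hki hkj]
  simp [hki, hkj]

theorem dot_diff (w : Fin 6 → ZMod 3) (i j : Fin 6) : dot w (diff i j) = w i - w j := by
  rw [dot_sum]
  simp [diff, mul_sub, Finset.sum_sub_distrib, Pi.single_apply]

theorem act_eq_one {σ : Equiv.Perm (Fin 6)} (h : ∀ c, act σ c = c) : σ = 1 := by
  have h10 : (1 : ZMod 3) ≠ 0 := by decide
  have hm : (-1 : ZMod 3) ≠ 1 := by decide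
  refine Equiv.ext fun i => ?_
  by_contra hne
  rw [Equiv.Perm.one_apply] at hne
  obtain ⟨j, hji⟩ := exists_ne i
  set w := diff i j with hw
  have e := h (proj w)
  rw [act_proj σ (diff_sum i j)] at e
  have e1 : ∀ k, w (σ.symm k) - w k = w (σ.symm 0) - w 0 := fun k => by
    have a := key' (w := fun k => w (σ.symm k)) (by rw [Equiv.sum_comp σ.symm w, diff_sum]) k
    have b := key' (w := w) (diff_sum i j) k
    rw [e] at a
    linear_combination a - b
  obtain ⟨k, hk⟩ : ∃ k, k ∉ ({i, j, σ i, σ j} : Finset (Fin 6)) := by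
    by_contra hcon
    push Not at hcon
    have := Finset.card_le_card (show (Finset.univ : Finset (Fin 6)) ⊆ {i, j, σ i, σ j} from fun k _ => hcon k)
    have h4 : ({i, j, σ i, σ j} : Finset (Fin 6)).card ≤ 4 := Finset.card_le_four
    rw [Finset.card_univ, Fintype.card_fin] at this
    omega
  simp only [Finset.mem_insert, Finset.mem_singleton, not_or] at hk
  obtain ⟨hki, hkj, hksi, hksj⟩ := hk
  have hk0 : w (σ.symm k) - w k = 0 := by
    have h1 : σ.symm k ≠ i := fun e0 => hksi (by rw [← e0, Equiv.apply_symm_apply])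
    have h3 : σ.symm k ≠ j := fun e0 => hksj (by rw [← e0, Equiv.apply_symm_apply])
    simp [hw, diff, h1, h3, hki, hkj]
  have hsi := e1 (σ i)
  rw [← e1 k, hk0, Equiv.symm_apply_apply, sub_eq_zero] at hsi
  have hwi : w i = 1 := by simp [hw, diff, Ne.symm hji]
  rw [hwi] at hsi
  rcases eq_or_ne (σ i) j with h1 | h1
  · rw [h1] at hsi
    simp [hw, diff, hji] at hsi
    exact hm hsi.symm
  · simp [hw, diff, hne, h1] at hsi

/-- the ten points -/
def tri : Fin 10 → Fin 6 → ZMod 3 :=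
  ![![1, 1, 1, 0, 0, 0], ![1, 1, 0, 1, 0, 0], ![1, 1, 0, 0, 1, 0], ![1, 1, 0, 0, 0, 1], ![1, 0, 1, 1, 0, 0],
    ![1, 0, 1, 0, 1, 0], ![1, 0, 1, 0, 0, 1], ![1, 0, 0, 1, 1, 0], ![1, 0, 0, 1, 0, 1], ![1, 0, 0, 0, 1, 1]]

/-- permutations carrying the points to the first -/
def move : Fin 10 → Equiv.Perm (Fin 6) :=
  ![1, Equiv.swap 2 3, Equiv.swap 2 4, Equiv.swap 2 5, Equiv.swap 1 3, Equiv.swap 1 4, Equiv.swap 1 5,
    Equiv.swap 1 3 * Equiv.swap 2 4, Equiv.swap 1 3 * Equiv.swap 2 5, Equiv.swap 1 4 * Equiv.swap 2 5]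

theorem tri_spec : ∀ i, proj (tri i) ≠ 0 ∧ Q (proj (tri i)) = 0 ∧ act (move i) (proj (tri i)) = proj (tri 0) := by
  decide +kernel

theorem tri_inj : ∀ i k, ∀ t : ZMod 3, proj (tri i) = t • proj (tri k) → i = k := by decide +kernel

theorem Q_count : ∀ t : ZMod 3,
    (Finset.univ.filter fun c : Fin 4 → ZMod 3 => Q c = t).card = if t = 0 then 21 else 30 := by
  decide +kernel

theorem Q_pairs :
    (Finset.univ.filter fun p : (Fin 4 → ZMod 3) × (Fin 4 → ZMod 3) => Q p.1 + Q p.2 = 0).card ≤ 2241 := by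
  classical
  let S := fun t : ZMod 3 => Finset.univ.filter fun c : Fin 4 → ZMod 3 => Q c = t
  have hsub : (Finset.univ.filter fun p : (Fin 4 → ZMod 3) × (Fin 4 → ZMod 3) => Q p.1 + Q p.2 = 0) ⊆
      (Finset.univ : Finset (ZMod 3)).biUnion fun t => S t ×ˢ S (-t) := fun p hp => by
    rw [Finset.mem_filter] at hp
    refine Finset.mem_biUnion.2 ⟨Q p.1, Finset.mem_univ _, Finset.mem_product.2 ⟨?_, ?_⟩⟩
    · exact Finset.mem_filter.2 ⟨Finset.mem_univ _, rfl⟩
    · exact Finset.mem_filter.2 ⟨Finset.mem_univ _, by linear_combination hp.2⟩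
  refine (Finset.card_le_card hsub).trans (Finset.card_biUnion_le.trans ?_)
  simp only [S, Finset.card_product, Q_count]
  decide

end Six

/-- subgroups of small index of the permutations of six letters have elements of order three -/
theorem perm_six_three (S : Subgroup (Equiv.Perm (Fin 6))) (h : S.index ≤ 27) : ∃ σ ∈ S, σ ^ 3 = 1 ∧ σ ≠ 1 := by
  classical
  by_contra hcon
  push Not at hcon
  haveI : Fact (Nat.Prime 3) := ⟨Nat.prime_three⟩
  haveI : Fact (Nat.Prime 5) := ⟨Nat.prime_five⟩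
  have h720 : Nat.card S * S.index = 720 := by
    rw [Subgroup.card_mul_index, Nat.card_perm, Nat.card_eq_fintype_card, Fintype.card_fin]; rfl
  have h27 : 27 ≤ Nat.card S := by nlinarith
  have h3 : ¬ 3 ∣ Nat.card S := fun h3 => by
    obtain ⟨σ, hσ⟩ := exists_prime_orderOf_dvd_card' 3 h3
    have h1 : (σ : Equiv.Perm (Fin 6)) = 1 := hcon σ σ.2 (by
      rw [← SubgroupClass.coe_pow, ← hσ, pow_orderOf_eq_one]; rfl)
    rw [show σ = 1 from Subtype.ext h1, orderOf_one] at hσ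
    omega
  have hdvd : Nat.card S ∣ 720 := Dvd.intro _ h720
  have h5 : 5 ∣ Nat.card S := by
    by_contra h5
    have h16 : Nat.card S ∣ 16 := by
      have c9 : Nat.Coprime (Nat.card S) 45 := by
        rw [Nat.coprime_comm, show (45 : ℕ) = 3 * 3 * 5 from rfl, Nat.coprime_mul_iff_left, Nat.coprime_mul_iff_left]
        exact ⟨⟨(Nat.Prime.coprime_iff_not_dvd Nat.prime_three).2 h3, (Nat.Prime.coprime_iff_not_dvd Nat.prime_three).2 h3⟩,
          (Nat.Prime.coprime_iff_not_dvd Nat.prime_five).2 h5⟩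
      exact c9.dvd_of_dvd_mul_right (show Nat.card S ∣ 16 * 45 by simpa using hdvd)
    have := Nat.le_of_dvd (by norm_num) h16
    omega
  obtain ⟨g, hg⟩ := exists_prime_orderOf_dvd_card' 5 h5
  have hg5 : orderOf (g : Equiv.Perm (Fin 6)) = 5 := by rw [Subgroup.orderOf_coe, hg]
  obtain ⟨p, hp⟩ : ∃ p, (g : Equiv.Perm (Fin 6)) p = p := by
    by_contra hne
    push Not at hne
    have hcyc := Equiv.Perm.cycleType_prime_order (σ := (g : Equiv.Perm (Fin 6))) (by rw [hg5]; norm_num)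
    obtain ⟨n, hn⟩ := hcyc
    have hs := Equiv.Perm.sum_cycleType (g : Equiv.Perm (Fin 6))
    have hsupp : (g : Equiv.Perm (Fin 6)).support = Finset.univ := by
      ext k; simp [hne k]
    rw [hn, hsupp, Multiset.sum_replicate, hg5, Finset.card_univ, Fintype.card_fin, smul_eq_mul] at hs
    omega
  -- every member fixes that point
  haveI : MulAction.IsPretransitive (Equiv.Perm (Fin 6)) (Fin 6) := ⟨fun a b => ⟨Equiv.swap a b, Equiv.swap_apply_left a b⟩⟩
  have hfix : ∀ σ ∈ S, σ p = p := by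
    by_contra hne
    push Not at hne
    obtain ⟨σ, hσ, hσp⟩ := hne
    have horb : ∀ q, ∃ τ ∈ S, τ p = q := by
      intro q
      by_cases hq : q = p
      · exact ⟨1, one_mem _, hq.symm⟩
      have hcyc : (g : Equiv.Perm (Fin 6)).IsCycle := by
        refine Equiv.Perm.isCycle_of_prime_order (by rw [hg5]; norm_num) ?_
        rw [hg5]
        refine (Finset.card_le_univ _).trans_lt ?_
        rw [Fintype.card_fin]; norm_num
      have hmoved : ∀ r, r ≠ p → (g : Equiv.Perm (Fin 6)) r ≠ r := by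
        have hc : (g : Equiv.Perm (Fin 6)).support.card = 5 := by rw [← hcyc.orderOf, hg5]
        intro r hr e0
        have hsub : (g : Equiv.Perm (Fin 6)).support ⊆ (Finset.univ.erase p).erase r := fun k hk => by
          rw [Equiv.Perm.mem_support] at hk
          exact Finset.mem_erase.2 ⟨fun e1 => hk (e1 ▸ e0), Finset.mem_erase.2 ⟨fun e1 => hk (e1 ▸ hp), Finset.mem_univ _⟩⟩
        have := Finset.card_le_card hsub
        rw [hc, Finset.card_erase_of_mem (Finset.mem_erase.2 ⟨hr, Finset.mem_univ _⟩),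
          Finset.card_erase_of_mem (Finset.mem_univ _), Finset.card_univ, Fintype.card_fin] at this
        omega
      obtain ⟨n, hn⟩ := hcyc.exists_pow_eq (hmoved _ hσp) (hmoved _ hq)
      exact ⟨(g : Equiv.Perm (Fin 6)) ^ n * σ, mul_mem (pow_mem g.2 n) hσ, hn⟩
    have h6 : Nat.card (MulAction.orbit S p) = 6 := by
      rw [show MulAction.orbit S p = Set.univ from Set.eq_univ_of_forall fun q => by
        obtain ⟨τ, hτ, e⟩ := horb q
        exact ⟨⟨τ, hτ⟩, e⟩, Nat.card_univ, Nat.card_eq_fintype_card, Fintype.card_fin]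
    have h63 : 6 ∣ Nat.card S := by
      have h7 := Subgroup.card_quotient_dvd_card (MulAction.stabilizer S p)
      rwa [← Nat.card_congr (MulAction.orbitEquivQuotientStabilizer S p), h6] at h7
    exact h3 ((show 3 ∣ 6 by norm_num).trans h63)
  have hle : S ≤ MulAction.stabilizer (Equiv.Perm (Fin 6)) p := fun σ hσ => hfix σ hσ
  have hst : Nat.card (MulAction.stabilizer (Equiv.Perm (Fin 6)) p) = 120 := by
    have h1 := (MulAction.stabilizer (Equiv.Perm (Fin 6)) p).index_mul_card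
    rw [MulAction.index_stabilizer_of_transitive, Nat.card_perm, Nat.card_eq_fintype_card (α := Fin 6), Fintype.card_fin,
      show Nat.factorial 6 = 720 from rfl] at h1
    omega
  have hrel : S.relIndex (MulAction.stabilizer (Equiv.Perm (Fin 6)) p) < 5 := by
    have h1 : Nat.card S * S.relIndex (MulAction.stabilizer (Equiv.Perm (Fin 6)) p) = 120 := by
      rw [← hst, ← Nat.card_congr (Subgroup.subgroupOfEquivOfLe hle).toEquiv]
      exact Subgroup.card_mul_index _
    nlinarith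
  have hmem : ∀ c : Equiv.Perm (Fin 6), c ^ 5 = 1 → c p = p → c ∈ S := by
    intro c hc hcp
    haveI : (S.subgroupOf (MulAction.stabilizer (Equiv.Perm (Fin 6)) p)).FiniteIndex := inferInstance
    obtain ⟨n, hn0, hn, hnc⟩ := Subgroup.exists_pow_mem_of_index_ne_zero
      (H := S.subgroupOf (MulAction.stabilizer (Equiv.Perm (Fin 6)) p)) Subgroup.FiniteIndex.index_ne_zero ⟨c, hcp⟩
    have hnc' : c ^ n ∈ S := hnc
    have hn5 : n < 5 := lt_of_le_of_lt hn hrel
    obtain ⟨m, hm⟩ : ∃ m, n * m % 5 = 1 := ⟨n ^ 3, by interval_cases n <;> norm_num⟩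
    have : c = (c ^ n) ^ m := by
      rw [← pow_mul, ← Nat.div_add_mod (n * m) 5, hm, pow_add, pow_mul, hc, one_pow, one_mul, pow_one]
    rw [this]
    exact pow_mem hnc' _
  set s := Equiv.swap p 5 with hs
  have hcj : ∀ c : Equiv.Perm (Fin 6), c ^ 5 = 1 → c 5 = 5 → s * c * s⁻¹ ∈ S := fun c hc hc5 => hmem _
    (by rw [conj_pow, hc]; group) (by simp [hs, hc5])
  have h1 := mul_mem (hcj c[0, 1, 2, 3, 4] (by decide +kernel) (by decide +kernel))
    (hcj c[4, 3, 2, 0, 1] (by decide +kernel) (by decide +kernel))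
  rw [show s * c[0, 1, 2, 3, 4] * s⁻¹ * (s * c[4, 3, 2, 0, 1] * s⁻¹) = s * (c[0, 1, 2, 3, 4] * c[4, 3, 2, 0, 1]) * s⁻¹
    by group] at h1
  have e3 : ((c[0, 1, 2, 3, 4] : Equiv.Perm (Fin 6)) * c[4, 3, 2, 0, 1]) ^ 3 = 1 := by decide +kernel
  have e1 := conj_eq_one_iff.1 (hcon _ h1 (by rw [conj_pow, e3]; group))
  revert e1
  decide +kernel

variable {F : Type*} [Field F] [Fintype F] {g : Ix 1 → F} {hg : Dg g}

local notation "M1" => Matrix (Ix 1) (Ix 1) F
local notation "V1" => Ix 1 → F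
local notation "B1" => bf g (s1 1)

/-- **Theorem.** The six letter model. -/
theorem exists_six (hg : Dg g) (h2 : (2 : F) ≠ 0) (hmin : Minus g) (hF : Fintype.card F = 3) :
    ∃ (φ : Equiv.Perm (Fin 6) →* GL (Ix 1) F) (pts : Fin 10 → V1), (∀ σ, φ σ ∈ u1 hg) ∧
      (∀ i k, i ≠ k → ∃ (d : V1) (hd : B1 d d ≠ 0), φ (Equiv.swap i k) = rv hg d hd) ∧
      (∀ σ, φ σ = 1 → σ = 1) ∧ (∀ i, pts i ≠ 0 ∧ B1 (pts i) (pts i) = 0) ∧
      (∀ i k, ∀ c : F, pts i = c • pts k → i = k) ∧ (∀ i, ∃ σ, (φ σ : M1) *ᵥ pts i = pts 0) ∧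
      Nat.card {v : V1 × V1 // B1 v.1 v.1 + B1 v.2 v.2 = 0} ≤ 2241 := by
  classical
  have hs := bf_symmetric hg.wg
  haveI : Fact (Nat.Prime 3) := ⟨Nat.prime_three⟩
  haveI : CharP F 3 := by
    obtain ⟨p, hp⟩ := CharP.exists F
    obtain ⟨n, hp', hn⟩ := FiniteField.card F p
    rw [hF] at hn
    have h1 : p ∣ 3 := hn ▸ dvd_pow_self p n.ne_zero
    rwa [(Nat.prime_dvd_prime_iff_eq hp' Nat.prime_three).1 h1] at hp
  let f : ZMod 3 →+* F := ZMod.castHom dvd_rfl F
  have hfb : Function.Bijective f :=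
    (Fintype.bijective_iff_injective_and_card f).2 ⟨f.injective, by rw [ZMod.card, hF]⟩
  -- the frame
  obtain ⟨u0, -, hu0⟩ := nd_value hs h2 (nd_top hs) (by rw [top_finrank hs, Fintype.card_fin]; omega)
    (c := (-1 : F)) (neg_ne_zero.2 one_ne_zero)
  have hu0' : B1 u0 u0 ≠ 0 := by rw [hu0]; exact neg_ne_zero.2 one_ne_zero
  have d0 := perp_dim hs h2 (Submodule.mem_top (x := u0)) hu0'
  rw [top_finrank hs, Fintype.card_fin] at d0
  have n0 := nd_perp hs (nd_top hs) (Submodule.mem_top (x := u0)) hu0'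
  obtain ⟨u1', hm1, hu1⟩ := nd_value hs h2 n0 (by omega) (c := (-1 : F)) (neg_ne_zero.2 one_ne_zero)
  have hu1' : B1 u1' u1' ≠ 0 := by rw [hu1]; exact neg_ne_zero.2 one_ne_zero
  have d1 := perp_dim hs h2 hm1 hu1'
  have n1 := nd_perp hs n0 hm1 hu1'
  obtain ⟨u2, hm2, hu2⟩ := nd_value hs h2 n1 (by omega) (c := (1 : F)) one_ne_zero
  have hu2' : B1 u2 u2 ≠ 0 := by rw [hu2]; exact one_ne_zero
  have d2 := perp_dim hs h2 hm2 hu2'
  obtain ⟨u3, hm3, hu3'⟩ := nd_aniso hs h2 (nd_perp hs n1 hm2 hu2') (by omega)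
  have o01 : B1 u0 u1' = 0 := by rw [bf_comm hg.wg]; exact hm1.2
  have o02 : B1 u0 u2 = 0 := by rw [bf_comm hg.wg]; exact hm2.1.2
  have o12 : B1 u1' u2 = 0 := by rw [bf_comm hg.wg]; exact hm2.2
  have o03 : B1 u0 u3 = 0 := by rw [bf_comm hg.wg]; exact hm3.1.1.2
  have o13 : B1 u1' u3 = 0 := by rw [bf_comm hg.wg]; exact hm3.1.2
  have o23 : B1 u2 u3 = 0 := by rw [bf_comm hg.wg]; exact hm3.2
  have hu3 : B1 u3 u3 = -1 := by
    have h := minus_disc hg h2 hmin hu0' hu1' hu2' hu3' o01 o02 o03 o12 o13 o23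
    rw [hu0, hu1, hu2, neg_mul_neg, one_mul, one_mul, one_mul] at h
    obtain ⟨t, ht⟩ := hfb.2 (B1 u3 u3)
    rw [← ht] at h hu3' ⊢
    fin_cases t
    · exact absurd (map_zero f) hu3'
    · exact absurd ⟨1, by rw [mul_one]; exact map_one f⟩ h
    · show f 2 = -1
      rw [Six.two_eq, map_neg, map_one]
  let T : (Fin 4 → ZMod 3) → V1 := fun c => f (c 0) • u0 + f (c 1) • u1' + f (c 2) • u2 + f (c 3) • u3
  have hTadd : ∀ c d, T (c + d) = T c + T d := fun c d => by
    simp only [T, Pi.add_apply, map_add]; module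
  have hTsmul : ∀ (t : ZMod 3) c, T (t • c) = f t • T c := fun t c => by
    simp only [T, Pi.smul_apply, smul_eq_mul, map_mul]; module
  have hTQ : ∀ c, B1 (T c) (T c) = f (Six.Q c) := fun c => by
    simp only [T, Six.Q, Six.val, Matrix.cons_val_zero, Matrix.cons_val_one, Matrix.cons_val, map_add, map_mul, map_neg,
      map_one, bf_add_left, bf_add_right, bf_smul_left, bf_smul_right, o01, o02, o03, o12, o13, o23,
      bf_comm hg.wg u1' u0, bf_comm hg.wg u2 u0, bf_comm hg.wg u3 u0, bf_comm hg.wg u2 u1', bf_comm hg.wg u3 u1',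
      bf_comm hg.wg u3 u2, hu0, hu1, hu2, hu3]
    ring
  have hexp := basis_expand h2 hg hu0' hu1' hu2' hu3' o01 o02 o03 o12 o13 o23
  have hTs : Function.Surjective T := fun v => by
    choose c hc using fun i : Fin 4 =>
      hfb.2 ((![B1 u0 v / B1 u0 u0, B1 u1' v / B1 u1' u1', B1 u2 v / B1 u2 u2, B1 u3 v / B1 u3 u3] : Fin 4 → F) i)
    refine ⟨c, ?_⟩
    simp only [T, hc, Matrix.cons_val_zero, Matrix.cons_val_one, Matrix.cons_val]
    exact (hexp v).symm
  have hTi : Function.Injective T := by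
    refine ((Fintype.bijective_iff_surjective_and_card T).2 ⟨hTs, ?_⟩).1
    rw [Fintype.card_fun, Fintype.card_fun, ZMod.card, hF, Fintype.card_fin]
  -- the matrices
  let N : Equiv.Perm (Fin 6) → M1 := fun σ =>
    (B1 u0 u0)⁻¹ • vecMulVec (T (Six.act σ (Pi.single 0 1))) (dual g (s1 1) u0) +
    (B1 u1' u1')⁻¹ • vecMulVec (T (Six.act σ (Pi.single 1 1))) (dual g (s1 1) u1') +
    (B1 u2 u2)⁻¹ • vecMulVec (T (Six.act σ (Pi.single 2 1))) (dual g (s1 1) u2) +
    (B1 u3 u3)⁻¹ • vecMulVec (T (Six.act σ (Pi.single 3 1))) (dual g (s1 1) u3)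
  have hN : ∀ σ c, N σ *ᵥ T c = T (Six.act σ c) := by
    intro σ c
    have hc : c = c 0 • Pi.single 0 1 + c 1 • Pi.single 1 1 + c 2 • Pi.single 2 1 + c 3 • Pi.single 3 1 := by
      funext i; fin_cases i <;> simp
    conv_rhs => rw [hc, Six.act_add, Six.act_add, Six.act_add, Six.act_smul, Six.act_smul, Six.act_smul, Six.act_smul,
      hTadd, hTadd, hTadd, hTsmul, hTsmul, hTsmul, hTsmul]
    simp only [N, add_mulVec, Matrix.smul_mulVec, vecMulVec_mulVec, op_smul_eq_smul, smul_smul]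
    rw [show dual g (s1 1) u0 ⬝ᵥ T c = B1 u0 (T c) from rfl, show dual g (s1 1) u1' ⬝ᵥ T c = B1 u1' (T c) from rfl,
      show dual g (s1 1) u2 ⬝ᵥ T c = B1 u2 (T c) from rfl, show dual g (s1 1) u3 ⬝ᵥ T c = B1 u3 (T c) from rfl]
    simp only [T, bf_add_right, bf_smul_right, o01, o02, o03, o12, o13, o23, bf_comm hg.wg u1' u0, bf_comm hg.wg u2 u0,
      bf_comm hg.wg u3 u0, bf_comm hg.wg u2 u1', bf_comm hg.wg u3 u1', bf_comm hg.wg u3 u2, hu0, hu1, hu2, hu3]
    match_scalars <;> field_simp <;> ring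
  let Nh : Equiv.Perm (Fin 6) →* M1 :=
    { toFun := N
      map_one' := Matrix.ext_iff_mulVec.2 fun v => by
        obtain ⟨c, rfl⟩ := hTs v
        rw [hN, Six.act_one, one_mulVec]
      map_mul' := fun σ τ => Matrix.ext_iff_mulVec.2 fun v => by
        obtain ⟨c, rfl⟩ := hTs v
        rw [hN, ← mulVec_mulVec, hN, hN, Six.act_mul] }
  let φ : Equiv.Perm (Fin 6) →* GL (Ix 1) F := Nh.toHomUnits
  have hφ : ∀ σ c, (φ σ : M1) *ᵥ T c = T (Six.act σ c) := hN
  refine ⟨φ, fun i => T (Six.proj (Six.tri i)), fun σ => mem_of_bf fun x y => ?_, fun i k hik => ?_, fun σ hσ => ?_,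
    fun i => ⟨fun e => (Six.tri_spec i).1 (hTi (e.trans ?_)), by rw [hTQ, (Six.tri_spec i).2.1, map_zero]⟩,
    fun i k c e => ?_, fun i => ⟨Six.move i, ?_⟩, ?_⟩
  · have hq : ∀ v, B1 ((φ σ : M1) *ᵥ v) ((φ σ : M1) *ᵥ v) = B1 v v := fun v => by
      obtain ⟨c, rfl⟩ := hTs v
      rw [hφ, hTQ, hTQ, Six.Q_act]
    have e := hq (x + y)
    simp only [mulVec_add, bf_add_left, bf_add_right, hq x, hq y, bf_comm hg.wg ((φ σ : M1) *ᵥ y),
      bf_comm hg.wg y x] at e
    refine mul_left_cancel₀ h2 ?_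
    linear_combination e
  · set w := Six.diff i k with hw
    have hval : B1 (T (Six.proj w)) (T (Six.proj w)) = -1 := by
      rw [hTQ, hw, Six.Q_proj (Six.diff_sum i k), Six.dot_diff]
      simp [Six.diff, hik, hik.symm]
      have h3 : (3 : F) = 0 := by simpa using CharP.cast_eq_zero F 3
      linear_combination h3
    have hd : B1 (T (Six.proj w)) (T (Six.proj w)) ≠ 0 := by rw [hval]; exact neg_ne_zero.2 one_ne_zero
    refine ⟨_, hd, Units.ext (Matrix.ext_iff_mulVec.2 fun v => ?_)⟩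
    obtain ⟨c, rfl⟩ := hTs v
    rw [hφ, rv_mulVec, Six.act_swap i k hik, hval]
    have hB : B1 (T c) (T (Six.proj w)) = f (Six.comb c i - Six.comb c k) := by
      have hpol : ∀ a b, 2 * B1 (T a) (T b) = f (Six.Q (a + b) - Six.Q a - Six.Q b) := fun a b => by
        rw [map_sub, map_sub, ← hTQ, ← hTQ, ← hTQ, hTadd]
        simp only [bf_add_left, bf_add_right, bf_comm hg.wg (T b) (T a)]
        ring
      refine mul_left_cancel₀ h2 ?_
      rw [hpol, ← map_ofNat f 2, ← map_mul, Six.Q_polar, hw, Six.dot_proj (Six.diff_sum i k) (Six.comb_sum c),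
        Six.dot_diff]
    rw [hB, sub_eq_add_neg c, ← neg_smul, hTadd, hTsmul, map_neg]
    rw [show (2 : F) / -1 = 1 from by
      rw [div_neg, div_one]
      have h3 : (3 : F) = 0 := by simpa using CharP.cast_eq_zero F 3
      linear_combination -h3, one_mul, neg_smul, ← sub_eq_add_neg]
  · refine Six.act_eq_one fun c => hTi ?_
    rw [← hφ, hσ, Units.val_one, one_mulVec]
  · simp [T]
  · obtain ⟨t, rfl⟩ := hfb.2 c
    refine Six.tri_inj i k t (hTi ?_)
    rw [hTsmul]; exact e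
  · rw [hφ, (Six.tri_spec i).2.2]
  · refine le_trans (Nat.le_of_eq ?_) Six.Q_pairs
    rw [← Fintype.card_coe, ← Nat.card_eq_fintype_card]
    refine (Nat.card_congr ((Equiv.ofBijective (Prod.map T T) ⟨hTi.prodMap hTi, hTs.prodMap hTs⟩).subtypeEquiv
      fun p => ?_)).symm
    show p ∈ Finset.filter _ _ ↔ B1 (T p.1) (T p.1) + B1 (T p.2) (T p.2) = 0
    simp only [Finset.mem_filter, Finset.mem_univ, true_and, hTQ, ← map_add, map_eq_zero]

end CfsgLib.Perm.Trans.TensorPowerO
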