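import Mathlib
import Cfsg.Agent.Lib.Perm.Trans.TensorPowerO.K4Six
import Cfsg.Agent.Lib.Perm.Trans.TensorPowerO.K4Fusion

/-!
# Two four-dimensional factors of minus type over three elements: the centraliser of a half turn
-/

set_option autoImplicit false
set_option linter.all false

namespace CfsgLib.Perm.Trans.TensorPowerO

open scoped Matrix
open Matrix Cfsg.Geo CfsgLib.Perm.Asch CfsgLib.Perm.Trans CfsgLib.Perm.Trans.TensorPower
open CfsgLib.Perm.Trans.TensorSO CfsgLib.Perm.Trans.TensorOO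

variable {F : Type*} [Field F] {g : Ix 1 → F} {hg : Dg g}

local notation "M1" => Matrix (Ix 1) (Ix 1) F
local notation "V1" => Ix 1 → F
local notation "B1" => bf g (s1 1)
local notation "B2" => bf (gT g (1 + 1)) (sT 1 (1 + 1))
local notation "V2" => (Fin (1 + 1) → Ix 1) → F
local notation "M2" => Matrix (Fin (1 + 1) → Ix 1) (Fin (1 + 1) → Ix 1) F
local notation "G2" => GL (Fin (1 + 1) → Ix 1) F
local notation "W2" => tensorWreathStandard (1 + 3) (1 + 1) F

/-- the tensor of two vectors, the given factor first -/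
def pt (j : Fin (1 + 1)) (v w : Ix 1 → F) : (Fin (1 + 1) → Ix 1) → F := tv j v fun p => w (p 0)

theorem pt_eq_pv (j : Fin (1 + 1)) (v w : V1) : pt j v w = TensorPower.pv (Function.update (fun _ => w) j v) := by
  rw [← tv_pv j (Function.update (fun _ => w) j v), Function.update_self, pt]
  congr 1
  funext p
  simp [TensorPower.pv, Function.update_of_ne (Fin.succAbove_ne j _)]

theorem tv_eq_pt (j : Fin (1 + 1)) (v : V1) (w : (Fin 1 → Ix 1) → F) : tv j v w = pt j v fun c => w fun _ => c := by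
  unfold pt
  congr 1
  funext p
  exact congrArg w (funext fun i => congrArg p (Subsingleton.elim _ _))

theorem tp_pt (j : Fin (1 + 1)) (A B : GL (Ix 1) F) (v w : V1) :
    (tp j A B : M2) *ᵥ pt j v w = pt j ((A : M1) *ᵥ v) ((B : M1) *ᵥ w) := by
  rw [mk_eq_pure, pureGL_coe, pt_eq_pv, pure_pv, pt_eq_pv]
  congr 1
  funext l
  rcases oth_cases j l with rfl | rfl
  · simp
  · simp [Function.update_of_ne (oth_ne j)]

theorem sl_pt (j : Fin (1 + 1)) (A : GL (Ix 1) F) (v w : V1) :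
    (sl j A : M2) *ᵥ pt j v w = pt j ((A : M1) *ᵥ v) w := sl_tv j A v _

theorem sl_pt_oth (j : Fin (1 + 1)) (B : GL (Ix 1) F) (v w : V1) :
    (sl (j + 1) B : M2) *ᵥ pt j v w = pt j v ((B : M1) *ᵥ w) := by
  rw [← mk_right, tp_pt, Units.val_one, one_mulVec]

theorem bf_pt (hg : Dg g) (j : Fin (1 + 1)) (v w v' w' : V1) :
    B2 (pt j v w) (pt j v' w') = B1 v v' * B1 w w' := by
  rw [pt_eq_pv, pt_eq_pv, bf_pv hg, Finset.prod_eq_mul j (j + 1) (oth_ne j).symm
    (fun l _ hl => absurd (oth_cases j l) (by tauto)) (fun h => absurd (Finset.mem_univ _) h)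
    (fun h => absurd (Finset.mem_univ _) h)]
  simp [Function.update_of_ne (oth_ne j)]

theorem pt_add_left (j : Fin (1 + 1)) (v v' w : V1) : pt j (v + v') w = pt j v w + pt j v' w :=
  map_add (tvL j fun p => w (p 0)) v v'

theorem pt_add_right (j : Fin (1 + 1)) (v w w' : V1) : pt j v (w + w') = pt j v w + pt j v w' :=
  map_add (tvR j v) (fun p : Fin 1 → Ix 1 => w (p 0)) fun p : Fin 1 → Ix 1 => w' (p 0)

theorem pt_smul_left (j : Fin (1 + 1)) (c : F) (v w : V1) : pt j (c • v) w = c • pt j v w := tv_smul_left j c v _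

theorem pt_smul_right (j : Fin (1 + 1)) (c : F) (v w : V1) : pt j v (c • w) = c • pt j v w :=
  tv_smul_right j c v fun p => w (p 0)

theorem pt_neg_left (j : Fin (1 + 1)) (v w : V1) : pt j (-v) w = -pt j v w := map_neg (tvL j fun p => w (p 0)) v

theorem tp_inv_three (j : Fin (1 + 1)) (A B : GL (Ix 1) F) : (tp j A B)⁻¹ = tp j A⁻¹ B⁻¹ :=
  inv_eq_of_mul_eq_one_right (by rw [mk_mul, mul_inv_cancel, mul_inv_cancel, mk_one])

theorem rv_inv {d : V1} (hd : B1 d d ≠ 0) : (rv hg d hd)⁻¹ = rv hg d hd := inv_eq_of_mul_eq_one_right (rv_sq hd)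

theorem pt_zero_left (j : Fin (1 + 1)) (w : V1) : pt j (0 : V1) w = 0 := map_zero (tvL j fun p : Fin 1 → Ix 1 => w (p 0))

theorem pt_zero_right (j : Fin (1 + 1)) (v : V1) : pt j v (0 : V1) = 0 := map_zero (tvR j v)

theorem units_neg_one_ne : (-1 : ℤˣ) ≠ 1 := by decide

theorem plane_pt (j : Fin (1 + 1)) (α β : F) (a b v : V1) :
    pt j (α • a + β • b) v = pt j a (α • v) + pt j b (β • v) := by
  rw [pt_add_left, pt_smul_left, pt_smul_left, pt_smul_right, pt_smul_right]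

/-- two orthogonal slices are independent -/
theorem pt_indep (hg : Dg g) {j : Fin (1 + 1)} {a b : V1} (ha : B1 a a ≠ 0) (hb : B1 b b ≠ 0) (hab : B1 a b = 0)
    {v w v' w' : V1} (h : pt j a v + pt j b w = pt j a v' + pt j b w') : v = v' ∧ w = w' := by
  have key : ∀ p, v p • a + w p • b = v' p • a + w' p • b := fun p => funext fun c => by
    have e := congrFun h (j.insertNth c fun _ => p)
    simp only [Pi.add_apply, pt, tv_apply_insertNth] at e
    simp only [Pi.add_apply, Pi.smul_apply, smul_eq_mul]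
    linear_combination e
  refine ⟨funext fun p => mul_right_cancel₀ ha ?_, funext fun p => mul_right_cancel₀ hb ?_⟩
  · simpa [bf_add_left, bf_smul_left, bf_comm hg.wg b a, hab] using congrArg (fun x => B1 x a) (key p)
  · simpa [bf_add_left, bf_smul_left, bf_comm hg.wg b a, hab] using congrArg (fun x => B1 x b) (key p)

/-- isometries agreeing on an orthogonal basis are equal -/
theorem ext_basis (h2 : (2 : F) ≠ 0) (hg : Dg g) {d f a b : V1} (hd : B1 d d ≠ 0) (hf : B1 f f ≠ 0) (ha : B1 a a ≠ 0)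
    (hb : B1 b b ≠ 0) (hdf : B1 d f = 0) (hda : B1 d a = 0) (hdb : B1 d b = 0) (hfa : B1 f a = 0) (hfb : B1 f b = 0)
    (hab : B1 a b = 0) {A B : GL (Ix 1) F} (h1 : (A : M1) *ᵥ d = (B : M1) *ᵥ d) (h3 : (A : M1) *ᵥ f = (B : M1) *ᵥ f)
    (h5 : (A : M1) *ᵥ a = (B : M1) *ᵥ a) (h7 : (A : M1) *ᵥ b = (B : M1) *ᵥ b) : A = B := by
  refine Units.ext (Matrix.ext_iff_mulVec.2 fun v => ?_)
  rw [basis_expand h2 hg hd hf ha hb hdf hda hdb hfa hfb hab v]
  simp only [mulVec_add, mulVec_smul, h1, h3, h5, h7]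

theorem three_elts [Fintype F] (hF : Fintype.card F = 3) (h2 : (2 : F) ≠ 0) (t : F) : t = 0 ∨ t = 1 ∨ t = -1 := by
  classical
  have h : ({0, 1, -1} : Finset F) = Finset.univ := by
    refine Finset.eq_univ_of_card _ ?_
    have h1 : (0 : F) ≠ 1 := zero_ne_one
    have h3 : (0 : F) ≠ -1 := (neg_ne_zero.2 one_ne_zero).symm
    have h5 : (1 : F) ≠ -1 := fun e => h2 (by linear_combination e)
    rw [hF, Finset.card_insert_of_notMem (by simp [h1, h3]), Finset.card_insert_of_notMem (by simp [h5]),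
      Finset.card_singleton]
  simpa using h.ge (Finset.mem_univ t)

theorem three_zero [Fintype F] (hF : Fintype.card F = 3) : (3 : F) = 0 := by
  simpa [hF] using FiniteField.cast_card_eq_zero F

theorem plane_aniso [Fintype F] (hF : Fintype.card F = 3) (h2 : (2 : F) ≠ 0) {α β : F}
    (h : α * α + β * β = 0) : α = 0 ∧ β = 0 := by
  rcases three_elts hF h2 α with rfl | rfl | rfl <;> rcases three_elts hF h2 β with rfl | rfl | rfl <;>
    ring_nf at h <;> first
      | exact ⟨rfl, rfl⟩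
      | exact absurd h one_ne_zero
      | exact absurd h h2

variable [Fintype F] {M : Subgroup (GL (Fin (1 + 1) → Ix 1) F)} (hM : Ctx hg M) (hN : NormTw hg 1) (hmin : Minus g)
  (hF : Fintype.card F = 3)
include hM hN hmin hF

/-- an element carrying a three-element of the other factor into the wreath subgroup -/
theorem Ctx.root_back {j : Fin (1 + 1)} {d f : V1} (hd : B1 d d ≠ 0) (hf : B1 f f ≠ 0) (hdf : B1 d f = 0)
    {T : GL (Ix 1) F} (hT : T ∈ u1 hg) (hT3 : T ^ 3 = 1) (hT1 : T ≠ 1) {y : G2} (hy : y ∈ M)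
    (hu : sl (j + 1) T ∈ M) (hW : y * sl (j + 1) T * y⁻¹ ∈ W2)
    (hc : y * sl (j + 1) T * y⁻¹ * sl j (zeta hg d f hd hf) = sl j (zeta hg d f hd hf) * (y * sl (j + 1) T * y⁻¹)) :
    y ∈ W2 := by
  have h2 := hM.two
  haveI : Fact (Nat.Prime 3) := ⟨Nat.prime_three⟩
  haveI : CharP F 3 := by
    obtain ⟨p, hp, hcp, -, -⟩ := exists_char (F := F) h2
    haveI := hcp
    have h3 := (CharP.cast_eq_zero_iff F p 3).1 (by exact_mod_cast three_zero hF)
    rwa [(Nat.prime_dvd_prime_iff_eq hp Nat.prime_three).1 h3] at hcp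
  obtain ⟨a, m, ha, haa, ham, hmm, rfl⟩ := exists_ei (p := 3) h2 hmin hT hT3 hT1
  obtain ⟨B, hB, hBp, hBe⟩ := tw_two_unipotent h2 (p := 3) (by decide) hW
    (hM.le_uT (M.mul_mem (M.mul_mem hy hu) (M.inv_mem hy))) (by rw [conj_pow, ← sl_pow, hT3, sl_one]; group)
  rw [hBe, pure_eq_mk j B, ← mk_left j (zeta hg d f hd hf), mk_mul, mk_mul, mul_one, one_mul, tp, tp] at hc
  have h1 := unip_comm_zeta h2 hmin (hB j) (hBp j) hd hf hdf (sl_inj (by omega) (mul_right_cancel hc))
  exact hM.root_to_slot hN hmin hy ha haa ham hmm (l := j + 1) (v := B (j + 1)) (by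
    rw [hBe, pure_eq_mk j B, h1, mk_right])

/-- **Theorem.** An element commuting with a quarter turn and fixing a point of the other factor. -/
theorem Ctx.point_stab {j : Fin (1 + 1)} {d f a b : V1} (hd : B1 d d ≠ 0) (hf : B1 f f ≠ 0) (ha : B1 a a ≠ 0)
    (hb : B1 b b ≠ 0) (hdf : B1 d f = 0) (hda : B1 d a = 0) (hdb : B1 d b = 0) (hfa : B1 f a = 0)
    (hfb : B1 f b = 0) (hab : B1 a b = 0) (hba : B1 b b = B1 a a) {R : GL (Ix 1) F}
    (hRR : R * R = zeta hg d f hd hf) (hRa : (R : M1) *ᵥ a = -b) (hRb : (R : M1) *ᵥ b = a) {y : G2} (hy : y ∈ M)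
    (hyc : y * sl j R = sl j R * y) {v0 : V1} (hv0 : v0 ≠ 0) (hv00 : B1 v0 v0 = 0) {α β α' β' : F}
    (hne : α ≠ 0 ∨ β ≠ 0) (h : (y : M2) *ᵥ pt j (α • a + β • b) v0 = pt j (α' • a + β' • b) v0) : y ∈ W2 := by
  classical
  have h2 := hM.two
  have hs := bf_symmetric hg.wg
  haveI : Fact (Nat.Prime 3) := ⟨Nat.prime_three⟩
  have h30 := three_zero hF
  set ζ := zeta hg d f hd hf with hζ
  have hζc : ∀ z : G2, z * sl j R = sl j R * z → z * sl j ζ = sl j ζ * z := fun z hz => by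
    rw [← hRR, ← sl_mul, ← mul_assoc, hz, mul_assoc, hz, mul_assoc]
  have hζa : (ζ : M1) *ᵥ a = -a := by
    rw [hζ, zeta_mulVec hd hf hdf, bf_comm hg.wg a d, hda, bf_comm hg.wg a f, hfa]; simp
  have hζb : (ζ : M1) *ᵥ b = -b := by
    rw [hζ, zeta_mulVec hd hf hdf, bf_comm hg.wg b d, hdb, bf_comm hg.wg b f, hfb]; simp
  have hN8 : ∀ z : G2, z * sl j ζ = sl j ζ * z → ∀ v w : V1,
      ∃ v' w' : V1, (z : M2) *ᵥ (pt j a v + pt j b w) = pt j a v' + pt j b w' := by
    intro z hz v w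
    have e : (sl j (zeta hg a b ha hb) : M2) *ᵥ ((z : M2) *ᵥ (pt j a v + pt j b w)) =
        (z : M2) *ᵥ (pt j a v + pt j b w) := by
      rw [zeta_neg_eq h2 hd hf ha hb hdf hda hdb hfa hfb hab, ← mk_left, mk_neg_left, mk_left, Units.val_neg,
        neg_mulVec, ← gl_mul_mulVec, ← hζ, ← hz, gl_mul_mulVec, mulVec_add (sl j ζ : M2), sl_pt, sl_pt, hζa, hζb,
        pt_neg_left, pt_neg_left, ← neg_add, mulVec_neg, neg_neg]
    obtain ⟨w1, w3, e1⟩ := zeta_fix_range h2 j ha hb hab e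
    exact ⟨_, _, by rw [e1, tv_eq_pt, tv_eq_pt]⟩
  -- the plane at the point
  have hplane : ∀ {z : G2}, z * sl j R = sl j R * z → ∀ {α β α' β' : F}, (α ≠ 0 ∨ β ≠ 0) →
      (z : M2) *ᵥ pt j (α • a + β • b) v0 = pt j (α' • a + β' • b) v0 →
      ∀ s t : F, ∃ s' t' : F, (z : M2) *ᵥ pt j (s • a + t • b) v0 = pt j (s' • a + t' • b) v0 := by
    intro z hz α β α' β' hne hq s t
    have hD : α * α + β * β ≠ 0 := fun e => hne.elim (fun h => h (plane_aniso hF h2 e).1) fun h =>
      h (plane_aniso hF h2 e).2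
    have hRq : (z : M2) *ᵥ pt j (β • a + (-α) • b) v0 = pt j (β' • a + (-α') • b) v0 := by
      have e1 := congrArg (fun x => (sl j R : M2) *ᵥ x) hq
      simp only [← gl_mul_mulVec] at e1
      rw [← hz, gl_mul_mulVec, sl_pt, sl_pt] at e1
      simpa [mulVec_add, mulVec_smul, hRa, hRb, add_comm, smul_neg, neg_smul] using e1
    obtain ⟨k, hk1⟩ : ∃ k : F, k * (α * α + β * β) = 1 := ⟨_, inv_mul_cancel₀ hD⟩
    refine ⟨k * ((s * α + t * β) * α' + (s * β - t * α) * β'), k * ((s * α + t * β) * β' - (s * β - t * α) * α'), ?_⟩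
    have e : s • a + t • b = (k * (s * α + t * β)) • (α • a + β • b) + (k * (s * β - t * α)) • (β • a + (-α) • b) := by
      match_scalars
      · linear_combination (-s) * hk1
      · linear_combination (-t) * hk1
    rw [e, pt_add_left, pt_smul_left j (k * _), pt_smul_left j (k * _), mulVec_add, mulVec_smul, mulVec_smul, hq, hRq,
      ← pt_smul_left, ← pt_smul_left, ← pt_add_left]
    congr 1
    module
  have hyi : y⁻¹ * sl j R = sl j R * y⁻¹ := by
    rw [inv_mul_eq_iff_eq_mul, ← mul_assoc, hyc, mul_inv_cancel_right]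
  have hy1 := hplane hyc hne h
  have hy3 : ∀ s t : F, ∃ s' t' : F, ((y⁻¹ : G2) : M2) *ᵥ pt j (s • a + t • b) v0 = pt j (s' • a + t' • b) v0 := by
    refine hplane hyi (α := α') (β := β') ?_ (α' := α) (β' := β) ?_
    · by_contra hcon
      push Not at hcon
      rw [hcon.1, hcon.2, zero_smul, zero_smul, add_zero, pt_zero_left, gl_mulVec_eq_zero] at h
      have h1 := pt_indep hg ha hb hab (v := α • v0) (w := β • v0) (v' := 0) (w' := 0) (by
        rw [← plane_pt, h, pt_zero_right, pt_zero_right, add_zero])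
      exact hne.elim (fun h0 => h0 ((smul_eq_zero.1 h1.1).resolve_right hv0))
        fun h0 => h0 ((smul_eq_zero.1 h1.2).resolve_right hv0)
    · rw [← h, gl_inv_mulVec]
  -- the unipotent radical of the point
  let G : Subgroup G2 :=
    { carrier := {z | z ∈ M ∧ z * sl j R = sl j R * z ∧
        (∀ s t : F, (z : M2) *ᵥ pt j (s • a + t • b) v0 = pt j (s • a + t • b) v0) ∧
        ∀ v w, B1 v v0 = 0 → B1 w v0 = 0 → ∃ s t : F,
          (z : M2) *ᵥ (pt j a v + pt j b w) = pt j a v + pt j b w + pt j (s • a + t • b) v0}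
      one_mem' := ⟨one_mem _, by rw [one_mul, mul_one], fun s t => by rw [Units.val_one, one_mulVec],
        fun v w _ _ => ⟨0, 0, by
          rw [Units.val_one, one_mulVec, zero_smul, zero_smul, add_zero,
            pt_zero_left, add_zero]⟩⟩
      mul_mem' := by
        rintro z z' ⟨m1, c1, f1, g1⟩ ⟨m3, c3, f3, g3⟩
        refine ⟨M.mul_mem m1 m3, by rw [mul_assoc, c3, ← mul_assoc, c1, mul_assoc],
          fun s t => by rw [gl_mul_mulVec, f3, f1], fun v w hv hw => ?_⟩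
        obtain ⟨s, t, e⟩ := g3 v w hv hw
        obtain ⟨s', t', e'⟩ := g1 v w hv hw
        exact ⟨s' + s, t' + t, by
          rw [gl_mul_mulVec, e, mulVec_add, e', f1, add_assoc, ← pt_add_left]; congr 2; module⟩
      inv_mem' := by
        rintro z ⟨m1, c1, f1, g1⟩
        refine ⟨M.inv_mem m1, by rw [inv_mul_eq_iff_eq_mul, ← mul_assoc, c1, mul_inv_cancel_right],
          fun s t => by conv_lhs => rw [← f1 s t, gl_inv_mulVec], fun v w hv hw => ?_⟩
        obtain ⟨s, t, e⟩ := g1 v w hv hw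
        refine ⟨-s, -t, ?_⟩
        have e' := congrArg (fun x => ((z⁻¹ : G2) : M2) *ᵥ x) e
        simp only [gl_inv_mulVec, mulVec_add] at e'
        rw [show ((z⁻¹ : G2) : M2) *ᵥ pt j (s • a + t • b) v0 = pt j (s • a + t • b) v0 by
          conv_lhs => rw [← f1 s t, gl_inv_mulVec]] at e'
        rw [show (-s) • a + (-t) • b = -(s • a + t • b) by module, pt_neg_left, mulVec_add]
        linear_combination (norm := module) -e' }
  have hGN : ∀ z ∈ G, z * sl j ζ = sl j ζ * z := fun z hz => hζc z hz.2.1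
  -- cubes fix the negated space
  have hcube : ∀ z ∈ G, ∀ v w, ((z ^ 3 : G2) : M2) *ᵥ (pt j a v + pt j b w) = pt j a v + pt j b w := by
    intro z hz v w
    obtain ⟨v', w', e⟩ := hN8 z (hGN z hz) v w
    have hperp : B1 (v' - v) v0 = 0 ∧ B1 (w' - w) v0 = 0 := by
      have key : ∀ s t : F, s * (B1 a a * B1 (v' - v) v0) + t * (B1 b b * B1 (w' - w) v0) = 0 := fun s t => by
        have h1 := bf_of_mem (hM.le_uT hz.1) (pt j a v + pt j b w) (pt j (s • a + t • b) v0)
        rw [hz.2.2.1, e] at h1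
        simp only [bf_add_left, bf_add_right, pt_add_left, pt_smul_left, bf_smul_right, bf_pt hg, hab,
          bf_comm hg.wg b a] at h1
        simp only [Orth.sym_sub_left hs]
        linear_combination h1
      have k1 := key 1 0
      have k3 := key 0 1
      simp only [one_mul, zero_mul, add_zero, zero_add] at k1 k3
      exact ⟨(mul_eq_zero.1 k1).resolve_left ha, (mul_eq_zero.1 k3).resolve_left hb⟩
    obtain ⟨s, t, e3⟩ := hz.2.2.2 _ _ hperp.1 hperp.2
    have f1 := hz.2.2.1 s t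
    generalize pt j (s • a + t • b) v0 = l at e3 f1
    have e1 : (z : M2) *ᵥ (pt j a v + pt j b w) = pt j a v + pt j b w + (pt j a (v' - v) + pt j b (w' - w)) := by
      rw [e]
      nth_rw 1 [show v' = v + (v' - v) by abel, show w' = w + (w' - w) by abel, pt_add_right, pt_add_right]
      abel
    generalize pt j a v + pt j b w = x at e1
    generalize pt j a (v' - v) + pt j b (w' - w) = x' at e1 e3
    rw [pow_succ, pow_succ, pow_one, gl_mul_mulVec, gl_mul_mulVec]
    simp only [e1, mulVec_add, e3, f1]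
    linear_combination (norm := module) congrArg (fun c : F => c • (x' + l)) h30
  -- the fixers of the negated space
  let K : Subgroup G :=
    { carrier := {z | ∀ v w, ((z : G2) : M2) *ᵥ (pt j a v + pt j b w) = pt j a v + pt j b w}
      one_mem' := fun v w => by simp
      mul_mem' := fun {z z'} h1 h3 v w => by rw [Subgroup.coe_mul, gl_mul_mulVec, h3, h1]
      inv_mem' := fun {z} h1 v w => by conv_lhs => rw [← h1 v w, InvMemClass.coe_inv, gl_inv_mulVec] }
  haveI hKn : K.Normal := ⟨fun k hk z v w => by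
    obtain ⟨v', w', e⟩ := hN8 _ (hGN _ (inv_mem z.2)) v w
    rw [Subgroup.coe_mul, Subgroup.coe_mul, InvMemClass.coe_inv, gl_mul_mulVec, gl_mul_mulVec, e, hk, ← e,
      gl_mulVec_inv]⟩
  set Hs := (W2).subgroupOf G with hHs
  have hKH : K ≤ Hs := by
    intro k hk
    have hfx : ∀ w : (Fin 1 → Ix 1) → F, ((k : G2) : M2) *ᵥ tv j a w = tv j a w := fun w => by
      have h1 := hk (fun c => w fun _ => c) 0
      rwa [pt_zero_right, add_zero, ← tv_eq_pt] at h1
    have hfx' : ∀ w : (Fin 1 → Ix 1) → F, ((k : G2) : M2) *ᵥ tv j b w = tv j b w := fun w => by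
      have h1 := hk 0 (fun c => w fun _ => c)
      rwa [pt_zero_right, zero_add, ← tv_eq_pt] at h1
    obtain ⟨u, -, e, -, -⟩ := hM.fix_two hN hmin ha hb hab (x := (k : G2))
      ⟨k.2.1, maps_one_iff.2 hfx⟩ ⟨k.2.1, maps_one_iff.2 hfx'⟩
    rw [hHs, Subgroup.mem_subgroupOf, e]
    exact sl_mem_tw _ _
  -- a root at the point
  obtain ⟨m, -, hm, -, hmm, -, -⟩ := exists_two_roots h2 hg hv0 hv00
  set T := ei hg v0 m with hT
  haveI : CharP F 3 := by
    obtain ⟨p, hp, hcp, -, -⟩ := exists_char (F := F) h2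
    haveI := hcp
    have h3 := (CharP.cast_eq_zero_iff F p 3).1 (by exact_mod_cast h30)
    rwa [(Nat.prime_dvd_prime_iff_eq hp Nat.prime_three).1 h3] at hcp
  set u := sl (j + 1) T with hu
  have hTu : T ∈ u1 hg := ei_mem h2 hv00 hm
  have hT3 : T ^ 3 = 1 := ei_pow_char h2 hv00 hm
  have hT1 : T ≠ 1 := ei_ne_one h2 hv0 hv00 hm hmm
  have huM : u ∈ M := hM.ei_sl _ hv00 hm
  have huG : u ∈ G := by
    refine ⟨huM, sl_comm (oth_ne j) _ _, fun s t => by rw [hu, sl_pt_oth, hT, ei_self h2 hv00 hm], fun v w hv hw =>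
      ⟨-B1 v m, -B1 w m, ?_⟩⟩
    rw [hu, mulVec_add, sl_pt_oth, sl_pt_oth, hT, ei_mulVec h2 hv00 hm, ei_mulVec h2 hv00 hm, hv, hw, plane_pt]
    simp only [zero_smul, add_zero, mul_zero, sub_zero, sub_eq_add_neg, pt_add_right, ← neg_smul, neg_zero, pt_zero_right]
    abel
  have hroot : ∀ z : G2, z ∈ M → z * u * z⁻¹ ∈ G → z * u * z⁻¹ ∈ W2 → z ∈ W2 := fun z hz hG hW =>
    hM.root_back hN hmin hF hd hf hdf hTu hT3 hT1 hz huM hW (hGN _ hG)
  have hidx : ∃ n, Hs.index = 3 ^ n := by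
    have hp : IsPGroup 3 (G ⧸ K) := fun q => by
      obtain ⟨z, rfl⟩ := QuotientGroup.mk_surjective q
      exact ⟨1, (QuotientGroup.eq_one_iff (z ^ 3 ^ 1)).2 fun v w => by
        rw [pow_one, SubgroupClass.coe_pow]; exact hcube _ z.2 v w⟩
    obtain ⟨n, hn⟩ := hp.exists_card_eq
    obtain ⟨i, -, hi⟩ := (Nat.dvd_prime_pow Nat.prime_three).1
      (show Hs.index ∣ 3 ^ n from hn ▸ Subgroup.index_dvd_of_le hKH)
    exact ⟨i, hi⟩
  have hGW : ∀ z ∈ G, z ∈ W2 := by
    have huH : (⟨u, huG⟩ : G) ∈ Hs := by rw [hHs, Subgroup.mem_subgroupOf]; exact sl_mem_tw _ _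
    have hP : IsPGroup 3 (Subgroup.zpowers (⟨u, huG⟩ : G)) := by
      rintro ⟨_, n, rfl⟩
      refine ⟨1, Subtype.ext (Subtype.ext ?_)⟩
      simp only [pow_one, SubgroupClass.coe_pow, SubgroupClass.coe_zpow, OneMemClass.coe_one]
      rw [← zpow_natCast, ← _root_.zpow_mul, mul_comm, _root_.zpow_mul, zpow_natCast, hu, ← sl_pow, hT3, sl_one,
        _root_.one_zpow]
    have hfix : MulAction.fixedPoints (Subgroup.zpowers (⟨u, huG⟩ : G)) (G ⧸ Hs) = {((1 : G) : G ⧸ Hs)} := by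
      ext q
      obtain ⟨z, rfl⟩ := QuotientGroup.mk_surjective q
      rw [Set.mem_singleton_iff, MulAction.mem_fixedPoints]
      constructor
      · intro hq
        have e : ((⟨u, huG⟩ * z : G) : G ⧸ Hs) = (z : G ⧸ Hs) := hq ⟨_, Subgroup.mem_zpowers _⟩
        rw [QuotientGroup.eq, hHs, Subgroup.mem_subgroupOf] at e
        have e' : (z : G2)⁻¹ * u * ((z : G2)⁻¹)⁻¹ ∈ W2 := by
          have e1 := inv_mem e
          simpa [mul_assoc] using e1
        have hz := hroot _ (M.inv_mem z.2.1)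
          (mul_mem (mul_mem (inv_mem z.2) huG) (inv_mem (inv_mem z.2))) e'
        rw [QuotientGroup.eq, hHs, Subgroup.mem_subgroupOf]
        simpa using hz
      · rintro hq ⟨k, hk⟩
        obtain ⟨n, rfl⟩ := hk
        show (((⟨u, huG⟩ : G) ^ n * z : G) : G ⧸ Hs) = (z : G ⧸ Hs)
        rw [QuotientGroup.eq] at hq ⊢
        have hz : z ∈ Hs := by simpa using hq
        exact mul_mem (inv_mem (mul_mem (zpow_mem huH n) hz)) hz
    have hmod := hP.card_modEq_card_fixedPoints (G ⧸ Hs)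
    rw [hfix, Nat.card_unique (α := ({((1 : G) : G ⧸ Hs)} : Set (G ⧸ Hs)))] at hmod
    obtain ⟨n, hn⟩ := hidx
    rw [← Subgroup.index, hn] at hmod
    have hn0 : n = 0 := by
      by_contra hne
      have h3 : 3 ^ n % 3 = 0 := Nat.mod_eq_zero_of_dvd (dvd_pow_self 3 hne)
      rw [Nat.ModEq, h3] at hmod
      omega
    rw [hn0, pow_zero, Subgroup.index_eq_one] at hn
    intro z hz
    have : (⟨z, hz⟩ : G) ∈ Hs := hn ▸ Subgroup.mem_top _
    rwa [hHs, Subgroup.mem_subgroupOf] at this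
  -- normalised by the stabiliser
  have hyu : y * u * y⁻¹ ∈ G := by
    refine ⟨M.mul_mem (M.mul_mem hy huM) (M.inv_mem hy), ?_, fun s t => ?_, fun v w hv hw => ?_⟩
    · rw [mul_assoc, hyi, mul_assoc, ← mul_assoc u, show u * sl j R = sl j R * u from sl_comm (oth_ne j) _ _,
        ← mul_assoc, ← mul_assoc, hyc, mul_assoc, mul_assoc, mul_assoc]
    · obtain ⟨s', t', e⟩ := hy3 s t
      rw [gl_mul_mulVec, gl_mul_mulVec, e, huG.2.2.1, ← e, gl_mulVec_inv]
    · obtain ⟨v', w', e⟩ := hN8 _ (hζc _ hyi) v w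
      have hperp : ∀ s t : F, s * (B1 a a * B1 v' v0) + t * (B1 b b * B1 w' v0) = 0 := fun s t => by
        obtain ⟨s', t', e1⟩ := hy1 s t
        have h1 := bf_of_mem (inv_mem (hM.le_uT hy)) (pt j a v + pt j b w) (pt j (s' • a + t' • b) v0)
        rw [← e1, gl_inv_mulVec, e, e1] at h1
        simp only [bf_add_left, bf_add_right, pt_add_left, pt_smul_left, bf_smul_right, bf_pt hg, hab,
          bf_comm hg.wg b a, hv, hw] at h1
        linear_combination h1
      have k1 := hperp 1 0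
      have k3 := hperp 0 1
      simp only [one_mul, zero_mul, add_zero, zero_add] at k1 k3
      obtain ⟨s, t, e1⟩ := huG.2.2.2 v' w' ((mul_eq_zero.1 k1).resolve_left ha) ((mul_eq_zero.1 k3).resolve_left hb)
      obtain ⟨s', t', e3⟩ := hy1 s t
      refine ⟨s', t', ?_⟩
      rw [gl_mul_mulVec, gl_mul_mulVec, e, e1, mulVec_add, e3, ← e, gl_mulVec_inv]
  exact hroot y hy hyu (hGW _ hyu)

/-- **Theorem.** The centraliser of a quarter turn. -/
theorem Ctx.quarter_cent {j : Fin (1 + 1)} {d f a b : V1} (hd : B1 d d ≠ 0) (hf : B1 f f ≠ 0) (ha : B1 a a ≠ 0)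
    (hb : B1 b b ≠ 0) (hdf : B1 d f = 0) (hda : B1 d a = 0) (hdb : B1 d b = 0) (hfa : B1 f a = 0)
    (hfb : B1 f b = 0) (hab : B1 a b = 0) (hba : B1 b b = B1 a a) {R : GL (Ix 1) F}
    (hRR : R * R = zeta hg d f hd hf) (hRa : (R : M1) *ᵥ a = -b) (hRb : (R : M1) *ᵥ b = a)
    (hrR : rv hg d hd * R = R * rv hg d hd) {x : G2} (hx : x ∈ M) (hxc : x * sl j R = sl j R * x) : x ∈ W2 := by
  classical
  have h2 := hM.two
  by_contra hxW
  obtain ⟨φ, pts, hφu, hφswap, hφinj, hpts, hptsinj, hptsmove, hcount⟩ := exists_six hg h2 hmin hF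
  -- lifting the six letters
  let e1 : ℤˣ →* GL (Ix 1) F :=
    { toFun := fun e => if e = 1 then 1 else rv hg d hd
      map_one' := if_pos rfl
      map_mul' := fun e e' => by
        rcases Int.units_eq_one_or e with rfl | rfl <;> rcases Int.units_eq_one_or e' with rfl | rfl <;>
          simp [rv_sq] }
  have he1 : e1 (-1) = rv hg d hd := by
    show (if (-1 : ℤˣ) = 1 then (1 : GL (Ix 1) F) else rv hg d hd) = _
    rw [if_neg units_neg_one_ne]
  let ψ : Equiv.Perm (Fin 6) →* G2 :=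
    { toFun := fun σ => tp j (e1 (Equiv.Perm.sign σ)) (φ σ)
      map_one' := by rw [map_one, map_one, map_one, mk_one]
      map_mul' := fun σ τ => by rw [map_mul, map_mul, map_mul, mk_mul] }
  have hψM : ∀ σ, ψ σ ∈ M := by
    intro σ
    induction σ using Equiv.Perm.swap_induction_on with
    | one => rw [map_one]; exact one_mem _
    | swap_mul τ i k hik ih =>
      rw [map_mul]
      refine M.mul_mem ?_ ih
      obtain ⟨w, hw, e⟩ := hφswap i k hik
      show tp j (e1 (Equiv.Perm.sign (Equiv.swap i k))) (φ (Equiv.swap i k)) ∈ M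
      rw [Equiv.Perm.sign_swap hik, e, he1]
      exact hM.pp_mem ⟨2, rfl⟩ (oth_ne j).symm hd hw
  have hψR : ∀ σ, ψ σ * sl j R = sl j R * ψ σ := by
    intro σ
    show tp j (e1 (Equiv.Perm.sign σ)) (φ σ) * sl j R = sl j R * tp j (e1 (Equiv.Perm.sign σ)) (φ σ)
    rw [← mk_left, mk_mul, mk_mul, mul_one, one_mul]
    congr 1
    rcases Int.units_eq_one_or (Equiv.Perm.sign σ) with h | h <;> rw [h]
    · rw [map_one, one_mul, mul_one]
    · rw [he1, hrR]
  have hψW : ∀ σ, ψ σ ∈ W2 := fun σ => mk_mem_tw _ _ _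
  have hψpt : ∀ σ (s t : F) (v : V1),
      (ψ σ : M2) *ᵥ pt j (s • a + t • b) v = pt j (s • a + t • b) ((φ σ : M1) *ᵥ v) := by
    intro σ s t v
    show (tp j (e1 (Equiv.Perm.sign σ)) (φ σ) : M2) *ᵥ _ = _
    rw [tp_pt]
    congr 1
    rcases Int.units_eq_one_or (Equiv.Perm.sign σ) with h | h <;> rw [h]
    · rw [map_one, Units.val_one, one_mulVec]
    · rw [he1, mulVec_add, mulVec_smul, mulVec_smul,
        rv_perp hd (by rw [bf_comm hg.wg]; exact hda), rv_perp hd (by rw [bf_comm hg.wg]; exact hdb)]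
  set X := M ⊓ Subgroup.centralizer {sl j R} with hX
  have hXc : ∀ z ∈ X, z * sl j R = sl j R * z := fun z hz => Subgroup.mem_centralizer_singleton_iff.1 hz.2
  have hXmk : ∀ z, z ∈ M → z * sl j R = sl j R * z → z ∈ X := fun z h1 h3 =>
    ⟨h1, Subgroup.mem_centralizer_singleton_iff.2 h3⟩
  set H := (W2).subgroupOf X with hH
  let ψX : Equiv.Perm (Fin 6) →* X := ψ.codRestrict X fun σ => hXmk _ (hψM σ) (hψR σ)
  -- few cosets
  have hN8 : ∀ (z : X) (s t : F) (v : V1), ∃ v' w' : V1,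
      ((z : G2) : M2) *ᵥ pt j (s • a + t • b) v = pt j a v' + pt j b w' := by
    intro z s t v
    have hzζ : (z : G2) * sl j (zeta hg d f hd hf) = sl j (zeta hg d f hd hf) * (z : G2) := by
      rw [← hRR, ← sl_mul, ← mul_assoc, hXc _ z.2, mul_assoc, hXc _ z.2, mul_assoc]
    have hq : (zeta hg a b ha hb : M1) *ᵥ (s • a + t • b) = s • a + t • b := by
      rw [mulVec_add, mulVec_smul, mulVec_smul, zeta_fix_left ha hb hab, zeta_fix_right ha hb hab]
    have e : (sl j (zeta hg a b ha hb) : M2) *ᵥ (((z : G2) : M2) *ᵥ pt j (s • a + t • b) v) =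
        ((z : G2) : M2) *ᵥ pt j (s • a + t • b) v := by
      rw [← gl_mul_mulVec, show sl j (zeta hg a b ha hb) * (z : G2) = (z : G2) * sl j (zeta hg a b ha hb) by
        rw [zeta_neg_eq h2 hd hf ha hb hdf hda hdb hfa hfb hab, ← mk_left, mk_neg_left, mk_left, neg_mul, mul_neg,
          hzζ], gl_mul_mulVec, sl_pt, hq]
    obtain ⟨w1, w3, e1⟩ := zeta_fix_range h2 j ha hb hab e
    exact ⟨_, _, by rw [e1, tv_eq_pt, tv_eq_pt]⟩
  choose V W hVW using hN8
  let D := (X ⧸ H) × Fin 10 × {p : F × F // p ≠ 0}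
  let Φ : D → V1 × V1 := fun q => (V q.1.out q.2.2.1.1 q.2.2.1.2 (pts q.2.1), W q.1.out q.2.2.1.1 q.2.2.1.2 (pts q.2.1))
  have hne : ∀ p : {p : F × F // p ≠ 0}, p.1.1 ≠ 0 ∨ p.1.2 ≠ 0 := fun p => by
    by_contra hcon
    push Not at hcon
    exact p.2 (Prod.ext hcon.1 hcon.2)
  have hΦinj : ∀ q q', Φ q = Φ q' → q = q' := by
    rintro ⟨c, i, p⟩ ⟨c', i', p'⟩ e
    simp only [Φ, Prod.mk.injEq] at e
    have e3 : ((c.out : G2) : M2) *ᵥ pt j (p.1.1 • a + p.1.2 • b) (pts i) =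
        ((c'.out : G2) : M2) *ᵥ pt j (p'.1.1 • a + p'.1.2 • b) (pts i') := by rw [hVW, hVW, e.1, e.2]
    obtain ⟨σ, hσ⟩ := hptsmove i
    obtain ⟨σ', hσ'⟩ := hptsmove i'
    set y : X := ψX σ' * c'.out⁻¹ * c.out * (ψX σ)⁻¹ with hy
    have hyW : (y : G2) ∈ W2 := by
      refine hM.point_stab hN hmin hF hd hf ha hb hdf hda hdb hfa hfb hab hba hRR hRa hRb y.2.1 (hXc _ y.2)
        (v0 := pts 0) (hpts 0).1 (hpts 0).2 (α := p.1.1) (β := p.1.2) (α' := p'.1.1) (β' := p'.1.2) (hne p) ?_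
      have e5 : (((ψX σ : X) : G2)⁻¹.val : M2) *ᵥ pt j (p.1.1 • a + p.1.2 • b) (pts 0) =
          pt j (p.1.1 • a + p.1.2 • b) (pts i) := by
        rw [← hσ, ← hψpt]
        exact gl_inv_mulVec (ψ σ) _
      rw [hy, Subgroup.coe_mul, Subgroup.coe_mul, Subgroup.coe_mul, InvMemClass.coe_inv, InvMemClass.coe_inv,
        gl_mul_mulVec, e5, gl_mul_mulVec, gl_mul_mulVec, e3, gl_inv_mulVec, ← hσ', ← hψpt]
      rfl
    have hcc : c = c' := by
      rw [← QuotientGroup.out_eq' c, ← QuotientGroup.out_eq' c']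
      refine (QuotientGroup.eq.2 ?_).symm
      show (((c'.out : X)⁻¹ * c.out : X) : G2) ∈ W2
      have h1 : (((c'.out : X)⁻¹ * c.out : X) : G2) = (ψ σ')⁻¹ * (y : G2) * ψ σ := by
        rw [hy]
        simp only [Subgroup.coe_mul, InvMemClass.coe_inv]
        show _ = (ψ σ')⁻¹ * (ψ σ' * (c'.out : G2)⁻¹ * (c.out : G2) * (ψ σ)⁻¹) * ψ σ
        group
      rw [h1]
      exact mul_mem (mul_mem (inv_mem (hψW σ')) hyW) (hψW σ)
    subst hcc
    have e7 := congrArg (fun x => (((c.out : G2)⁻¹ : G2) : M2) *ᵥ x) e3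
    simp only [gl_inv_mulVec, plane_pt] at e7
    obtain ⟨k1, k3⟩ := pt_indep hg ha hb hab e7
    have hii : i = i' := by
      rcases hne p with h | h
      · exact hptsinj i i' (p.1.1⁻¹ * p'.1.1) (by rw [mul_smul, ← k1, inv_smul_smul₀ h])
      · exact hptsinj i i' (p.1.2⁻¹ * p'.1.2) (by rw [mul_smul, ← k3, inv_smul_smul₀ h])
    subst hii
    have hpp : p = p' := Subtype.ext (Prod.ext (smul_left_injective F (hpts i).1 k1)
      (smul_left_injective F (hpts i).1 k3))
    rw [hpp]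
  have hΦval : ∀ q, B1 (Φ q).1 (Φ q).1 + B1 (Φ q).2 (Φ q).2 = 0 := by
    rintro ⟨c, i, p⟩
    have e := bf_of_mem (hM.le_uT c.out.2.1) (pt j (p.1.1 • a + p.1.2 • b) (pts i))
      (pt j (p.1.1 • a + p.1.2 • b) (pts i))
    rw [hVW, bf_pt hg, (hpts i).2, mul_zero] at e
    simp only [bf_add_left, bf_add_right, bf_pt hg, hab, bf_comm hg.wg b a, hba] at e
    exact (mul_eq_zero.1 (show B1 a a * (B1 (Φ (c, i, p)).1 (Φ (c, i, p)).1 + B1 (Φ (c, i, p)).2 (Φ (c, i, p)).2) = 0 by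
      simp only [Φ]; linear_combination e)).resolve_left ha
  have hΦ0 : ∀ q, Φ q ≠ 0 := by
    rintro ⟨c, i, p⟩ e0
    simp only [Φ, Prod.mk_eq_zero] at e0
    have e := hVW c.out p.1.1 p.1.2 (pts i)
    rw [e0.1, e0.2, pt_zero_right, pt_zero_right, add_zero, gl_mulVec_eq_zero, plane_pt] at e
    have h1 := pt_indep hg ha hb hab (v' := 0) (w' := 0) (by rw [e, pt_zero_right, pt_zero_right, add_zero])
    rcases hne p with h | h
    · exact h ((smul_eq_zero.1 h1.1).resolve_right (hpts i).1)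
    · exact h ((smul_eq_zero.1 h1.2).resolve_right (hpts i).1)
  have hNb : Nat.card (X ⧸ H) ≤ 28 := by
    have h0 : B1 (0 : V1) 0 + B1 (0 : V1) 0 = 0 := by
      rw [Orth.sym_zero_left (bf_symmetric hg.wg), add_zero]
    let Ψ : Option D → {v : V1 × V1 // B1 v.1 v.1 + B1 v.2 v.2 = 0} := fun o =>
      o.elim ⟨0, h0⟩ fun q => ⟨Φ q, hΦval q⟩
    have hΨ : Function.Injective Ψ := by
      rintro (_ | q) (_ | q') e
      · rfl
      · exact absurd (congrArg Subtype.val e).symm (hΦ0 q')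
      · exact absurd (congrArg Subtype.val e) (hΦ0 q)
      · exact congrArg some (hΦinj q q' (congrArg Subtype.val e))
    have hle := (Nat.card_le_card_of_injective Ψ hΨ).trans hcount
    have h8 : Nat.card {p : F × F // p ≠ 0} = 8 := by
      rw [Nat.card_eq_fintype_card, Fintype.card_subtype_compl, Fintype.card_prod, hF, Fintype.card_subtype_eq]
    rw [Finite.card_option, Nat.card_prod, Nat.card_prod, h8, Nat.card_eq_fintype_card (α := Fin 10),
      Fintype.card_fin] at hle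
    omega
  -- the six letters on the cosets
  letI : MulAction (Equiv.Perm (Fin 6)) (X ⧸ H) := MulAction.compHom _ ψX
  set q0 : X ⧸ H := ((⟨x, hXmk x hx hxc⟩ : X) : X ⧸ H) with hq0
  set S := MulAction.stabilizer (Equiv.Perm (Fin 6)) q0 with hS
  have hidx : S.index ≤ 27 := by
    rw [hS, MulAction.index_stabilizer]
    have hsub : MulAction.orbit (Equiv.Perm (Fin 6)) q0 ⊆ {((1 : X) : X ⧸ H)}ᶜ := by
      rintro q ⟨σ, rfl⟩ (e : ((ψX σ * ⟨x, hXmk x hx hxc⟩ : X) : X ⧸ H) = ((1 : X) : X ⧸ H))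
      rw [QuotientGroup.eq, mul_one, hH, Subgroup.mem_subgroupOf, InvMemClass.coe_inv, inv_mem_iff,
        Subgroup.coe_mul] at e
      exact hxW (by
        have h1 : (ψ σ)⁻¹ * (ψ σ * x) ∈ W2 := mul_mem (inv_mem (hψW σ)) e
        rwa [inv_mul_cancel_left] at h1)
    have h1 := Set.ncard_le_ncard hsub (Set.toFinite _)
    rw [Set.ncard_compl _ (Set.toFinite _), Set.ncard_singleton] at h1
    omega
  obtain ⟨σ, hσS, hσ3, hσ1⟩ := perm_six_three S hidx
  have hsgn : Equiv.Perm.sign σ = 1 := by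
    rcases Int.units_eq_one_or (Equiv.Perm.sign σ) with h | h
    · exact h
    · have h1 := congrArg Equiv.Perm.sign hσ3
      rw [map_pow, h, map_one] at h1
      exact absurd h1 (by decide)
  have hψσ : ψ σ = sl (j + 1) (φ σ) := by
    show tp j (e1 (Equiv.Perm.sign σ)) (φ σ) = _
    rw [hsgn, map_one, mk_right]
  have hfix : ((ψX σ * ⟨x, hXmk x hx hxc⟩ : X) : X ⧸ H) = q0 := hσS
  rw [hq0, QuotientGroup.eq, hH, Subgroup.mem_subgroupOf] at hfix
  have hzW : x⁻¹ * sl (j + 1) (φ σ) * x⁻¹⁻¹ ∈ W2 := by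
    have h1 := inv_mem hfix
    simp only [Subgroup.coe_mul, InvMemClass.coe_inv] at h1
    rw [show ((ψX σ : X) : G2) = sl (j + 1) (φ σ) from hψσ] at h1
    simpa [mul_assoc] using h1
  refine hxW (inv_inv x ▸ inv_mem (hM.root_back hN hmin hF hd hf hdf (hφu σ)
    (by rw [← map_pow, hσ3, map_one]) (fun e => hσ1 (hφinj σ e)) (M.inv_mem hx) (hψσ ▸ hψM σ) hzW ?_))
  have hc : ∀ z, z * sl j R = sl j R * z → z * sl j (zeta hg d f hd hf) = sl j (zeta hg d f hd hf) * z := fun z hz => by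
    rw [← hRR, ← sl_mul, ← mul_assoc, hz, mul_assoc, hz, mul_assoc]
  refine hc _ (hXc _ ?_)
  exact mul_mem (mul_mem (inv_mem (hXmk x hx hxc)) (hXmk _ (hψσ ▸ hψM σ) (sl_comm (oth_ne j) _ _)))
    (inv_mem (inv_mem (hXmk x hx hxc)))

/-- **Theorem.** Three elements: centralisers of half turns lie in the wreath subgroup. -/
theorem Ctx.zeta_cent_three : HalfCent hg M := by
  classical
  have h2 := hM.two
  intro x hx j d f hd hf hdf hxc
  obtain ⟨a, b, ha, hb, hda, hdb, hfa, hfb, hab⟩ := exists_completion h2 hg hd hf hdf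
  suffices key : ∀ {d f a b : V1} (hd : B1 d d ≠ 0) (hf : B1 f f ≠ 0) (ha : B1 a a ≠ 0) (hb : B1 b b ≠ 0),
      B1 d f = 0 → B1 d a = 0 → B1 d b = 0 → B1 f a = 0 → B1 f b = 0 → B1 a b = 0 →
      ¬ IsSquare (-(B1 a a * B1 b b)) → x * sl j (zeta hg d f hd hf) = sl j (zeta hg d f hd hf) * x → x ∈ W2 by
    rcases hyp_plane hg h2 hmin hd hf ha hb hdf hda hdb hfa hfb hab with ⟨-, h⟩ | ⟨h, -⟩
    · exact key hd hf ha hb hdf hda hdb hfa hfb hab h hxc
    · refine key ha hb hd hf hab (by rw [bf_comm hg.wg]; exact hda) (by rw [bf_comm hg.wg]; exact hfa)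
        (by rw [bf_comm hg.wg]; exact hdb) (by rw [bf_comm hg.wg]; exact hfb) hdf h ?_
      have e : sl j (zeta hg a b ha hb) = -sl j (zeta hg d f hd hf) := by
        rw [zeta_neg_eq h2 hd hf ha hb hdf hda hdb hfa hfb hab, ← mk_left, mk_neg_left, mk_left]
      rw [e, mul_neg, neg_mul, hxc]
  clear! d f a b
  intro d f a b hd hf ha hb hdf hda hdb hfa hfb hab hns hxc
  have hs := bf_symmetric hg.wg
  have h30 := three_zero hF
  have hba : B1 b b = B1 a a := by
    rcases three_elts hF h2 (B1 a a) with e | e | e <;> rcases three_elts hF h2 (B1 b b) with e' | e' | e' <;>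
      first
        | (rw [e, e']; done)
        | exact absurd e ha
        | exact absurd e' hb
        | exact absurd ⟨1, by rw [e, e']; ring⟩ hns
  have hs2 : B1 (a + b) (a + b) = 2 * B1 a a := by
    simp only [bf_add_left, bf_add_right, hab, bf_comm hg.wg b a, hba]; ring
  have hab' : B1 (a + b) (a + b) ≠ 0 := by rw [hs2]; exact mul_ne_zero h2 ha
  set R := rv hg a ha * rv hg (a + b) hab' with hR
  have hd' : ∀ v, B1 v a = 0 → B1 v b = 0 → (R : M1) *ᵥ v = v := fun v h1 h3 => by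
    rw [hR, gl_mul_mulVec, rv_perp hab' (by rw [bf_add_right, h1, h3, add_zero]), rv_perp ha h1]
  have hRd : (R : M1) *ᵥ d = d := hd' d hda hdb
  have hRf : (R : M1) *ᵥ f = f := hd' f hfa hfb
  have hS : ∀ v, (rv hg (a + b) hab' : M1) *ᵥ v = v - (B1 v (a + b) / B1 a a) • (a + b) := fun v => by
    rw [rv_mulVec, hs2]; congr 2; field_simp
  have hba0 : B1 b a = 0 := by rw [bf_comm hg.wg]; exact hab
  have hRa : (R : M1) *ᵥ a = -b := by
    rw [hR, gl_mul_mulVec, hS, bf_add_right, hab, add_zero, div_self ha, one_smul, sub_add_cancel_left,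
      mulVec_neg, rv_perp ha hba0]
  have hRb : (R : M1) *ᵥ b = a := by
    rw [hR, gl_mul_mulVec, hS, bf_add_right, hba0, hba, zero_add, div_self ha, one_smul, sub_add_cancel_right,
      mulVec_neg, rv_self, neg_neg]
  have hζa : (zeta hg d f hd hf : M1) *ᵥ a = -a := by
    rw [zeta_mulVec hd hf hdf, bf_comm hg.wg a d, hda, bf_comm hg.wg a f, hfa]; simp
  have hζb : (zeta hg d f hd hf : M1) *ᵥ b = -b := by
    rw [zeta_mulVec hd hf hdf, bf_comm hg.wg b d, hdb, bf_comm hg.wg b f, hfb]; simp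
  have hRR : R * R = zeta hg d f hd hf := by
    refine ext_basis h2 hg hd hf ha hb hdf hda hdb hfa hfb hab ?_ ?_ ?_ ?_
    · rw [gl_mul_mulVec, hRd, hRd, zeta_fix_left hd hf hdf]
    · rw [gl_mul_mulVec, hRf, hRf, zeta_fix_right hd hf hdf]
    · rw [gl_mul_mulVec, hRa, mulVec_neg, hRb, hζa]
    · rw [gl_mul_mulVec, hRb, hRa, hζb]
  have hrd : (rv hg d hd : M1) *ᵥ a = a ∧ (rv hg d hd : M1) *ᵥ b = b :=
    ⟨rv_perp hd (by rw [bf_comm hg.wg]; exact hda), rv_perp hd (by rw [bf_comm hg.wg]; exact hdb)⟩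
  have hrR : rv hg d hd * R = R * rv hg d hd := by
    refine ext_basis h2 hg hd hf ha hb hdf hda hdb hfa hfb hab ?_ ?_ ?_ ?_ <;>
      rw [gl_mul_mulVec (rv hg d hd) R, gl_mul_mulVec R (rv hg d hd)]
    · rw [hRd, rv_self, mulVec_neg, hRd]
    · rw [hRf, rv_perp hd (by rw [bf_comm hg.wg]; exact hdf), hRf]
    · rw [hrd.1, hRa, mulVec_neg, hrd.2]
    · rw [hrd.2, hRb, hrd.1]
  have hRM : sl j R ∈ M := hM.rr_mem ⟨2, rfl⟩ j ha hab'
  have hfx : ∀ v, (R : M1) *ᵥ v = v → sl j R ∈ fixSlice M j v := fun v hv =>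
    ⟨hRM, maps_one_iff.2 fun w => by rw [sl_tv, hv]⟩
  obtain ⟨h1, h3⟩ := hM.fix_two_normal hd hf hdf hx hxc (hfx d hRd) (hfx f hRf)
  obtain ⟨u, hu, hxu, hud, huf⟩ := hM.fix_two hN hmin hd hf hdf h1 h3
  have huu : u * u = zeta hg d f hd hf := by
    refine sl_inj (k := j) (by omega) ?_
    rw [← sl_mul, ← hxu, show x * sl j R * x⁻¹ * (x * sl j R * x⁻¹) = x * (sl j R * sl j R) * x⁻¹ by group, sl_mul,
      hRR, hxc, mul_inv_cancel_right]
  have hua : ∃ s t : F, (u : M1) *ᵥ a = s • a + t • b := by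
    refine ⟨B1 a ((u : M1) *ᵥ a) / B1 a a, B1 b ((u : M1) *ᵥ a) / B1 b b, ?_⟩
    conv_lhs => rw [basis_expand h2 hg hd hf ha hb hdf hda hdb hfa hfb hab ((u : M1) *ᵥ a)]
    have e1 := bf_of_mem hu d a
    have e3 := bf_of_mem hu f a
    rw [hud, hda] at e1
    rw [huf, hfa] at e3
    rw [e1, e3, zero_div, zero_div, zero_smul, zero_smul, zero_add, zero_add]
  obtain ⟨s, t, hua⟩ := hua
  have hst : s * s + t * t = 1 := by
    have e1 := bf_of_mem hu a a
    simp only [hua, bf_add_left, bf_add_right, bf_smul_left, bf_smul_right, hab, hba0, hba] at e1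
    exact mul_right_cancel₀ ha (by linear_combination e1)
  have huua : (u : M1) *ᵥ ((u : M1) *ᵥ a) = -a := by rw [← gl_mul_mulVec, huu, hζa]
  have ha0 : a ≠ 0 := fun e => ha (by rw [e]; exact Orth.sym_zero_left hs _)
  have ht : t ≠ 0 := by
    intro t0
    rw [hua, t0, zero_smul, add_zero, mulVec_smul, hua, t0, zero_smul, add_zero, smul_smul] at huua
    rw [t0, mul_zero, add_zero] at hst
    rw [hst, one_smul] at huua
    exact ha0 ((smul_eq_zero.1 (show (2 : F) • a = 0 by linear_combination (norm := module) huua)).resolve_left h2)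
  have hs0 : s = 0 := by
    rcases three_elts hF h2 s with rfl | rfl | rfl
    · rfl
    all_goals
      exfalso
      exact ht (mul_self_eq_zero.1 (by linear_combination hst))
  rw [hs0, zero_smul, zero_add] at hua
  rw [hua, mulVec_smul] at huua
  rcases three_elts hF h2 t with rfl | rfl | rfl
  · exact absurd rfl ht
  · -- the inverse quarter turn
    rw [one_smul] at hua huua
    have hu' : u = rv hg a ha * R * rv hg a ha := by
      refine ext_basis h2 hg hd hf ha hb hdf hda hdb hfa hfb hab ?_ ?_ ?_ ?_ <;> rw [gl_mul_mulVec, gl_mul_mulVec]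
      · rw [hud, rv_perp ha hda, hRd, rv_perp ha hda]
      · rw [huf, rv_perp ha hfa, hRf, rv_perp ha hfa]
      · rw [hua, rv_self, mulVec_neg, hRa, neg_neg, rv_perp ha hba0]
      · rw [huua, rv_perp ha hba0, hRb, rv_self]
    set k := tp j (rv hg a ha) (rv hg a ha) with hk
    have hkW : k ∈ W2 := mk_mem_tw _ _ _
    have hxk : k * x * sl j R = sl j R * (k * x) := by
      refine mul_inv_eq_iff_eq_mul.1 ?_
      rw [show k * x * sl j R * (k * x)⁻¹ = k * (x * sl j R * x⁻¹) * k⁻¹ by group, hxu, hu', hk, tp_inv_three, ← mk_left,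
        mk_mul, mk_mul, mul_one, mul_inv_cancel, rv_inv, ← mul_assoc, ← mul_assoc, rv_sq, one_mul, mul_assoc, rv_sq,
        mul_one, mk_left]
    have hkM : k ∈ M := hM.pp_mem ⟨2, rfl⟩ (oth_ne j).symm ha ha
    have h5 := hM.quarter_cent hN hmin hF hd hf ha hb hdf hda hdb hfa hfb hab hba hRR hRa hRb hrR
      (M.mul_mem hkM hx) hxk
    have h7 := mul_mem (inv_mem hkW) h5
    rwa [inv_mul_cancel_left] at h7
  · have hu' : u = R := by
      refine ext_basis h2 hg hd hf ha hb hdf hda hdb hfa hfb hab (hud.trans hRd.symm) (huf.trans hRf.symm) ?_ ?_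
      · rw [hua, hRa, neg_one_smul]
      · rw [hRb]
        rw [neg_one_smul, neg_inj] at huua
        exact huua
    rw [hu'] at hxu
    exact hM.quarter_cent hN hmin hF hd hf ha hb hdf hda hdb hfa hfb hab hba hRR hRa hRb hrR hx
      (mul_inv_eq_iff_eq_mul.1 hxu)

end CfsgLib.Perm.Trans.TensorPowerO
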