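import Mathlib
import Cfsg.Agent.Lib.Perm.Trans.TensorPowerO.Form
import Cfsg.Agent.Lib.Perm.Trans.OrthExt.Base

/-!
# The commutator subgroup of the isometries of a tensor power
-/

set_option autoImplicit false
set_option linter.all false

namespace CfsgLib.Perm.Trans.TensorPowerO

open scoped Matrix
open Matrix Cfsg.Geo CfsgLib.Perm.Asch CfsgLib.Perm.Trans CfsgLib.Perm.Trans.TensorPower CfsgLib.Perm.Trans.Quad

variable {F : Type*} [Field F]

section General

variable {ι : Type} [Fintype ι] [DecidableEq ι] {g : ι → F} {S : ι → ι}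

omit [DecidableEq ι] in
theorem bf_add_left (u v w : ι → F) : bf g S (u + v) w = bf g S u w + bf g S v w := by
  rw [bf, bf, bf, dual_add, add_dotProduct]

omit [DecidableEq ι] in
theorem bf_smul_left (c : F) (u w : ι → F) : bf g S (c • u) w = c * bf g S u w := by
  rw [bf, bf, dual_smul, smul_dotProduct, smul_eq_mul]

omit [DecidableEq ι] in
theorem bf_add_right (u v w : ι → F) : bf g S u (v + w) = bf g S u v + bf g S u w := dotProduct_add _ _ _

omit [DecidableEq ι] in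
theorem bf_smul_right (c : F) (u w : ι → F) : bf g S u (c • w) = c * bf g S u w := by
  rw [bf, bf, dotProduct_smul, smul_eq_mul]

theorem bf_single (h : Wg g S) (a : ι) (w : ι → F) : bf g S (Pi.single a 1) w = g a * w (S a) := by
  rw [bf, dual_single h, single_dotProduct, mul_one]

theorem bf_symmetric (h : Wg g S) : IsSymmetricForm (bf g S) := by
  have hnd : ∀ v : ι → F, v ≠ 0 → ∃ x, bf g S x v ≠ 0 := fun v hv => by
    by_contra hcon
    push Not at hcon
    refine hv (funext fun y => ?_)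
    have e := hcon (Pi.single (S y) 1)
    rw [bf_single h, h.inv, mul_eq_zero] at e
    exact e.resolve_left (h.nz _)
  exact ⟨⟨bf_add_left, bf_smul_left, fun v x y => bf_add_right v x y, bf_smul_right⟩, bf_comm h,
    fun v hv => ⟨hnd v hv, let ⟨x, hx⟩ := hnd v hv; ⟨x, by rwa [bf_comm h]⟩⟩⟩

/-- the quadratic form -/
def qf (g : ι → F) (S : ι → ι) (u : ι → F) : F := bf g S u u / 2

theorem polar_qf (h : Wg g S) (h2 : (2 : F) ≠ 0) (u w : ι → F) :
    QuadraticMap.polar (qf g S) u w = bf g S u w := by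
  simp only [QuadraticMap.polar, qf, bf_add_left, bf_add_right, bf_comm h w u]
  field_simp
  ring

theorem qf_nd (h : Wg g S) (h2 : (2 : F) ≠ 0) : IsNondegenerateQuadraticForm (qf g S) := by
  have hs := bf_symmetric h
  have e : QuadraticMap.polar (qf g S) = bf g S := funext fun u => funext fun w => polar_qf h h2 u w
  refine ⟨fun c v => ?_, e ▸ hs.bilinear, e ▸ hs.nondegenerate⟩
  rw [qf, qf, bf_smul_left, bf_smul_right]
  ring

theorem iso_qf (h : Wg g S) (h2 : (2 : F) ≠ 0) : Cfsg.isometryGroup F (qf g S) = uSub h := by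
  ext a
  refine ⟨fun ha => mem_of_bf fun u w => ?_, fun ha => Quad.mem_iso.2 fun u => ?_⟩
  · rw [← polar_qf h h2, ← polar_qf h h2, iso_pol ha]
  · rw [qf, qf, bf_of_mem ha]

/-- a group with the same bilinear form -/
theorem iso_of_polar (h : Wg g S) (h2 : (2 : F) ≠ 0) {Q : (ι → F) → F} (hQ : IsNondegenerateQuadraticForm Q) {c : F}
    (hc : c ≠ 0) (hpol : ∀ u w, QuadraticMap.polar Q u w = c * bf g S u w) :
    Cfsg.isometryGroup F Q = uSub h := by
  ext a
  refine ⟨fun ha => mem_of_bf fun u w => mul_left_cancel₀ hc ?_, fun ha => Quad.mem_iso.2 fun u => ?_⟩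
  · rw [← hpol, ← hpol, iso_pol ha]
  · refine mul_left_cancel₀ h2 ?_
    rw [← pself hQ, ← pself hQ, hpol, hpol, bf_of_mem ha]

end General

variable {n t : ℕ} {g : Ix n → F}

/-- the commutator subgroup of the isometries -/
def Om (hg : Dg g) (t : ℕ) : Subgroup (GL (Fin t → Ix n) F) := ⁅uT hg t, uT hg t⁆

variable {hg : Dg g}

theorem Om_eq (h2 : (2 : F) ≠ 0) : omegaGL (qf (gT g t) (sT n t)) = Om hg t := by
  rw [omegaGL]
  refine (Subgroup.map_subtype_commutator _).trans ?_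
  rw [iso_qf hg.wgT h2, Om]

theorem Om_le : Om hg t ≤ uT hg t := (uT hg t).commutator_le_self

theorem comm_mem {a b : GL (Fin t → Ix n) F} (ha : a ∈ uT hg t) (hb : b ∈ uT hg t) : a * b * a⁻¹ * b⁻¹ ∈ Om hg t :=
  Subgroup.commutator_mem_commutator ha hb

theorem Om_conj {a x : GL (Fin t → Ix n) F} (ha : a ∈ uT hg t) (hx : x ∈ Om hg t) : a * x * a⁻¹ ∈ Om hg t := by
  have := mul_mem (comm_mem ha (Om_le hx)) hx
  rwa [inv_mul_cancel_right] at this

theorem embGL_mem_Om {s : ℕ} (j : Fin (s + 1)) {b : GL (Fin s → Ix n) F} (hb : b ∈ Om hg s) :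
    embGL j b ∈ Om hg (s + 1) := by
  have hle : (Om hg s).map (embGL j) ≤ Om hg (s + 1) := by
    rw [Om, Om, Subgroup.map_commutator]
    exact Subgroup.commutator_mono (Subgroup.map_le_iff_le_comap.2 fun x hx => embGL_mem_uT j hx)
      (Subgroup.map_le_iff_le_comap.2 fun x hx => embGL_mem_uT j hx)
  exact hle (Subgroup.mem_map_of_mem _ hb)

theorem card_ge (ht : 2 ≤ t) : 5 ≤ Fintype.card (Fin t → Ix n) := by
  rw [Fintype.card_fun, Fintype.card_fin, Fintype.card_fin]
  have h1 : (n + 3) ^ 2 ≤ (n + 3) ^ t := Nat.pow_le_pow_right (by omega) ht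
  have h3 : 3 ^ 2 ≤ (n + 3) ^ 2 := Nat.pow_le_pow_left (by omega) 2
  omega

variable [Fintype F] (h2 : (2 : F) ≠ 0) (ht : 2 ≤ t)
include h2

theorem sq_mem (ht : 2 ≤ t) {a : GL (Fin t → Ix n) F} (ha : a ∈ uT hg t) : a * a ∈ Om hg t := by
  rw [← Om_eq h2]
  exact OrthExt.sq_omega (qf_nd hg.wgT h2) (card_ge ht) (by rwa [iso_qf hg.wgT h2])

theorem odd_mem (ht : 2 ≤ t) {a : GL (Fin t → Ix n) F} (ha : a ∈ uT hg t) {r : ℕ} (hr : Odd r) (h1 : a ^ r = 1) :
    a ∈ Om hg t := by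
  obtain ⟨q, rfl⟩ := hr
  have h : (a * a) ^ (q + 1) = a := by
    rw [← pow_two, ← pow_mul, show 2 * (q + 1) = (2 * q + 1) + 1 by ring, pow_succ, h1, one_mul]
  rw [← h]
  exact pow_mem (sq_mem h2 ht ha) _

omit h2 in
theorem exists_char (h2 : (2 : F) ≠ 0) : ∃ p : ℕ, p.Prime ∧ CharP F p ∧ Odd p ∧ 3 ≤ p := by
  obtain ⟨p, hp⟩ := CharP.exists F
  have hprime : p.Prime := CharP.char_is_prime F p
  have hne : p ≠ 2 := fun h => h2 (by haveI := hp; subst h; exact_mod_cast CharP.cast_eq_zero F 2)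
  exact ⟨p, hprime, hp, hprime.odd_of_ne_two hne, by have := hprime.two_le; omega⟩

/-- unipotent isometries lie in `Ω` -/
theorem unip_mem (ht : 2 ≤ t) {a : GL (Fin t → Ix n) F} (ha : a ∈ uT hg t)
    (h : ((a : Matrix (Fin t → Ix n) (Fin t → Ix n) F) - 1) ^ 3 = 0) : a ∈ Om hg t := by
  obtain ⟨p, hp, hc, hodd, h3⟩ := exists_char (F := F) h2
  haveI := hc
  haveI : Fact p.Prime := ⟨hp⟩
  haveI : Nonempty (Fin t → Ix n) := ⟨fun _ => 0⟩
  refine odd_mem h2 ht ha hodd (Units.ext ?_)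
  have h1 := sub_pow_char_of_commute p (Commute.one_right (a : Matrix (Fin t → Ix n) (Fin t → Ix n) F))
  obtain ⟨q, hq⟩ : ∃ q, p = 3 + q := ⟨p - 3, by omega⟩
  rw [one_pow, show ((a : Matrix (Fin t → Ix n) (Fin t → Ix n) F) - 1) ^ p = 0 by
    rw [hq, pow_add, h, zero_mul]] at h1
  rw [Units.val_pow_eq_pow_val, Units.val_one]
  exact sub_eq_zero.1 h1.symm

end CfsgLib.Perm.Trans.TensorPowerO
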