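import Mathlib
import Cfsg.Agent.Lib.Perm.Trans.TensorPowerO.Form
import Cfsg.Agent.Lib.Perm.Trans.TensorPowerO.Omega
import Cfsg.Agent.Lib.Perm.Trans.TensorOO.Space

/-!
# Coordinates in which a symmetric form is a hyperbolic pair and a diagonal rest
-/

set_option autoImplicit false
set_option linter.all false

namespace CfsgLib.Perm.Trans.TensorPowerO

open scoped Matrix
open Matrix Cfsg.Geo CfsgLib.Perm.Asch CfsgLib.Perm.Trans CfsgLib.Perm.Trans.TensorPower
open CfsgLib.Perm.Trans.TensorSO CfsgLib.Perm.Trans.TensorOO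

variable {F : Type*} [Field F] {n : ℕ}

/-- an orthogonal anisotropic family -/
theorem nd_orth_family {κ : Type} [Fintype κ] [DecidableEq κ] {f : (κ → F) → (κ → F) → F} (hf : IsSymmetricForm f)
    (h2 : (2 : F) ≠ 0) : ∀ (j : ℕ) (P : Submodule F (κ → F)), TensorOO.Nd f P → j ≤ Module.finrank F P →
    ∃ d : Fin j → (κ → F), (∀ i, d i ∈ P) ∧ (∀ i i', i ≠ i' → f (d i) (d i') = 0) ∧ ∀ i, f (d i) (d i) ≠ 0 := by
  intro j
  induction j with
  | zero => exact fun P _ _ => ⟨fun i => i.elim0, fun i => i.elim0, fun i => i.elim0, fun i => i.elim0⟩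
  | succ j ih =>
    intro P hP hj
    obtain ⟨x, hx, hxx⟩ := nd_aniso hf h2 hP (by omega)
    have h1 := perp_finrank hf P x
    obtain ⟨d, hd1, hd2, hd3⟩ := ih (perp hf P x) (nd_perp hf hP hx hxx) (by omega)
    have hxd : ∀ i, f (d i) x = 0 := fun i => (hd1 i).2
    refine ⟨Fin.cons x d, fun i => ?_, fun i i' hii => ?_, fun i => ?_⟩
    · obtain rfl | ⟨i, rfl⟩ := i.eq_zero_or_eq_succ
      · rwa [Fin.cons_zero]
      · rw [Fin.cons_succ]; exact (hd1 i).1
    · obtain rfl | ⟨i, rfl⟩ := i.eq_zero_or_eq_succ <;> obtain rfl | ⟨i', rfl⟩ := i'.eq_zero_or_eq_succ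
      · exact absurd rfl hii
      · rw [Fin.cons_zero, Fin.cons_succ, hf.symm, hxd]
      · rw [Fin.cons_zero, Fin.cons_succ, hxd]
      · rw [Fin.cons_succ, Fin.cons_succ]
        exact hd2 i i' fun e => hii (by rw [e])
    · obtain rfl | ⟨i, rfl⟩ := i.eq_zero_or_eq_succ
      · rwa [Fin.cons_zero]
      · rw [Fin.cons_succ]; exact hd3 i

/-- **Theorem.** A hyperbolic pair and a diagonal rest. -/
theorem exists_frame1 [Finite F] (h2 : (2 : F) ≠ 0) {f : (Ix n → F) → (Ix n → F) → F} (hf : IsSymmetricForm f) :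
    ∃ g : Ix n → F, Dg g ∧ ∃ D : GL (Ix n) F,
      ∀ u w, f u w = bf g (s1 n) ((D : Matrix (Ix n) (Ix n) F) *ᵥ u) ((D : Matrix (Ix n) (Ix n) F) *ᵥ w) := by
  classical
  haveI := Fintype.ofFinite F
  have hN : TensorOO.Nd f ⊤ := nd_top hf
  have hdim : Module.finrank F (⊤ : Submodule F (Ix n → F)) = n + 3 := by rw [top_finrank hf, Fintype.card_fin]
  obtain ⟨a, -, ha0, haa⟩ := nd_singular hf h2 hN (by omega)
  obtain ⟨c, -, hcc, hca⟩ := nd_partner hf h2 hN Submodule.mem_top ha0 haa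
  set P := perp hf (perp hf ⊤ a) c with hPdef
  have hP : TensorOO.Nd f P := nd_perp_pair hf hN Submodule.mem_top Submodule.mem_top haa hcc hca
  have hP1 := pair_finrank hf (⊤ : Submodule F (Ix n → F)) a c
  have hP2 : n + 3 ≤ Module.finrank F P + 2 := hdim ▸ hP1
  obtain ⟨d, hd1, hd2, hd3⟩ := nd_orth_family hf h2 (n + 1) P hP (by omega)
  have hda : ∀ i, f (d i) a = 0 := fun i => (hd1 i).1.2
  have hdc : ∀ i, f (d i) c = 0 := fun i => (hd1 i).2
  let v : Ix n → (Ix n → F) := Fin.cons a (Fin.cons c d : Fin (n + 2) → (Ix n → F))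
  let g : Ix n → F := Fin.cons 1 (Fin.cons 1 (fun i => f (d i) (d i)) : Fin (n + 2) → F)
  have g0 : g 0 = 1 := rfl
  have g1 : g 1 = 1 := rfl
  have hg : Dg g := ⟨g0, g1, fun x => by
    obtain rfl | ⟨x, rfl⟩ := x.eq_zero_or_eq_succ
    · exact one_ne_zero
    obtain rfl | ⟨x, rfl⟩ := x.eq_zero_or_eq_succ
    · exact one_ne_zero
    exact hd3 x⟩
  have hgram : ∀ x y, f (v x) (v y) = if y = s1 n x then g x else 0 := by
    intro x y
    have e1 : (1 : Ix n) = Fin.succ 0 := rfl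
    obtain rfl | ⟨x, rfl⟩ := x.eq_zero_or_eq_succ
    · rw [s1_zero, g0]
      obtain rfl | ⟨y, rfl⟩ := y.eq_zero_or_eq_succ
      · rw [if_neg zero_ne_one']; exact haa
      obtain rfl | ⟨y, rfl⟩ := y.eq_zero_or_eq_succ
      · rw [if_pos e1.symm]; exact (hf.symm a c).trans hca
      rw [if_neg (fun e => Fin.succ_ne_zero y (Fin.succ_injective _ (e.trans e1)))]
      exact (hf.symm a (d y)).trans (hda y)
    obtain rfl | ⟨x, rfl⟩ := x.eq_zero_or_eq_succ
    · rw [show s1 n (Fin.succ 0) = 0 from s1_one]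
      obtain rfl | ⟨y, rfl⟩ := y.eq_zero_or_eq_succ
      · rw [if_pos rfl]; exact hca
      rw [if_neg (Fin.succ_ne_zero y)]
      obtain rfl | ⟨y, rfl⟩ := y.eq_zero_or_eq_succ
      · exact hcc
      exact (hf.symm c (d y)).trans (hdc y)
    have hx0 : Fin.succ (Fin.succ x) ≠ 0 := Fin.succ_ne_zero _
    have hx1 : Fin.succ (Fin.succ x) ≠ 1 := fun e => Fin.succ_ne_zero x (Fin.succ_injective _ (e.trans e1))
    rw [s1_mid hx0 hx1]
    obtain rfl | ⟨y, rfl⟩ := y.eq_zero_or_eq_succ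
    · rw [if_neg hx0.symm]; exact hda x
    obtain rfl | ⟨y, rfl⟩ := y.eq_zero_or_eq_succ
    · rw [if_neg (fun e => hx1 (e.symm.trans e1.symm))]; exact hdc x
    by_cases hxy : x = y
    · subst hxy; rw [if_pos rfl]; rfl
    · rw [if_neg (fun e => hxy (Fin.succ_injective _ (Fin.succ_injective _ e)).symm)]
      exact hd2 x y hxy
  let T : (Ix n → F) →ₗ[F] (Ix n → F) := Fintype.linearCombination F v
  have hT : ∀ z, T z = ∑ i, z i • v i := fun z => Fintype.linearCombination_apply F v z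
  have hpair : ∀ z y, f (T z) (v y) = z (s1 n y) * g (s1 n y) := fun z y => by
    rw [hT]
    have e : f (∑ i, z i • v i) (v y) = ∑ i, z i * f (v i) (v y) := by
      show CfsgLib.Perm.Elusive.bilinMap hf.bilinear (∑ i, z i • v i) (v y) = _
      rw [map_sum, LinearMap.sum_apply]
      refine Finset.sum_congr rfl fun i _ => ?_
      rw [map_smul, LinearMap.smul_apply, smul_eq_mul]
      rfl
    rw [e, Finset.sum_eq_single (s1 n y)]
    · rw [hgram, if_pos (s1_inv y).symm]
    · intro i _ hi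
      rw [hgram, if_neg (fun e => hi (by rw [e, s1_inv])), mul_zero]
    · simp
  have hinj : Function.Injective T := (injective_iff_map_eq_zero T).2 fun z hz => funext fun i => by
    have := hpair z (s1 n i)
    rw [hz, Orth.sym_zero_left hf, s1_inv] at this
    exact (mul_eq_zero.1 this.symm).resolve_right (hg.nz i)
  let D : GL (Ix n) F := (glInj T hinj)⁻¹
  have hD : ∀ u, T ((D : Matrix (Ix n) (Ix n) F) *ᵥ u) = u := fun u => by
    have := glInj_mulVec T hinj ((D : Matrix (Ix n) (Ix n) F) *ᵥ u)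
    rw [mulVec_mulVec, gl_mul_inv, one_mulVec] at this
    exact this.symm
  refine ⟨g, hg, D, fun u w => ?_⟩
  set z := (D : Matrix (Ix n) (Ix n) F) *ᵥ u with hz
  set z' := (D : Matrix (Ix n) (Ix n) F) *ᵥ w with hz'
  rw [← hD u, ← hD w, ← hz, ← hz', hT z']
  have e : f (T z) (∑ i, z' i • v i) = ∑ i, z' i * f (T z) (v i) := by
    show CfsgLib.Perm.Elusive.bilinMap hf.bilinear (T z) (∑ i, z' i • v i) = _
    rw [map_sum]
    refine Finset.sum_congr rfl fun i _ => ?_
    rw [map_smul, smul_eq_mul]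
    rfl
  rw [e]
  simp only [bf, dual, dotProduct]
  refine Finset.sum_congr rfl fun i _ => ?_
  rw [hpair, hg.wg.sym]
  ring

/-- coordinates for the tensor power of a symmetric form -/
theorem exists_frameT [Finite F] {t : ℕ} (h2 : (2 : F) ≠ 0) {f : (Ix n → F) → (Ix n → F) → F}
    (hf : IsSymmetricForm f) : ∃ g : Ix n → F, Dg g ∧ ∃ D : GL (Ix n) F, ∀ x y : (Fin t → Ix n) → F,
      ∑ a, ∑ b, x a * (∏ i, gramMatrix f (a i) (b i)) * y b =
        bf (gT g t) (sT n t) ((pureGL (fun _ : Fin t => D) : GL (Fin t → Ix n) F).val *ᵥ x)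
          ((pureGL (fun _ : Fin t => D) : GL (Fin t → Ix n) F).val *ᵥ y) := by
  classical
  obtain ⟨g, hg, D, hD⟩ := exists_frame1 h2 hf
  refine ⟨g, hg, D, fun x y => ?_⟩
  have hG : ∀ a b, gramMatrix f a b = ∑ c, (D : Matrix (Ix n) (Ix n) F) c a *
      (g c * (D : Matrix (Ix n) (Ix n) F) (s1 n c) b) := fun a b => by
    rw [gramMatrix, hD, bf_comm hg.wg, bf, dotProduct]
    refine Finset.sum_congr rfl fun c _ => ?_
    simp only [dual, mulVec_single_one, Matrix.col_apply]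
    ring
  set P := ((pureGL (fun _ : Fin t => D) : GL (Fin t → Ix n) F) : Matrix (Fin t → Ix n) (Fin t → Ix n) F) with hP
  have hPa : ∀ a b, ∏ i, gramMatrix f (a i) (b i) = ∑ c, P c a * (gT g t c * P (sT n t c) b) := fun a b => by
    simp only [hG]
    rw [Fintype.prod_sum]
    refine Finset.sum_congr rfl fun c _ => ?_
    rw [hP, pureGL_coe, pure_apply, pure_apply, gT, ← Finset.prod_mul_distrib, ← Finset.prod_mul_distrib]
    rfl
  rw [bf_comm hg.wgT]
  simp only [hPa, bf, dotProduct, dual, mulVec, Finset.mul_sum, Finset.sum_mul]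
  conv_lhs => enter [2, a]; rw [Finset.sum_comm]
  rw [Finset.sum_comm]
  refine Finset.sum_congr rfl fun c _ => Finset.sum_congr rfl fun a _ => Finset.sum_congr rfl fun b _ => ?_
  ring

end CfsgLib.Perm.Trans.TensorPowerO
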