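import Mathlib
import Cfsg.Agent.Lib.Perm.Trans.TensorPowerO.Normal
import Cfsg.Agent.Lib.Perm.Trans.TensorPowerO.Normaliser
import Cfsg.Agent.Lib.Perm.Trans.TensorPowerO.Involution
import Cfsg.Agent.Lib.Perm.Trans.TensorPower.Max

/-!
# Maximality of the stabiliser of an orthogonal tensor power in `Ω`
-/

set_option autoImplicit false
set_option linter.all false

namespace CfsgLib.Perm.Trans.TensorPowerO

open scoped Matrix
open Matrix Cfsg.Geo CfsgLib.Perm.Asch CfsgLib.Perm.Trans CfsgLib.Perm.Trans.TensorPower CfsgLib.Perm.Trans.Quad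

variable {F : Type*} [Field F] [Fintype F] {n t : ℕ} {g : Ix n → F}

theorem glReindex_vec {ι κ : Type} [Fintype ι] [DecidableEq ι] [Fintype κ] [DecidableEq κ] (e : ι ≃ κ)
    (a : GL κ F) (x : κ → F) :
    ((glReindex e.symm a : GL ι F) : Matrix ι ι F) *ᵥ (x ∘ e) = ((a : Matrix κ κ F) *ᵥ x) ∘ e := by
  funext i
  show ((a : Matrix κ κ F).submatrix e e *ᵥ (x ∘ e)) i = _
  simp only [mulVec, dotProduct, Matrix.submatrix_apply, Function.comp_apply]
  exact Fintype.sum_equiv e _ _ fun b => rfl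

/-- the induction on the number of factors -/
theorem inner_all (hg : Dg g) (h2 : (2 : F) ≠ 0) (big : 1 ≤ n ∨ ∃ y : F, y ≠ 0 ∧ y * y ≠ 1)
    (hmain : ∀ (s : ℕ) (M : Subgroup (GL (Fin (s + 1) → Ix n) F)), Ctx hg M →
      M ≤ tensorWreathStandard (n + 3) (s + 1) F) : ∀ s : ℕ, Inner hg (s + 1) := by
  intro s
  induction s with
  | zero => exact fun N _ _ => Or.inr fun x _ => mem_tw_one x
  | succ s ih =>
    intro N hHN hN
    by_cases hfull : Om hg (s + 1 + 1) ≤ N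
    · exact Or.inl hfull
    exact Or.inr (hmain (s + 1) N ⟨h2, by omega, big, hN, hHN, hfull, ih⟩)

/-- the standard statement -/
theorem Om_maximal (hg : Dg g) (h2 : (2 : F) ≠ 0) (big : 1 ≤ n ∨ ∃ y : F, y ≠ 0 ∧ y * y ≠ 1) (ht : 2 ≤ t)
    (hmain : ∀ (s : ℕ) (M : Subgroup (GL (Fin (s + 1) → Ix n) F)), Ctx hg M →
      M ≤ tensorWreathStandard (n + 3) (s + 1) F) :
    IsMaximalIn (Om hg t) (tensorWreathStandard (n + 3) t F ⊓ Om hg t) := by
  refine ⟨lt_of_le_not_ge inf_le_right fun hle => binv_not_tw hg h2 ht (hle (binv_mem_Om hg h2 ht)).1,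
    fun M hHM hMK => ?_⟩
  obtain ⟨s, rfl⟩ : ∃ s, t = s + 1 := ⟨t - 1, by omega⟩
  rcases inner_all hg h2 big hmain s M hHM hMK with h | h
  · exact Or.inr (le_antisymm hMK h)
  · exact Or.inl (le_antisymm (le_inf h hMK) hHM)

/-- **Theorem.** The statement in arbitrary coordinates. -/
theorem orth_tensor_maximal {ι : Type} [Fintype ι] [DecidableEq ι] (h2 : (2 : F) ≠ 0)
    (big : 1 ≤ n ∨ ∃ y : F, y ≠ 0 ∧ y * y ≠ 1) (ht : 2 ≤ t) {Q : (ι → F) → F}
    (hQ : IsNondegenerateQuadraticForm Q) {f₁ : (Ix n → F) → (Ix n → F) → F} (hf₁ : IsSymmetricForm f₁)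
    (e : ι ≃ (Fin t → Ix n)) (P : GL ι F) (hT : IsTensorPowerFormStructure id (QuadraticMap.polar Q) f₁ e P)
    (hmain : ∀ (g : Ix n → F) (hg : Dg g) (s : ℕ) (M : Subgroup (GL (Fin (s + 1) → Ix n) F)), Ctx hg M →
      M ≤ tensorWreathStandard (n + 3) (s + 1) F) :
    IsMaximalIn (omegaGL Q) (tensorWreathSubgroup (n + 3) t e P ⊓ omegaGL Q) := by
  classical
  obtain ⟨c, hc0, hT⟩ := hT
  simp only [id_eq] at hT
  obtain ⟨g, hg, D, hD⟩ := exists_frameT (t := t) h2 hf₁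
  set R : GL (Fin t → Ix n) F := pureGL fun _ => D with hR
  set P' : GL ι F := P * glReindex e.symm R⁻¹ with hP'
  have hform' : ∀ x y, QuadraticMap.polar Q ((P' : Matrix ι ι F) *ᵥ (x ∘ e)) ((P' : Matrix ι ι F) *ᵥ (y ∘ e)) =
      c * bf (gT g t) (sT n t) x y := fun x y => by
    rw [hP', Units.val_mul, ← mulVec_mulVec, ← mulVec_mulVec, glReindex_vec, glReindex_vec, hT, hD,
      mulVec_mulVec, mulVec_mulVec, gl_mul_inv, one_mulVec, one_mulVec]
  set Φ : GL (Fin t → Ix n) F ≃* GL ι F := (glReindex e.symm).trans (MulAut.conj P') with hΦ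
  have hΦv : ∀ a x, (Φ a : Matrix ι ι F) *ᵥ ((P' : Matrix ι ι F) *ᵥ (x ∘ e)) =
      (P' : Matrix ι ι F) *ᵥ (((a : Matrix (Fin t → Ix n) (Fin t → Ix n) F) *ᵥ x) ∘ e) := fun a x => by
    show ((P' * glReindex e.symm a * P'⁻¹ : GL ι F) : Matrix ι ι F) *ᵥ _ = _
    rw [Units.val_mul, Units.val_mul, ← mulVec_mulVec, ← mulVec_mulVec, mulVec_mulVec _ _ (P' : Matrix ι ι F),
      gl_inv_mul, one_mulVec, glReindex_vec]
  have hsurj : ∀ u : ι → F, ∃ x : (Fin t → Ix n) → F, u = (P' : Matrix ι ι F) *ᵥ (x ∘ e) := fun u =>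
    ⟨(((P'⁻¹ : GL ι F) : Matrix ι ι F) *ᵥ u) ∘ e.symm, by
      rw [Function.comp_assoc, Equiv.symm_comp_self, Function.comp_id, mulVec_mulVec, gl_mul_inv, one_mulVec]⟩
  have hiso : ∀ a, Φ a ∈ Cfsg.isometryGroup F Q ↔ a ∈ uT hg t := by
    intro a
    constructor
    · intro ha
      refine mem_of_bf fun x y => mul_left_cancel₀ hc0 ?_
      rw [← hform', ← hform', ← hΦv, ← hΦv, iso_pol ha]
    · intro ha
      refine Quad.mem_iso.2 fun u => mul_left_cancel₀ h2 ?_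
      obtain ⟨x, rfl⟩ := hsurj u
      rw [← pself hQ, ← pself hQ, hΦv, hform', hform', bf_of_mem ha]
  have hI : (uT hg t).map Φ.toMonoidHom = Cfsg.isometryGroup F Q := by
    ext a
    rw [Subgroup.mem_map_equiv, ← hiso, MulEquiv.apply_symm_apply]
  have hK : (Om hg t).map Φ.toMonoidHom = omegaGL Q := by
    rw [Om, Subgroup.map_commutator, hI, omegaGL]
    exact (Subgroup.map_subtype_commutator _).symm
  refine maximal_map Φ hK ?_ (Om_maximal hg h2 big ht (hmain g hg))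
  rw [Subgroup.map_inf _ _ _ Φ.injective, hK]
  congr 1
  have hfix : (tensorWreathStandard (n + 3) t F).map (MulAut.conj R⁻¹).toMonoidHom =
      tensorWreathStandard (n + 3) t F := by
    have hRW : R ∈ tensorWreathStandard (n + 3) t F := pure_mem_tw _
    ext a
    rw [Subgroup.mem_map_equiv, MulAut.conj_symm_apply, inv_inv]
    constructor
    · intro ha
      have := mul_mem (mul_mem (inv_mem hRW) ha) hRW
      rwa [show R⁻¹ * (R * a * R⁻¹) * R = a by group] at this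
    · exact fun ha => mul_mem (mul_mem hRW ha) (inv_mem hRW)
  rw [tensorWreathSubgroup]
  conv_rhs => rw [← hfix]
  rw [Subgroup.map_map, Subgroup.map_map]
  congr 1
  refine MonoidHom.ext fun a => ?_
  show P' * glReindex e.symm a * P'⁻¹ = P * glReindex e.symm (R⁻¹ * a * R⁻¹⁻¹) * P⁻¹
  rw [inv_inv, hP', map_mul, map_mul, map_inv]
  group

end CfsgLib.Perm.Trans.TensorPowerO
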