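import Mathlib
import Cfsg.Agent.Lib.Perm.Trans.TensorPowerO.K3Main
import Cfsg.Agent.Lib.Perm.Trans.TensorPowerO.BigRoot
import Cfsg.Agent.Lib.Perm.Trans.TensorPowerO.Max
import Cfsg.Agent.Lib.Perm.Trans.TensorSquare.Max

/-!
# Tensor powers of an odd-dimensional orthogonal space
-/

set_option autoImplicit false
set_option linter.all false

namespace CfsgLib.Perm.Trans.TensorPowerO

open scoped Matrix
open Matrix Cfsg.Geo CfsgLib.Perm.Asch CfsgLib.Perm.Trans CfsgLib.Perm.Trans.TensorPower

variable {F : Type*} [Field F] {n t : ℕ} {g : Ix n → F}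

/-- the form of the tensor power from the Gram matrix of one factor -/
theorem gram_sum (hg : Dg g) (x y : (Fin t → Ix n) → F) :
    ∑ a, ∑ b, x a * (∏ i, gramMatrix (bf g (s1 n)) (a i) (b i)) * y b = bf (gT g t) (sT n t) x y := by
  classical
  have hgram : ∀ a b : Fin t → Ix n, (∏ i, gramMatrix (bf g (s1 n)) (a i) (b i)) =
      if b = sT n t a then gT g t a else 0 := fun a b => by
    by_cases h : b = sT n t a
    · rw [if_pos h, gT]
      refine Finset.prod_congr rfl fun i _ => ?_
      rw [gramMatrix, bf_single hg.wg, h, sT, Pi.single_eq_same, mul_one]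
    · obtain ⟨i, hi⟩ := Function.ne_iff.1 h
      rw [if_neg h]
      refine Finset.prod_eq_zero (Finset.mem_univ i) ?_
      rw [gramMatrix, bf_single hg.wg, Pi.single_eq_of_ne (show s1 n (a i) ≠ b i from Ne.symm hi), mul_zero]
  simp only [hgram, mul_ite, ite_mul, mul_zero, zero_mul, Finset.sum_ite_eq', Finset.mem_univ, if_true]
  rw [bf, dotProduct]
  refine Fintype.sum_equiv (hg.wgT (t := t)).inv.toPerm _ _ fun a => ?_
  rw [Function.Involutive.coe_toPerm, dual, (hg.wgT (t := t)).inv, (hg.wgT (t := t)).sym]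
  ring

/-- **Theorem.** The overgroups of the stabiliser of a tensor power of an odd-dimensional space. -/
theorem Ctx.main_odd [Fintype F] {s : ℕ} {hg : Dg g} {M : Subgroup (GL (Fin (s + 1) → Ix n) F)} (hM : Ctx hg M)
    (hn : Odd (n + 3)) : M ≤ tensorWreathStandard (n + 3) (s + 1) F := by
  have h2 := hM.two
  have hN := normTw_odd hg h2 hn hM.one hM.inner
  rcases Nat.eq_zero_or_pos n with rfl | hn0
  swap
  · obtain ⟨r, hr⟩ := hn
    exact hM.main_big (by omega) hN
  by_cases hs : 2 ≤ s
  · exact hM.main_three hN hs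
  obtain rfl : s = 1 := by have := hM.one; omega
  have hQ := qf_nd (hg.wgT (t := 2)) h2
  have hT : IsTensorPowerFormStructure id (QuadraticMap.polar (qf (gT g 2) (sT 0 2))) (bf g (s1 0))
      (Equiv.refl (Fin 2 → Ix 0)) (1 : GL (Fin 2 → Ix 0) F) := by
    refine ⟨1, one_ne_zero, fun x y => ?_⟩
    rw [Equiv.coe_refl, Function.comp_id, Function.comp_id, Units.val_one, one_mulVec, one_mulVec,
      polar_qf hg.wgT h2, one_mul]
    exact (gram_sum hg x y).symm
  have hmax := TensorSquare.orth_square_maximal (Equiv.refl (Fin 2 → Ix 0)) (1 : GL (Fin 2 → Ix 0) F) hQ h2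
    (hM.big.resolve_left (by omega)) (bf_symmetric hg.wg) hT
  rw [std_eq, Om_eq (hg := hg) h2] at hmax
  rcases hmax.2 M hM.mem hM.le with h | h
  · rw [h]; exact inf_le_left
  · exact absurd h.ge hM.proper

end CfsgLib.Perm.Trans.TensorPowerO
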