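import Mathlib
import Cfsg.Agent.Lib.Perm.Trans.TensorPowerO.MainOdd
import Cfsg.Agent.Lib.Perm.Trans.TensorPowerO.NormBig
import Cfsg.Agent.Lib.Perm.Trans.TensorPowerO.K4PairFusion
import Cfsg.Agent.Lib.Perm.Trans.TensorPowerO.K4Three

/-!
# Tensor powers of an even-dimensional orthogonal space
-/

set_option autoImplicit false
set_option linter.all false

namespace CfsgLib.Perm.Trans.TensorPowerO

open scoped Matrix
open Matrix Cfsg.Geo CfsgLib.Perm.Asch CfsgLib.Perm.Trans CfsgLib.Perm.Trans.TensorPower CfsgLib.Perm.Trans.Quad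

variable {F : Type*} [Field F] [Fintype F] {n t : ℕ} {g : Ix n → F}

/-- a singular vector of the frame is singular for the form whose power the frame describes -/
theorem singular_of_power (hg : Dg g) {f : (Ix n → F) → (Ix n → F) → F} (hf : IsSymmetricForm f) (ht : t ≠ 0)
    {D : GL (Ix n) F} (hD : ∀ x y : (Fin t → Ix n) → F, ∑ a, ∑ b, x a * (∏ i, gramMatrix f (a i) (b i)) * y b =
      bf (gT g t) (sT n t) ((pureGL (fun _ : Fin t => D) : GL (Fin t → Ix n) F).val *ᵥ x)
        ((pureGL (fun _ : Fin t => D) : GL (Fin t → Ix n) F).val *ᵥ y)) {v : Ix n → F}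
    (hv : bf g (s1 n) ((D : Matrix (Ix n) (Ix n) F) *ᵥ v) ((D : Matrix (Ix n) (Ix n) F) *ᵥ v) = 0) : f v v = 0 := by
  classical
  have hexp : f v v = ∑ a, ∑ b, v a * gramMatrix f a b * v b := by
    have h1 : v = ∑ a, v a • (Pi.single a (1 : F) : Ix n → F) := pi_eq_sum_univ' v
    conv_lhs => rw [h1]
    show CfsgLib.Perm.Elusive.bilinMap hf.bilinear (∑ a, v a • (Pi.single a (1 : F) : Ix n → F))
      (∑ a, v a • (Pi.single a (1 : F) : Ix n → F)) = _
    rw [map_sum]
    conv_rhs => rw [Finset.sum_comm]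
    refine Finset.sum_congr rfl fun b _ => ?_
    rw [map_smul, map_sum, LinearMap.sum_apply, smul_eq_mul, Finset.mul_sum]
    refine Finset.sum_congr rfl fun a _ => ?_
    rw [map_smul, LinearMap.smul_apply, smul_eq_mul, show CfsgLib.Perm.Elusive.bilinMap hf.bilinear (Pi.single a (1 : F))
      (Pi.single b (1 : F)) = gramMatrix f a b from rfl]
    ring
  have h := hD (TensorPower.pv fun _ => v) (TensorPower.pv fun _ => v)
  rw [pureGL_coe, pure_pv, bf_pv hg, Finset.prod_const, Finset.card_univ, Fintype.card_fin, hv, zero_pow ht] at h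
  refine (pow_eq_zero_iff ht).1 ?_
  rw [hexp, ← h, ← Fin.prod_const, Fintype.prod_sum]
  refine Finset.sum_congr rfl fun a _ => ?_
  rw [Fintype.prod_sum]
  refine Finset.sum_congr rfl fun b _ => ?_
  simp only [TensorPower.pv, ← Finset.prod_mul_distrib]

/-- no totally singular plane when the form is not of plus type -/
theorem minus_of_not_plus {g : Ix 1 → F} (hg : Dg g) {f : (Ix 1 → F) → (Ix 1 → F) → F}
    (hD : ∃ D : GL (Ix 1) F, ∀ v,
      bf g (s1 1) ((D : Matrix (Ix 1) (Ix 1) F) *ᵥ v) ((D : Matrix (Ix 1) (Ix 1) F) *ᵥ v) = 0 → f v v = 0)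
    (hm : ¬ IsPlusTypeOn (fun v => f v v) ⊤) : Minus g := by
  obtain ⟨D, hD⟩ := hD
  intro a b ha haa hbb hab
  by_contra hcon
  push Not at hcon
  set a' := ((D⁻¹ : GL (Ix 1) F) : Matrix (Ix 1) (Ix 1) F) *ᵥ a with ha'
  set b' := ((D⁻¹ : GL (Ix 1) F) : Matrix (Ix 1) (Ix 1) F) *ᵥ b with hb'
  refine hm ⟨Submodule.span F (Set.range ![a', b']), le_top, ?_, ?_⟩
  · intro w hw
    rw [Matrix.range_cons, Matrix.range_cons, Matrix.range_empty, Set.union_empty, Set.union_singleton,
      Set.pair_comm] at hw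
    obtain ⟨x, y, rfl⟩ := Submodule.mem_span_pair.1 hw
    refine hD _ ?_
    rw [mulVec_add, mulVec_smul, mulVec_smul, ha', hb', gl_mulVec_inv, gl_mulVec_inv]
    simp only [bf_add_left, bf_add_right, bf_smul_left, bf_smul_right, haa, hbb, hab, bf_comm hg.wg b a]
    ring
  · have hli : LinearIndependent F ![a', b'] := LinearIndependent.pair_iff.2 fun x y e => by
      have e1 := congrArg (fun z => (D : Matrix (Ix 1) (Ix 1) F) *ᵥ z) e
      simp only [mulVec_add, mulVec_smul, ha', hb', gl_mulVec_inv, mulVec_zero] at e1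
      have hy : y = 0 := by
        by_contra hy
        refine hcon (-(x / y)) ?_
        rw [neg_smul, eq_neg_iff_add_eq_zero, div_eq_inv_mul, mul_smul]
        have e3 := congrArg (fun z => y⁻¹ • z) e1
        simp only [smul_add, inv_smul_smul₀ hy, smul_zero] at e3
        rw [add_comm] at e3
        exact e3
      rw [hy, zero_smul, add_zero] at e1
      exact ⟨(smul_eq_zero.1 e1).resolve_right ha, hy⟩
    rw [finrank_span_eq_card hli, finrank_top, Module.finrank_fin_fun, Fintype.card_fin]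

/-- **Theorem.** The overgroups of the stabiliser of a tensor power of a four-dimensional space of minus type. -/
theorem Ctx.main_four {g : Ix 1 → F} {hg : Dg g} {s : ℕ} {M : Subgroup (GL (Fin (s + 1) → Ix 1) F)} (hM : Ctx hg M)
    (hmin : Minus g) : M ≤ tensorWreathStandard (1 + 3) (s + 1) F := by
  classical
  have h2 := hM.two
  have hs : 1 ≤ s := by have := hM.ht; omega
  have hN := normTw_four hg h2 hmin hs
  by_cases hs2 : 2 ≤ s
  · exact hM.main_four_big hN hmin hs2
  obtain rfl : s = 1 := by omega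
  refine hM.main_four_two hN hmin ?_
  by_cases hy : ∃ y : F, y ≠ 0 ∧ y * y ≠ 1
  · exact fun x hx j d f hd hf hdf hxc => hM.zeta_cent_big hN hmin hy hd hf hdf hx hxc
  refine hM.zeta_cent_three hN hmin ?_
  push Not at hy
  refine le_antisymm ?_ ?_
  · rw [← Finset.card_univ]
    refine (Finset.card_le_card (t := ({0, 1, -1} : Finset F)) fun x _ => ?_).trans Finset.card_le_three
    by_cases hx : x = 0
    · simp [hx]
    · rcases mul_self_eq_one_iff.1 (hy x hx) with h | h <;> simp [h]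
  · rw [← Finset.card_univ]
    refine le_trans ?_ (Finset.card_le_univ ({0, 1, -1} : Finset F))
    have h1 : (0 : F) ≠ 1 := zero_ne_one
    have h3 : (0 : F) ≠ -1 := (neg_ne_zero.2 one_ne_zero).symm
    have h5 : (1 : F) ≠ -1 := fun e => h2 (by linear_combination e)
    rw [Finset.card_insert_of_notMem (by simp [h1, h3]), Finset.card_insert_of_notMem (by simp [h5]),
      Finset.card_singleton]

/-- **Theorem.** The statement in arbitrary coordinates. -/
theorem orth_tensor_maximal_frame {ι : Type} [Fintype ι] [DecidableEq ι] (h2 : (2 : F) ≠ 0)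
    (big : 1 ≤ n ∨ ∃ y : F, y ≠ 0 ∧ y * y ≠ 1) (ht : 2 ≤ t) {Q : (ι → F) → F}
    (hQ : IsNondegenerateQuadraticForm Q) {f₁ : (Ix n → F) → (Ix n → F) → F} (hf₁ : IsSymmetricForm f₁)
    (e : ι ≃ (Fin t → Ix n)) (P : GL ι F) (hT : IsTensorPowerFormStructure id (QuadraticMap.polar Q) f₁ e P)
    (hmain : ∀ (g : Ix n → F) (hg : Dg g), (∃ D : GL (Ix n) F, ∀ v,
      bf g (s1 n) ((D : Matrix (Ix n) (Ix n) F) *ᵥ v) ((D : Matrix (Ix n) (Ix n) F) *ᵥ v) = 0 → f₁ v v = 0) →
      ∀ (s : ℕ) (M : Subgroup (GL (Fin (s + 1) → Ix n) F)), Ctx hg M →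
      M ≤ tensorWreathStandard (n + 3) (s + 1) F) :
    IsMaximalIn (omegaGL Q) (tensorWreathSubgroup (n + 3) t e P ⊓ omegaGL Q) := by
  classical
  obtain ⟨c, hc0, hT⟩ := hT
  simp only [id_eq] at hT
  obtain ⟨g, hg, D, hD⟩ := exists_frameT (t := t) h2 hf₁
  set R : GL (Fin t → Ix n) F := pureGL fun _ => D with hR
  set P' : GL ι F := P * glReindex e.symm R⁻¹ with hP'
  have hform' : ∀ x y, QuadraticMap.polar Q ((P' : Matrix ι ι F) *ᵥ (x ∘ e)) ((P' : Matrix ι ι F) *ᵥ (y ∘ e)) =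
      c * bf (gT g t) (sT n t) x y := fun x y => by
    rw [hP', Units.val_mul, ← mulVec_mulVec, ← mulVec_mulVec, glReindex_vec, glReindex_vec, hT, hD,
      mulVec_mulVec, mulVec_mulVec, gl_mul_inv, one_mulVec, one_mulVec]
  set Φ : GL (Fin t → Ix n) F ≃* GL ι F := (glReindex e.symm).trans (MulAut.conj P') with hΦ
  have hΦv : ∀ a x, (Φ a : Matrix ι ι F) *ᵥ ((P' : Matrix ι ι F) *ᵥ (x ∘ e)) =
      (P' : Matrix ι ι F) *ᵥ (((a : Matrix (Fin t → Ix n) (Fin t → Ix n) F) *ᵥ x) ∘ e) := fun a x => by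
    show ((P' * glReindex e.symm a * P'⁻¹ : GL ι F) : Matrix ι ι F) *ᵥ _ = _
    rw [Units.val_mul, Units.val_mul, ← mulVec_mulVec, ← mulVec_mulVec, mulVec_mulVec _ _ (P' : Matrix ι ι F),
      gl_inv_mul, one_mulVec, glReindex_vec]
  have hsurj : ∀ u : ι → F, ∃ x : (Fin t → Ix n) → F, u = (P' : Matrix ι ι F) *ᵥ (x ∘ e) := fun u =>
    ⟨(((P'⁻¹ : GL ι F) : Matrix ι ι F) *ᵥ u) ∘ e.symm, by
      rw [Function.comp_assoc, Equiv.symm_comp_self, Function.comp_id, mulVec_mulVec, gl_mul_inv, one_mulVec]⟩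
  have hiso : ∀ a, Φ a ∈ Cfsg.isometryGroup F Q ↔ a ∈ uT hg t := by
    intro a
    constructor
    · intro ha
      refine mem_of_bf fun x y => mul_left_cancel₀ hc0 ?_
      rw [← hform', ← hform', ← hΦv, ← hΦv, iso_pol ha]
    · intro ha
      refine Quad.mem_iso.2 fun u => mul_left_cancel₀ h2 ?_
      obtain ⟨x, rfl⟩ := hsurj u
      rw [← pself hQ, ← pself hQ, hΦv, hform', hform', bf_of_mem ha]
  have hI : (uT hg t).map Φ.toMonoidHom = Cfsg.isometryGroup F Q := by
    ext a
    rw [Subgroup.mem_map_equiv, ← hiso, MulEquiv.apply_symm_apply]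
  have hK : (Om hg t).map Φ.toMonoidHom = omegaGL Q := by
    rw [Om, Subgroup.map_commutator, hI, omegaGL]
    exact (Subgroup.map_subtype_commutator _).symm
  refine maximal_map Φ hK ?_ (Om_maximal hg h2 big ht (hmain g hg ⟨D, fun v hv => singular_of_power hg hf₁ (by omega) hD hv⟩))
  rw [Subgroup.map_inf _ _ _ Φ.injective, hK]
  congr 1
  have hfix : (tensorWreathStandard (n + 3) t F).map (MulAut.conj R⁻¹).toMonoidHom =
      tensorWreathStandard (n + 3) t F := by
    have hRW : R ∈ tensorWreathStandard (n + 3) t F := pure_mem_tw _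
    ext a
    rw [Subgroup.mem_map_equiv, MulAut.conj_symm_apply, inv_inv]
    constructor
    · intro ha
      have := mul_mem (mul_mem (inv_mem hRW) ha) hRW
      rwa [show R⁻¹ * (R * a * R⁻¹) * R = a by group] at this
    · exact fun ha => mul_mem (mul_mem hRW ha) (inv_mem hRW)
  rw [tensorWreathSubgroup]
  conv_rhs => rw [← hfix]
  rw [Subgroup.map_map, Subgroup.map_map]
  congr 1
  refine MonoidHom.ext fun a => ?_
  show P' * glReindex e.symm a * P'⁻¹ = P * glReindex e.symm (R⁻¹ * a * R⁻¹⁻¹) * P⁻¹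
  rw [inv_inv, hP', map_mul, map_mul, map_inv]
  group

/-- **Theorem.** The stabiliser of a tensor power of an even-dimensional orthogonal space is maximal. -/
theorem orth_tensor_even_maximal {ι : Type} [Fintype ι] [DecidableEq ι] (h2 : (2 : F) ≠ 0) {k : ℕ} (hke : Even k)
    (ht : 2 ≤ t) {Q : (ι → F) → F} (hQ : IsNondegenerateQuadraticForm Q) {f₁ : (Fin k → F) → (Fin k → F) → F}
    (hf₁ : IsSymmetricForm f₁) (e : ι ≃ (Fin t → Fin k)) (P : GL ι F)
    (hT : IsTensorPowerFormStructure id (QuadraticMap.polar Q) f₁ e P)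
    (hsize : 6 ≤ k ∨ (k = 4 ∧ ¬ IsPlusTypeOn (fun v : Fin k → F => f₁ v v) ⊤)) :
    IsMaximalIn (omegaGL Q) (tensorWreathSubgroup k t e P ⊓ omegaGL Q) := by
  classical
  obtain ⟨n, rfl⟩ : ∃ n, k = n + 3 := ⟨k - 3, by rcases hsize with h | ⟨h, -⟩ <;> omega⟩
  have hn1 : 1 ≤ n := by rcases hsize with h | ⟨h, -⟩ <;> omega
  refine orth_tensor_maximal_frame h2 (Or.inl hn1) ht hQ hf₁ e P hT fun g hg hD s M hM => ?_
  rcases hsize with h | ⟨h, hm⟩
  · exact hM.main_big (by omega) (normTw_big hg h2 (by omega) (by have := hM.ht; omega))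
  · obtain rfl : n = 1 := by omega
    exact hM.main_four (minus_of_not_plus hg hD hm)

end CfsgLib.Perm.Trans.TensorPowerO
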