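import Mathlib
import Cfsg.Agent.Lib.Perm.Trans.TensorPowerO.Omega
import Cfsg.Agent.Lib.Perm.Trans.TensorOO.Space

/-!
# Monomial isometries and root elements of one factor
-/

set_option autoImplicit false
set_option linter.all false

namespace CfsgLib.Perm.Trans.TensorPowerO

open scoped Matrix
open Matrix Cfsg.Geo CfsgLib.Perm.Asch CfsgLib.Perm.Trans CfsgLib.Perm.Trans.TensorPower
open CfsgLib.Perm.Trans.TensorSO CfsgLib.Perm.Trans.TensorOO

variable {F : Type*} [Field F] {n : ℕ} {g : Ix n → F}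

local notation "M1" => Matrix (Ix n) (Ix n) F

/-! ### monomial matrices -/

/-- the monomial matrix sending the `y`-th basis vector to a multiple of the `π y`-th -/
def moM (π : Equiv.Perm (Ix n)) (d : Ix n → F) : M1 := Matrix.of fun x y => if x = π y then d y else 0

theorem moM_mulVec (π : Equiv.Perm (Ix n)) (d : Ix n → F) (y : Ix n) :
    moM π d *ᵥ Pi.single y 1 = d y • (Pi.single (π y) 1 : Ix n → F) := by
  funext x
  rw [mulVec_single_one, Matrix.col_apply, moM, Matrix.of_apply, Pi.smul_apply, Pi.single_apply, smul_eq_mul]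
  split_ifs <;> simp

theorem moM_mul (π ρ : Equiv.Perm (Ix n)) (d e : Ix n → F) :
    moM π d * moM ρ e = moM (π * ρ) fun y => d (ρ y) * e y :=
  Matrix.ext_of_mulVec_single fun y => by
    rw [← mulVec_mulVec, moM_mulVec, mulVec_smul, moM_mulVec, moM_mulVec, smul_smul, mul_comm]
    rfl

theorem moM_one : moM (1 : Equiv.Perm (Ix n)) (fun _ => (1 : F)) = 1 :=
  Matrix.ext_of_mulVec_single fun y => by rw [moM_mulVec, one_mulVec, one_smul]; rfl

/-- the same as an invertible matrix -/
def moG (π : Equiv.Perm (Ix n)) (d : Ix n → F) (hd : ∀ y, d y ≠ 0) : GL (Ix n) F :=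
  ⟨moM π d, moM π⁻¹ fun y => (d (π⁻¹ y))⁻¹, by
    rw [moM_mul, mul_inv_cancel, show (fun y => d (π⁻¹ y) * (d (π⁻¹ y))⁻¹) = fun _ => (1 : F) from
      funext fun y => mul_inv_cancel₀ (hd _), moM_one], by
    rw [moM_mul, inv_mul_cancel, show (fun y => (d (π⁻¹ (π y)))⁻¹ * d y) = fun _ => (1 : F) from
      funext fun y => by rw [← Equiv.Perm.mul_apply, inv_mul_cancel, Equiv.Perm.one_apply, inv_mul_cancel₀ (hd _)],
      moM_one]⟩

theorem moG_mulVec (π : Equiv.Perm (Ix n)) (d : Ix n → F) (hd : ∀ y, d y ≠ 0) (y : Ix n) :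
    (moG π d hd : M1) *ᵥ Pi.single y 1 = d y • (Pi.single (π y) 1 : Ix n → F) := moM_mulVec π d y

theorem cj_moG_single (π : Equiv.Perm (Ix n)) (d : Ix n → F) (hd : ∀ y, d y ≠ 0) (x y : Ix n) :
    cj (moG π d hd) (Matrix.single x y (1 : F)) = (d x / d y) • Matrix.single (π x) (π y) (1 : F) := by
  have e : (moG π d hd : M1) * Matrix.single x y (1 : F) =
      (d x / d y) • Matrix.single (π x) (π y) (1 : F) * (moG π d hd : M1) :=
    Matrix.ext_of_mulVec_single fun z => by
      rw [← mulVec_mulVec, ← mulVec_mulVec, moG_mulVec, mulVec_smul, Matrix.smul_mulVec, smul_smul]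
      simp only [mulVec_single_one]
      funext w
      simp only [Matrix.col_apply, Pi.smul_apply, smul_eq_mul]
      by_cases hz : z = y
      · subst hz
        rw [show (Matrix.single x z (1 : F)).col z = Pi.single x 1 from funext fun v => by
          rw [Matrix.col_apply, Matrix.single_apply, Pi.single_apply]; simp [eq_comm], moG_mulVec,
          Pi.smul_apply, Pi.single_apply, Matrix.single_apply, smul_eq_mul]
        simp only [and_true]
        by_cases hw : π x = w
        · subst hw; simp; field_simp [hd z]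
        · rw [if_neg hw, if_neg (Ne.symm hw)]; ring
      · rw [show (Matrix.single x y (1 : F)).col z = 0 from funext fun v => by
          rw [Matrix.col_apply, Matrix.single_apply, if_neg (fun h => hz h.2.symm)]; rfl, mulVec_zero,
          Matrix.single_apply, if_neg (fun h => hz (π.injective h.2).symm)]
        simp
  rw [cj, e, mul_assoc, gl_mul_inv, mul_one]

theorem moG_mem (hg : Dg g) (π : Equiv.Perm (Ix n)) (d : Ix n → F) (hd : ∀ y, d y ≠ 0)
    (hπ : ∀ y, π (s1 n y) = s1 n (π y)) (hdd : ∀ y, g (π y) * (d y * d (s1 n y)) = g y) : moG π d hd ∈ u1 hg := by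
  refine mem_of_bf fun u w => ?_
  have key : ∀ (v : Ix n → F) y, ((moG π d hd : M1) *ᵥ v) (π y) = d y * v y := fun v y => by
    show (moM π d *ᵥ v) (π y) = _
    rw [mulVec, dotProduct, Finset.sum_eq_single y]
    · rw [moM, Matrix.of_apply, if_pos rfl]
    · intro z _ hz
      rw [moM, Matrix.of_apply, if_neg (fun e => hz (π.injective e).symm), zero_mul]
    · simp
  simp only [bf, dotProduct, dual]
  refine (Fintype.sum_equiv π _ _ fun y => ?_).symm
  rw [← hπ, key, key]
  linear_combination (-(u (s1 n y) * w y)) * hdd y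

/-- indices of the anisotropic part -/
def Mid (i : Ix n) : Prop := i ≠ 0 ∧ i ≠ 1

theorem Mid.two : Mid (2 : Ix n) := by
  have h2' : ((2 : Ix n) : ℕ) = 2 := Nat.mod_eq_of_lt (show 2 < n + 3 by omega)
  constructor <;> intro h <;> · have := congrArg Fin.val h; rw [h2'] at this; simp at this

/-- the rank-one element at the first singular vector -/
def aa : M1 := Matrix.single 0 1 1

/-- the rank-one element at the second singular vector -/
def cc : M1 := Matrix.single 1 0 1

/-- the Siegel element at the first singular vector -/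
def nm (g : Ix n → F) (i : Ix n) : M1 := Matrix.single i 1 1 - g i • Matrix.single 0 i 1

/-- the Siegel element at the second singular vector -/
def nc (g : Ix n → F) (i : Ix n) : M1 := Matrix.single i 0 1 - g i • Matrix.single 1 i 1

theorem single_mul_single' (a b c d : Ix n) :
    (Matrix.single a b (1 : F)) * Matrix.single c d 1 = if b = c then Matrix.single a d 1 else 0 := by
  by_cases h : b = c
  · subst h; rw [if_pos rfl, Matrix.single_mul_single_same, mul_one]
  · rw [if_neg h, Matrix.single_mul_single_of_ne (h := h)]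

theorem aa_aa : (aa : M1) * aa = 0 := by rw [aa, single_mul_single', if_neg zero_ne_one'.symm]

theorem cc_cc : (cc : M1) * cc = 0 := by rw [cc, single_mul_single', if_neg zero_ne_one']

theorem aa_cc : (aa : M1) * cc = Matrix.single 0 0 1 := by rw [aa, cc, single_mul_single', if_pos rfl]

theorem cc_aa : (cc : M1) * aa = Matrix.single 1 1 1 := by rw [aa, cc, single_mul_single', if_pos rfl]

theorem aa_cc_aa : (aa : M1) * cc * aa = aa := by rw [aa_cc, aa, single_mul_single', if_pos rfl]

theorem cc_aa_cc : (cc : M1) * aa * cc = cc := by rw [cc_aa, cc, single_mul_single', if_pos rfl]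

variable {i p : Ix n} (hi : Mid i) (hp : Mid p)
include hi

theorem aa_nm : aa * nm g i = 0 := by
  rw [aa, nm, mul_sub, Matrix.mul_smul, single_mul_single', single_mul_single', if_neg hi.2.symm,
    if_neg zero_ne_one'.symm, smul_zero, sub_zero]

theorem nm_aa : nm g i * aa = 0 := by
  rw [aa, nm, sub_mul, Matrix.smul_mul, single_mul_single', single_mul_single', if_neg zero_ne_one'.symm,
    if_neg hi.1, smul_zero, sub_zero]

theorem nm_nc : nm g i * nc g i = -(g i) • (Matrix.single i i 1 + Matrix.single 0 0 1) := by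
  simp only [nm, nc, sub_mul, mul_sub, Matrix.smul_mul, Matrix.mul_smul, single_mul_single', if_true, hi.1, hi.2,
    hi.1.symm, hi.2.symm, if_false, smul_zero, sub_zero, zero_sub, neg_smul, smul_add, neg_add]
  abel

theorem nc_nm : nc g i * nm g i = -(g i) • (Matrix.single i i 1 + Matrix.single 1 1 1) := by
  simp only [nm, nc, sub_mul, mul_sub, Matrix.smul_mul, Matrix.mul_smul, single_mul_single', if_true, hi.1, hi.2,
    hi.1.symm, hi.2.symm, if_false, smul_zero, sub_zero, zero_sub, neg_smul, smul_add, neg_add]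
  abel

theorem nm_nc_nm : nm g i * nc g i * nm g i = -(g i) • nm g i := by
  rw [nm_nc hi, Matrix.smul_mul]
  congr 1
  simp only [nm, add_mul, mul_sub, Matrix.mul_smul, single_mul_single', if_true, hi.1, hi.1.symm, if_false,
    smul_zero, sub_zero, zero_sub]
  abel

theorem nc_nm_nc : nc g i * nm g i * nc g i = -(g i) • nc g i := by
  rw [nc_nm hi, Matrix.smul_mul]
  congr 1
  simp only [nc, add_mul, mul_sub, Matrix.mul_smul, single_mul_single', if_true, hi.2, hi.2.symm, if_false,
    smul_zero, sub_zero, zero_sub]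
  abel

theorem adj_nm (hg : Dg g) : adj g (s1 n) (nm g i) = -nm g i := by
  rw [nm, adj_sub, adj_smul, adj_single hg.wg, adj_single hg.wg, s1_mid hi.1 hi.2, s1_zero, s1_one, hg.g0, hg.g1]
  simp [Matrix.smul_single, hg.nz i]

theorem adj_nc (hg : Dg g) : adj g (s1 n) (nc g i) = -nc g i := by
  rw [nc, adj_sub, adj_smul, adj_single hg.wg, adj_single hg.wg, s1_mid hi.1 hi.2, s1_zero, s1_one, hg.g0, hg.g1]
  simp [Matrix.smul_single, hg.nz i]

include hp

theorem nm_nm : nm g i * nm g p = if i = p then -(g i) • aa else 0 := by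
  simp only [nm, aa, sub_mul, mul_sub, Matrix.smul_mul, Matrix.mul_smul, single_mul_single', hp.1, hp.2,
    hi.1, hi.2.symm, zero_ne_one'.symm, hp.2.symm, if_false, smul_zero, sub_zero, zero_sub, ite_eq_right_iff]
  split_ifs with h
  · rw [neg_smul]
  · rw [smul_zero, neg_zero]

omit hi hp

theorem adj_aa (hg : Dg g) : adj g (s1 n) (aa : M1) = aa := by
  rw [aa, adj_single hg.wg, s1_zero, s1_one, hg.g0, hg.g1]
  simp

theorem adj_cc (hg : Dg g) : adj g (s1 n) (cc : M1) = cc := by
  rw [cc, adj_single hg.wg, s1_zero, s1_one, hg.g0, hg.g1]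
  simp

/-! ### root elements -/

/-- the matrix of a root element -/
def euM (g : Ix n → F) (i : Ix n) (x : F) : M1 := 1 + x • nm g i - (x * x * g i / 2) • aa

theorem euM_mul (h2 : (2 : F) ≠ 0) (hi : Mid i) (x y : F) : euM g i x * euM g i y = euM g i (x + y) := by
  simp only [euM, add_mul, sub_mul, mul_add, mul_sub, one_mul, mul_one, Matrix.smul_mul, Matrix.mul_smul,
    nm_nm hi hi, if_true, nm_aa hi, aa_nm hi, aa_aa, smul_zero, sub_zero, smul_smul]
  match_scalars <;> field_simp <;> ring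

theorem euM_zero (i : Ix n) : euM g i 0 = 1 := by simp [euM]

/-- a root element -/
def eU (g : Ix n → F) (h2 : (2 : F) ≠ 0) {i : Ix n} (hi : Mid i) (x : F) : GL (Ix n) F :=
  ⟨euM g i x, euM g i (-x), by rw [euM_mul h2 hi, add_neg_cancel, euM_zero],
    by rw [euM_mul h2 hi, neg_add_cancel, euM_zero]⟩

theorem eU_coe (h2 : (2 : F) ≠ 0) (hi : Mid i) (x : F) :
    (eU g h2 hi x : M1) = 1 + x • nm g i - (x * x * g i / 2) • aa := rfl

theorem eU_mul (h2 : (2 : F) ≠ 0) (hi : Mid i) (x y : F) : eU g h2 hi x * eU g h2 hi y = eU g h2 hi (x + y) :=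
  Units.ext (euM_mul h2 hi x y)

theorem eU_mem (hg : Dg g) (h2 : (2 : F) ≠ 0) (hi : Mid i) (x : F) : eU g h2 hi x ∈ u1 hg := by
  rw [mem_uSub, eU_coe, adj_sub, adj_add, adj_one hg.wg, adj_smul, adj_smul, adj_nm hi hg, adj_aa hg, smul_neg,
    ← neg_smul]
  have e := euM_mul (g := g) h2 hi x (-x)
  rw [add_neg_cancel, euM_zero, euM, euM, neg_mul_neg] at e
  exact e

theorem eU_pow (h2 : (2 : F) ≠ 0) (hi : Mid i) (x : F) (k : ℕ) : eU g h2 hi x ^ k = eU g h2 hi (k * x) := by
  induction k with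
  | zero => rw [pow_zero, Nat.cast_zero, zero_mul]; exact Units.ext (euM_zero i).symm
  | succ k ih => rw [pow_succ, ih, eU_mul]; congr 1; push_cast; ring

theorem eU_mulVec_zero (h2 : (2 : F) ≠ 0) (hi : Mid i) (x : F) :
    (eU g h2 hi x : M1) *ᵥ Pi.single 0 1 = Pi.single 0 1 := by
  rw [eU_coe, sub_mulVec, add_mulVec, one_mulVec, Matrix.smul_mulVec, Matrix.smul_mulVec, nm, aa, sub_mulVec,
    Matrix.smul_mulVec]
  have hcol : ∀ a b : Ix n, b ≠ 0 → (Matrix.single a b (1 : F)).col 0 = 0 := fun a b hb => funext fun v => by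
    rw [Matrix.col_apply, Matrix.single_apply, if_neg (fun h => hb h.2)]; rfl
  simp [hcol _ _ hi.1, hcol _ _ zero_ne_one'.symm]

/-- the exchange of the two singular basis vectors with a change of sign at `p` -/
def tauA (hg : Dg g) (h2 : (2 : F) ≠ 0) (p : Ix n) : GL (Ix n) F :=
  moG (Equiv.swap 0 1) (fun y => if y = 0 then -(g p) / 2 else if y = 1 then (-(g p) / 2)⁻¹ else if y = p then -1 else 1)
    fun y => by
      have : -(g p) / 2 ≠ 0 := div_ne_zero (neg_ne_zero.2 (hg.nz p)) h2
      split_ifs <;> first | exact this | exact inv_ne_zero this | simp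

theorem tauA_mem (hg : Dg g) (h2 : (2 : F) ≠ 0) (hp : Mid p) : tauA hg h2 p ∈ u1 hg := by
  refine moG_mem hg _ _ _ (fun y => ?_) fun y => ?_
  · show Equiv.swap (0 : Ix n) 1 (Equiv.swap 0 1 y) = Equiv.swap 0 1 (Equiv.swap 0 1 y)
    rfl
  · rw [show g (Equiv.swap 0 1 y) = g y from hg.wg.sym y]
    have hμ : -(g p) / 2 ≠ 0 := div_ne_zero (neg_ne_zero.2 (hg.nz p)) h2
    rcases eq_or_ne y 0 with rfl | h0
    · rw [s1_zero, if_pos rfl, if_neg zero_ne_one'.symm, if_pos rfl, mul_inv_cancel₀ hμ, mul_one]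
    rcases eq_or_ne y 1 with rfl | h1
    · rw [s1_one, if_neg zero_ne_one'.symm, if_pos rfl, if_pos rfl, inv_mul_cancel₀ hμ, mul_one]
    rw [s1_mid h0 h1, if_neg h0, if_neg h1]
    split_ifs <;> simp

/-- the exchange is a commutator of isometries -/
theorem tauA_comm (hg : Dg g) (h2 : (2 : F) ≠ 0) (hp : Mid p) :
    ∃ r o : GL (Ix n) F, r ∈ u1 hg ∧ o ∈ u1 hg ∧ tauA hg h2 p = r * o * r⁻¹ * o⁻¹ := by
  have hs := bf_symmetric hg.wg
  have hb : ∀ x y : Ix n, bf g (s1 n) (Pi.single x 1) (Pi.single y 1) = if y = s1 n x then g x else 0 := fun x y => by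
    rw [bf_single hg.wg, Pi.single_apply, mul_ite, mul_one, mul_zero]
    simp [eq_comm]
  set ep : Ix n → F := Pi.single p 1 with hep
  set μ := -(g p) / 2 with hμdef
  have hμ : μ ≠ 0 := div_ne_zero (neg_ne_zero.2 (hg.nz p)) h2
  set v : Ix n → F := Pi.single 0 1 - μ • Pi.single 1 1 with hv
  have hpp : bf g (s1 n) ep ep = g p := by rw [hep, hb, if_pos (s1_mid hp.1 hp.2).symm]
  have hvy : ∀ y : Ix n, bf g (s1 n) (Pi.single y 1) v = (if y = 1 then 1 else 0) - μ * (if y = 0 then 1 else 0) := by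
    intro y
    rw [hv, sub_eq_add_neg, ← neg_smul, bf_add_right, bf_smul_right, hb, hb]
    have e0 : (0 = s1 n y) ↔ y = 1 := ⟨fun h => by rw [← s1_inv y, ← h, s1_zero], fun h => by rw [h, s1_one]⟩
    have e1 : (1 = s1 n y) ↔ y = 0 := ⟨fun h => by rw [← s1_inv y, ← h, s1_one], fun h => by rw [h, s1_zero]⟩
    simp only [e0, e1]
    rcases eq_or_ne y 1 with rfl | h1
    · simp [hg.g1]
    rcases eq_or_ne y 0 with rfl | h0
    · simp [hg.g0]
    simp [h0, h1]
  have hepv : bf g (s1 n) ep v = 0 := by rw [hep, hvy, if_neg hp.2, if_neg hp.1]; ring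
  have hvv : bf g (s1 n) v v = g p := by
    conv_lhs => arg 3; rw [hv]
    rw [sub_eq_add_neg, ← neg_smul, bf_add_left, bf_smul_left, hvy, hvy, if_neg zero_ne_one', if_pos rfl, if_pos rfl,
      if_neg zero_ne_one'.symm, hμdef]
    field_simp
    ring
  have hd : bf g (s1 n) ep ep ≠ 0 := by rw [hpp]; exact hg.nz p
  obtain ⟨hn, hmove⟩ := refl_swap hs h2 (hpp.trans hvv.symm) hepv hd
  have hd' : bf g (s1 n) v v ≠ 0 := by rw [hvv]; exact hg.nz p
  have mem : ∀ d (hd : bf g (s1 n) d d ≠ 0), refl hs d hd ∈ u1 hg := fun d hd =>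
    mem_of_bf (refl_iso hs d hd)
  refine ⟨refl hs ep hd, refl hs (ep - v) hn, mem _ _, mem _ _, ?_⟩
  rw [show refl hs ep hd * refl hs (ep - v) hn * (refl hs ep hd)⁻¹ * (refl hs (ep - v) hn)⁻¹ =
      refl hs ep hd * (refl hs (ep - v) hn * (refl hs ep hd)⁻¹ * (refl hs (ep - v) hn)⁻¹) by simp only [mul_assoc],
    inv_eq_of_mul_eq_one_right (refl_sq hs ep hd), refl_conj hs hd (refl_iso hs _ hn) hd' hmove]
  refine Units.ext (Matrix.ext_of_mulVec_single fun y => ?_)
  rw [tauA, moG_mulVec, gl_mul_mulVec, refl_mulVec, refl_mulVec, hvv, hpp, hvy, Orth.sym_sub_left hs,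
    hs.bilinear.smul_left, show bf g (s1 n) v ep = 0 by rw [hs.symm, hepv], mul_zero, sub_zero, hep, hb]
  have hgp := hg.nz p
  rcases eq_or_ne y 0 with rfl | h0
  · rw [Equiv.swap_apply_left, if_pos rfl, if_neg zero_ne_one', if_pos rfl, s1_zero, if_neg hp.2, hv, ← hμdef]
    match_scalars <;> (try simp only [hμdef]) <;> field_simp <;> ring
  rcases eq_or_ne y 1 with rfl | h1
  · rw [Equiv.swap_apply_right, if_neg zero_ne_one'.symm, if_pos rfl, if_neg zero_ne_one'.symm, s1_one, if_neg hp.1, hv,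
      if_pos rfl, ← hμdef]
    match_scalars <;> (try simp only [hμdef]) <;> field_simp <;> ring
  rw [Equiv.swap_apply_of_ne_of_ne h0 h1, if_neg h0, if_neg h1, if_neg h1, if_neg h0, s1_mid h0 h1]
  rcases eq_or_ne y p with rfl | hyp
  · simp only [if_true]
    match_scalars <;> (field_simp; try ring)
  · rw [if_neg hyp, if_neg (Ne.symm hyp)]
    simp

end CfsgLib.Perm.Trans.TensorPowerO
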